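import Groth.Agent.Lib.Helper7.NormRed

/-!
# Recognising geometrically unibranch local domains from a model of the normalization (helper7)

`isGeomUnibranch_of_model`: a local domain `D` with a fraction ring `L` such that the integral
closure `T` of `D` in `L` is local, with every element of `T` having a `p^n`-th power congruent
to an element of `D` modulo the maximal ideal (`p` the characteristic exponent of the residue field
of `T`), is geometrically unibranch.
-/

set_option autoImplicit false
universe u

namespace Groth.Agent.Lib.Helper7.GUModel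

open IsLocalRing Groth.Agent.Lib.Helper7.NormRed

variable (D : Type u) [CommRing D] [IsDomain D] [IsLocalRing D]
  (L : Type u) [CommRing L] [Algebra D L] [IsFractionRing D L]

/-- The comparison isomorphism `normRed D ≃ integralClosure D L`. -/
noncomputable def modelEquiv : CAlg2.normRed D ≃+* integralClosure D L :=
  (normRedEquiv D (FractionRing D)).trans
    (AlgEquiv.mapIntegralClosure
      (IsLocalization.algEquiv (nonZeroDivisors D) L (FractionRing D))).symm.toRingEquiv

theorem modelEquiv_toNormRed (d : D) :
    modelEquiv D L (toNormRed D d) = algebraMap D (integralClosure D L) d := by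
  unfold modelEquiv
  rw [RingEquiv.trans_apply, normRedEquiv_toNormRed]
  exact (AlgEquiv.mapIntegralClosure
      (IsLocalization.algEquiv (nonZeroDivisors D) L (FractionRing D))).symm.commutes d

theorem isGeomUnibranch_of_model [IsLocalRing (integralClosure D L)] (p : ℕ)
    [ExpChar (integralClosure D L ⧸ maximalIdeal (integralClosure D L)) p]
    (hpow : ∀ t : integralClosure D L, ∃ (n : ℕ) (d : D),
      t ^ p ^ n - algebraMap D (integralClosure D L) d ∈ maximalIdeal (integralClosure D L)) :
    CAlg2.IsGeomUnibranch D := by
  let φ := modelEquiv D L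
  haveI hloc : IsLocalRing (CAlg2.normRed D) := φ.symm.isLocalRing
  refine ⟨⟨inferInstance, hloc⟩, ?_⟩
  intro m' hm' x
  have hm'eq : m' = (maximalIdeal (integralClosure D L)).comap φ.toRingHom := by
    rw [IsLocalRing.eq_maximalIdeal hm']
    symm
    apply IsLocalRing.eq_maximalIdeal
    exact Ideal.comap_isMaximal_of_surjective _ φ.surjective
  -- the induced map on residue fields
  let ι : CAlg2.normRed D ⧸ m' →+*
      integralClosure D L ⧸ maximalIdeal (integralClosure D L) :=
    Ideal.quotientMap _ φ.toRingHom (le_of_eq hm'eq)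
  have hι : Function.Injective ι :=
    Ideal.quotientMap_injective' (le_of_eq hm'eq.symm)
  haveI : ExpChar (CAlg2.normRed D ⧸ m') p := ι.expChar hι p
  rw [ringExpChar.eq (CAlg2.normRed D ⧸ m') p]
  obtain ⟨z, rfl⟩ := Ideal.Quotient.mk_surjective x
  obtain ⟨n, d, hnd⟩ := hpow (φ z)
  refine ⟨n, d, ?_⟩
  change _ = Ideal.Quotient.mk m' z ^ p ^ n
  change Ideal.Quotient.mk m' (toNormRed D d) = _
  rw [← map_pow, eq_comm, Ideal.Quotient.eq, hm'eq]
  change φ (z ^ p ^ n - toNormRed D d) ∈ maximalIdeal (integralClosure D L)
  rw [map_sub, map_pow, modelEquiv_toNormRed]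
  exact hnd

/-- Conversely: for a geometrically unibranch local domain the integral closure in any fraction
ring is local, with the `p`-power property on residues. -/
theorem isLocalRing_of_isGeomUnibranch (hD : CAlg2.IsGeomUnibranch D) :
    IsLocalRing (integralClosure D L) :=
  haveI : IsLocalRing (CAlg2.normRed D) := hD.1.2
  (modelEquiv D L).isLocalRing

theorem exists_pow_sub_mem_of_isGeomUnibranch (hD : CAlg2.IsGeomUnibranch D)
    [IsLocalRing (integralClosure D L)] (p : ℕ)
    [ExpChar (integralClosure D L ⧸ maximalIdeal (integralClosure D L)) p]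
    (t : integralClosure D L) : ∃ (n : ℕ) (d : D),
      t ^ p ^ n - algebraMap D (integralClosure D L) d ∈ maximalIdeal (integralClosure D L) := by
  let φ := modelEquiv D L
  haveI hloc : IsLocalRing (CAlg2.normRed D) := hD.1.2
  set m' := (maximalIdeal (integralClosure D L)).comap φ.toRingHom with hm'
  haveI : m'.IsMaximal := Ideal.comap_isMaximal_of_surjective _ φ.surjective
  let ι : CAlg2.normRed D ⧸ m' →+*
      integralClosure D L ⧸ maximalIdeal (integralClosure D L) :=
    Ideal.quotientMap _ φ.toRingHom le_rfl
  have hι : Function.Injective ι := Ideal.quotientMap_injective' le_rfl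
  haveI : ExpChar (CAlg2.normRed D ⧸ m') p := ι.expChar hι p
  obtain ⟨n, hn⟩ := hD.2 m' (Ideal.Quotient.mk m' (φ.symm t))
  rw [ringExpChar.eq (CAlg2.normRed D ⧸ m') p] at hn
  obtain ⟨d, hd⟩ := hn
  refine ⟨n, d, ?_⟩
  have h1 : Ideal.Quotient.mk m' (toNormRed D d) = Ideal.Quotient.mk m' (φ.symm t) ^ p ^ n := hd
  rw [← map_pow, Ideal.Quotient.eq] at h1
  have h2 : φ (toNormRed D d - φ.symm t ^ p ^ n) ∈ maximalIdeal (integralClosure D L) := h1
  rw [map_sub, map_pow, RingEquiv.apply_symm_apply, modelEquiv_toNormRed] at h2
  have := (maximalIdeal (integralClosure D L)).neg_mem h2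
  rwa [neg_sub] at this

end Groth.Agent.Lib.Helper7.GUModel
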