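import Groth.Agent.Lib.Helper7.GUCoreC
import Groth.Agent.Lib.Helper7.GUModel

/-!
# Abstract ascent of "geometrically unibranch" (helper7)

`core_abstract`: assembly of `GUCoreA/B/C` and `GUModel`.
-/

set_option autoImplicit false
universe u

namespace Groth.Agent.Lib.Helper7.GUCore

open IsLocalRing

theorem exists_localization (R : Type u) [CommRing R] (M : Submonoid R) :
    ∃ (L : Type u) (_ : CommRing L) (_ : Algebra R L), IsLocalization M L :=
  ⟨Localization M, inferInstance, inferInstance, inferInstance⟩

theorem exists_L_data {E F D : Type u} [CommRing E] [CommRing F] [Algebra E F] (q : Ideal E)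
    [q.IsPrime] [CommRing D] [Algebra E D] [IsLocalization.AtPrime D q] :
    ∃ (L : Type u) (_ : CommRing L) (_ : Algebra F L) (_ : Algebra D L) (_ : Algebra E L),
      IsLocalization (Algebra.algebraMapSubmonoid F q.primeCompl) L ∧ IsScalarTower E D L ∧
        IsScalarTower E F L := by
  obtain ⟨L, _, _, hloc⟩ := exists_localization F (Algebra.algebraMapSubmonoid F q.primeCompl)
  let g : D →+* L := IsLocalization.map (M := q.primeCompl)
    (T := Algebra.algebraMapSubmonoid F q.primeCompl) L (algebraMap E F)
    (Submonoid.le_comap_map _)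
  have hg : ∀ e : E, g (algebraMap E D e) = algebraMap F L (algebraMap E F e) := fun e =>
    IsLocalization.map_eq (M := q.primeCompl)
      (T := Algebra.algebraMapSubmonoid F q.primeCompl) (Q := L)
      (Submonoid.le_comap_map _) e
  refine ⟨L, inferInstance, inferInstance, g.toAlgebra,
    ((algebraMap F L).comp (algebraMap E F)).toAlgebra, hloc, ?_, ?_⟩
  · letI : Algebra D L := g.toAlgebra
    letI : Algebra E L := ((algebraMap F L).comp (algebraMap E F)).toAlgebra
    refine .of_algebraMap_eq' (RingHom.ext fun e => ?_)
    exact (hg e).symm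
  · letI : Algebra E L := ((algebraMap F L).comp (algebraMap E F)).toAlgebra
    exact .of_algebraMap_eq' rfl

theorem core_abstract
    {A : Type u} [CommRing A] {E : Type u} [CommRing E] [Algebra A E] (q : Ideal E) [q.IsPrime]
    {F : Type u} [CommRing F] [Algebra E F] [IsArtinianRing F] [IsReduced F]
    (D : Type u) [CommRing D] [IsLocalRing D] [Algebra E D] [IsLocalization.AtPrime D q]
    (L : Type u) [CommRing L] [Algebra F L]
    [IsLocalization (Algebra.algebraMapSubmonoid F q.primeCompl) L]
    [Algebra D L] [Algebra E L] [IsScalarTower E D L] [IsScalarTower E F L]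
    (hinjF : Function.Injective (algebraMap E F))
    (hfracF : ∀ f : F, ∃ a : A, a ≠ 0 ∧ ∃ e : E,
      algebraMap E F (algebraMap A E a) * f = algebraMap E F e)
    (hunitF : ∀ a : A, a ≠ 0 → IsUnit (algebraMap E F (algebraMap A E a)))
    (hU : ∀ (Q₁ Q₂ : Ideal (integralClosure E F)) [Q₁.IsPrime] [Q₂.IsPrime],
      Q₁.comap (algebraMap E (integralClosure E F)) = q →
      Q₂.comap (algebraMap E (integralClosure E F)) = q → Q₁ = Q₂)
    (p : ℕ) [ExpChar (E ⧸ q) p]
    (hP : ∀ (Q : Ideal (integralClosure E F)) [Q.IsPrime],
      Q.comap (algebraMap E (integralClosure E F)) = q →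
      ∀ c : integralClosure E F, ∃ (n : ℕ) (e : E),
        c ^ p ^ n - algebraMap E (integralClosure E F) e ∈ Q) :
    IsDomain D ∧ CAlg2.IsGeomUnibranch D ∧
      ∀ x : D, x ≠ 0 → ∃ a : A, a ≠ 0 ∧ ∃ y : D, x * y = algebraMap E D (algebraMap A E a) := by
  haveI := nontrivial_L q L hinjF
  haveI : IsArtinianRing L :=
    IsArtinianRing.localization_artinian (Algebra.algebraMapSubmonoid F q.primeCompl) L
  haveI : IsReduced L :=
    isReduced_localizationPreserves (Algebra.algebraMapSubmonoid F q.primeCompl) L inferInstance
  haveI := isLocalRing_integralClosure q D L hU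
  have hL : IsField L := isField_of_isLocalRing_integralClosure D L
  have hinj := injective_algebraMap_D_L q D L hinjF
  haveI : IsDomain L := hL.isDomain
  haveI hD : IsDomain D := hinj.isDomain (algebraMap D L)
  haveI := isFractionRing_D_L q D L hinjF hfracF hunitF hL
  refine ⟨hD, ?_, exists_mul_eq_algebraMap q D L hinjF hfracF hunitF hL⟩
  -- the characteristic exponent of the residue field of the integral closure
  let T := integralClosure D L
  let g : E →+* T := (algebraMap D T).comp (algebraMap E D)
  have hg : (maximalIdeal T).comap g = q := by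
    change ((maximalIdeal T).comap (algebraMap D T)).comap (algebraMap E D) = q
    have h1 : (maximalIdeal T).comap (algebraMap D T) = maximalIdeal D :=
      IsLocalRing.eq_maximalIdeal
        (Ideal.isMaximal_comap_of_isIntegral_of_isMaximal (maximalIdeal T))
    rw [h1]
    exact IsLocalization.AtPrime.comap_maximalIdeal D q
  let ι : E ⧸ q →+* T ⧸ maximalIdeal T := Ideal.quotientMap _ g (le_of_eq hg.symm)
  have hι : Function.Injective ι := Ideal.quotientMap_injective' (le_of_eq hg)
  haveI : ExpChar (T ⧸ maximalIdeal T) p := expChar_of_injective_ringHom hι p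
  exact GUModel.isGeomUnibranch_of_model D L p
    (exists_pow_sub_mem_maximalIdeal q D L p hP)

end Groth.Agent.Lib.Helper7.GUCore
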