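import Groth.Agent.Lib.Helper7.GUEtale
import Groth.Agent.Lib.Helper7.GUCoreD

/-!
# Uniform annihilators near a prime (helper7)

* `exists_mul_eq_zero_of_fg`: a finitely generated ideal each of whose elements is killed by an
  element of a submonoid `S` is killed by a single element of `S`.
* `exists_mul_ker_eq_zero`: for an étale algebra `E` over `R` and an ideal `I` of `E` vanishing in
  `E_q`: if `I` is finitely generated or `R` is a domain then a single `h ∉ q` kills `I`.
-/

set_option autoImplicit false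
set_option maxHeartbeats 400000
universe u

namespace Groth.Agent.Lib.Helper7.GUUnram

open TensorProduct

theorem exists_mul_eq_zero_of_fg {T : Type*} [CommRing T] (S : Submonoid T) (𝔞 : Ideal T)
    (hfg : 𝔞.FG) (h : ∀ z ∈ 𝔞, ∃ s ∈ S, s * z = 0) : ∃ s ∈ S, ∀ z ∈ 𝔞, s * z = 0 := by
  classical
  obtain ⟨G, hG⟩ := hfg
  have hmem : ∀ g ∈ G, g ∈ 𝔞 := fun g hg => hG ▸ Ideal.subset_span hg
  choose! s hsS hs using fun g (hg : g ∈ G) => h g (hmem g hg)
  refine ⟨∏ g ∈ G, s g, S.prod_mem (fun g hg => hsS g hg), fun z hz => ?_⟩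
  rw [← hG] at hz
  induction hz using Submodule.span_induction with
  | mem x hx =>
    obtain ⟨c, hc⟩ := Finset.dvd_prod_of_mem s hx
    rw [hc, mul_comm (s x), mul_assoc, hs x hx, mul_zero]
  | zero => rw [mul_zero]
  | add x y _ _ hx hy => rw [mul_add, hx, hy, add_zero]
  | smul a x _ hx => rw [smul_eq_mul, mul_left_comm, hx, mul_zero]

theorem exists_mul_ker_eq_zero {R E : Type u} [CommRing R] [CommRing E] [Algebra R E]
    [Algebra.Etale R E] (qE : Ideal E) [qE.IsPrime] (I : Ideal E)
    (hI : ∀ x ∈ I, ∃ s ∈ qE.primeCompl, s * x = 0)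
    (hcase : I.FG ∨ IsDomain R) : ∃ h ∈ qE.primeCompl, ∀ x ∈ I, h * x = 0 := by
  rcases hcase with hfg | hdom
  · exact exists_mul_eq_zero_of_fg qE.primeCompl I hfg hI
  · -- pass to the generic fibre `F = E ⊗ K`, a Noetherian ring
    let K := FractionRing R
    let F := E ⊗[R] K
    let S : Submonoid F := Algebra.algebraMapSubmonoid F qE.primeCompl
    obtain ⟨L, _, _, hloc⟩ := GUCore.exists_localization F S
    let 𝔓 : Ideal F := RingHom.ker (algebraMap F L)
    have h𝔓 : ∀ z ∈ 𝔓, ∃ s ∈ S, s * z = 0 := by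
      intro z hz
      have hz' : algebraMap F L z = 0 := hz
      rw [IsLocalization.map_eq_zero_iff S] at hz'
      obtain ⟨m, hm⟩ := hz'
      exact ⟨m.1, m.2, hm⟩
    haveI : IsNoetherianRing F := inferInstance
    obtain ⟨_, ⟨h, hh, rfl⟩, hkill⟩ := exists_mul_eq_zero_of_fg S 𝔓
      (IsNoetherian.noetherian 𝔓) h𝔓
    refine ⟨h, hh, fun x hx => ?_⟩
    obtain ⟨s, hs, hsx⟩ := hI x hx
    have hx𝔓 : algebraMap E F x ∈ 𝔓 := by
      change algebraMap F L (algebraMap E F x) = 0
      rw [IsLocalization.map_eq_zero_iff S]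
      refine ⟨⟨algebraMap E F s, s, hs, rfl⟩, ?_⟩
      change algebraMap E F s * algebraMap E F x = 0
      rw [← map_mul, hsx, map_zero]
    have := hkill _ hx𝔓
    rw [← map_mul] at this
    exact GUEtale.injective_algebraMap_tensor (A := R) (E := E) K (by rw [this, map_zero])

end Groth.Agent.Lib.Helper7.GUUnram
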