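import Mathlib

/-!
# From an étale surjection with locally vanishing kernel to an étale localization (helper7)

`exists_etale_away`: `E` étale over `R`, `φ : E → B_f` a surjective `R`-algebra map, `h : E` killing
`ker φ` with `φ h` outside the prime `q B_f`.  Then `B_g` is étale over `R` for some `g ∉ q`.
-/

set_option autoImplicit false
universe u

namespace Groth.Agent.Lib.Helper7.GUUnram

open IsLocalization

theorem exists_etale_away {R B E : Type u} [CommRing R] [CommRing B] [CommRing E] [Algebra R B]
    [Algebra R E] [Algebra.Etale R E] (q : Ideal B) [q.IsPrime] (f : B) (hf : f ∉ q)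
    (φ : E →ₐ[R] Localization.Away f) (hφ : Function.Surjective φ) (h : E)
    (hh : ∀ x : E, φ x = 0 → h * x = 0)
    (hhq : φ h ∉ q.map (algebraMap B (Localization.Away f))) :
    ∃ g : B, g ∉ q ∧ Algebra.Etale R (Localization.Away g) := by
  set u := φ h with hu
  -- the localization of `E` at `h` is étale over `R`
  haveI : Algebra.Etale E (Localization.Away h) := Algebra.Etale.of_isLocalizationAway h
  haveI : Algebra.Etale R (Localization.Away h) := Algebra.Etale.comp R E (Localization.Away h)
  -- the induced map `E_h → (B_f)_u` is bijective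
  let ψ : Localization.Away h →ₐ[R] Localization.Away u := Localization.awayMapₐ φ h
  have hψs : Function.Surjective ψ := IsLocalization.Away.mapₐ_surjective_of_surjective h hφ
  have hψi : Function.Injective ψ := by
    rw [injective_iff_map_eq_zero]
    intro z hz
    obtain ⟨x, ⟨_, n, rfl⟩, rfl⟩ := IsLocalization.exists_mk'_eq (Submonoid.powers h) z
    have h1 : ψ (algebraMap E (Localization.Away h) x) = 0 := by
      have : algebraMap E (Localization.Away h) x =
          IsLocalization.mk' (Localization.Away h) x (⟨h ^ n, n, rfl⟩ : Submonoid.powers h) *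
            algebraMap E (Localization.Away h) (h ^ n) := by
        rw [IsLocalization.mk'_spec]
      rw [this, map_mul, hz, zero_mul]
    have h2 : ψ (algebraMap E (Localization.Away h) x) =
        algebraMap (Localization.Away f) (Localization.Away u) (φ x) := by
      simp [ψ, Localization.awayMapₐ, IsLocalization.Away.mapₐ_apply, IsLocalization.Away.map,
        IsLocalization.map_eq]
      rfl
    rw [h2, IsLocalization.map_eq_zero_iff (Submonoid.powers u)] at h1
    obtain ⟨⟨_, m, rfl⟩, hm⟩ := h1
    have h3 : φ (h ^ m * x) = 0 := by rw [map_mul, map_pow]; exact hm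
    have h4 : h * (h ^ m * x) = 0 := hh _ h3
    rw [IsLocalization.mk'_eq_zero_iff]
    refine ⟨⟨h ^ (m + 1), m + 1, rfl⟩, ?_⟩
    change h ^ (m + 1) * x = 0
    rw [pow_succ', mul_assoc]
    exact h4
  haveI : Algebra.Etale R (Localization.Away u) :=
    Algebra.Etale.of_equiv (AlgEquiv.ofBijective ψ ⟨hψi, hψs⟩)
  -- write `u = b / f^n`
  obtain ⟨b, ⟨_, n, rfl⟩, hb⟩ := IsLocalization.exists_mk'_eq (Submonoid.powers f) u
  have hunit : IsUnit (algebraMap B (Localization.Away f) (f ^ n)) :=
    IsLocalization.map_units (Localization.Away f) (⟨f ^ n, n, rfl⟩ : Submonoid.powers f)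
  have hbu : algebraMap B (Localization.Away f) b =
      u * algebraMap B (Localization.Away f) (f ^ n) := by
    rw [← hb, IsLocalization.mk'_spec]
  have hassoc : Associated u (algebraMap B (Localization.Away f) b) :=
    ⟨hunit.unit, by rw [hbu]; rfl⟩
  haveI : IsLocalization.Away (algebraMap B (Localization.Away f) b) (Localization.Away u) :=
    IsLocalization.Away.of_associated hassoc
  haveI : IsLocalization.Away (f * b) (Localization.Away u) :=
    IsLocalization.Away.mul' (Localization.Away f) (Localization.Away u) f b
  have hbq : b ∉ q := by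
    intro hbq
    apply hhq
    have : algebraMap B (Localization.Away f) b ∈ q.map (algebraMap B (Localization.Away f)) :=
      Ideal.mem_map_of_mem _ hbq
    rw [hbu] at this
    exact (Ideal.mul_unit_mem_iff_mem _ hunit).mp this
  refine ⟨f * b, (inferInstance : q.IsPrime).mul_notMem hf hbq, ?_⟩
  let e : Localization.Away (f * b) ≃ₐ[B] Localization.Away u :=
    IsLocalization.algEquiv (Submonoid.powers (f * b)) _ _
  exact Algebra.Etale.of_equiv (e.restrictScalars R).symm

end Groth.Agent.Lib.Helper7.GUUnram
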