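import Groth.Agent.Lib.Helper7.GUEtaleLoc
import Groth.Agent.Lib.Helper7.GUUnramB
import Groth.Agent.Lib.Helper7.GUUnramC

/-!
# Unramified over geometrically unibranch ⇒ étale (helper7)

`exists_etale_away_of_isUnramifiedAt`: `R → B` of finite type, unramified at `q` lying over `p`,
`A = R_p` a geometrically unibranch local domain, and `ker (R → B_q) ⊆ ker (R → A)`.  If `B` is
finitely presented over `R`, or `R` is a domain, then `B_g` is étale over `R` for some `g ∉ q`.
(EGA IV 18.10.1 / 18.10.3.)
-/

set_option autoImplicit false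
set_option maxHeartbeats 400000
universe u

namespace Groth.Agent.Lib.Helper7.GUUnram

open IsLocalRing

theorem exists_etale_away_aux {R B E : Type u} [CommRing R] [CommRing B] [CommRing E]
    [Algebra R B] [Algebra R E] [Algebra.Etale R E] (q : Ideal B) [q.IsPrime]
    (f : B) (hf : f ∉ q) (φ : E →ₐ[R] Localization.Away f) (hφ : Function.Surjective φ)
    (p : Ideal R) [p.IsPrime] (hqp : q.comap (algebraMap R B) = p)
    (A : Type u) [CommRing A] [IsDomain A] [IsLocalRing A] [Algebra R A]
    [IsLocalization.AtPrime A p] (hA : CAlg2.IsGeomUnibranch A)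
    (hZ : ∀ (r : R) (b : B), b ∉ q → b * algebraMap R B r = 0 → algebraMap R A r = 0)
    (hcase : (RingHom.ker φ.toRingHom).FG ∨ IsDomain R) :
    ∃ g : B, g ∉ q ∧ Algebra.Etale R (Localization.Away g) := by
  -- the prime `q B_f`
  have hdisj : Disjoint (Submonoid.powers f : Set B) (q : Set B) := by
    rw [Set.disjoint_left]
    rintro _ ⟨n, rfl⟩ hn
    exact hf ((inferInstance : q.IsPrime).mem_of_pow_mem n hn)
  let qf : Ideal (Localization.Away f) := q.map (algebraMap B (Localization.Away f))
  haveI hqf : qf.IsPrime :=
    IsLocalization.isPrime_of_isPrime_disjoint (Submonoid.powers f) _ _ inferInstance hdisj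
  have hqfc : qf.comap (algebraMap B (Localization.Away f)) = q :=
    IsLocalization.comap_map_of_isPrime_disjoint (Submonoid.powers f) _ inferInstance hdisj
  -- the prime `qE` of `E`
  let qE : Ideal E := qf.comap φ.toRingHom
  haveI hqE : qE.IsPrime := Ideal.comap_isPrime _ _
  have hqEp : qE.comap (algebraMap R E) = p := by
    change (qf.comap φ.toRingHom).comap (algebraMap R E) = p
    rw [Ideal.comap_comap]
    have : (φ.toRingHom).comp (algebraMap R E) =
        (algebraMap B (Localization.Away f)).comp (algebraMap R B) := by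
      refine RingHom.ext fun r => ?_
      change φ (algebraMap R E r) = _
      rw [φ.commutes]
      exact IsScalarTower.algebraMap_apply R B (Localization.Away f) r
    rw [this, ← Ideal.comap_comap, hqfc, hqp]
  -- the local ring `D = E_{qE}`
  obtain ⟨D, _, _, hD⟩ := GUCore.exists_localization E qE.primeCompl
  haveI : IsLocalization.AtPrime D qE := hD
  haveI : IsLocalRing D := IsLocalization.AtPrime.isLocalRing D qE
  letI : Algebra R D := ((algebraMap E D).comp (algebraMap R E)).toAlgebra
  haveI : IsScalarTower R E D := .of_algebraMap_eq' rfl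
  have hunits : ∀ y : p.primeCompl, IsUnit (algebraMap R D y) := by
    intro y
    change IsUnit (algebraMap E D (algebraMap R E y))
    have hy : algebraMap R E y ∈ qE.primeCompl := by
      intro hy
      have hy' : (y : R) ∈ qE.comap (algebraMap R E) := hy
      rw [hqEp] at hy'
      exact y.2 hy'
    exact IsLocalization.map_units D (⟨_, hy⟩ : qE.primeCompl)
  letI : Algebra A D := (IsLocalization.lift (M := p.primeCompl) (S := A) hunits).toAlgebra
  haveI : IsScalarTower R A D := .of_algebraMap_eq' (by
    refine RingHom.ext fun r => ?_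
    exact (IsLocalization.lift_eq hunits r).symm)
  obtain ⟨hDdom, -, hdiv⟩ := GUEtale.core' (R := R) (B := E) p qE hqEp A D hA
  -- elements of the kernel of `φ` die in `D`
  have hI : ∀ x ∈ RingHom.ker φ.toRingHom, ∃ s ∈ qE.primeCompl, s * x = 0 := by
    intro x hx
    have hx0 : φ x = 0 := hx
    suffices h0 : algebraMap E D x = 0 by
      rw [IsLocalization.map_eq_zero_iff qE.primeCompl] at h0
      obtain ⟨m, hm⟩ := h0
      exact ⟨m.1, m.2, hm⟩
    by_contra hne
    obtain ⟨a, ha, y, hy⟩ := hdiv _ hne
    -- write `a = r / t` and `y = e / s`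
    obtain ⟨r, t, hrt⟩ := IsLocalization.exists_mk'_eq p.primeCompl a
    obtain ⟨e, s, hes⟩ := IsLocalization.exists_mk'_eq qE.primeCompl y
    have hat : a * algebraMap R A t = algebraMap R A r := by
      rw [← hrt, IsLocalization.mk'_spec]
    have hys : y * algebraMap E D s = algebraMap E D e := by
      rw [← hes, IsLocalization.mk'_spec]
    have hr : algebraMap R A r ≠ 0 := by
      rw [← hat]
      exact mul_ne_zero ha (IsLocalization.map_units A t).ne_zero
    have hRD : ∀ z : R, algebraMap R D z = algebraMap E D (algebraMap R E z) := fun z => rfl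
    have hRAD : ∀ z : R, algebraMap A D (algebraMap R A z) = algebraMap E D (algebraMap R E z) :=
      fun z => by rw [← IsScalarTower.algebraMap_apply R A D, hRD]
    have key : algebraMap E D (x * e * algebraMap R E t) =
        algebraMap E D (algebraMap R E r * s) := by
      rw [map_mul, map_mul, map_mul, ← hys, ← hRAD r, ← hat, map_mul, hRAD t, ← hy]
      ring
    rw [IsLocalization.eq_iff_exists qE.primeCompl] at key
    obtain ⟨c, hc⟩ := key
    have hφc : φ ((c : E) * s) * algebraMap R (Localization.Away f) r = 0 := by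
      have h1 := congrArg φ hc
      simp only [map_mul, hx0, zero_mul, mul_zero, φ.commutes] at h1
      rw [map_mul, mul_assoc, mul_comm (φ s)]
      exact h1.symm
    have hcs : φ ((c : E) * s) ∉ qf := by
      have : (c : E) * s ∈ qE.primeCompl := qE.primeCompl.mul_mem c.2 s.2
      exact this
    obtain ⟨b, ⟨_, n, rfl⟩, hb⟩ :=
      IsLocalization.exists_mk'_eq (Submonoid.powers f) (φ ((c : E) * s))
    have hunit : IsUnit (algebraMap B (Localization.Away f) (f ^ n)) :=
      IsLocalization.map_units (Localization.Away f) (⟨f ^ n, n, rfl⟩ : Submonoid.powers f)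
    have hbu : algebraMap B (Localization.Away f) b =
        φ ((c : E) * s) * algebraMap B (Localization.Away f) (f ^ n) := by
      rw [← hb, IsLocalization.mk'_spec]
    have hbq : b ∉ q := by
      intro hbq
      apply hcs
      have : algebraMap B (Localization.Away f) b ∈ qf := Ideal.mem_map_of_mem _ hbq
      rw [hbu] at this
      exact (Ideal.mul_unit_mem_iff_mem _ hunit).mp this
    have h0 : algebraMap B (Localization.Away f) (b * algebraMap R B r) = 0 := by
      rw [map_mul, hbu, ← IsScalarTower.algebraMap_apply R B (Localization.Away f), mul_right_comm,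
        hφc, zero_mul]
    rw [IsLocalization.map_eq_zero_iff (Submonoid.powers f)] at h0
    obtain ⟨⟨_, m, rfl⟩, hm⟩ := h0
    have hfm : f ^ m ∉ q := fun hfm => hf ((inferInstance : q.IsPrime).mem_of_pow_mem m hfm)
    refine hr (hZ r (f ^ m * b) ((inferInstance : q.IsPrime).mul_notMem hfm hbq) ?_)
    rw [mul_assoc]
    exact hm
  obtain ⟨h, hh, hkill⟩ := exists_mul_ker_eq_zero qE (RingHom.ker φ.toRingHom) hI hcase
  exact exists_etale_away q f hf φ hφ h (fun x hx => hkill x hx) hh

theorem exists_etale_away_of_isUnramifiedAt {R B : Type u} [CommRing R] [CommRing B] [Algebra R B]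
    [Algebra.FiniteType R B] (q : Ideal B) [q.IsPrime] [Algebra.IsUnramifiedAt R q]
    (p : Ideal R) [p.IsPrime] (hqp : q.comap (algebraMap R B) = p)
    (A : Type u) [CommRing A] [IsDomain A] [IsLocalRing A] [Algebra R A]
    [IsLocalization.AtPrime A p] (hA : CAlg2.IsGeomUnibranch A)
    (hZ : ∀ (r : R) (b : B), b ∉ q → b * algebraMap R B r = 0 → algebraMap R A r = 0)
    (hcase : Algebra.FinitePresentation R B ∨ IsDomain R) :
    ∃ g : B, g ∉ q ∧ Algebra.Etale R (Localization.Away g) := by
  obtain ⟨f, hf, P, φ, hφ⟩ :=
    Algebra.IsUnramifiedAt.exists_hasStandardEtaleSurjectionOn (R := R) q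
  refine exists_etale_away_aux q f hf φ hφ p hqp A hA hZ ?_
  rcases hcase with hfp | hdom
  · left
    exact Algebra.FinitePresentation.ker_fG_of_surjective φ hφ
  · right; exact hdom

end Groth.Agent.Lib.Helper7.GUUnram
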