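import Groth.Agent.Lib.Helper7.GUSch
import Groth.Agent.Lib.Helper7.GUUnram

/-!
# Unramified over geometrically unibranch ⇒ étale, scheme version (helper7)

`exists_etale_of_appLE`: an affine chart `Γ(Y,V) → Γ(X,W)` around `x` which is of finite type and
formally unramified, with `O_{Y,f x}` a geometrically unibranch domain and
`ker (Γ(Y,V) → O_{X,x}) ⊆ ker (Γ(Y,V) → O_{Y,f x})`; if moreover the chart is finitely presented or
`Γ(Y,V)` is a domain, then `f` is étale on a neighbourhood of `x`.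
-/

set_option autoImplicit false
set_option maxHeartbeats 400000
universe u

namespace Groth.Agent.Lib.Helper7.GUSch

open AlgebraicGeometry CategoryTheory TopologicalSpace

variable {X Y : Scheme.{u}} (f : X ⟶ Y) (x : X)

theorem formallyUnramified_stable :
    RingHom.StableUnderCompositionWithLocalizationAwaySource RingHom.FormallyUnramified :=
  (RingHom.FormallyUnramified.stableUnderComposition.stableUnderCompositionWithLocalizationAway
    RingHom.FormallyUnramified.holdsForLocalizationAway).1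

theorem notMem_primeIdealOf_iff {U : X.Opens} (hU : IsAffineOpen U) (hx : x ∈ U) (b : Γ(X, U)) :
    b ∉ (hU.primeIdealOf ⟨x, hx⟩).asIdeal ↔ IsUnit (X.presheaf.germ U x hx b) := by
  rw [hU.primeIdealOf_eq_map_closedPoint ⟨x, hx⟩]
  change ¬ (X.presheaf.germ U x hx b ∈ IsLocalRing.maximalIdeal _) ↔ _
  rw [IsLocalRing.mem_maximalIdeal, mem_nonunits_iff, not_not]

/-- If `Γ(X,W)_g` is étale over `Γ(Y,V)` then `f` is étale on `D(g) ⊆ W`. -/
theorem etale_basicOpen_of_etale_away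
    (V : Y.affineOpens) (W : X.affineOpens) (e : W.1 ≤ f ⁻¹ᵁ V.1) (g : Γ(X, W.1))
    (hget : letI : Algebra Γ(Y, V.1) Γ(X, W.1) := (f.appLE V.1 W.1 e).hom.toAlgebra
      Algebra.Etale Γ(Y, V.1) (Localization.Away g)) :
    Etale ((X.basicOpen g).ι ≫ f) := by
  letI algRB : Algebra Γ(Y, V.1) Γ(X, W.1) := (f.appLE V.1 W.1 e).hom.toAlgebra
  have hle : X.basicOpen g ≤ W.1 := X.basicOpen_le g
  have e' : X.basicOpen g ≤ f ⁻¹ᵁ V.1 := hle.trans e
  refine LocalAt.of_appLE (P := @Etale) f etale_stable V ⟨X.basicOpen g, W.2.basicOpen g⟩ e' ?_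
  haveI : IsLocalization.Away g Γ(X, X.basicOpen g) := W.2.isLocalization_basicOpen g
  have hcomp : f.appLE V.1 (X.basicOpen g) e' =
      f.appLE V.1 W.1 e ≫ X.presheaf.map (homOfLE hle).op :=
    (Scheme.Hom.appLE_map f e (homOfLE hle).op).symm
  change (f.appLE V.1 (X.basicOpen g) e').hom.Etale
  rw [hcomp, CommRingCat.hom_comp]
  letI algRG : Algebra Γ(Y, V.1) Γ(X, X.basicOpen g) :=
    ((algebraMap Γ(X, W.1) Γ(X, X.basicOpen g)).comp
      (algebraMap Γ(Y, V.1) Γ(X, W.1))).toAlgebra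
  haveI : IsScalarTower Γ(Y, V.1) Γ(X, W.1) Γ(X, X.basicOpen g) := .of_algebraMap_eq' rfl
  let eq : Localization.Away g ≃ₐ[Γ(X, W.1)] Γ(X, X.basicOpen g) :=
    IsLocalization.algEquiv (Submonoid.powers g) _ _
  have : Algebra.Etale Γ(Y, V.1) Γ(X, X.basicOpen g) :=
    Algebra.Etale.of_equiv (eq.restrictScalars Γ(Y, V.1))
  exact this

theorem exists_etale_of_appLE
    (V : Y.affineOpens) (W : X.affineOpens) (hxW : x ∈ W.1) (e : W.1 ≤ f ⁻¹ᵁ V.1)
    (hft : (f.appLE V.1 W.1 e).hom.FiniteType)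
    (hunr : (f.appLE V.1 W.1 e).hom.FormallyUnramified)
    (hY : IsDomain (Y.presheaf.stalk (f x)))
    (hY' : CAlg2.IsGeomUnibranch (Y.presheaf.stalk (f x)))
    (hZ : ∀ r : Γ(Y, V.1), X.presheaf.germ W.1 x hxW ((f.appLE V.1 W.1 e).hom r) = 0 →
      Y.presheaf.germ V.1 (f x) (e hxW) r = 0)
    (hcase : (f.appLE V.1 W.1 e).hom.FinitePresentation ∨ IsDomain Γ(Y, V.1)) :
    ∃ U : X.Opens, x ∈ U ∧ Etale (U.ι ≫ f) := by
  letI algRB : Algebra Γ(Y, V.1) Γ(X, W.1) := (f.appLE V.1 W.1 e).hom.toAlgebra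
  haveI : Algebra.FiniteType Γ(Y, V.1) Γ(X, W.1) := hft
  haveI : Algebra.FormallyUnramified Γ(Y, V.1) Γ(X, W.1) := hunr
  set p := (V.2.primeIdealOf ⟨f x, e hxW⟩).asIdeal with hp
  set q := (W.2.primeIdealOf ⟨x, hxW⟩).asIdeal with hq
  have hqp : q.comap (algebraMap Γ(Y, V.1) Γ(X, W.1)) = p :=
    congrArg PrimeSpectrum.asIdeal
      (IsAffineOpen.comap_primeIdealOf_appLE V.1 V.2 W.1 W.2 e hxW)
  letI algRA : Algebra Γ(Y, V.1) (Y.presheaf.stalk (f x)) :=
    Y.presheaf.algebra_section_stalk ⟨f x, e hxW⟩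
  haveI : IsLocalization.AtPrime (Y.presheaf.stalk (f x)) p :=
    V.2.isLocalization_stalk ⟨f x, e hxW⟩
  letI algBD : Algebra Γ(X, W.1) (X.presheaf.stalk x) :=
    X.presheaf.algebra_section_stalk ⟨x, hxW⟩
  haveI : IsLocalization.AtPrime (X.presheaf.stalk x) q := W.2.isLocalization_stalk ⟨x, hxW⟩
  haveI : Algebra.IsUnramifiedAt Γ(Y, V.1) q :=
    Algebra.formallyUnramified_iff_forall.mp inferInstance ⟨q, inferInstance⟩
  have hZ' : ∀ (r : Γ(Y, V.1)) (b : Γ(X, W.1)), b ∉ q →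
      b * algebraMap Γ(Y, V.1) Γ(X, W.1) r = 0 →
      algebraMap Γ(Y, V.1) (Y.presheaf.stalk (f x)) r = 0 := by
    intro r b hb hbr
    apply hZ r
    change algebraMap Γ(X, W.1) (X.presheaf.stalk x) ((f.appLE V.1 W.1 e).hom r) = 0
    rw [IsLocalization.map_eq_zero_iff q.primeCompl]
    exact ⟨⟨b, hb⟩, hbr⟩
  have hcase' : Algebra.FinitePresentation Γ(Y, V.1) Γ(X, W.1) ∨ IsDomain Γ(Y, V.1) := hcase
  obtain ⟨g, hg, hget⟩ := GUUnram.exists_etale_away_of_isUnramifiedAt (R := Γ(Y, V.1))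
    (B := Γ(X, W.1)) q p hqp (Y.presheaf.stalk (f x)) hY' hZ' hcase'
  have hxg : x ∈ X.basicOpen g := by
    rw [X.mem_basicOpen g x hxW, ← notMem_primeIdealOf_iff x W.2 hxW]
    exact hg
  refine ⟨X.basicOpen g, hxg, ?_⟩
  have hle : X.basicOpen g ≤ W.1 := X.basicOpen_le g
  have e' : X.basicOpen g ≤ f ⁻¹ᵁ V.1 := hle.trans e
  refine LocalAt.of_appLE (P := @Etale) f etale_stable V ⟨X.basicOpen g, W.2.basicOpen g⟩ e' ?_
  haveI : IsLocalization.Away g Γ(X, X.basicOpen g) := W.2.isLocalization_basicOpen g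
  have hcomp : f.appLE V.1 (X.basicOpen g) e' =
      f.appLE V.1 W.1 e ≫ X.presheaf.map (homOfLE hle).op :=
    (Scheme.Hom.appLE_map f e (homOfLE hle).op).symm
  change (f.appLE V.1 (X.basicOpen g) e').hom.Etale
  rw [hcomp, CommRingCat.hom_comp]
  letI algRG : Algebra Γ(Y, V.1) Γ(X, X.basicOpen g) :=
    ((algebraMap Γ(X, W.1) Γ(X, X.basicOpen g)).comp
      (algebraMap Γ(Y, V.1) Γ(X, W.1))).toAlgebra
  haveI : IsScalarTower Γ(Y, V.1) Γ(X, W.1) Γ(X, X.basicOpen g) := .of_algebraMap_eq' rfl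
  let eq : Localization.Away g ≃ₐ[Γ(X, W.1)] Γ(X, X.basicOpen g) :=
    IsLocalization.algEquiv (Submonoid.powers g) _ _
  have : Algebra.Etale Γ(Y, V.1) Γ(X, X.basicOpen g) :=
    Algebra.Etale.of_equiv (eq.restrictScalars Γ(Y, V.1))
  exact this

end Groth.Agent.Lib.Helper7.GUSch
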