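import Groth.Agent.Lib.Helper7.ThickRing

/-!
# Bridge: lifting a local ring-hom property along a base change by an affine morphism
-/

set_option autoImplicit false
universe u

namespace Groth.Agent.Lib.Helper7.ThickBridge

open AlgebraicGeometry CategoryTheory Limits

theorem le_preimage_of_isPullback
    {X X' S S' : Scheme.{u}} {iX : X ⟶ X'} {iS : S ⟶ S'} {f : X ⟶ S} {f' : X' ⟶ S'}
    (hc : IsPullback iX f f' iS) (V' : S'.Opens) (U' : X'.Opens) (e : U' ≤ f' ⁻¹ᵁ V') :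
    iX ⁻¹ᵁ U' ≤ f ⁻¹ᵁ (iS ⁻¹ᵁ V') := by
  intro x hx
  have h1 : iX x ∈ f' ⁻¹ᵁ V' := e hx
  have h2 : f' (iX x) = iS (f x) := by
    rw [← Scheme.Hom.comp_apply, hc.w, Scheme.Hom.comp_apply]
  change iS (f x) ∈ V'
  rw [← h2]
  exact h1

/-- Sections over affine opens of a base change along an affine morphism form a pushout. -/
theorem isPushout_appLE
    {X X' S S' : Scheme.{u}} {iX : X ⟶ X'} {iS : S ⟶ S'} {f : X ⟶ S} {f' : X' ⟶ S'}
    (hc : IsPullback iX f f' iS) [IsAffineHom iS]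
    (V' : S'.Opens) (hV' : IsAffineOpen V') (U' : X'.Opens) (hU' : IsAffineOpen U')
    (e : U' ≤ f' ⁻¹ᵁ V') :
    IsPushout (f'.appLE V' U' e) (iS.app V') (iX.app U')
      (f.appLE (iS ⁻¹ᵁ V') (iX ⁻¹ᵁ U') (le_preimage_of_isPullback hc V' U' e)) := by
  have hV : IsAffineOpen (iS ⁻¹ᵁ V') := hV'.preimage iS
  have hUV := le_preimage_of_isPullback hc V' U' e
  have hUY : iX ⁻¹ᵁ U' = iX ⁻¹ᵁ U' ⊓ f ⁻¹ᵁ (iS ⁻¹ᵁ V') := (inf_eq_left.mpr hUV).symm
  have hiso := isIso_pushoutSection_of_isAffineOpen hc (hUST := le_rfl) (hUSX := e) hUY hV' hV hU'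
  have hpo := (isIso_pushoutSection_iff hc le_rfl e hUY).mp hiso
  rw [Scheme.Hom.app_eq_appLE, Scheme.Hom.app_eq_appLE]; exact hpo

theorem of_isPullback_of_lift
    {P : MorphismProperty Scheme.{u}}
    {Q : ∀ {R S : Type u} [CommRing R] [CommRing S], (R →+* S) → Prop}
    [HasRingHomProperty P Q]
    {X X' S S' : Scheme.{u}} {iX : X ⟶ X'} {iS : S ⟶ S'} {f : X ⟶ S} {f' : X' ⟶ S'}
    (hc : IsPullback iX f f' iS) [IsAffineHom iS]
    (hlift : ∀ (V' : S'.Opens) (_ : IsAffineOpen V') (U' : X'.Opens) (_ : IsAffineOpen U')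
      (e : U' ≤ f' ⁻¹ᵁ V') {B : CommRingCat.{u}} (ψ : Γ(X', U') ⟶ B) (φ : Γ(S, iS ⁻¹ᵁ V') ⟶ B),
      IsPushout (f'.appLE V' U' e) (iS.app V') ψ φ → Q φ.hom → Q (f'.appLE V' U' e).hom)
    (hf : P f) : P f' := by
  rw [HasRingHomProperty.iff_appLE (P := P)]
  intro V' U' e
  have hiX : IsAffineHom iX := MorphismProperty.of_isPullback hc.flip ‹_›
  have hV : IsAffineOpen (iS ⁻¹ᵁ V'.1) := V'.2.preimage iS
  have hU : IsAffineOpen (iX ⁻¹ᵁ U'.1) := U'.2.preimage iX
  have hUV := le_preimage_of_isPullback hc V'.1 U'.1 e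
  have hQ : Q (f.appLE (iS ⁻¹ᵁ V'.1) (iX ⁻¹ᵁ U'.1) hUV).hom :=
    HasRingHomProperty.appLE P f hf ⟨_, hV⟩ ⟨_, hU⟩ hUV
  exact hlift V'.1 V'.2 U'.1 U'.2 e _ _ (isPushout_appLE hc V'.1 V'.2 U'.1 U'.2 e) hQ

/-- For a morphism with nilpotent kernel ideal sheaf, the kernel of the map on sections over an
affine open is nilpotent. -/
theorem isNilpotent_ker_app {S S' : Scheme.{u}} (iS : S ⟶ S') [QuasiCompact iS]
    (hnil : IsNilpotent iS.ker) (V' : S'.Opens) (hV' : IsAffineOpen V') :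
    IsNilpotent (RingHom.ker (iS.app V').hom) := by
  obtain ⟨n, hn⟩ := hnil
  refine ⟨n, ?_⟩
  have h1 : (iS.ker ^ n).ideal ⟨V', hV'⟩ = (iS.ker.ideal ⟨V', hV'⟩) ^ n := rfl
  rw [hn] at h1
  rw [← Scheme.Hom.ker_apply iS ⟨V', hV'⟩, ← h1]
  rfl

/-- Finite order thickenings of the base: locally of finite type lifts. -/
theorem locallyOfFiniteType_of_isPullback_of_isNilpotent
    {X X' S S' : Scheme.{u}} {iX : X ⟶ X'} {iS : S ⟶ S'} {f : X ⟶ S} {f' : X' ⟶ S'}
    (hc : IsPullback iX f f' iS) [IsClosedImmersion iS] (hnil : IsNilpotent iS.ker)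
    (hf : LocallyOfFiniteType f) : LocallyOfFiniteType f' := by
  refine of_isPullback_of_lift (P := @LocallyOfFiniteType) (Q := RingHom.FiniteType) hc ?_ hf
  intro V' hV' U' hU' e B ψ φ hpo hφ
  exact ThickRing.finiteType_of_isPushout hpo (iS.app_surjective V' hV')
    (isNilpotent_ker_app iS hnil V' hV') hφ

/-- For a surjective closed immersion, the kernel on sections over an affine open consists of
nilpotent elements. -/
theorem ker_app_le_nilradical {S S' : Scheme.{u}} (iS : S ⟶ S') [IsClosedImmersion iS]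
    [Surjective iS] (V' : S'.Opens) (hV' : IsAffineOpen V') :
    RingHom.ker (iS.app V').hom ≤ nilradical Γ(S', V') := by
  intro x hx
  rw [RingHom.mem_ker] at hx
  rw [mem_nilradical, Scheme.isNilpotent_iff_basicOpen_eq_bot_of_isCompact hV'.isCompact]
  have h1 : iS ⁻¹ᵁ (S'.basicOpen x) = ⊥ := by
    rw [Scheme.preimage_basicOpen]
    have : (iS.app V') x = 0 := hx
    rw [this, Scheme.basicOpen_zero]
  ext y
  simp only [TopologicalSpace.Opens.coe_bot, Set.mem_empty_iff_false, iff_false]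
  intro hy
  obtain ⟨z, rfl⟩ := iS.surjective y
  have : z ∈ iS ⁻¹ᵁ (S'.basicOpen x) := hy
  rw [h1] at this
  exact this

/-- Finite order thickenings of the base: formally unramified lifts. -/
theorem formallyUnramified_of_isPullback_of_isNilpotent
    {X X' S S' : Scheme.{u}} {iX : X ⟶ X'} {iS : S ⟶ S'} {f : X ⟶ S} {f' : X' ⟶ S'}
    (hc : IsPullback iX f f' iS) [IsClosedImmersion iS] (hnil : IsNilpotent iS.ker)
    (hf : FormallyUnramified f) : FormallyUnramified f' := by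
  refine of_isPullback_of_lift (P := @FormallyUnramified) (Q := RingHom.FormallyUnramified)
    hc ?_ hf
  intro V' hV' U' hU' e B ψ φ hpo hφ
  exact ThickRing.formallyUnramified_of_isPushout hpo (iS.app_surjective V' hV')
    (Or.inl (isNilpotent_ker_app iS hnil V' hV')) hφ

/-- Thickenings of the base, locally of finite type: formally unramified lifts. -/
theorem formallyUnramified_of_isPullback_of_thickening
    {X X' S S' : Scheme.{u}} {iX : X ⟶ X'} {iS : S ⟶ S'} {f : X ⟶ S} {f' : X' ⟶ S'}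
    (hc : IsPullback iX f f' iS) [IsClosedImmersion iS] [Surjective iS]
    [LocallyOfFiniteType f']
    (hf : FormallyUnramified f) : FormallyUnramified f' := by
  refine of_isPullback_of_lift (P := @FormallyUnramified) (Q := RingHom.FormallyUnramified)
    hc ?_ hf
  intro V' hV' U' hU' e B ψ φ hpo hφ
  exact ThickRing.formallyUnramified_of_isPushout hpo (iS.app_surjective V' hV')
    (Or.inr ⟨ker_app_le_nilradical iS V' hV',
      HasRingHomProperty.appLE @LocallyOfFiniteType f' inferInstance ⟨V', hV'⟩ ⟨U', hU'⟩ e⟩) hφ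

/-- The base change of a closed immersion with nilpotent kernel has nilpotent kernel. -/
theorem isNilpotent_ker_of_isPullback {T T₀ S S' : Scheme.{u}} {j : T₀ ⟶ T} {p : T₀ ⟶ S}
    {h : T ⟶ S'} {iS : S ⟶ S'} (hp : IsPullback j p h iS) [IsClosedImmersion iS]
    (hnil : IsNilpotent iS.ker) : IsNilpotent j.ker := by
  have hj : IsClosedImmersion j := MorphismProperty.of_isPullback hp.flip ‹_›
  obtain ⟨n, hn⟩ := hnil
  refine ⟨n, ?_⟩
  change j.ker ^ n = ⊥
  rw [← le_bot_iff]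
  refine Scheme.IdealSheafData.le_of_iSup_eq_top
    (ι := {W : T.affineOpens // ∃ V' : S'.affineOpens, W.1 ≤ h ⁻¹ᵁ V'.1}) (fun W => W.1) ?_ ?_
  · rw [eq_top_iff]
    intro t _
    obtain ⟨_, ⟨V', hV', rfl⟩, htV', -⟩ :=
      S'.isBasis_affineOpens.exists_subset_of_mem_open (Set.mem_univ (h t)) isOpen_univ
    obtain ⟨_, ⟨W, hW, rfl⟩, htW, hWV⟩ :=
      T.isBasis_affineOpens.exists_subset_of_mem_open (show t ∈ h ⁻¹ᵁ V' from htV')
        (h ⁻¹ᵁ V').isOpen
    exact TopologicalSpace.Opens.mem_iSup.mpr ⟨⟨⟨W, hW⟩, ⟨V', hV'⟩, hWV⟩, htW⟩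
  · rintro ⟨W, V', e⟩
    have hpo := isPushout_appLE hp V'.1 V'.2 W.1 W.2 e
    obtain ⟨-, hker⟩ := ThickRing.surjective_and_ker_of_isPushout hpo
      (iS.app_surjective V'.1 V'.2)
    have h1 : (j.ker ^ n).ideal W = (j.ker.ideal W) ^ n := rfl
    have h2 : (iS.ker ^ n).ideal V' = (iS.ker.ideal V') ^ n := rfl
    rw [hn] at h2
    rw [h1, Scheme.Hom.ker_apply, hker, ← Ideal.map_pow, ← Scheme.Hom.ker_apply, ← h2]
    change Ideal.map _ ⊥ ≤ ⊥
    rw [Ideal.map_bot]

end Groth.Agent.Lib.Helper7.ThickBridge
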