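import Groth.Agent.Lib.Helper7.Thick
import Groth.Agent.Lib.Helper7.ThickBridge

/-!
# Monomorphisms, closed immersions and immersions along thickenings of the base
-/

set_option autoImplicit false
universe u

namespace Groth.Agent.Lib.Helper7.ThickMono

open AlgebraicGeometry CategoryTheory Limits MorphismProperty

/-- Separatedness descends along precomposition with a thickening. -/
theorem isSeparated_of_comp_thickening {A B C : Scheme.{u}} (i : A ⟶ B) (g : B ⟶ C)
    [IsClosedImmersion i] [Surjective i] [IsSeparated (i ≫ g)] : IsSeparated g := by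
  constructor
  have hmap : IsClosedImmersion (pullback.map (i ≫ g) (i ≫ g) g g i i (𝟙 C)
      ((Category.comp_id _).trans rfl) ((Category.comp_id _).trans rfl)) :=
    MorphismProperty.pullbackMap (P := @IsClosedImmersion) (f := i ≫ g) (g := i ≫ g) (f' := g)
      (g' := g) (i₁ := i) (i₂ := i) inferInstance inferInstance rfl rfl
  have h1 : IsClosedImmersion (i ≫ pullback.diagonal g) := by
    rw [Thick.comp_diagonal]; infer_instance
  have hr : Set.range (pullback.diagonal g) = Set.range (i ≫ pullback.diagonal g) := by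
    rw [Scheme.Hom.comp_base, TopCat.coe_comp, Set.range_comp, Set.range_eq_univ.mpr i.surjective,
      Set.image_univ]
  apply IsClosedImmersion.of_isPreimmersion
  rw [hr]
  exact (i ≫ pullback.diagonal g).isClosedEmbedding.isClosed_range

theorem isSeparated_iff_of_square
    {X X' S S' : Scheme.{u}} (iX : X ⟶ X') (iS : S ⟶ S') (f : X ⟶ S) (f' : X' ⟶ S')
    (hX : IsClosedImmersion iX ∧ Surjective iX) (hS : IsClosedImmersion iS ∧ Surjective iS)
    (w : iX ≫ f' = f ≫ iS) : IsSeparated f ↔ IsSeparated f' :=
  Thick.iff_of_square @IsSeparated (fun i _ _ => inferInstance)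
    (fun i g _ _ _ => isSeparated_of_comp_thickening i g) iX iS f f' hX hS w

section lft

variable {X X' S S' : Scheme.{u}} {iX : X ⟶ X'} {iS : S ⟶ S'} {f : X ⟶ S} {f' : X' ⟶ S'}

/-- Thickenings of the base, locally of finite type: monomorphisms lift. -/
theorem mono_of_isPullback_of_thickening
    (hc : IsPullback iX f f' iS) [IsClosedImmersion iS] [Surjective iS]
    [LocallyOfFiniteType f'] (hf : Mono f) : Mono f' := by
  have hX1 : IsClosedImmersion iX := MorphismProperty.of_isPullback hc.flip ‹IsClosedImmersion iS›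
  have hX2 : Surjective iX := MorphismProperty.of_isPullback hc.flip ‹Surjective iS›
  have h1 : FormallyUnramified f := inferInstance
  have h2 : FormallyUnramified f' :=
    ThickBridge.formallyUnramified_of_isPullback_of_thickening hc h1
  have h3 : UniversallyInjective f' :=
    (Thick.universallyInjective_iff_of_square iX iS f f' ⟨hX1, hX2⟩ ⟨‹_›, ‹_›⟩ hc.w).mp
      inferInstance
  have h4 : Surjective (pullback.diagonal f') := (UniversallyInjective.iff_diagonal f').mp h3
  have h5 : IsOpenImmersion (pullback.diagonal f') := inferInstance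
  have h6 : IsIso (pullback.diagonal f') :=
    (isIso_iff_isOpenImmersion_and_surjective _).mpr ⟨h5, h4⟩
  exact (pullback.isIso_diagonal_iff f').mp h6

/-- Thickenings of the base, locally of finite type: closed immersions lift. -/
theorem isClosedImmersion_of_isPullback_of_thickening
    (hc : IsPullback iX f f' iS) [IsClosedImmersion iS] [Surjective iS]
    [LocallyOfFiniteType f'] (hf : IsClosedImmersion f) : IsClosedImmersion f' := by
  have hX1 : IsClosedImmersion iX := MorphismProperty.of_isPullback hc.flip ‹IsClosedImmersion iS›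
  have hX2 : Surjective iX := MorphismProperty.of_isPullback hc.flip ‹Surjective iS›
  have h1 : Mono f' := mono_of_isPullback_of_thickening hc inferInstance
  have h2 : UniversallyClosed f' :=
    (Thick.universallyClosed_iff_of_square iX iS f f' ⟨hX1, hX2⟩ ⟨‹_›, ‹_›⟩ hc.w).mp
      inferInstance
  have h3 : IsSeparated f' :=
    (isSeparated_iff_of_square iX iS f f' ⟨hX1, hX2⟩ ⟨‹_›, ‹_›⟩ hc.w).mp inferInstance
  have h4 : IsProper f' := {}
  exact (IsClosedImmersion.iff_isProper_and_mono f').mpr ⟨h4, h1⟩

/-- Thickenings of the base, locally of finite type: immersions lift. -/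
theorem isImmersion_of_isPullback_of_thickening
    (hc : IsPullback iX f f' iS) [IsClosedImmersion iS] [Surjective iS]
    [LocallyOfFiniteType f'] (hf : IsImmersion f) : IsImmersion f' := by
  have hX2 : Surjective iX := MorphismProperty.of_isPullback hc.flip ‹Surjective iS›
  obtain ⟨Z, g₁, g₂, hg₁, hg₂, hfac⟩ := IsImmersion.isImmersion_iff_exists.mp hf
  have hhomeo : IsHomeomorph iS :=
    isHomeomorph_iff_isEmbedding_surjective.mpr ⟨iS.isEmbedding, iS.surjective⟩
  let U' : S'.Opens := ⟨iS '' (Set.range g₂), hhomeo.isOpenMap _ g₂.isOpenEmbedding.isOpen_range⟩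
  have hrange : Set.range f' ⊆ Set.range U'.ι := by
    rw [Scheme.Opens.range_ι]
    rintro _ ⟨x', rfl⟩
    obtain ⟨x, rfl⟩ := iX.surjective x'
    refine ⟨f x, ?_, ?_⟩
    · rw [← hfac]; exact ⟨g₁ x, rfl⟩
    · rw [← Scheme.Hom.comp_apply, ← hc.w, Scheme.Hom.comp_apply]
  have hg₁' : IsOpenImmersion.lift U'.ι f' hrange ≫ U'.ι = f' := IsOpenImmersion.lift_fac _ _ _
  have hbc : IsPullback (pullback.fst U'.ι iS) (pullback.snd U'.ι iS) U'.ι iS :=
    IsPullback.of_hasPullback _ _
  have hw : (iX ≫ IsOpenImmersion.lift U'.ι f' hrange) ≫ U'.ι = f ≫ iS := by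
    rw [Category.assoc, hg₁', hc.w]
  have ha1 : pullback.lift (iX ≫ IsOpenImmersion.lift U'.ι f' hrange) f hw ≫
      pullback.fst U'.ι iS = iX ≫ IsOpenImmersion.lift U'.ι f' hrange := pullback.lift_fst _ _ _
  have ha2 : pullback.lift (iX ≫ IsOpenImmersion.lift U'.ι f' hrange) f hw ≫
      pullback.snd U'.ι iS = f := pullback.lift_snd _ _ _
  have hc' : IsPullback iX
      (pullback.lift (iX ≫ IsOpenImmersion.lift U'.ι f' hrange) f hw ≫ pullback.snd U'.ι iS)
      (IsOpenImmersion.lift U'.ι f' hrange ≫ U'.ι) iS := by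
    rw [ha2, hg₁']; exact hc
  have hsq : IsPullback iX (pullback.lift (iX ≫ IsOpenImmersion.lift U'.ι f' hrange) f hw)
      (IsOpenImmersion.lift U'.ι f' hrange) (pullback.fst U'.ι iS) :=
    IsPullback.of_bot hc' ha1.symm hbc
  -- `a` is a closed immersion
  have hrc : Set.range g₂ = Set.range (pullback.snd U'.ι iS) := by
    rw [Scheme.Pullback.range_snd, Scheme.Opens.range_ι]
    change _ = iS ⁻¹' (iS '' Set.range g₂)
    rw [Set.preimage_image_eq _ iS.isEmbedding.injective]
  have ha : pullback.lift (iX ≫ IsOpenImmersion.lift U'.ι f' hrange) f hw =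
      g₁ ≫ (IsOpenImmersion.isoOfRangeEq g₂ (pullback.snd U'.ι iS) hrc).hom := by
    rw [← cancel_mono (pullback.snd U'.ι iS), ha2, Category.assoc,
      IsOpenImmersion.isoOfRangeEq_hom_fac, hfac]
  have hacl : IsClosedImmersion
      (pullback.lift (iX ≫ IsOpenImmersion.lift U'.ι f' hrange) f hw) := by
    rw [ha]; infer_instance
  have hb2 : Surjective (pullback.fst U'.ι iS) :=
    MorphismProperty.pullback_fst (P := @Surjective) _ _ ‹Surjective iS›
  have hlft : LocallyOfFiniteType (IsOpenImmersion.lift U'.ι f' hrange) := by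
    have : LocallyOfFiniteType (IsOpenImmersion.lift U'.ι f' hrange ≫ U'.ι) := by
      rw [hg₁']; infer_instance
    exact locallyOfFiniteType_of_comp _ U'.ι
  have hcl : IsClosedImmersion (IsOpenImmersion.lift U'.ι f' hrange) :=
    isClosedImmersion_of_isPullback_of_thickening hsq hacl
  rw [← hg₁']
  infer_instance

end lft

section nilpotent

variable {X X' S S' : Scheme.{u}} {iX : X ⟶ X'} {iS : S ⟶ S'} {f : X ⟶ S} {f' : X' ⟶ S'}

/-- Finite order thickenings of the base: monomorphisms lift. -/
theorem mono_of_isPullback_of_isNilpotent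
    (hc : IsPullback iX f f' iS) [IsClosedImmersion iS] (hnil : IsNilpotent iS.ker)
    (hf : Mono f) : Mono f' := by
  have h1 : FormallyUnramified f := inferInstance
  have h2 : FormallyUnramified f' :=
    ThickBridge.formallyUnramified_of_isPullback_of_isNilpotent hc hnil h1
  constructor
  intro T g1 g2 hg
  have hp : IsPullback (pullback.fst (g1 ≫ f') iS) (pullback.snd (g1 ≫ f') iS) (g1 ≫ f') iS :=
    IsPullback.of_hasPullback _ _
  have hjnil : IsNilpotent (pullback.fst (g1 ≫ f') iS).ker :=
    ThickBridge.isNilpotent_ker_of_isPullback hp hnil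
  have e1 : (pullback.fst (g1 ≫ f') iS ≫ g1) ≫ f' = pullback.snd (g1 ≫ f') iS ≫ iS := by
    rw [Category.assoc]; exact hp.w
  have e2 : (pullback.fst (g1 ≫ f') iS ≫ g2) ≫ f' = pullback.snd (g1 ≫ f') iS ≫ iS := by
    rw [Category.assoc, ← hg]; exact hp.w
  have hu : hc.lift _ _ e1 = hc.lift _ _ e2 := by
    rw [← cancel_mono f]; simp
  have hjg : pullback.fst (g1 ≫ f') iS ≫ g1 = pullback.fst (g1 ≫ f') iS ≫ g2 := by
    have := congr($hu ≫ iX)
    simpa using this
  exact FormallyUnramified.hom_ext (pullback.fst (g1 ≫ f') iS) hjnil f' hjg hg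

end nilpotent

end Groth.Agent.Lib.Helper7.ThickMono
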