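import Mathlib
import Groth.Prelude.Def_Pi1

/-!
# Normalization of a scheme along a morphism from the spectrum of a field

Ring-level: the integral closure of a ring in a field is an integrally closed domain.
Scheme-level: `Spec` of an integrally closed domain is a normal scheme; normality is local;
the relative normalization of `X` along `g : Spec W ⟶ X` (`W` a field) is a normal scheme.
-/

set_option autoImplicit false
set_option linter.style.haveILetI false
universe u

open CategoryTheory AlgebraicGeometry

namespace Groth.Agent.Lib.Helper7.NormField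

section Ring

variable (R L : Type*) [CommRing R] [CommRing L] [Algebra R L]

theorem isDomain_integralClosure_of_isField (hL : IsField L) :
    IsDomain (integralClosure R L) := by
  letI := hL.toField
  infer_instance

theorem isIntegrallyClosed_integralClosure_of_isField (hL : IsField L) :
    IsIntegrallyClosed (integralClosure R L) := by
  letI := hL.toField
  let C := integralClosure R L
  let F := FractionRing C
  let φ : F →ₐ[C] L := IsFractionRing.liftAlgHom (K := F) (g := Algebra.ofId C L)
    (fun a b h => Subtype.ext h)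
  have hφ : Function.Injective φ := φ.toRingHom.injective
  have h1 : IsIntegrallyClosedIn C L := inferInstance
  have h2 : IsIntegrallyClosedIn C F := AlgHom.isIntegrallyClosedIn φ hφ h1
  exact (isIntegrallyClosed_iff_isIntegrallyClosedIn F).mpr h2

end Ring

section Normal

set_option backward.isDefEq.respectTransparency.types false in
/-- `Spec` of an integrally closed domain is a normal scheme. -/
theorem isNormalScheme_Spec (C : CommRingCat.{u}) [IsDomain C] [IsIntegrallyClosed C] :
    Pi1.IsNormalScheme (Spec C) := by
  intro y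
  letI : Algebra C ((Spec C).presheaf.stalk y) := StructureSheaf.stalkAlgebra C y
  have hy : y.asIdeal.IsPrime := y.isPrime
  have hloc : IsLocalization.AtPrime ((Spec C).presheaf.stalk y) y.asIdeal :=
    StructureSheaf.IsLocalization.to_stalk C y
  have hle : y.asIdeal.primeCompl ≤ nonZeroDivisors C :=
    Ideal.primeCompl_le_nonZeroDivisors _
  have hdom : IsDomain ((Spec C).presheaf.stalk y) :=
    IsLocalization.isDomain_of_atPrime _ y.asIdeal
  exact ⟨hdom, isIntegrallyClosed_of_isLocalization _ y.asIdeal.primeCompl hle⟩

/-- An open subscheme of a normal scheme is normal. -/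
theorem isNormalScheme_of_isOpenImmersion {Y Z : Scheme.{u}} (f : Y ⟶ Z) [IsOpenImmersion f]
    (hZ : Pi1.IsNormalScheme Z) : Pi1.IsNormalScheme Y := by
  intro y
  let e : Z.presheaf.stalk (f y) ≃+* Y.presheaf.stalk y :=
    (asIso (f.stalkMap y)).commRingCatIsoToRingEquiv
  obtain ⟨h1, h2⟩ := hZ (f y)
  exact ⟨e.symm.toMulEquiv.isDomain, IsIntegrallyClosed.of_equiv e⟩

/-- Normality is local: a scheme covered by normal open subschemes is normal. -/
theorem isNormalScheme_of_openCover {Y : Scheme.{u}} (𝒰 : Y.OpenCover)
    (h : ∀ i, Pi1.IsNormalScheme (𝒰.X i)) : Pi1.IsNormalScheme Y := by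
  intro y
  obtain ⟨i, z, rfl⟩ := 𝒰.exists_eq y
  let e : Y.presheaf.stalk ((𝒰.f i) z) ≃+* (𝒰.X i).presheaf.stalk z :=
    (asIso ((𝒰.f i).stalkMap z)).commRingCatIsoToRingEquiv
  obtain ⟨h1, h2⟩ := h i z
  exact ⟨e.toMulEquiv.isDomain, IsIntegrallyClosed.of_equiv e.symm⟩

theorem isNormalScheme_Spec_integralClosure (R L : Type u) [CommRing R] [CommRing L]
    [Algebra R L] (hL : IsField L ∨ Subsingleton L) :
    Pi1.IsNormalScheme (Spec (CommRingCat.of (integralClosure R L))) := by
  rcases hL with hL | hL
  · have := isDomain_integralClosure_of_isField R L hL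
    have := isIntegrallyClosed_integralClosure_of_isField R L hL
    exact isNormalScheme_Spec _
  · intro y
    exact (IsEmpty.false (α := PrimeSpectrum (integralClosure R L)) y).elim

end Normal

section Field

variable {W : CommRingCat.{u}} (hW : IsField W)
include hW

/-- Sections of `Spec` of a field over an open form a field or the zero ring. -/
theorem isField_or_subsingleton_sections (V : (Spec W).Opens) :
    IsField Γ(Spec W, V) ∨ Subsingleton Γ(Spec W, V) := by
  letI := hW.toField
  by_cases hV : V = ⊤
  · subst hV
    left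
    exact (Scheme.ΓSpecIso W).commRingCatIsoToRingEquiv.toMulEquiv.isField hW
  · right
    have : V = ⊥ := by
      ext x
      simp only [TopologicalSpace.Opens.coe_bot, Set.mem_empty_iff_false, iff_false]
      intro hx
      apply hV
      ext y
      simp only [TopologicalSpace.Opens.coe_top, Set.mem_univ, iff_true]
      have : Subsingleton (Spec W) := inferInstanceAs (Subsingleton (PrimeSpectrum W))
      rwa [Subsingleton.elim y x]
    subst this
    infer_instance

variable {X : Scheme.{u}} (g : Spec W ⟶ X) [QuasiCompact g] [QuasiSeparated g]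

/-- The relative normalization of a scheme along a morphism from the spectrum of a field is a
normal scheme. -/
theorem isNormalScheme_normalization : Pi1.IsNormalScheme g.normalization := by
  apply isNormalScheme_of_openCover g.normalizationOpenCover
  intro U
  letI := (g.app U.1).hom.toAlgebra
  have := isNormalScheme_Spec_integralClosure Γ(X, U.1) Γ(Spec W, g ⁻¹ᵁ U.1)
    (isField_or_subsingleton_sections hW _)
  dsimp [Scheme.Hom.normalizationOpenCover, Scheme.Hom.normalizationGlueData,
    Scheme.Cover.RelativeGluingData.cover, Scheme.AffineZariskiSite.relativeGluingData]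
  exact this

end Field

section Dominant

variable {W : CommRingCat.{u}} {X : Scheme.{u}} (g : Spec W ⟶ X) [QuasiCompact g]
  [QuasiSeparated g]

/-- The normalization morphism along a dominant morphism is surjective. -/
theorem surjective_fromNormalization_of_isDominant [IsDominant g] :
    Surjective g.fromNormalization := by
  have h1 : IsClosed (Set.range g.fromNormalization) :=
    g.fromNormalization.isClosedMap.isClosed_range
  have h2 : Dense (Set.range g.fromNormalization) := by
    refine g.denseRange.mono ?_
    conv_lhs => rw [← g.toNormalization_fromNormalization]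
    rw [Scheme.Hom.comp_base, TopCat.coe_comp]
    exact Set.range_comp_subset_range _ _
  exact ⟨Set.range_eq_univ.mp (h1.closure_eq ▸ h2.closure_eq)⟩

theorem fromNormalization_genericPoint [IsIntegral X] [IsDomain W] [IsDominant g] :
    g.fromNormalization (genericPoint g.normalization) = genericPoint X := by
  have := surjective_fromNormalization_of_isDominant g
  have h : IsGenericPoint (g.fromNormalization (genericPoint g.normalization))
      (⊤ : Set X) := by
    have := (genericPoint_spec g.normalization).image g.fromNormalization.continuous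
    rwa [Set.image_univ, g.fromNormalization.surjective.range_eq, closure_univ] at this
  exact h.eq (genericPoint_spec X)

theorem toNormalization_eq_genericPoint (hW : IsField W) [IsDomain W] (p : Spec W) :
    g.toNormalization p = genericPoint g.normalization := by
  have hsub : Subsingleton (Spec W) := by
    letI := hW.toField
    exact inferInstanceAs (Subsingleton (PrimeSpectrum W))
  have hrange : Set.range g.toNormalization = {g.toNormalization p} := by
    ext z
    constructor
    · rintro ⟨q, rfl⟩
      rw [Subsingleton.elim q p]; rfl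
    · rintro rfl
      exact ⟨p, rfl⟩
  have hd : Dense (Set.range g.toNormalization) := g.toNormalization.denseRange
  rw [hrange] at hd
  have h : IsGenericPoint (g.toNormalization p) (⊤ : Set g.normalization) := by
    rw [IsGenericPoint, hd.closure_eq]; rfl
  exact h.eq (genericPoint_spec _)

/-- Residue field maps of a morphism surjective on stalks are surjective. -/
theorem residueFieldMap_surjective_of_surjectiveOnStalks {Y Z : Scheme.{u}} (f : Y ⟶ Z)
    [SurjectiveOnStalks f] (y : Y) : Function.Surjective (f.residueFieldMap y).hom := by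
  intro a
  obtain ⟨b, rfl⟩ := Y.residue_surjective y a
  obtain ⟨c, rfl⟩ := f.stalkMap_surjective y b
  refine ⟨Z.residue (f y) c, ?_⟩
  have := congr($(Scheme.residue_residueFieldMap f y).hom c)
  simpa using this

/-- If `g` is surjective on stalks (e.g. a preimmersion), the residue field map of
`fromNormalization` at the image of a point `p` is bijective. -/
theorem bijective_residueFieldMap_fromNormalization_toNormalization [SurjectiveOnStalks g]
    (p : Spec W) :
    Function.Bijective (g.fromNormalization.residueFieldMap (g.toNormalization p)).hom := by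
  have hcomp : g.residueFieldMap p = (X.residueFieldCongr (by
      rw [← Scheme.Hom.comp_apply, g.toNormalization_fromNormalization])).hom ≫
      g.fromNormalization.residueFieldMap (g.toNormalization p) ≫
        g.toNormalization.residueFieldMap p := by
    rw [← Scheme.residueFieldMap_comp]
    exact Scheme.Hom.residueFieldMap_congr g.toNormalization_fromNormalization.symm p
  have hsurj := residueFieldMap_surjective_of_surjectiveOnStalks g p
  rw [hcomp] at hsurj
  set A := (g.fromNormalization.residueFieldMap (g.toNormalization p)) with hA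
  set B := (g.toNormalization.residueFieldMap p) with hB
  have hBinj : Function.Injective B.hom := B.hom.injective
  refine ⟨A.hom.injective, fun z => ?_⟩
  obtain ⟨w, hw⟩ := hsurj (B.hom z)
  exact ⟨_, hBinj hw⟩

theorem bijective_residueFieldMap_fromNormalization_genericPoint [SurjectiveOnStalks g]
    (hW : IsField W) [IsDomain W] (p : Spec W) :
    Function.Bijective
      (g.fromNormalization.residueFieldMap (genericPoint g.normalization)).hom := by
  have h := bijective_residueFieldMap_fromNormalization_toNormalization g p
  rwa [toNormalization_eq_genericPoint g hW p] at h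

end Dominant

section GenericFibre

/-- Incomparability at the generic point: for an integral morphism of integral schemes, the only
point over the generic point is the generic point. -/
theorem eq_genericPoint_of_isIntegralHom {Y X : Scheme.{u}} (f : Y ⟶ X) [IsIntegralHom f]
    [IsIntegral Y] [IsIntegral X] (y : Y) (hy : f y = genericPoint X) : y = genericPoint Y := by
  obtain ⟨_, ⟨U, hU, rfl⟩, hξU, -⟩ := X.isBasis_affineOpens.exists_subset_of_mem_open
    (Set.mem_univ (genericPoint X)) isOpen_univ
  let V := f ⁻¹ᵁ U
  have hV : IsAffineOpen V := hU.preimage f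
  have hyV : y ∈ V := by
    show f y ∈ U
    rw [hy]; exact hξU
  have hneV : Nonempty V := ⟨⟨y, hyV⟩⟩
  have hneU : Nonempty U := ⟨⟨_, hξU⟩⟩
  have hint : (f.app U).hom.IsIntegral := IsIntegralHom.isIntegral_app f U hU
  have hcomap := IsAffineOpen.comap_primeIdealOf_appLE (f := f) U hU V hV le_rfl hyV
  have h1 : hU.primeIdealOf ⟨f y, hyV⟩ = (⊥ : PrimeSpectrum Γ(X, U)) := by
    have : (⟨f y, hyV⟩ : U) = ⟨genericPoint X, hξU⟩ := Subtype.ext hy
    rw [this, hU.primeIdealOf_genericPoint, genericPoint_eq_bot_of_affine]
  have h2 : (hV.primeIdealOf ⟨y, hyV⟩).asIdeal = ⊥ := by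
    algebraize [(f.app U).hom]
    have : Algebra.IsIntegral Γ(X, U) Γ(Y, V) := ⟨hint⟩
    apply Ideal.eq_bot_of_comap_eq_bot (R := Γ(X, U))
    have := congr(($hcomap).asIdeal)
    rw [h1] at this
    rw [RingHom.algebraMap_toAlgebra, Scheme.Hom.app_eq_appLE]
    exact this
  have hξV : genericPoint Y ∈ V :=
    ((genericPoint_spec Y).mem_open_set_iff V.isOpen).mpr ⟨y, trivial, hyV⟩
  have h3 : hV.primeIdealOf ⟨y, hyV⟩ = hV.primeIdealOf ⟨genericPoint Y, hξV⟩ := by
    rw [hV.primeIdealOf_genericPoint, genericPoint_eq_bot_of_affine]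
    exact PrimeSpectrum.ext h2
  have h4 := congr(hV.fromSpec $h3)
  rwa [hV.fromSpec_primeIdealOf, hV.fromSpec_primeIdealOf] at h4

end GenericFibre

section Range

open Polynomial in
/-- Abstract form of: the function field of the normalization of `A` in `K` is the algebraic
closure of `Frac A` in `K`. -/
theorem range_eq_integral_of_fraction
    {A B F F' K : Type*} [CommRing A] [CommRing B] [Field F] [CommRing F'] [Field K]
    [Algebra A F] [IsFractionRing A F]
    (hF' : IsField F')
    (ψ : A →+* B) (γ' : B →+* F') (φ : F →+* K) (σ : F' →+* K)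
    (hψ : ψ.IsIntegral)
    (hfracB : ∀ s : F', ∃ b d : B, γ' d ≠ 0 ∧ s * γ' d = γ' b)
    (hcomm : (σ.comp γ').comp ψ = φ.comp (algebraMap A F))
    (hsurj : ∀ z : K, (φ.comp (algebraMap A F)).IsIntegralElem z → ∃ b : B, σ (γ' b) = z) :
    Set.range σ = {y : K | ∃ q : Polynomial F, q.Monic ∧ Polynomial.eval₂ φ y q = 0} := by
  letI := hF'.toField
  have hσinj : Function.Injective σ := σ.injective
  -- integrality of images of elements of `B`
  have hB : ∀ b : B, φ.IsIntegralElem (σ (γ' b)) := by
    intro b
    obtain ⟨q, hq, hq0⟩ := hψ b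
    refine ⟨q.map (algebraMap A F), hq.map _, ?_⟩
    rw [eval₂_map, ← hcomm, ← RingHom.comp_apply, ← hom_eval₂, hq0, map_zero]
  algebraize [φ, φ.comp (algebraMap A F)]
  ext y
  simp only [Set.mem_range, Set.mem_ofPred_eq]
  constructor
  · rintro ⟨s, rfl⟩
    obtain ⟨b, d, hd, hs⟩ := hfracB s
    have h1 : IsIntegral F (σ (γ' b)) := hB b
    have h2 : IsIntegral F (σ (γ' d)) := hB d
    have hd' : σ (γ' d) ≠ 0 := fun h => hd (hσinj (by rw [h, map_zero]))
    have h3 : σ s = σ (γ' b) * (σ (γ' d))⁻¹ := by
      rw [← hs, map_mul, mul_assoc, mul_inv_cancel₀ hd', mul_one]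
    have h4 : IsIntegral F (σ s) := by
      rw [h3]; exact h1.mul h2.inv
    exact h4
  · intro hy
    have hy' : IsIntegral F y := hy
    obtain ⟨⟨m, hm⟩, hmy⟩ :=
      IsIntegral.exists_multiple_integral_of_isLocalization (nonZeroDivisors A) y hy'
    have hmy' : (φ.comp (algebraMap A F)).IsIntegralElem (φ (algebraMap A F m) * y) := by
      have := hmy
      rw [Submonoid.smul_def, Algebra.smul_def] at this
      exact this
    obtain ⟨b, hb⟩ := hsurj _ hmy'
    have hm0 : φ (algebraMap A F m) ≠ 0 := by
      have : Nontrivial A := (IsFractionRing.nontrivial_iff_nontrivial (R := A) (S := F)).mpr inferInstance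
      rw [Ne, map_eq_zero]
      exact IsFractionRing.to_map_ne_zero_of_mem_nonZeroDivisors hm
    have hd : σ (γ' (ψ m)) = φ (algebraMap A F m) := by
      have := congr($hcomm m)
      simpa using this
    have hd0 : γ' (ψ m) ≠ 0 := fun h => hm0 (by rw [← hd, h, map_zero])
    refine ⟨γ' b * (γ' (ψ m))⁻¹, ?_⟩
    rw [map_mul, map_inv₀, hb, hd, mul_comm, ← mul_assoc, inv_mul_cancel₀ hm0, one_mul]

theorem isField_stalk_of_eq_genericPoint {Y : Scheme.{u}} [IsIntegral Y] (y : Y)
    (hy : y = genericPoint Y) : IsField (Y.presheaf.stalk y) := by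
  subst hy
  exact Field.toIsField Y.functionField

theorem exists_germ_fraction {Y : Scheme.{u}} [IsIntegral Y] (V : Y.Opens) (hV : IsAffineOpen V)
    (y : Y) (hy : y = genericPoint Y) (hyV : y ∈ V) (s : Y.presheaf.stalk y) :
    ∃ b d : Γ(Y, V), Y.presheaf.germ V y hyV d ≠ 0 ∧
      s * Y.presheaf.germ V y hyV d = Y.presheaf.germ V y hyV b := by
  subst hy
  have : Nonempty V := ⟨⟨_, hyV⟩⟩
  have hfr : IsFractionRing Γ(Y, V) Y.functionField :=
    functionField_isFractionRing_of_isAffineOpen Y V hV
  obtain ⟨⟨b, d⟩, h⟩ := IsLocalization.surj (nonZeroDivisors Γ(Y, V)) (s : Y.functionField)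
  refine ⟨b, d, ?_, h⟩
  exact IsFractionRing.to_map_ne_zero_of_mem_nonZeroDivisors d.2

open IsLocalRing

section EV
variable {R : CommRingCat.{u}} [IsLocalRing R]

/-- Evaluation of sections of `Spec R` (`R` local) on an open containing the closed point. -/
noncomputable def ev (V : (Spec R).Opens) (hp : closedPoint R ∈ V) : Γ(Spec R, V) ⟶ R :=
  (Spec R).presheaf.germ V _ hp ≫ (stalkClosedPointIso R).hom

theorem ev_bijective (V : (Spec R).Opens) (hp : closedPoint R ∈ V) :
    Function.Bijective (ev V hp).hom := by
  obtain rfl : V = ⊤ := IsLocalRing.closed_point_mem_iff.mp hp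
  have : ev (R := R) ⊤ hp = (Scheme.ΓSpecIso R).hom := germ_stalkClosedPointIso_hom R
  rw [this]
  exact ConcreteCategory.bijective_of_isIso (Scheme.ΓSpecIso R).hom

set_option backward.isDefEq.respectTransparency.types false in
theorem map_ev {V V' : (Spec R).Opens} (i : V ≤ V') (hp : closedPoint R ∈ V) :
    (Spec R).presheaf.map (homOfLE i).op ≫ ev V hp = ev V' (i hp) := by
  unfold ev
  rw [TopCat.Presheaf.germ_res_assoc]

set_option backward.isDefEq.respectTransparency.types false in
theorem germ_stalkClosedPointTo_ev {Y : Scheme.{u}} (f : Spec R ⟶ Y) (U : Y.Opens)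
    (hU : f (closedPoint R) ∈ U) :
    Y.presheaf.germ U _ hU ≫ Scheme.stalkClosedPointTo f = f.app U ≫ ev (f ⁻¹ᵁ U) hU := by
  rw [Scheme.stalkClosedPointTo, Scheme.Hom.germ_stalkMap_assoc]
  rfl
end EV


open IsLocalRing in
theorem germ_stalkClosedPointTo_congr {R : CommRingCat.{u}} [IsLocalRing R] {Y : Scheme.{u}}
    {f f' : Spec R ⟶ Y} (h : f = f') (U : Y.Opens) (hU : f (closedPoint R) ∈ U) :
    Y.presheaf.germ U _ hU ≫ Scheme.stalkClosedPointTo f =
      Y.presheaf.germ U (f' (closedPoint R)) (h ▸ hU) ≫ Scheme.stalkClosedPointTo f' := by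
  subst h; rfl

theorem range_stalkClosedPointTo_toNormalization (X : Scheme.{u}) [IsIntegral X] (K : Type u)
    [Field K] (φ : X.functionField →+* K) (g : Spec (CommRingCat.of K) ⟶ X)
    (hg : g = Spec.map (CommRingCat.ofHom φ) ≫ X.fromSpecStalk (genericPoint X))
    [QuasiCompact g] [QuasiSeparated g] :
    Set.range (Scheme.stalkClosedPointTo g.toNormalization).hom =
      {y : K | ∃ q : Polynomial X.functionField, q.Monic ∧ Polynomial.eval₂ φ y q = 0} := by
  let p : Spec (CommRingCat.of K) := closedPoint K
  have hgp : g p = genericPoint X := by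
    rw [hg, Scheme.Hom.comp_apply]
    erw [Spec_closedPoint]
    exact Scheme.fromSpecStalk_closedPoint
  obtain ⟨_, ⟨U, hU, rfl⟩, hξU, -⟩ := X.isBasis_affineOpens.exists_subset_of_mem_open
    (Set.mem_univ (genericPoint X)) isOpen_univ
  have hneU : Nonempty U := ⟨⟨_, hξU⟩⟩
  let U' : g.normalization.Opens := g.fromNormalization ⁻¹ᵁ U
  have hU' : IsAffineOpen U' := hU.preimage g.fromNormalization
  have hfp : g.fromNormalization (g.toNormalization p) = g p := by
    rw [← Scheme.Hom.comp_apply, g.toNormalization_fromNormalization]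
  have hpU' : g.toNormalization p ∈ U' := by
    show g.fromNormalization (g.toNormalization p) ∈ U
    rw [hfp, hgp]; exact hξU
  have hgen : g.toNormalization p = genericPoint g.normalization :=
    toNormalization_eq_genericPoint g (Field.toIsField K) p
  have hgpU : g p ∈ U := hgp ▸ hξU
  have hα : g.app U ≫ ev (g ⁻¹ᵁ U) hgpU = X.germToFunctionField U ≫ CommRingCat.ofHom φ := by
    rw [← germ_stalkClosedPointTo_ev g U hgpU, germ_stalkClosedPointTo_congr hg U hgpU]
    exact Scheme.germ_stalkClosedPointTo_Spec_fromSpecStalk (CommRingCat.ofHom φ) U _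
  have hβ : g.fromNormalization.app U ≫ g.normalization.presheaf.germ U' _ hpU' ≫
      Scheme.stalkClosedPointTo g.toNormalization = g.app U ≫ ev (g ⁻¹ᵁ U) hgpU := by
    have h1 := Scheme.Hom.germ_stalkMap_assoc g.fromNormalization U (g.toNormalization p) hpU'
      (Scheme.stalkClosedPointTo g.toNormalization)
    rw [← Scheme.stalkClosedPointTo_comp] at h1
    rw [← germ_stalkClosedPointTo_ev g U hgpU]
    exact h1.symm.trans (germ_stalkClosedPointTo_congr g.toNormalization_fromNormalization U _)
  have hfrA : IsFractionRing Γ(X, U) X.functionField :=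
    functionField_isFractionRing_of_isAffineOpen X U hU
  apply range_eq_integral_of_fraction (A := Γ(X, U)) (B := Γ(g.normalization, U'))
    (F := X.functionField)
    (hF' := isField_stalk_of_eq_genericPoint _ hgen)
    (ψ := (g.fromNormalization.app U).hom)
    (γ' := (g.normalization.presheaf.germ U' _ hpU').hom)
    (φ := φ) (σ := (Scheme.stalkClosedPointTo g.toNormalization).hom)
  · exact IsIntegralHom.isIntegral_app g.fromNormalization U hU
  · exact exists_germ_fraction U' hU' _ hgen hpU'
  · exact congr($(hβ.trans hα).hom)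
  · intro z hz
    obtain ⟨ℓ, hℓ⟩ := (ev_bijective (g ⁻¹ᵁ U) hgpU).2 z
    letI := (g.app U).hom.toAlgebra
    have hℓint : IsIntegral Γ(X, U) ℓ := by
      obtain ⟨q, hq, hq0⟩ := hz
      refine ⟨q, hq, ?_⟩
      apply (ev_bijective _ hgpU).1
      rw [map_zero, Polynomial.hom_eval₂, hℓ]
      have : (ev (g ⁻¹ᵁ U) hgpU).hom.comp (algebraMap Γ(X, U) Γ(Spec (CommRingCat.of K), g ⁻¹ᵁ U)) =
          φ.comp (algebraMap Γ(X, U) X.functionField) := congr($(hα).hom)
      rw [this]
      exact hq0
    let c : integralClosure Γ(X, U) Γ(Spec (CommRingCat.of K), g ⁻¹ᵁ U) := ⟨ℓ, hℓint⟩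
    refine ⟨(g.normalizationObjIso hU).inv c, ?_⟩
    have h1 := germ_stalkClosedPointTo_ev g.toNormalization U' hpU'
    have h2 := g.toNormalization_app_preimage ⟨U, hU⟩
    dsimp only at h2
    have h3 := congr($(h1).hom ((g.normalizationObjIso hU).inv c))
    refine h3.trans ?_
    rw [CommRingCat.comp_apply]
    erw [h2]
    rw [CommRingCat.comp_apply, CommRingCat.comp_apply]
    have h4 : (g.normalizationObjIso hU).hom ((g.normalizationObjIso hU).inv c) = c := by
      rw [← CommRingCat.comp_apply, Iso.inv_hom_id]; rfl
    rw [h4]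
    have h5 : ∀ (V V' : (Spec (CommRingCat.of K)).Opens) (e : V' = V) (hp : closedPoint K ∈ V')
        (t : Γ(Spec (CommRingCat.of K), V)),
        (ev V' hp).hom (((Spec (CommRingCat.of K)).presheaf.map (eqToHom e).op).hom t) =
          (ev V (e ▸ hp)).hom t := by
      intro V V' e hp t
      subst e
      simp
    rw [← hℓ]
    exact h5 _ _ _ _ _

end Range

end Groth.Agent.Lib.Helper7.NormField
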