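import Groth.Agent.Lib.Helper7.ThickRing
import Mathlib

/-!
# Lifting freeness along a nilpotent ideal

`J ⊆ A` nilpotent, `f : F → M`:
* `surjective_of_baseChange_surjective`: `f ⊗ A/J` surjective ⟹ `f` surjective;
* `injective_of_baseChange_injective`: `M` flat, `f` surjective, `f ⊗ A/J` injective ⟹ `f` injective;
* content ideal of the kernel of a lifted basis and its universal property.
-/

set_option autoImplicit false
universe u v w

namespace Groth.Agent.Lib.Helper7.NilFree

open TensorProduct Function Groth.Agent.Lib.Helper7.ThickRing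

section basic

variable {A : Type*} [CommRing A] (J : Ideal A)
  {F M : Type*} [AddCommGroup F] [Module A F] [AddCommGroup M] [Module A M]

theorem exists_one_tmul_eq (y : (A ⧸ J) ⊗[A] F) : ∃ x : F, y = (1 : A ⧸ J) ⊗ₜ[A] x := by
  induction y using TensorProduct.induction_on with
  | zero => exact ⟨0, (TensorProduct.tmul_zero _ _).symm⟩
  | add x y hx hy =>
    obtain ⟨x', rfl⟩ := hx
    obtain ⟨y', rfl⟩ := hy
    exact ⟨x' + y', (TensorProduct.tmul_add _ _ _).symm⟩
  | tmul a x =>
    obtain ⟨a, rfl⟩ := Ideal.Quotient.mk_surjective a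
    refine ⟨a • x, ?_⟩
    rw [TensorProduct.tmul_smul, TensorProduct.smul_tmul']
    congr 1
    rw [← Ideal.Quotient.algebraMap_eq, Algebra.smul_def, mul_one]

theorem mem_smul_top_of_one_tmul_eq_zero (z : M) (h : (1 : A ⧸ J) ⊗ₜ[A] z = 0) :
    z ∈ J • (⊤ : Submodule A M) := by
  have := congrArg (TensorProduct.quotTensorEquivQuotSMul M J) h
  rw [TensorProduct.quotTensorEquivQuotSMul_mk_one_tmul, map_zero] at this
  exact (Submodule.Quotient.mk_eq_zero _).mp this

/-- Nilpotent Nakayama: surjectivity can be checked modulo a nilpotent ideal. -/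
theorem surjective_of_baseChange_surjective (hJ : IsNilpotent J) (f : F →ₗ[A] M)
    (h : Surjective (f.baseChange (A ⧸ J))) : Surjective f := by
  rw [← LinearMap.range_eq_top]
  refine eq_top_of_sup_smul_top_eq_top_of_isNilpotent _ J hJ ?_
  rw [eq_top_iff]
  intro m _
  obtain ⟨y, hy⟩ := h ((1 : A ⧸ J) ⊗ₜ[A] m)
  obtain ⟨x, rfl⟩ := exists_one_tmul_eq J y
  rw [LinearMap.baseChange_tmul] at hy
  have h0 : (1 : A ⧸ J) ⊗ₜ[A] (m - f x) = 0 := by
    rw [TensorProduct.tmul_sub, hy, sub_self]
  have h1 := mem_smul_top_of_one_tmul_eq_zero J _ h0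
  have : m = f x + (m - f x) := by abel
  rw [this]
  exact Submodule.add_mem_sup (LinearMap.mem_range_self f x) h1

/-- With `M` flat, injectivity of a surjection can be checked modulo a nilpotent ideal. -/
theorem injective_of_baseChange_injective (hJ : IsNilpotent J) [Module.Flat A M] (f : F →ₗ[A] M)
    (hf : Surjective f) (h : Injective (f.baseChange (A ⧸ J))) : Injective f := by
  have h' : Injective (f.lTensor (A ⧸ J)) := by
    rw [← LinearMap.baseChange_eq_ltensor]
    exact h
  have hker : LinearMap.ker (f.lTensor (A ⧸ J)) = ⊥ := LinearMap.ker_eq_bot.mpr h'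
  let e := f.kerLTensorEquivOfSurjective hf (A ⧸ J)
  haveI : Subsingleton (LinearMap.ker (f.lTensor (A ⧸ J))) := by
    rw [hker]
    infer_instance
  haveI : Subsingleton ((A ⧸ J) ⊗[A] LinearMap.ker f) := e.symm.toEquiv.subsingleton
  have h1 := smul_top_eq_top_of_subsingleton_tensor (R := A) (S := A ⧸ J)
    (M := LinearMap.ker f) Ideal.Quotient.mk_surjective
  have h2 : RingHom.ker (algebraMap A (A ⧸ J)) = J := Ideal.mk_ker
  rw [h2] at h1
  haveI := subsingleton_of_smul_top_eq_top_of_isNilpotent (M := LinearMap.ker f) J hJ h1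
  rw [← LinearMap.ker_eq_bot]
  exact (Submodule.subsingleton_iff_eq_bot).mp inferInstance

end basic

section bookkeeping

variable {A : Type*} [CommRing A] {F M : Type*} [AddCommGroup F] [Module A F]
  [AddCommGroup M] [Module A M]

theorem bijective_baseChange (C : Type*) [CommRing C] [Algebra A C] (g : F →ₗ[A] M)
    (hg : Bijective g) : Bijective (g.baseChange C) := by
  have := ((LinearEquiv.ofBijective g hg).baseChange A C F M).bijective
  have e : ⇑(g.baseChange C) = ⇑((LinearEquiv.ofBijective g hg).baseChange A C F M) := by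
    funext z
    induction z using TensorProduct.induction_on with
    | zero => simp
    | add x y hx hy => simp only [map_add, hx, hy]
    | tmul c x => rfl
  rw [e]
  exact this

theorem cancelBaseChange_naturality (B C : Type*) [CommRing B] [CommRing C] [Algebra A B]
    [Algebra B C] [Algebra A C] [IsScalarTower A B C] (g : F →ₗ[A] M)
    (z : C ⊗[B] (B ⊗[A] F)) :
    AlgebraTensorModule.cancelBaseChange A B C C M (((g.baseChange B).baseChange C) z) =
      (g.baseChange C) (AlgebraTensorModule.cancelBaseChange A B C C F z) := by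
  induction z using TensorProduct.induction_on with
  | zero => simp
  | add x y hx hy => simp only [map_add, hx, hy]
  | tmul c y =>
    induction y using TensorProduct.induction_on with
    | zero => simp
    | add x y hx hy => simp only [TensorProduct.tmul_add, map_add, hx, hy]
    | tmul b x =>
      simp only [LinearMap.baseChange_tmul, AlgebraTensorModule.cancelBaseChange_tmul]

theorem bijective_baseChange_baseChange_iff (B C : Type*) [CommRing B] [CommRing C] [Algebra A B]
    [Algebra B C] [Algebra A C] [IsScalarTower A B C] (g : F →ₗ[A] M) :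
    Bijective ((g.baseChange B).baseChange C) ↔ Bijective (g.baseChange C) := by
  have hcomm : ⇑(AlgebraTensorModule.cancelBaseChange A B C C M) ∘ ⇑((g.baseChange B).baseChange C) =
      ⇑(g.baseChange C) ∘ ⇑(AlgebraTensorModule.cancelBaseChange A B C C F) := by
    funext z
    exact cancelBaseChange_naturality B C g z
  constructor
  · intro h
    have h1 : Bijective (⇑(g.baseChange C) ∘ ⇑(AlgebraTensorModule.cancelBaseChange A B C C F)) := by
      rw [← hcomm]
      exact (AlgebraTensorModule.cancelBaseChange A B C C M).bijective.comp h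
    exact (Function.Bijective.of_comp_iff _
      (AlgebraTensorModule.cancelBaseChange A B C C F).bijective).mp h1
  · intro h
    have h1 : Bijective (⇑(AlgebraTensorModule.cancelBaseChange A B C C M) ∘
        ⇑((g.baseChange B).baseChange C)) := by
      rw [hcomm]
      exact h.comp (AlgebraTensorModule.cancelBaseChange A B C C F).bijective
    exact (Function.Bijective.of_comp_iff' 
      (AlgebraTensorModule.cancelBaseChange A B C C M).bijective _).mp h1

end bookkeeping

section content

variable {A : Type*} [CommRing A] (J : Ideal A) {M : Type*} [AddCommGroup M] [Module A M]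
  {X : Type*} (m : X → M)

/-- The ideal generated by all coordinates of all relations between the `m x`. -/
def contentIdeal : Ideal A :=
  Ideal.span {a | ∃ k ∈ LinearMap.ker (Finsupp.linearCombination A m), ∃ x : X, a = k x}

theorem exists_lift_basis (b : Module.Basis X (A ⧸ J) ((A ⧸ J) ⊗[A] M)) :
    ∃ m : X → M, ∀ x, (1 : A ⧸ J) ⊗ₜ[A] m x = b x := by
  choose m hm using fun x => exists_one_tmul_eq J (b x)
  exact ⟨m, fun x => (hm x).symm⟩

theorem bijective_baseChange_linearCombination (b : Module.Basis X (A ⧸ J) ((A ⧸ J) ⊗[A] M))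
    (hm : ∀ x, (1 : A ⧸ J) ⊗ₜ[A] m x = b x) :
    Bijective ((Finsupp.linearCombination A m).baseChange (A ⧸ J)) := by
  let bF := (Finsupp.basisSingleOne (R := A) (ι := X)).baseChange (A ⧸ J)
  have e : (Finsupp.linearCombination A m).baseChange (A ⧸ J) =
      (bF.equiv b (Equiv.refl X)).toLinearMap := by
    apply bF.ext
    intro x
    have hbx : bF x = (1 : A ⧸ J) ⊗ₜ[A] (Finsupp.single x (1 : A)) := by
      simp [bF]
    rw [LinearEquiv.coe_coe, Module.Basis.equiv_apply, Equiv.refl_apply, hbx,
      LinearMap.baseChange_tmul, Finsupp.linearCombination_single, one_smul, hm]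
  rw [e]
  exact (bF.equiv b (Equiv.refl X)).bijective

theorem free_baseChange_of_map_contentIdeal_eq_bot
    (hsurj : Surjective (Finsupp.linearCombination A m)) (A' : Type*) [CommRing A'] [Algebra A A']
    (h : (contentIdeal m).map (algebraMap A A') = ⊥) : Module.Free A' (A' ⊗[A] M) := by
  classical
  set f := Finsupp.linearCombination A m with hf
  have hsurj' : Surjective (f.baseChange A') := by
    rw [LinearMap.baseChange_eq_ltensor]
    exact LinearMap.lTensor_surjective A' hsurj
  have hex : Exact ((LinearMap.ker f).subtype.lTensor A') (f.lTensor A') :=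
    lTensor_exact (M := LinearMap.ker f) (N := X →₀ A) (P := M) A'
      (LinearMap.exact_subtype_ker_map f) hsurj
  have hzero : ∀ z : A' ⊗[A] LinearMap.ker f, (LinearMap.ker f).subtype.lTensor A' z = 0 := by
    intro z
    induction z using TensorProduct.induction_on with
    | zero => simp
    | add x y hx hy => rw [map_add, hx, hy, add_zero]
    | tmul a' k =>
      rw [LinearMap.lTensor_tmul, Submodule.subtype_apply]
      have hk : ∀ x, algebraMap A A' ((k : X →₀ A) x) = 0 := by
        intro x
        have : algebraMap A A' ((k : X →₀ A) x) ∈ (contentIdeal m).map (algebraMap A A') :=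
          Ideal.mem_map_of_mem _ (Ideal.subset_span ⟨k.1, k.2, x, rfl⟩)
        rw [h] at this
        exact this
      have hsum : (k : X →₀ A) = ∑ x ∈ (k : X →₀ A).support,
          ((k : X →₀ A) x) • Finsupp.single x (1 : A) := by
        conv_lhs => rw [← Finsupp.sum_single (k : X →₀ A)]
        rw [Finsupp.sum]
        refine Finset.sum_congr rfl (fun x _ => ?_)
        rw [Finsupp.smul_single, smul_eq_mul, mul_one]
      rw [hsum, TensorProduct.tmul_sum]
      refine Finset.sum_eq_zero (fun x _ => ?_)
      rw [TensorProduct.tmul_smul, TensorProduct.smul_tmul', Algebra.smul_def, hk x, zero_mul,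
        TensorProduct.zero_tmul]
  have hinj : Injective (f.baseChange A') := by
    rw [LinearMap.baseChange_eq_ltensor, injective_iff_map_eq_zero]
    intro z hz
    obtain ⟨y, rfl⟩ := (hex z).mp hz
    exact hzero y
  let e : (A' ⊗[A] (X →₀ A)) ≃ₗ[A'] A' ⊗[A] M := LinearEquiv.ofBijective _ ⟨hinj, hsurj'⟩
  haveI : Module.Free A' (A' ⊗[A] (X →₀ A)) :=
    Module.Free.of_basis ((Finsupp.basisSingleOne (R := A) (ι := X)).baseChange A')
  exact Module.Free.of_equiv e

theorem map_contentIdeal_eq_bot_of_flat (hJ : IsNilpotent J)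
    (hbij : Bijective ((Finsupp.linearCombination A m).baseChange (A ⧸ J)))
    (A' : Type*) [CommRing A'] [Algebra A A'] [Module.Flat A' (A' ⊗[A] M)] :
    (contentIdeal m).map (algebraMap A A') = ⊥ := by
  set f := Finsupp.linearCombination A m with hf
  have hsurj : Surjective f := surjective_of_baseChange_surjective J hJ f hbij.2
  have hsurj' : Surjective (f.baseChange A') := by
    rw [LinearMap.baseChange_eq_ltensor]
    exact LinearMap.lTensor_surjective A' hsurj
  have hJ' : IsNilpotent (J.map (algebraMap A A')) := by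
    obtain ⟨n, hn⟩ := hJ
    refine ⟨n, ?_⟩
    rw [← Ideal.map_pow, hn]
    exact Ideal.map_bot
  have hb1 : Bijective ((f.baseChange (A ⧸ J)).baseChange (A' ⧸ J.map (algebraMap A A'))) :=
    bijective_baseChange _ _ hbij
  have hb2 : Bijective (f.baseChange (A' ⧸ J.map (algebraMap A A'))) :=
    (bijective_baseChange_baseChange_iff (A ⧸ J) (A' ⧸ J.map (algebraMap A A')) f).mp hb1
  have hb3 : Bijective ((f.baseChange A').baseChange (A' ⧸ J.map (algebraMap A A'))) :=
    (bijective_baseChange_baseChange_iff A' (A' ⧸ J.map (algebraMap A A')) f).mpr hb2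
  have hinj : Injective (f.baseChange A') :=
    injective_of_baseChange_injective (J.map (algebraMap A A')) hJ' (f.baseChange A') hsurj' hb3.1
  rw [contentIdeal, Ideal.map_span, Ideal.span_eq_bot]
  rintro _ ⟨_, ⟨k, hk, x, rfl⟩, rfl⟩
  have h0 : (1 : A') ⊗ₜ[A] k = 0 := by
    apply hinj
    rw [LinearMap.baseChange_tmul, map_zero]
    rw [LinearMap.mem_ker] at hk
    rw [hk, TensorProduct.tmul_zero]
  have h1 := congrArg (TensorProduct.rid A A' ∘ (LinearMap.lTensor A' (Finsupp.lapply x))) h0
  simp only [Function.comp_apply, LinearMap.lTensor_tmul, Finsupp.lapply_apply,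
    TensorProduct.rid_tmul, map_zero] at h1
  rw [Algebra.smul_def, mul_one] at h1
  exact h1

end content

end Groth.Agent.Lib.Helper7.NilFree
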