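import Groth.Agent.Lib.Helper7.NilFree
import Mathlib

/-!
# Finite type / finite presentation lift along a nilpotent ideal of the base

* `finiteType_of_nilpotent`: `φ : B → C`, `ψ : C ↠ C₀` with `ker ψ = 𝔫 C` for a nilpotent ideal
  `𝔫 ⊆ B`; if `B → C₀` is of finite type then so is `φ`.
* `finitePresentation_of_flat_of_nilpotent`: `A → B → C`, `n ⊆ A` nilpotent, `C` flat over `A`,
  `C/nC` finitely presented over `B/nB` ⟹ `C` finitely presented over `B`.
-/

set_option autoImplicit false
universe u v w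

namespace Groth.Agent.Lib.Helper7.NilFin

open TensorProduct Function Groth.Agent.Lib.Helper7.ThickRing Groth.Agent.Lib.Helper7.NilFree

theorem finiteType_of_nilpotent {B C C₀ : Type*} [CommRing B] [CommRing C] [CommRing C₀]
    (φ : B →+* C) (ψ : C →+* C₀) (hψ : Surjective ψ) (𝔫 : Ideal B) (h𝔫 : IsNilpotent 𝔫)
    (hker : RingHom.ker ψ = 𝔫.map φ) (h : (ψ.comp φ).FiniteType) : φ.FiniteType := by
  classical
  algebraize [φ, ψ.comp φ]
  obtain ⟨s, hs⟩ := (inferInstance : Algebra.FiniteType B C₀).out
  choose t ht using fun c : C₀ => hψ c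
  let s' : Finset C := s.image t
  let C' : Subalgebra B C := Algebra.adjoin B (s' : Set C)
  suffices hC : C' = ⊤ from ⟨⟨s', hC⟩⟩
  have himg : ∀ c : C₀, ∃ b ∈ C', ψ b = c := by
    intro c
    have hc : c ∈ Algebra.adjoin B (s : Set C₀) := by rw [hs]; trivial
    induction hc using Algebra.adjoin_induction with
    | mem x hx =>
      refine ⟨t x, Algebra.subset_adjoin ?_, ht x⟩
      exact Finset.mem_coe.mpr (Finset.mem_image_of_mem t hx)
    | algebraMap r => exact ⟨algebraMap B C r, C'.algebraMap_mem r, rfl⟩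
    | add x y _ _ hx hy =>
      obtain ⟨c, hc, rfl⟩ := hx
      obtain ⟨c', hc', rfl⟩ := hy
      exact ⟨c + c', C'.add_mem hc hc', map_add _ _ _⟩
    | mul x y _ _ hx hy =>
      obtain ⟨c, hc, rfl⟩ := hx
      obtain ⟨c', hc', rfl⟩ := hy
      exact ⟨c * c', C'.mul_mem hc hc', map_mul _ _ _⟩
  have hsup : Subalgebra.toSubmodule C' ⊔ 𝔫 • (⊤ : Submodule B C) = ⊤ := by
    rw [eq_top_iff]
    intro b _
    obtain ⟨c, hc, hcb⟩ := himg (ψ b)
    have hmem : b - c ∈ RingHom.ker ψ := by
      rw [RingHom.mem_ker, map_sub, hcb, sub_self]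
    rw [hker] at hmem
    have hmem' : b - c ∈ 𝔫 • (⊤ : Submodule B C) := by
      rw [Ideal.smul_top_eq_map]
      exact hmem
    have : b = c + (b - c) := by ring
    rw [this]
    exact Submodule.add_mem_sup hc hmem'
  have := eq_top_of_sup_smul_top_eq_top_of_isNilpotent _ _ h𝔫 hsup
  exact Subalgebra.toSubmodule_injective (by rw [this]; rfl)

theorem finiteType_of_quotient_nilpotent {B C : Type*} [CommRing B] [CommRing C] [Algebra B C]
    (𝔫 : Ideal B) (h𝔫 : IsNilpotent 𝔫)
    (hft0 : Algebra.FiniteType (B ⧸ 𝔫) (C ⧸ 𝔫.map (algebraMap B C))) : Algebra.FiniteType B C := by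
  have h1 : (algebraMap (B ⧸ 𝔫) (C ⧸ 𝔫.map (algebraMap B C))).FiniteType :=
    RingHom.finiteType_algebraMap.mpr hft0
  have h2 : (Ideal.Quotient.mk 𝔫).FiniteType :=
    RingHom.FiniteType.of_surjective _ Ideal.Quotient.mk_surjective
  have h3 : ((Ideal.Quotient.mk (𝔫.map (algebraMap B C))).comp (algebraMap B C)).FiniteType := by
    have := h1.comp h2
    have e : (Ideal.Quotient.mk (𝔫.map (algebraMap B C))).comp (algebraMap B C) =
        (algebraMap (B ⧸ 𝔫) (C ⧸ 𝔫.map (algebraMap B C))).comp (Ideal.Quotient.mk 𝔫) :=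
      RingHom.ext (fun b => rfl)
    rw [e]
    exact this
  exact RingHom.finiteType_algebraMap.mp
    (finiteType_of_nilpotent (algebraMap B C) (Ideal.Quotient.mk (𝔫.map (algebraMap B C)))
      Ideal.Quotient.mk_surjective 𝔫 h𝔫 Ideal.mk_ker h3)

theorem one_tmul_eq_zero_of_mem_smul_top {A : Type*} [CommRing A] (J : Ideal A) {M : Type*}
    [AddCommGroup M] [Module A M] (z : M) (hz : z ∈ J • (⊤ : Submodule A M)) :
    (1 : A ⧸ J) ⊗ₜ[A] z = 0 := by
  apply (TensorProduct.quotTensorEquivQuotSMul M J).injective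
  rw [TensorProduct.quotTensorEquivQuotSMul_mk_one_tmul, map_zero]
  exact (Submodule.Quotient.mk_eq_zero _).mpr hz

theorem finitePresentation_of_flat_of_nilpotent {A B C : Type*} [CommRing A] [CommRing B]
    [CommRing C] [Algebra A B] [Algebra B C] [Algebra A C] [IsScalarTower A B C]
    (n : Ideal A) (hn : IsNilpotent n) [Module.Flat A C]
    (hfp : Algebra.FinitePresentation (B ⧸ n.map (algebraMap A B))
      (C ⧸ (n.map (algebraMap A B)).map (algebraMap B C))) :
    Algebra.FinitePresentation B C := by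
  classical
  have h𝔫 : IsNilpotent (n.map (algebraMap A B)) := by
    obtain ⟨m, hm⟩ := hn
    refine ⟨m, ?_⟩
    rw [← Ideal.map_pow, hm]
    exact Ideal.map_bot
  -- finite type
  have hft : Algebra.FiniteType B C := by
    have hft0 : Algebra.FiniteType (B ⧸ n.map (algebraMap A B))
        (C ⧸ (n.map (algebraMap A B)).map (algebraMap B C)) := inferInstance
    have h1 : (algebraMap (B ⧸ n.map (algebraMap A B))
        (C ⧸ (n.map (algebraMap A B)).map (algebraMap B C))).FiniteType :=
      RingHom.finiteType_algebraMap.mpr hft0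
    have h2 : (Ideal.Quotient.mk (n.map (algebraMap A B))).FiniteType :=
      RingHom.FiniteType.of_surjective _ Ideal.Quotient.mk_surjective
    have h3 : ((Ideal.Quotient.mk ((n.map (algebraMap A B)).map (algebraMap B C))).comp
        (algebraMap B C)).FiniteType := by
      have := h1.comp h2
      have e : (Ideal.Quotient.mk ((n.map (algebraMap A B)).map (algebraMap B C))).comp
          (algebraMap B C) = (algebraMap (B ⧸ n.map (algebraMap A B))
          (C ⧸ (n.map (algebraMap A B)).map (algebraMap B C))).comp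
          (Ideal.Quotient.mk (n.map (algebraMap A B))) := RingHom.ext (fun b => rfl)
      rw [e]
      exact this
    exact RingHom.finiteType_algebraMap.mp
      (finiteType_of_nilpotent (algebraMap B C)
        (Ideal.Quotient.mk ((n.map (algebraMap A B)).map (algebraMap B C)))
        Ideal.Quotient.mk_surjective (n.map (algebraMap A B)) h𝔫 Ideal.mk_ker h3)
  obtain ⟨k, f, hf⟩ := Algebra.FiniteType.iff_quotient_mvPolynomial''.mp hft
  -- notation
  let ψ := Ideal.Quotient.mk ((n.map (algebraMap A B)).map (algebraMap B C))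
  let ρ : MvPolynomial (Fin k) B →+* MvPolynomial (Fin k) (B ⧸ n.map (algebraMap A B)) :=
    MvPolynomial.map (Ideal.Quotient.mk (n.map (algebraMap A B)))
  have hρ : Surjective ρ := MvPolynomial.map_surjective _ Ideal.Quotient.mk_surjective
  have hkerρ : RingHom.ker ρ = Ideal.map (MvPolynomial.C) (n.map (algebraMap A B)) := by
    have := MvPolynomial.ker_map (σ := Fin k) (Ideal.Quotient.mk (n.map (algebraMap A B)))
    rw [Ideal.mk_ker] at this
    exact this
  let f₀ : MvPolynomial (Fin k) (B ⧸ n.map (algebraMap A B)) →ₐ[B ⧸ n.map (algebraMap A B)]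
      (C ⧸ (n.map (algebraMap A B)).map (algebraMap B C)) :=
    MvPolynomial.aeval (fun i => ψ (f (MvPolynomial.X i)))
  have hcomm : ∀ p, f₀ (ρ p) = ψ (f p) := by
    intro p
    induction p using MvPolynomial.induction_on with
    | C b =>
      simp only [ρ, f₀, MvPolynomial.map_C, MvPolynomial.aeval_C]
      rw [← MvPolynomial.algebraMap_eq, AlgHom.commutes]
      rfl
    | add p q hp hq => rw [map_add, map_add, hp, hq, map_add, map_add]
    | mul_X p i hp =>
      rw [map_mul, map_mul, hp, map_mul, map_mul]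
      congr 1
      simp only [ρ, f₀, MvPolynomial.map_X, MvPolynomial.aeval_X]
  have hf₀ : Surjective f₀ := by
    intro c
    obtain ⟨c, rfl⟩ := Ideal.Quotient.mk_surjective c
    obtain ⟨p, rfl⟩ := hf c
    exact ⟨ρ p, hcomm p⟩
  obtain ⟨q, hq⟩ := Algebra.FinitePresentation.ker_fG_of_surjective f₀ hf₀
  -- lift the generators of `ker f₀` into `ker f`
  have hlift : ∀ y ∈ RingHom.ker f₀.toRingHom, ∃ x ∈ RingHom.ker f.toRingHom, ρ x = y := by
    intro y hy
    obtain ⟨p, rfl⟩ := hρ y
    have h1 : ψ (f p) = 0 := by rw [← hcomm]; exact hy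
    have h2 : f p ∈ (n.map (algebraMap A B)).map (algebraMap B C) :=
      Ideal.Quotient.eq_zero_iff_mem.mp h1
    have h3 : (n.map (algebraMap A B)).map (algebraMap B C) =
        (Ideal.map (MvPolynomial.C) (n.map (algebraMap A B))).map f.toRingHom := by
      have hfc : f.toRingHom.comp MvPolynomial.C = algebraMap B C := by
        ext b
        have := f.commutes b
        rw [MvPolynomial.algebraMap_eq] at this
        exact this
      have e := Ideal.map_map (I := n.map (algebraMap A B))
        (MvPolynomial.C : B →+* MvPolynomial (Fin k) B) f.toRingHom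
      rw [e]
      congr 1
      exact hfc.symm
    rw [h3] at h2
    obtain ⟨u, hu, huf⟩ := (Ideal.mem_map_iff_of_surjective f.toRingHom hf).mp h2
    refine ⟨p - u, ?_, ?_⟩
    · rw [RingHom.mem_ker, map_sub, sub_eq_zero]
      exact huf.symm
    · rw [map_sub]
      have : ρ u = 0 := by
        rw [← RingHom.mem_ker, hkerρ]
        exact hu
      rw [this, sub_zero]
  choose g hgK hgρ using hlift
  let G : Ideal (MvPolynomial (Fin k) B) :=
    Ideal.span (Set.range (fun y : {y // y ∈ q} =>
      g y.1 (by rw [← hq]; exact Ideal.subset_span y.2)))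
  have hGK : G ≤ RingHom.ker f.toRingHom := by
    rw [Ideal.span_le]
    rintro _ ⟨y, rfl⟩
    exact hgK _ _
  have hGρ : RingHom.ker f₀.toRingHom ≤ G.map ρ := by
    rw [← hq, Ideal.span_le]
    intro y hy
    have := Ideal.mem_map_of_mem ρ (Ideal.subset_span (s := Set.range (fun y : {y // y ∈ q} =>
      g y.1 (by rw [← hq]; exact Ideal.subset_span y.2))) ⟨⟨y, hy⟩, rfl⟩)
    rw [hgρ] at this
    exact this
  -- `K ≤ G ⊔ (K ⊓ 𝔫P)`
  have hdecomp : ∀ x ∈ RingHom.ker f.toRingHom, ∃ y ∈ G, x - y ∈ RingHom.ker ρ := by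
    intro x hx
    have h1 : ρ x ∈ RingHom.ker f₀.toRingHom := by
      rw [RingHom.mem_ker]
      change f₀ (ρ x) = 0
      rw [hcomm]
      have : f x = 0 := hx
      rw [this, map_zero]
    obtain ⟨y, hy, hyx⟩ := (Ideal.mem_map_iff_of_surjective ρ hρ).mp (hGρ h1)
    exact ⟨y, hy, by rw [RingHom.mem_ker, map_sub, hyx, sub_self]⟩
  -- flatness: `K ⊓ nP ≤ nK`
  let fA : MvPolynomial (Fin k) B →ₗ[A] C := f.toLinearMap.restrictScalars A
  have hfA : Surjective fA := hf
  have hinj : Injective ((LinearMap.ker fA).subtype.lTensor (A ⧸ n)) :=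
    LinearMap.lTensor_injective_of_exact_of_flat fA hfA (LinearMap.ker fA).subtype
      (Submodule.subtype_injective _) (LinearMap.exact_subtype_ker_map fA) (A ⧸ n)
  have hkerρ' : ∀ z, z ∈ RingHom.ker ρ → z ∈ n • (⊤ : Submodule A (MvPolynomial (Fin k) B)) := by
    intro z hz
    rw [Ideal.smul_top_eq_map]
    rw [hkerρ, Ideal.map_map] at hz
    have : (MvPolynomial.C : B →+* MvPolynomial (Fin k) B).comp (algebraMap A B) =
        algebraMap A (MvPolynomial (Fin k) B) := by
      ext a
      simp [IsScalarTower.algebraMap_apply A B (MvPolynomial (Fin k) B), MvPolynomial.algebraMap_eq]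
    rw [this] at hz
    exact hz
  have hflat : ∀ z : LinearMap.ker fA, (z : MvPolynomial (Fin k) B) ∈ RingHom.ker ρ →
      z ∈ n • (⊤ : Submodule A (LinearMap.ker fA)) := by
    intro z hz
    apply mem_smul_top_of_one_tmul_eq_zero
    apply hinj
    rw [LinearMap.lTensor_tmul, map_zero, Submodule.subtype_apply]
    exact one_tmul_eq_zero_of_mem_smul_top n _ (hkerρ' _ hz)
  -- Nakayama
  let N : Submodule A (LinearMap.ker fA) :=
    Submodule.comap (LinearMap.ker fA).subtype (G.restrictScalars A)
  have hsup : N ⊔ n • (⊤ : Submodule A (LinearMap.ker fA)) = ⊤ := by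
    rw [eq_top_iff]
    intro x _
    have hx : (x : MvPolynomial (Fin k) B) ∈ RingHom.ker f.toRingHom := x.2
    obtain ⟨y, hy, hxy⟩ := hdecomp _ hx
    have hyK : y ∈ LinearMap.ker fA := hGK hy
    have hxyK : (x : MvPolynomial (Fin k) B) - y ∈ LinearMap.ker fA :=
      Submodule.sub_mem _ x.2 hyK
    have h1 : (⟨y, hyK⟩ : LinearMap.ker fA) ∈ N := hy
    have h2 : (⟨(x : MvPolynomial (Fin k) B) - y, hxyK⟩ : LinearMap.ker fA) ∈
        n • (⊤ : Submodule A (LinearMap.ker fA)) := hflat _ hxy
    have : x = ⟨y, hyK⟩ + ⟨(x : MvPolynomial (Fin k) B) - y, hxyK⟩ := by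
      apply Subtype.ext
      simp
    rw [this]
    exact Submodule.add_mem_sup h1 h2
  have hN : N = ⊤ := eq_top_of_sup_smul_top_eq_top_of_isNilpotent N n hn hsup
  have hKG : RingHom.ker f.toRingHom = G := by
    apply le_antisymm _ hGK
    intro x hx
    have : (⟨x, hx⟩ : LinearMap.ker fA) ∈ N := by rw [hN]; trivial
    exact this
  have hfg : (RingHom.ker f.toRingHom).FG := by
    rw [hKG]
    haveI : Fintype {y // y ∈ q} := inferInstance
    exact ⟨Finset.univ.image (fun y : {y // y ∈ q} =>
      g y.1 (by rw [← hq]; exact Ideal.subset_span y.2)), by simp [G]⟩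
  exact Algebra.FinitePresentation.iff_quotient_mvPolynomial'.mpr
    ⟨Fin k, inferInstance, f, hf, hfg⟩

/-- Flexible form of `finitePresentation_of_flat_of_nilpotent`: the quotients `B/nB`, `C/nC` are
replaced by arbitrary surjections with the right kernels. -/
theorem finitePresentation_of_flat_of_nilpotent' {A B C B₀ C₀ : Type u} [CommRing A] [CommRing B]
    [CommRing C] [CommRing B₀] [CommRing C₀] [Algebra A B] [Algebra B C] [Algebra A C]
    [IsScalarTower A B C] (n : Ideal A) (hn : IsNilpotent n) [Module.Flat A C]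
    (πB : B →+* B₀) (πC : C →+* C₀) (β₀ : B₀ →+* C₀)
    (hπB : Surjective πB) (hπC : Surjective πC)
    (hkerB : RingHom.ker πB = n.map (algebraMap A B))
    (hkerC : RingHom.ker πC = (n.map (algebraMap A B)).map (algebraMap B C))
    (hw : β₀.comp πB = πC.comp (algebraMap B C)) (hβ₀ : β₀.FinitePresentation) :
    Algebra.FinitePresentation B C := by
  let eB : (B ⧸ n.map (algebraMap A B)) ≃+* B₀ :=
    (Ideal.quotEquivOfEq hkerB.symm).trans (RingHom.quotientKerEquivOfSurjective hπB)
  let eC : (C ⧸ (n.map (algebraMap A B)).map (algebraMap B C)) ≃+* C₀ :=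
    (Ideal.quotEquivOfEq hkerC.symm).trans (RingHom.quotientKerEquivOfSurjective hπC)
  have heB : ∀ b : B, eB (Ideal.Quotient.mk _ b) = πB b := fun b => rfl
  have heC : ∀ c : C, eC (Ideal.Quotient.mk _ c) = πC c := fun c => rfl
  have step1 : (eC.symm.toRingHom.comp β₀).FinitePresentation :=
    RingHom.finitePresentation_respectsIso.1 β₀ eC.symm hβ₀
  have step2 : ((eC.symm.toRingHom.comp β₀).comp eB.toRingHom).FinitePresentation :=
    RingHom.finitePresentation_respectsIso.2 _ eB step1
  have heq : algebraMap (B ⧸ n.map (algebraMap A B))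
      (C ⧸ (n.map (algebraMap A B)).map (algebraMap B C)) =
      (eC.symm.toRingHom.comp β₀).comp eB.toRingHom := by
    apply Ideal.Quotient.ringHom_ext
    ext b
    simp only [RingHom.comp_apply, RingEquiv.toRingHom_eq_coe, RingEquiv.coe_toRingHom]
    rw [heB, eC.eq_symm_apply]
    have h1 := congrArg (fun φ => φ b) hw
    simp only [RingHom.comp_apply] at h1
    rw [h1]
    exact (heC _)
  refine finitePresentation_of_flat_of_nilpotent n hn ?_
  rw [← RingHom.finitePresentation_algebraMap, heq]
  exact step2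

end Groth.Agent.Lib.Helper7.NilFin
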