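import Groth.Agent.Lib.Helper7.NilFlat
import Mathlib

/-!
# Flatness from flatness mod a nilpotent ideal plus flatness after an injective base change

`R → R'` injective, `I ⊆ R` nilpotent, `M/IM` flat over `R/I`, `R' ⊗ M` flat over `R'`
⟹ `M` flat over `R`.
-/

set_option autoImplicit false
universe u v w

namespace Groth.Agent.Lib.Helper7.NilFlat

open TensorProduct Function

section general

variable {R : Type*} [CommRing R] {M : Type*} [AddCommGroup M] [Module R M]

/-- If `A ⊗ M` is flat over the `R`-algebra `A`, then `- ⊗_R M` preserves injections of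
`A`-modules. -/
theorem rTensor_injective_of_flat_baseChange (A : Type*) [CommRing A] [Algebra R A]
    [Module.Flat A (A ⊗[R] M)] {T' T : Type*} [AddCommGroup T'] [Module R T'] [Module A T']
    [IsScalarTower R A T'] [AddCommGroup T] [Module R T] [Module A T] [IsScalarTower R A T]
    (i : T' →ₗ[A] T) (hi : Injective i) :
    Injective ((i.restrictScalars R).rTensor M) := by
  have h1 : Injective (i.rTensor (A ⊗[R] M)) :=
    Module.Flat.rTensor_preserves_injective_linearMap i hi
  have hcomm : ∀ z : T' ⊗[A] (A ⊗[R] M),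
      AlgebraTensorModule.cancelBaseChange R A A T M (i.rTensor (A ⊗[R] M) z) =
        (i.restrictScalars R).rTensor M (AlgebraTensorModule.cancelBaseChange R A A T' M z) := by
    intro z
    induction z using TensorProduct.induction_on with
    | zero => simp
    | add x y hx hy => simp only [map_add, hx, hy]
    | tmul t y =>
      induction y using TensorProduct.induction_on with
      | zero => simp
      | add x y hx hy => simp only [TensorProduct.tmul_add, map_add, hx, hy]
      | tmul a m =>
        simp only [LinearMap.rTensor_tmul, AlgebraTensorModule.cancelBaseChange_tmul,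
          LinearMap.coe_restrictScalars, map_smul]
  intro x y hxy
  obtain ⟨x, rfl⟩ := (AlgebraTensorModule.cancelBaseChange R A A T' M).surjective x
  obtain ⟨y, rfl⟩ := (AlgebraTensorModule.cancelBaseChange R A A T' M).surjective y
  rw [← hcomm, ← hcomm] at hxy
  rw [h1 ((AlgebraTensorModule.cancelBaseChange R A A T M).injective hxy)]

/-- If `M/IM` is flat over `R/I` then `- ⊗_R M` preserves injections of `R`-modules
killed by `I`. -/
theorem rTensor_injective_of_torsion (I : Ideal R)
    (h2 : Module.Flat (R ⧸ I) ((R ⧸ I) ⊗[R] M)) {T' T : Type*} [AddCommGroup T'] [Module R T']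
    [AddCommGroup T] [Module R T] (hT' : ∀ a ∈ I, ∀ t : T', a • t = 0)
    (hT : ∀ a ∈ I, ∀ t : T, a • t = 0) (i : T' →ₗ[R] T) (hi : Injective i) :
    Injective (i.rTensor M) := by
  have hT'' : Module.IsTorsionBySet R T' I := fun t a => hT' a.1 a.2 t
  have hT''' : Module.IsTorsionBySet R T I := fun t a => hT a.1 a.2 t
  letI : Module (R ⧸ I) T' := hT''.module
  haveI : IsScalarTower R (R ⧸ I) T' := Module.IsTorsionBySet.isScalarTower hT''
  letI : Module (R ⧸ I) T := hT'''.module
  haveI : IsScalarTower R (R ⧸ I) T := Module.IsTorsionBySet.isScalarTower hT'''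
  let i₀ : T' →ₗ[R ⧸ I] T :=
    { toFun := i
      map_add' := i.map_add
      map_smul' := by
        intro a t
        obtain ⟨a, rfl⟩ := Ideal.Quotient.mk_surjective a
        have h1 : (Ideal.Quotient.mk I a) • t = a • t := by
          rw [← Ideal.Quotient.algebraMap_eq, algebraMap_smul]
        have h2 : (Ideal.Quotient.mk I a) • (i t) = a • (i t) := by
          rw [← Ideal.Quotient.algebraMap_eq, algebraMap_smul]
        simp only [RingHom.id_apply]
        rw [h1, h2, map_smul] }
  have := rTensor_injective_of_flat_baseChange (R := R) (M := M) (R ⧸ I) i₀ hi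
  have e : i₀.restrictScalars R = i := by
    ext t
    rfl
  rwa [e] at this

/-- Flatness of `B ⊗ N` over `B` passes to `C ⊗ N` over `C` for a `B`-algebra `C`. -/
theorem flat_baseChange_of_tower (A B C : Type*) [CommRing A] [CommRing B] [CommRing C]
    [Algebra A B] [Algebra B C] [Algebra A C] [IsScalarTower A B C]
    (N : Type*) [AddCommGroup N] [Module A N] [Module.Flat B (B ⊗[A] N)] :
    Module.Flat C (C ⊗[A] N) :=
  Module.Flat.of_linearEquiv (AlgebraTensorModule.cancelBaseChange A B C C N).symm

theorem flat_tensor_tensor_of_tower (A B C : Type*) [CommRing A] [CommRing B] [CommRing C]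
    [Algebra A B] [Algebra B C] [Algebra A C] [IsScalarTower A B C]
    (N : Type*) [AddCommGroup N] [Module A N] [Module.Flat C (C ⊗[A] N)] :
    Module.Flat C (C ⊗[B] (B ⊗[A] N)) :=
  Module.Flat.of_linearEquiv (AlgebraTensorModule.cancelBaseChange A B C C N)

end general

section main

/-- One step: `K = φ⁻¹(K')` nilpotent, `I·K' = 0`, `M/KM` flat over `R/K`, `M/IM` flat over
`R/I`, `R' ⊗ M` flat over `R'`, `φ` injective ⟹ `M` flat over `R`. -/
theorem flat_of_comap {R R' : Type*} [CommRing R] [CommRing R'] [Algebra R R']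
    (hinj : Injective (algebraMap R R')) (I : Ideal R) (K' : Ideal R')
    (M : Type*) [AddCommGroup M] [Module R M]
    (h1 : Module.Flat (R ⧸ I) ((R ⧸ I) ⊗[R] M)) [Module.Flat R' (R' ⊗[R] M)]
    (hK'I : ∀ a ∈ I, ∀ y ∈ K', algebraMap R R' a * y = 0)
    (hKnil : IsNilpotent (K'.comap (algebraMap R R')))
    (hflat : Module.Flat (R ⧸ K'.comap (algebraMap R R'))
      ((R ⧸ K'.comap (algebraMap R R')) ⊗[R] M)) : Module.Flat R M := by
  refine flat_of_isNilpotent (K'.comap (algebraMap R R')) hKnil ?_ hflat
  -- the map `K → K'`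
  let j : (K'.comap (algebraMap R R') : Ideal R) →ₗ[R] K' :=
    { toFun := fun x => ⟨algebraMap R R' x.1, x.2⟩
      map_add' := fun x y => Subtype.ext (by simp)
      map_smul' := fun r x => Subtype.ext (by simp [Algebra.smul_def]) }
  have hj : Injective j := by
    intro x y hxy
    apply Subtype.ext
    apply hinj
    exact congrArg Subtype.val hxy
  have hKtors : ∀ a ∈ I, ∀ t : (K'.comap (algebraMap R R') : Ideal R), a • t = 0 := by
    intro a ha t
    apply Subtype.ext
    apply hinj
    simp only [Submodule.coe_smul, smul_eq_mul, map_mul, Submodule.coe_zero, map_zero]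
    exact hK'I a ha _ t.2
  have hK'tors : ∀ a ∈ I, ∀ t : K', a • t = 0 := by
    intro a ha t
    apply Subtype.ext
    show a • (t : R') = 0
    rw [Algebra.smul_def]
    exact hK'I a ha _ t.2
  have hj' : Injective (j.rTensor M) :=
    rTensor_injective_of_torsion I h1 hKtors hK'tors j hj
  have hι : Injective ((K'.subtype.restrictScalars R).rTensor M) :=
    rTensor_injective_of_flat_baseChange (R := R) (M := M) R' K'.subtype
      (Submodule.subtype_injective K')
  have hcomp : ((K'.subtype.restrictScalars R).rTensor M) ∘ₗ (j.rTensor M) =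
      ((Algebra.linearMap R R').rTensor M) ∘ₗ
        (LinearMap.rTensor M (K'.comap (algebraMap R R')).subtype) := by
    rw [← LinearMap.rTensor_comp, ← LinearMap.rTensor_comp]
    congr 1
  have h3 : Injective (((Algebra.linearMap R R').rTensor M) ∘ₗ
        (LinearMap.rTensor M (K'.comap (algebraMap R R')).subtype)) := by
    rw [← hcomp]
    exact hι.comp hj'
  exact Injective.of_comp h3

theorem flat_of_injective_baseChange_aux (n : ℕ) : ∀ (R R' : Type u) [CommRing R] [CommRing R']
    [Algebra R R'] (_ : Injective (algebraMap R R')) (I : Ideal R) (_ : I ^ (n + 1) = ⊥)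
    (M : Type u) [AddCommGroup M] [Module R M]
    (_ : Module.Flat (R ⧸ I) ((R ⧸ I) ⊗[R] M)) (_ : Module.Flat R' (R' ⊗[R] M)),
    Module.Flat R M := by
  induction n with
  | zero =>
    intro R R' _ _ _ hinj I hI M _ _ h1 h2
    rw [zero_add, pow_one] at hI
    refine flat_of_isNilpotent I ⟨1, by rw [pow_one, hI]; rfl⟩ ?_ h1
    haveI : Subsingleton I := by
      rw [hI]
      infer_instance
    haveI : Subsingleton (I ⊗[R] M) := by
      refine ⟨fun x y => ?_⟩
      have h0 : ∀ z : I ⊗[R] M, z = 0 := by
        intro z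
        induction z using TensorProduct.induction_on with
        | zero => rfl
        | add x y hx hy => rw [hx, hy, add_zero]
        | tmul a m => rw [Subsingleton.elim a 0, TensorProduct.zero_tmul]
      rw [h0 x, h0 y]
    exact Function.injective_of_subsingleton _
  | succ n ih =>
    intro R R' _ _ _ hinj I hI M _ _ h1 h2
    obtain ⟨K', hK'⟩ : ∃ K' : Ideal R', K' = (I ^ (n + 1)).map (algebraMap R R') := ⟨_, rfl⟩
    have hIK : I ^ (n + 1) ≤ K'.comap (algebraMap R R') := by
      rw [hK']
      exact Ideal.le_comap_map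
    have hK'I : ∀ a ∈ I, ∀ y ∈ K', algebraMap R R' a * y = 0 := by
      intro a ha y hy
      have h3 : algebraMap R R' a * y ∈ (I ^ (n + 1 + 1)).map (algebraMap R R') := by
        rw [pow_succ' I (n + 1), Ideal.map_mul]
        exact Ideal.mul_mem_mul (Ideal.mem_map_of_mem _ ha) (hK' ▸ hy)
      rw [hI, Ideal.map_bot] at h3
      exact h3
    have hKnil : IsNilpotent (K'.comap (algebraMap R R')) := by
      refine ⟨2, ?_⟩
      rw [pow_two, Ideal.zero_eq_bot, eq_bot_iff, Ideal.mul_le]
      intro x hx y hy
      rw [Ideal.mem_bot]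
      apply hinj
      rw [map_mul, map_zero]
      have h3 : algebraMap R R' x * algebraMap R R' y ∈
          (I ^ (n + 1 + 1)).map (algebraMap R R') := by
        have h4 : algebraMap R R' x * algebraMap R R' y ∈ K' * K' := Ideal.mul_mem_mul hx hy
        rw [hK', ← Ideal.map_mul, ← pow_add] at h4
        exact Ideal.map_mono (Ideal.pow_le_pow_right (by omega)) h4
      rw [hI, Ideal.map_bot] at h3
      exact h3
    haveI := h2
    refine flat_of_comap hinj I K' M h1 hK'I hKnil ?_
    haveI : IsScalarTower R (R ⧸ K'.comap (algebraMap R R')) (R' ⧸ K') :=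
      IsScalarTower.of_algebraMap_eq (fun x => rfl)
    refine ih (R ⧸ K'.comap (algebraMap R R')) (R' ⧸ K') Ideal.algebraMap_quotient_injective
      (I.map (algebraMap R (R ⧸ K'.comap (algebraMap R R')))) ?_
      ((R ⧸ K'.comap (algebraMap R R')) ⊗[R] M) ?_ ?_
    · rw [← Ideal.map_pow, eq_bot_iff, Ideal.map_le_iff_le_comap]
      intro x hx
      rw [Ideal.mem_comap, Ideal.mem_bot, Ideal.Quotient.algebraMap_eq,
        Ideal.Quotient.eq_zero_iff_mem]
      exact hIK hx
    · haveI := h1
      haveI : Module.Flat ((R ⧸ K'.comap (algebraMap R R')) ⧸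
          I.map (algebraMap R (R ⧸ K'.comap (algebraMap R R'))))
          (((R ⧸ K'.comap (algebraMap R R')) ⧸
          I.map (algebraMap R (R ⧸ K'.comap (algebraMap R R')))) ⊗[R] M) :=
        flat_baseChange_of_tower R (R ⧸ I) _ M
      exact flat_tensor_tensor_of_tower R (R ⧸ K'.comap (algebraMap R R')) _ M
    · haveI : Module.Flat (R' ⧸ K') ((R' ⧸ K') ⊗[R] M) :=
        flat_baseChange_of_tower R R' _ M
      exact flat_tensor_tensor_of_tower R (R ⧸ K'.comap (algebraMap R R')) _ M

/-- `R → R'` injective, `I ⊆ R` nilpotent, `M/IM` flat over `R/I` and `R' ⊗ M` flat over `R'`.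
Then `M` is flat over `R`. -/
theorem flat_of_injective_baseChange {R R' : Type u} [CommRing R] [CommRing R'] [Algebra R R']
    (hinj : Injective (algebraMap R R')) (I : Ideal R) (hI : IsNilpotent I)
    (M : Type u) [AddCommGroup M] [Module R M]
    (h1 : Module.Flat (R ⧸ I) ((R ⧸ I) ⊗[R] M)) (h2 : Module.Flat R' (R' ⊗[R] M)) :
    Module.Flat R M := by
  obtain ⟨n, hn⟩ := hI
  refine flat_of_injective_baseChange_aux n R R' hinj I ?_ M h1 h2
  rw [pow_succ, hn]
  simp

end main

end Groth.Agent.Lib.Helper7.NilFlat
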