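import Groth.Agent.Lib.Helper7.ThickRing
import Groth.Agent.Lib.Helper7.NilFlatInj
import Groth.Agent.Lib.Helper7.NilFin
import Mathlib

/-!
# Ring-level lemmas for deformations over a nilpotent thickening
-/

set_option autoImplicit false
universe u

namespace Groth.Agent.Lib.Helper7.DeformRing

open CategoryTheory Limits TensorProduct Groth.Agent.Lib.Helper7.ThickRing
  Groth.Agent.Lib.Helper7.NilFlat

/-- Flatness of `S₀ ⊗ N` over a quotient `S₀` of `S` transfers to the standard quotient. -/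
theorem flat_quotient_tensor_of_surjective {S S₀ : Type*} [CommRing S] [CommRing S₀]
    [Algebra S S₀] (hsurj : Function.Surjective (algebraMap S S₀)) (J : Ideal S)
    (hker : RingHom.ker (algebraMap S S₀) = J) (N : Type*) [AddCommGroup N] [Module S N]
    [Module.Flat S₀ (S₀ ⊗[S] N)] : Module.Flat (S ⧸ J) ((S ⧸ J) ⊗[S] N) := by
  subst hker
  have hsurj' : Function.Surjective (Algebra.ofId S S₀) := hsurj
  let e : (S ⧸ RingHom.ker (Algebra.ofId S S₀)) ≃ₐ[S] S₀ :=
    Ideal.quotientKerAlgEquivOfSurjective hsurj'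
  letI : Algebra S₀ (S ⧸ RingHom.ker (algebraMap S S₀)) :=
    (e.symm : S₀ →+* (S ⧸ RingHom.ker (Algebra.ofId S S₀))).toAlgebra
  haveI : IsScalarTower S S₀ (S ⧸ RingHom.ker (algebraMap S S₀)) :=
    IsScalarTower.of_algebraMap_eq (fun x => (e.symm.commutes x).symm)
  exact flat_baseChange_of_tower S S₀ (S ⧸ RingHom.ker (algebraMap S S₀)) N

variable {A' B' C' A B C : CommRingCat.{u}} (α' : A' ⟶ B') (β' : B' ⟶ C') (α : A ⟶ B)
  (β : B ⟶ C) (πA : A' ⟶ A) (πB : B' ⟶ B) (πC : C' ⟶ C)

theorem flat_of_deform (h1 : IsPushout α' πA πB α) (h2 : IsPushout (α' ≫ β') πA πC (α ≫ β))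
    (w : β' ≫ πC = πB ≫ β) (hπ : Function.Surjective πA.hom)
    (hnil : IsNilpotent (RingHom.ker πA.hom)) (hflat : (α' ≫ β').hom.Flat)
    (hβ : β.hom.Flat) : β'.hom.Flat := by
  have h3 : IsPushout β' πB πC β := IsPushout.of_left h2 w h1
  obtain ⟨hπB, hkerB⟩ := surjective_and_ker_of_isPushout h1 hπ
  algebraize [α'.hom, β'.hom, (α' ≫ β').hom, πB.hom, β.hom, πC.hom, (πB ≫ β).hom]
  haveI : IsScalarTower A' B' C' := IsScalarTower.of_algebraMap_eq (fun x => rfl)
  haveI : IsScalarTower B' B C := IsScalarTower.of_algebraMap_eq (fun x => rfl)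
  haveI : IsScalarTower B' C' C := IsScalarTower.of_algebraMap_eq (fun x => by
    have := congr($(w).hom x)
    exact this.symm)
  have hpo : Algebra.IsPushout B' B C' C :=
    CommRingCat.isPushout_iff_isPushout.mp h3.flip
  haveI : Module.Flat B C := hβ
  haveI : Module.Flat A' C' := hflat
  haveI : Module.Flat B (B ⊗[B'] C') := Module.Flat.of_linearEquiv hpo.out.equiv
  have hq : Module.Flat (B' ⧸ (RingHom.ker πA.hom).map (algebraMap A' B'))
      ((B' ⧸ (RingHom.ker πA.hom).map (algebraMap A' B')) ⊗[B'] C') :=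
    flat_quotient_tensor_of_surjective (S := B') (S₀ := B) hπB _ hkerB C'
  exact flat_of_flat_of_isNilpotent_fibre (R := A') (S := B') (M := C') _ hnil hq

theorem finitePresentation_of_deform (h1 : IsPushout α' πA πB α)
    (h2 : IsPushout (α' ≫ β') πA πC (α ≫ β))
    (w : β' ≫ πC = πB ≫ β) (hπ : Function.Surjective πA.hom)
    (hnil : IsNilpotent (RingHom.ker πA.hom)) (hflat : (α' ≫ β').hom.Flat)
    (hβ : β.hom.FinitePresentation) : β'.hom.FinitePresentation := by
  obtain ⟨hπB, hkerB⟩ := surjective_and_ker_of_isPushout h1 hπ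
  obtain ⟨hπC, hkerC⟩ := surjective_and_ker_of_isPushout h2 hπ
  algebraize [α'.hom, β'.hom, (α' ≫ β').hom]
  haveI : IsScalarTower A' B' C' := IsScalarTower.of_algebraMap_eq (fun x => rfl)
  haveI : Module.Flat A' C' := hflat
  have hkerC' : RingHom.ker πC.hom =
      ((RingHom.ker πA.hom).map (algebraMap A' B')).map (algebraMap B' C') := by
    rw [hkerC, Ideal.map_map]
    rfl
  have hw : β.hom.comp πB.hom = πC.hom.comp (algebraMap B' C') := by
    ext x
    have := congr($(w).hom x)
    exact this.symm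
  have := Groth.Agent.Lib.Helper7.NilFin.finitePresentation_of_flat_of_nilpotent'
    (A := A') (B := B') (C := C') (RingHom.ker πA.hom) hnil πB.hom πC.hom β.hom hπB hπC hkerB
    hkerC' hw hβ
  exact RingHom.finitePresentation_algebraMap.mpr this

end Groth.Agent.Lib.Helper7.DeformRing
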