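import Mathlib

/-!
# Morphisms of thickenings: topological properties

A thickening is a surjective closed immersion. For a commutative square `iX ≫ f' = f ≫ iS`
whose horizontal maps are thickenings, many properties hold for `f` iff they hold for `f'`.
-/

set_option autoImplicit false
universe u

namespace Groth.Agent.Lib.Helper7.Thick

open AlgebraicGeometry CategoryTheory Limits MorphismProperty

/-- If `g` is a monomorphism and `P` is stable under base change, `P (f ≫ g)` implies `P f`. -/
theorem of_postcomp_mono (P : MorphismProperty Scheme.{u}) [P.IsStableUnderBaseChange]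
    [P.IsMultiplicative] {X Y Z : Scheme.{u}} (f : X ⟶ Y) (g : Y ⟶ Z) [Mono g]
    (h : P (f ≫ g)) : P f := by
  have : P.HasOfPostcompProperty (MorphismProperty.monomorphisms Scheme.{u}) := by
    rw [MorphismProperty.hasOfPostcompProperty_iff_le_diagonal]
    intro A B k hk
    have : Mono k := hk
    exact P.of_isIso (pullback.diagonal k)
  exact MorphismProperty.of_postcomp P f g (monomorphisms.infer_property g) h

theorem comp_diagonal {X Y Z : Scheme.{u}} (f : X ⟶ Y) (g : Y ⟶ Z) :
    f ≫ pullback.diagonal g = pullback.diagonal (f ≫ g) ≫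
      pullback.map (f ≫ g) (f ≫ g) g g f f (𝟙 Z)
        ((Category.comp_id _).trans rfl) ((Category.comp_id _).trans rfl) := by
  apply pullback.hom_ext
  · simp only [Category.assoc, pullback.diagonal_fst, Category.comp_id]
    rw [pullback.map]
    rw [pullback.lift_fst]
    rw [pullback.diagonal_fst_assoc]
  · simp only [Category.assoc, pullback.diagonal_snd, Category.comp_id]
    rw [pullback.map]
    rw [pullback.lift_snd]
    rw [pullback.diagonal_snd_assoc]

/-- The generic pattern. -/
theorem iff_of_square (P : MorphismProperty Scheme.{u}) [P.IsStableUnderBaseChange]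
    [P.IsMultiplicative]
    (hci : ∀ {A B : Scheme.{u}} (i : A ⟶ B), IsClosedImmersion i → Surjective i → P i)
    (hpre : ∀ {A B C : Scheme.{u}} (i : A ⟶ B) (g : B ⟶ C), IsClosedImmersion i → Surjective i →
      P (i ≫ g) → P g)
    {X X' S S' : Scheme.{u}} (iX : X ⟶ X') (iS : S ⟶ S') (f : X ⟶ S) (f' : X' ⟶ S')
    (hX : IsClosedImmersion iX ∧ Surjective iX) (hS : IsClosedImmersion iS ∧ Surjective iS)
    (w : iX ≫ f' = f ≫ iS) : P f ↔ P f' := by
  obtain ⟨hX1, hX2⟩ := hX
  obtain ⟨hS1, hS2⟩ := hS
  constructor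
  · intro hf
    have h1 : P (f ≫ iS) := P.comp_mem _ _ hf (hci iS hS1 hS2)
    rw [← w] at h1
    exact hpre iX f' hX1 hX2 h1
  · intro hf'
    have h1 : P (iX ≫ f') := P.comp_mem _ _ (hci iX hX1 hX2) hf'
    rw [w] at h1
    exact of_postcomp_mono P f iS h1

/-- Quasi-compactness descends along a surjection on the source. -/
theorem quasiCompact_of_comp_surjective {A B C : Scheme.{u}} (i : A ⟶ B) (g : B ⟶ C)
    [Surjective i] [QuasiCompact (i ≫ g)] : QuasiCompact g := by
  rw [quasiCompact_iff]
  intro U hU hUc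
  have h1 : IsCompact ((i ≫ g) ⁻¹' U) := QuasiCompact.isCompact_preimage _ hU hUc
  have h2 : (g ⁻¹' U : Set B) = i '' ((i ≫ g) ⁻¹' U) := by
    ext b
    constructor
    · intro hb
      obtain ⟨a, rfl⟩ := i.surjective b
      exact ⟨a, by simpa using hb, rfl⟩
    · rintro ⟨a, ha, rfl⟩
      simpa using ha
  rw [h2]
  exact h1.image i.continuous

theorem quasiCompact_iff_of_square
    {X X' S S' : Scheme.{u}} (iX : X ⟶ X') (iS : S ⟶ S') (f : X ⟶ S) (f' : X' ⟶ S')
    (hX : IsClosedImmersion iX ∧ Surjective iX) (hS : IsClosedImmersion iS ∧ Surjective iS)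
    (w : iX ≫ f' = f ≫ iS) : QuasiCompact f ↔ QuasiCompact f' :=
  iff_of_square @QuasiCompact (fun i _ _ => inferInstance)
    (fun i g _ _ _ => quasiCompact_of_comp_surjective i g) iX iS f f' hX hS w

theorem universallyClosed_iff_of_square
    {X X' S S' : Scheme.{u}} (iX : X ⟶ X') (iS : S ⟶ S') (f : X ⟶ S) (f' : X' ⟶ S')
    (hX : IsClosedImmersion iX ∧ Surjective iX) (hS : IsClosedImmersion iS ∧ Surjective iS)
    (w : iX ≫ f' = f ≫ iS) : UniversallyClosed f ↔ UniversallyClosed f' :=
  iff_of_square @UniversallyClosed (fun i _ _ => inferInstance)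
    (fun i g _ _ _ => UniversallyClosed.of_comp_surjective i g) iX iS f f' hX hS w

theorem quasiSeparated_of_comp_thickening {A B C : Scheme.{u}} (i : A ⟶ B) (g : B ⟶ C)
    [IsClosedImmersion i] [Surjective i] [QuasiSeparated (i ≫ g)] : QuasiSeparated g := by
  constructor
  have hmap : QuasiCompact (pullback.map (i ≫ g) (i ≫ g) g g i i (𝟙 C)
      ((Category.comp_id _).trans rfl) ((Category.comp_id _).trans rfl)) :=
    MorphismProperty.pullbackMap (P := @QuasiCompact) (f := i ≫ g) (g := i ≫ g) (f' := g) (g' := g)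
      (i₁ := i) (i₂ := i) inferInstance inferInstance rfl rfl
  have : QuasiCompact (i ≫ pullback.diagonal g) := by
    rw [comp_diagonal]; infer_instance
  exact quasiCompact_of_comp_surjective i (pullback.diagonal g)

theorem quasiSeparated_iff_of_square
    {X X' S S' : Scheme.{u}} (iX : X ⟶ X') (iS : S ⟶ S') (f : X ⟶ S) (f' : X' ⟶ S')
    (hX : IsClosedImmersion iX ∧ Surjective iX) (hS : IsClosedImmersion iS ∧ Surjective iS)
    (w : iX ≫ f' = f ≫ iS) : QuasiSeparated f ↔ QuasiSeparated f' :=
  iff_of_square @QuasiSeparated (fun i _ _ => inferInstance)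
    (fun i g _ _ _ => quasiSeparated_of_comp_thickening i g) iX iS f f' hX hS w

theorem universallyInjective_of_comp_surjective {A B C : Scheme.{u}} (i : A ⟶ B) (g : B ⟶ C)
    [Surjective i] [UniversallyInjective (i ≫ g)] : UniversallyInjective g := by
  rw [UniversallyInjective.iff_diagonal]
  have h0 : Surjective (pullback.diagonal (i ≫ g)) :=
    (UniversallyInjective.iff_diagonal (i ≫ g)).mp inferInstance
  have hmap : Surjective (pullback.map (i ≫ g) (i ≫ g) g g i i (𝟙 C)
      ((Category.comp_id _).trans rfl) ((Category.comp_id _).trans rfl)) :=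
    MorphismProperty.pullbackMap (P := @Surjective) (f := i ≫ g) (g := i ≫ g) (f' := g) (g' := g)
      (i₁ := i) (i₂ := i) inferInstance inferInstance rfl rfl
  have : Surjective (i ≫ pullback.diagonal g) := by
    rw [comp_diagonal]; infer_instance
  exact Surjective.of_comp i (pullback.diagonal g)

theorem universallyInjective_iff_of_square
    {X X' S S' : Scheme.{u}} (iX : X ⟶ X') (iS : S ⟶ S') (f : X ⟶ S) (f' : X' ⟶ S')
    (hX : IsClosedImmersion iX ∧ Surjective iX) (hS : IsClosedImmersion iS ∧ Surjective iS)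
    (w : iX ≫ f' = f ≫ iS) : UniversallyInjective f ↔ UniversallyInjective f' :=
  iff_of_square @UniversallyInjective (fun i _ _ => inferInstance)
    (fun i g _ _ _ => universallyInjective_of_comp_surjective i g) iX iS f f' hX hS w

/-- A surjective closed immersion is universally open. -/
theorem universallyOpen_of_thickening {A B : Scheme.{u}} (i : A ⟶ B)
    [IsClosedImmersion i] [Surjective i] : UniversallyOpen i := by
  constructor
  intro X' Y' i₁ i₂ f' H
  have h1 : IsClosedImmersion f' := MorphismProperty.of_isPullback H.flip ‹IsClosedImmersion i›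
  have h2 : Surjective f' := MorphismProperty.of_isPullback H.flip ‹Surjective i›
  have : IsHomeomorph f' :=
    isHomeomorph_iff_isEmbedding_surjective.mpr ⟨f'.isEmbedding, f'.surjective⟩
  exact this.isOpenMap

theorem universallyOpen_of_comp_surjective {A B C : Scheme.{u}} (i : A ⟶ B) (g : B ⟶ C)
    [Surjective i] [UniversallyOpen (i ≫ g)] : UniversallyOpen g := by
  constructor
  intro X' Y' i₁ i₂ f' H
  have h0 := (UniversallyOpen.eq ▸ (inferInstance : UniversallyOpen (i ≫ g)))
  have := h0 _ _ _ ((IsPullback.of_hasPullback i₁ i).paste_horiz H)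
  have hs : Function.Surjective (pullback.fst i₁ i) :=
    (MorphismProperty.pullback_fst (P := @Surjective) _ _ ‹_›).1
  intro K hK
  have : (f' '' K : Set Y') = (pullback.fst i₁ i ≫ f') '' ((pullback.fst i₁ i) ⁻¹' K) := by
    ext y
    constructor
    · rintro ⟨x, hx, rfl⟩
      obtain ⟨z, rfl⟩ := hs x
      exact ⟨z, hx, rfl⟩
    · rintro ⟨z, hz, rfl⟩
      exact ⟨_, hz, rfl⟩
  rw [this]
  exact ‹topologically @IsOpenMap (pullback.fst i₁ i ≫ f')› _
    (hK.preimage (pullback.fst i₁ i).continuous)

theorem universallyOpen_iff_of_square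
    {X X' S S' : Scheme.{u}} (iX : X ⟶ X') (iS : S ⟶ S') (f : X ⟶ S) (f' : X' ⟶ S')
    (hX : IsClosedImmersion iX ∧ Surjective iX) (hS : IsClosedImmersion iS ∧ Surjective iS)
    (w : iX ≫ f' = f ≫ iS) : UniversallyOpen f ↔ UniversallyOpen f' :=
  iff_of_square @UniversallyOpen (fun i h1 h2 => universallyOpen_of_thickening i)
    (fun i g _ _ _ => universallyOpen_of_comp_surjective i g) iX iS f f' hX hS w

theorem locallyQuasiFinite_iff_of_square
    {X X' S S' : Scheme.{u}} (iX : X ⟶ X') (iS : S ⟶ S') (f : X ⟶ S) (f' : X' ⟶ S')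
    (hX : IsClosedImmersion iX ∧ Surjective iX) (hS : IsClosedImmersion iS ∧ Surjective iS)
    (w : iX ≫ f' = f ≫ iS) [LocallyOfFiniteType f] [LocallyOfFiniteType f'] :
    LocallyQuasiFinite f ↔ LocallyQuasiFinite f' := by
  obtain ⟨hX1, hX2⟩ := hX
  obtain ⟨hS1, hS2⟩ := hS
  rw [locallyQuasiFinite_iff_isDiscrete_preimage_singleton,
    locallyQuasiFinite_iff_isDiscrete_preimage_singleton]
  have hw : ∀ x, f' (iX x) = iS (f x) := fun x => by
    rw [← Scheme.Hom.comp_apply, w, Scheme.Hom.comp_apply]
  have hinj : Function.Injective iS := iS.isEmbedding.injective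
  have key : ∀ y : S, (f' ⁻¹' {iS y} : Set X') = iX '' (f ⁻¹' {y}) := by
    intro y
    ext x'
    constructor
    · intro hx'
      obtain ⟨x, rfl⟩ := iX.surjective x'
      refine ⟨x, ?_, rfl⟩
      have : f' (iX x) = iS y := hx'
      rw [hw] at this
      exact hinj this
    · rintro ⟨x, hx, rfl⟩
      have : f x = y := hx
      change f' (iX x) = iS y
      rw [hw, this]
  constructor
  · intro H y'
    obtain ⟨y, rfl⟩ := iS.surjective y'
    rw [key]
    exact (H y).image iX.isEmbedding.isInducing
  · intro H y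
    have h1 := H (iS y)
    rw [key] at h1
    have h2 := h1.preimage iX.continuous.continuousOn iX.isEmbedding.injective
    rwa [Set.preimage_image_eq _ iX.isEmbedding.injective] at h2

end Groth.Agent.Lib.Helper7.Thick
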