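import Groth.Agent.Lib.Helper7.ThickBridge
import Groth.Agent.Lib.Helper7.ThickMono
import Groth.Agent.Lib.Helper7.NilFlatInj
import Groth.Agent.Lib.Helper7.NilFin
import Groth.Agent.Lib.Helper7.DeformRing
import Groth.Agent.Lib.Helper7.Thick
import Mathlib

/-!
# Deformations over a finite order thickening

Setting: `X' ⟶ Y' ⟶ S'` with `X'` flat over `S'`, `S ⟶ S'` a finite order thickening, and
`X ⟶ Y ⟶ S` the base change.  A property of `X ⟶ Y` lifts to `X' ⟶ Y'`.
-/

set_option autoImplicit false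
universe u

namespace Groth.Agent.Lib.Helper7.Deform

open AlgebraicGeometry CategoryTheory Limits TopologicalSpace Groth.Agent.Lib.Helper7.ThickBridge

variable {X X' Y Y' S S' : Scheme.{u}} {iX : X ⟶ X'} {iY : Y ⟶ Y'} {iS : S ⟶ S'}
    {f : X ⟶ Y} {f' : X' ⟶ Y'} {g : Y ⟶ S} {g' : Y' ⟶ S'}

theorem isPullback_left (hcX : IsPullback iX (f ≫ g) (f' ≫ g') iS) (hcY : IsPullback iY g g' iS)
    (w : iX ≫ f' = f ≫ iY) : IsPullback iX f f' iY :=
  IsPullback.of_bot hcX w hcY

theorem appLE_congr_hom {X Y : Scheme.{u}} {h₁ h₂ : X ⟶ Y} (hh : h₁ = h₂) (V : Y.Opens)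
    (U : X.Opens) (e₁ : U ≤ h₁ ⁻¹ᵁ V) : h₁.appLE V U e₁ = h₂.appLE V U (hh ▸ e₁) := by
  subst hh
  rfl

theorem appLE_comm (w : iX ≫ f' = f ≫ iY) (V' : Y'.Opens) (U' : X'.Opens)
    (e : U' ≤ f' ⁻¹ᵁ V') (e' : iX ⁻¹ᵁ U' ≤ f ⁻¹ᵁ (iY ⁻¹ᵁ V')) :
    f'.appLE V' U' e ≫ iX.app U' = iY.app V' ≫ f.appLE (iY ⁻¹ᵁ V') (iX ⁻¹ᵁ U') e' := by
  rw [Scheme.Hom.app_eq_appLE, Scheme.Hom.app_eq_appLE, Scheme.Hom.appLE_comp_appLE,
    Scheme.Hom.appLE_comp_appLE]
  exact appLE_congr_hom w _ _ _

theorem surjective_of_square (w : iX ≫ f' = f ≫ iY) [Surjective iY] [Surjective f] :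
    Surjective f' := by
  constructor
  intro y'
  obtain ⟨y, rfl⟩ := iY.surjective y'
  obtain ⟨x, rfl⟩ := f.surjective y
  refine ⟨iX x, ?_⟩
  rw [← Scheme.Hom.comp_apply, w, Scheme.Hom.comp_apply]

/-- A morphism from a reduced scheme lifts through a surjective closed immersion. -/
theorem exists_lift_of_isReduced {T Z Z' : Scheme.{u}} (t : T ⟶ Z') [IsReduced T] (i : Z ⟶ Z')
    [IsClosedImmersion i] [Surjective i] : ∃ t₀ : T ⟶ Z, t₀ ≫ i = t := by
  haveI : IsIso (pullback.fst t i) := isIso_of_isClosedImmersion_of_surjective _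
  refine ⟨inv (pullback.fst t i) ≫ pullback.snd t i, ?_⟩
  rw [Category.assoc, ← pullback.condition, IsIso.inv_hom_id_assoc]

/-- General lifting principle for the deformation situation. -/
theorem of_lift {P : MorphismProperty Scheme.{u}}
    {Q : ∀ {R S : Type u} [CommRing R] [CommRing S], (R →+* S) → Prop}
    [HasRingHomProperty P Q]
    (hQ : RingHom.StableUnderCompositionWithLocalizationAwaySource Q)
    (hcX : IsPullback iX (f ≫ g) (f' ≫ g') iS) (hcY : IsPullback iY g g' iS)
    (w : iX ≫ f' = f ≫ iY) [IsClosedImmersion iS] (hnil : IsNilpotent iS.ker)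
    [Flat (f' ≫ g')]
    (hlift : ∀ {A' B' C' A B C : CommRingCat.{u}} (α' : A' ⟶ B') (β' : B' ⟶ C') (α : A ⟶ B)
      (β : B ⟶ C) (πA : A' ⟶ A) (πB : B' ⟶ B) (πC : C' ⟶ C),
      IsPushout α' πA πB α → IsPushout (α' ≫ β') πA πC (α ≫ β) → β' ≫ πC = πB ≫ β →
      Function.Surjective πA.hom → IsNilpotent (RingHom.ker πA.hom) → (α' ≫ β').hom.Flat →
      Q β.hom → Q β'.hom)
    (hf : P f) : P f' := by
  rw [HasRingHomProperty.iff_exists_appLE (P := P) hQ]
  intro x
  have hiY : IsClosedImmersion iY := MorphismProperty.of_isPullback hcY.flip ‹_›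
  have hiX : IsClosedImmersion iX := MorphismProperty.of_isPullback hcX.flip ‹_›
  obtain ⟨W', hW', hxW, -⟩ := Opens.isBasis_iff_nbhd.mp S'.isBasis_affineOpens
    (Opens.mem_top (g' (f' x)))
  obtain ⟨V', hV', hxV, eV⟩ := Opens.isBasis_iff_nbhd.mp Y'.isBasis_affineOpens
    (show f' x ∈ g' ⁻¹ᵁ W' from hxW)
  obtain ⟨U', hU', hxU, eU⟩ := Opens.isBasis_iff_nbhd.mp X'.isBasis_affineOpens
    (show x ∈ f' ⁻¹ᵁ V' from hxV)
  refine ⟨⟨V', hV'⟩, ⟨U', hU'⟩, hxU, eU, ?_⟩
  have eWU : U' ≤ (f' ≫ g') ⁻¹ᵁ W' := fun y hy => eV (eU hy)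
  have hp1 := isPushout_appLE hcY W' hW' V' hV' eV
  have hp2 := isPushout_appLE hcX W' hW' U' hU' eWU
  have e1 := le_preimage_of_isPullback hcY W' V' eV
  have e2 := le_preimage_of_isPullback (isPullback_left hcX hcY w) V' U' eU
  have h1 : (f' ≫ g').appLE W' U' eWU = g'.appLE W' V' eV ≫ f'.appLE V' U' eU :=
    (Scheme.Hom.appLE_comp_appLE f' g' W' V' U' eV eU).symm
  have h2 : (f ≫ g).appLE (iS ⁻¹ᵁ W') (iX ⁻¹ᵁ U') (le_preimage_of_isPullback hcX W' U' eWU) =
      g.appLE (iS ⁻¹ᵁ W') (iY ⁻¹ᵁ V') e1 ≫ f.appLE (iY ⁻¹ᵁ V') (iX ⁻¹ᵁ U') e2 :=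
    (Scheme.Hom.appLE_comp_appLE f g _ _ _ e1 e2).symm
  rw [h1, h2] at hp2
  have hflat : (g'.appLE W' V' eV ≫ f'.appLE V' U' eU).hom.Flat := by
    rw [← h1]
    exact HasRingHomProperty.appLE @Flat (f' ≫ g') inferInstance ⟨W', hW'⟩ ⟨U', hU'⟩ eWU
  have hQf : Q (f.appLE (iY ⁻¹ᵁ V') (iX ⁻¹ᵁ U') e2).hom :=
    HasRingHomProperty.appLE P f hf ⟨_, hV'.preimage iY⟩ ⟨_, hU'.preimage iX⟩ e2
  exact hlift _ _ _ _ _ _ _ hp1 hp2 (appLE_comm w V' U' eU e2) (iS.app_surjective W' hW')
    (isNilpotent_ker_app iS hnil W' hW') hflat hQf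

section consequences

variable (hcX : IsPullback iX (f ≫ g) (f' ≫ g') iS) (hcY : IsPullback iY g g' iS)
    (w : iX ≫ f' = f ≫ iY) [IsClosedImmersion iS] (hnil : IsNilpotent iS.ker)
    [Flat (f' ≫ g')]

include hcX hcY w hnil

theorem flat_of_flat (hf : Flat f) : Flat f' :=
  of_lift (P := @Flat) (Q := RingHom.Flat)
    (RingHom.Flat.stableUnderComposition.stableUnderCompositionWithLocalizationAway
      RingHom.Flat.holdsForLocalizationAway).1 hcX hcY w hnil
    (fun α' β' α β πA πB πC h1 h2 hw hπ hn hfl hβ =>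
      Groth.Agent.Lib.Helper7.DeformRing.flat_of_deform α' β' α β πA πB πC h1 h2 hw hπ hn hfl hβ)
    hf

theorem locallyOfFinitePresentation_of_locallyOfFinitePresentation
    (hf : LocallyOfFinitePresentation f) : LocallyOfFinitePresentation f' :=
  of_lift (P := @LocallyOfFinitePresentation) (Q := RingHom.FinitePresentation)
    (RingHom.finitePresentation_stableUnderComposition.stableUnderCompositionWithLocalizationAway
      RingHom.finitePresentation_holdsForLocalizationAway).1 hcX hcY w hnil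
    (fun α' β' α β πA πB πC h1 h2 hw hπ hn hfl hβ =>
      Groth.Agent.Lib.Helper7.DeformRing.finitePresentation_of_deform α' β' α β πA πB πC
        h1 h2 hw hπ hn hfl hβ)
    hf

theorem mono_of_mono (hf : Mono f) : Mono f' := by
  have hiY : IsClosedImmersion iY := MorphismProperty.of_isPullback hcY.flip ‹_›
  exact Groth.Agent.Lib.Helper7.ThickMono.mono_of_isPullback_of_isNilpotent
    (isPullback_left hcX hcY w) (isNilpotent_ker_of_isPullback hcY hnil) hf

theorem formallyUnramified_of_formallyUnramified (hf : FormallyUnramified f) :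
    FormallyUnramified f' := by
  have hiY : IsClosedImmersion iY := MorphismProperty.of_isPullback hcY.flip ‹_›
  exact formallyUnramified_of_isPullback_of_isNilpotent
    (isPullback_left hcX hcY w) (isNilpotent_ker_of_isPullback hcY hnil) hf

theorem isIso_of_isIso [Surjective iS] (hf : IsIso f) : IsIso f' := by
  have hiY : IsClosedImmersion iY := MorphismProperty.of_isPullback hcY.flip ‹_›
  have hiY' : Surjective iY := MorphismProperty.of_isPullback hcY.flip ‹_›
  have hiX : IsClosedImmersion iX := MorphismProperty.of_isPullback hcX.flip ‹_›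
  have hiX' : Surjective iX := MorphismProperty.of_isPullback hcX.flip ‹_›
  haveI : Flat f' := flat_of_flat hcX hcY w hnil inferInstance
  haveI : Mono f' := mono_of_mono hcX hcY w hnil inferInstance
  haveI : Surjective f' := surjective_of_square w
  haveI : QuasiCompact f' :=
    (Groth.Agent.Lib.Helper7.Thick.quasiCompact_iff_of_square iX iY f f' ⟨hiX, hiX'⟩ ⟨hiY, hiY'⟩
      w).mp inferInstance
  exact Flat.isIso_of_surjective_of_mono f'

theorem isOpenImmersion_of_isOpenImmersion (hf : IsOpenImmersion f) : IsOpenImmersion f' := by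
  haveI : Flat f' := flat_of_flat hcX hcY w hnil inferInstance
  haveI : Mono f' := mono_of_mono hcX hcY w hnil inferInstance
  haveI : LocallyOfFinitePresentation f' :=
    locallyOfFinitePresentation_of_locallyOfFinitePresentation hcX hcY w hnil inferInstance
  exact IsOpenImmersion.of_flat_of_mono f'

theorem etale_of_etale (hf : Etale f) : Etale f' := by
  haveI : Flat f' := flat_of_flat hcX hcY w hnil inferInstance
  haveI : LocallyOfFinitePresentation f' :=
    locallyOfFinitePresentation_of_locallyOfFinitePresentation hcX hcY w hnil inferInstance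
  haveI : FormallyUnramified f' :=
    formallyUnramified_of_formallyUnramified hcX hcY w hnil inferInstance
  exact Etale.of_formallyUnramified_of_flat f'

theorem smooth_of_smooth [Surjective iS] (hf : Smooth f) : Smooth f' := by
  have hiY : IsClosedImmersion iY := MorphismProperty.of_isPullback hcY.flip ‹_›
  have hiY' : Surjective iY := MorphismProperty.of_isPullback hcY.flip ‹_›
  haveI : Flat f' := flat_of_flat hcX hcY w hnil inferInstance
  haveI : LocallyOfFinitePresentation f' :=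
    locallyOfFinitePresentation_of_locallyOfFinitePresentation hcX hcY w hnil inferInstance
  apply Smooth.of_smooth_fiberToSpecResidueField
  intro y'
  obtain ⟨t₀, ht₀⟩ := exists_lift_of_isReduced (Y'.fromSpecResidueField y') iY
  have hpaste : IsPullback (pullback.fst f t₀ ≫ iX) (pullback.snd f t₀) f' (t₀ ≫ iY) :=
    (IsPullback.of_hasPullback f t₀).paste_horiz (isPullback_left hcX hcY w)
  rw [ht₀] at hpaste
  have h1 : pullback.snd f' (Y'.fromSpecResidueField y') =
      hpaste.isoPullback.inv ≫ pullback.snd f t₀ := by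
    rw [Iso.eq_inv_comp]
    exact hpaste.isoPullback_hom_snd
  change Smooth (pullback.snd f' (Y'.fromSpecResidueField y'))
  rw [h1]
  exact (MorphismProperty.cancel_left_of_respectsIso @Smooth _ _).mpr inferInstance

end consequences

end Groth.Agent.Lib.Helper7.Deform
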