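import Mathlib
import Groth.Agent.S13598
import Groth.Agent.Lib.Helper37.Hz60
import Groth.Agent.Lib.Helper37.Hz55
import Groth.Agent.Lib.Helper37.Hz53
import Groth.Agent.Lib.Helper98.WEStrictHens

/-!
# Branch numbers of a quotient local ring via the (strict) henselization of the ring (helper7)
-/

set_option autoImplicit false
set_option maxHeartbeats 400000
universe u

namespace Groth.Agent.Lib.Helper7.FibBr

open IsLocalRing
open Groth.Agent.Lib.Helper4 Groth.Agent.Lib.Helper37.Hz

/-- Minimal primes of a quotient vs minimal primes over the ideal. -/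
theorem card_minimalPrimes_quotient {T : Type*} [CommRing T] (K : Ideal T) :
    ENat.card (minimalPrimes (T ⧸ K)) = ENat.card K.minimalPrimes := by
  let F : minimalPrimes (T ⧸ K) → K.minimalPrimes := fun P =>
    ⟨P.1.comap (Ideal.Quotient.mk K), by
      rw [Ideal.minimalPrimes_eq_comap]
      exact ⟨P.1, P.2, rfl⟩⟩
  have hF : Function.Bijective F := by
    constructor
    · intro P Q hPQ
      have := congrArg Subtype.val hPQ
      exact Subtype.ext (Ideal.comap_injective_of_surjective _ Ideal.Quotient.mk_surjective this)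
    · rintro ⟨Q, hQ⟩
      rw [Ideal.minimalPrimes_eq_comap] at hQ
      obtain ⟨P, hP, rfl⟩ := hQ
      exact ⟨⟨P, hP⟩, rfl⟩
  exact ENat.card_congr (Equiv.ofBijective F hF)

theorem comap_mem_minimalPrimes_ringEquiv {R R' : Type*} [CommRing R] [CommRing R']
    (e : R ≃+* R') (P : Ideal R') (hP : P ∈ minimalPrimes R') :
    P.comap (e : R →+* R') ∈ minimalPrimes R := by
  have h := Ideal.minimalPrimes_comap_of_surjective (f := (e : R →+* R')) e.surjective
    (I := ⊥) hP
  have h2 : (⊥ : Ideal R').comap (e : R →+* R') = ⊥ := by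
    rw [← RingHom.ker_eq_comap_bot]
    exact (RingHom.injective_iff_ker_eq_bot _).mp e.injective
  rw [h2] at h
  exact h

/-- Ring isomorphisms preserve the number of minimal primes. -/
theorem card_minimalPrimes_ringEquiv {R R' : Type*} [CommRing R] [CommRing R'] (e : R ≃+* R') :
    ENat.card (minimalPrimes R) = ENat.card (minimalPrimes R') := by
  let F : minimalPrimes R' → minimalPrimes R := fun P =>
    ⟨P.1.comap (e : R →+* R'), comap_mem_minimalPrimes_ringEquiv e P.1 P.2⟩
  let G : minimalPrimes R → minimalPrimes R' := fun P =>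
    ⟨P.1.comap (e.symm : R' →+* R), comap_mem_minimalPrimes_ringEquiv e.symm P.1 P.2⟩
  have hFG : ∀ P, F (G P) = P := by
    intro P
    apply Subtype.ext
    change (P.1.comap (e.symm : R' →+* R)).comap (e : R →+* R') = P.1
    rw [Ideal.comap_comap]
    have : (e.symm : R' →+* R).comp (e : R →+* R') = RingHom.id R := by ext x; simp
    rw [this, Ideal.comap_id]
  have hGF : ∀ P, G (F P) = P := by
    intro P
    apply Subtype.ext
    change (P.1.comap (e : R →+* R')).comap (e.symm : R' →+* R) = P.1
    rw [Ideal.comap_comap]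
    have : (e : R →+* R').comp (e.symm : R' →+* R) = RingHom.id R' := by ext x; simp
    rw [this, Ideal.comap_id]
  exact (ENat.card_congr ⟨F, G, hGF, hFG⟩).symm

section Quot

variable (A : Type u) [CommRing A] [IsLocalRing A] (I : Ideal A)
variable (T : Type u) [CommRing T] [IsLocalRing T] [Algebra A T] [IsLocalHom (algebraMap A T)]

include A in
theorem map_le_maximalIdeal (hI : I ≤ maximalIdeal A) :
    I.map (algebraMap A T) ≤ maximalIdeal T :=
  (Ideal.map_mono hI).trans (map_maximalIdeal_le (algebraMap A T))

theorem nontrivial_quotient (hI : I ≤ maximalIdeal A) : Nontrivial (A ⧸ I) :=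
  Ideal.Quotient.nontrivial_iff.mpr fun h =>
    (maximalIdeal.isMaximal A).ne_top (top_le_iff.mp (h ▸ hI))

theorem isLocalRing_quotient (hI : I ≤ maximalIdeal A) : IsLocalRing (A ⧸ I) :=
  haveI := nontrivial_quotient A I hI
  IsLocalRing.of_surjective' (Ideal.Quotient.mk I) Ideal.Quotient.mk_surjective

theorem isLocalHom_quotient (hI : I ≤ maximalIdeal A)
    [IsLocalRing (A ⧸ I)] [IsLocalRing (T ⧸ I.map (algebraMap A T))] :
    IsLocalHom (algebraMap (A ⧸ I) (T ⧸ I.map (algebraMap A T))) := by
  constructor
  intro a ha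
  obtain ⟨a, rfl⟩ := Ideal.Quotient.mk_surjective a
  rw [Ideal.Quotient.algebraMap_quotient_map_quotient] at ha
  haveI h1 : IsLocalHom (Ideal.Quotient.mk (I.map (algebraMap A T))) :=
    IsLocalHom.of_surjective _ Ideal.Quotient.mk_surjective
  have h2 : IsUnit (algebraMap A T a) := isUnit_of_map_unit (Ideal.Quotient.mk _) _ ha
  have h3 : IsUnit a := isUnit_of_map_unit (algebraMap A T) a h2
  exact h3.map _

end Quot

end Groth.Agent.Lib.Helper7.FibBr
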