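import Mathlib
import Groth.Agent.Lib.Helper7.FibBr1

/-!
# Quotients of strict henselizations; branch numbers of a quotient local ring (helper7)
-/

set_option autoImplicit false
set_option maxHeartbeats 400000
universe u

namespace Groth.Agent.Lib.Helper7.FibBr

open IsLocalRing Polynomial
open Groth.Agent.Lib.Helper4 Groth.Agent.Lib.Helper37.Hz

theorem isSepClosed_of_ringEquiv {k k' : Type*} [Field k] [Field k'] (e : k ≃+* k')
    [IsSepClosed k] : IsSepClosed k' := by
  refine IsSepClosed.of_exists_root k' fun p _ hirr hsep => ?_
  have hdeg : (p.map (e.symm : k' →+* k)).degree ≠ 0 := by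
    rw [degree_map_eq_of_injective e.symm.injective]
    exact (degree_pos_of_irreducible hirr).ne'
  obtain ⟨x, hx⟩ := IsSepClosed.exists_root (p.map (e.symm : k' →+* k)) hdeg hsep.map
  refine ⟨e x, ?_⟩
  have h1 : e (eval x (p.map (e.symm : k' →+* k))) = 0 := by
    rw [IsRoot.def] at hx
    rw [hx, map_zero]
  rw [eval_map] at h1
  have h2 := hom_eval₂ p (e.symm : k' →+* k) (e : k →+* k') x
  have h3 : (e : k →+* k').comp (e.symm : k' →+* k) = RingHom.id k' := by ext y; simp
  rw [h3] at h2
  change (e : k →+* k') (eval₂ (e.symm : k' →+* k) x p) = 0 at h1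
  rw [h2] at h1
  simpa [eval₂_id] using h1

theorem residueField_map_bijective_of_surjective {A B : Type*} [CommRing A] [CommRing B]
    [IsLocalRing A] [IsLocalRing B] (f : A →+* B) [IsLocalHom f] (hf : Function.Surjective f) :
    Function.Bijective (ResidueField.map f) := by
  refine ⟨(ResidueField.map f).injective, ?_⟩
  intro z
  obtain ⟨b, rfl⟩ := residue_surjective z
  obtain ⟨a, rfl⟩ := hf b
  exact ⟨residue A a, ResidueField.map_residue f a⟩

section Quot

variable (A : Type u) [CommRing A] [IsLocalRing A] (I : Ideal A)
variable (T : Type u) [CommRing T] [IsLocalRing T] [Algebra A T] [IsLocalHom (algebraMap A T)]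

/-- The quotient of a strict henselization is a strict henselization of the quotient. -/
theorem isStrictHenselization_quotient [hT : Hensel.IsStrictHenselization A T]
    [IsLocalRing (A ⧸ I)] [IsLocalRing (T ⧸ I.map (algebraMap A T))]
    [IsLocalHom (algebraMap (A ⧸ I) (T ⧸ I.map (algebraMap A T)))] :
    Hensel.IsStrictHenselization (A ⧸ I) (T ⧸ I.map (algebraMap A T)) := by
  have hD : HasFactorization (etaleClass (A ⧸ I)) (T ⧸ I.map (algebraMap A T)) :=
    SmoothBr.hasFactorization_quotient A T I
      ((isIndEtale_iff_hasFactorization T).mp (isIndEtale_of_isStrictHenselization A T))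
  haveI := hT.henselian
  have hh : HenselianLocalRing (T ⧸ I.map (algebraMap A T)) :=
    Groth.Agent.S13598.henselianLocalRing_quotient _
  refine isStrictHenselization_of_hasFactorization (A ⧸ I) (T ⧸ I.map (algebraMap A T)) hD hh ?_
  haveI hπA : IsLocalHom (Ideal.Quotient.mk I) :=
    IsLocalHom.of_surjective _ Ideal.Quotient.mk_surjective
  haveI hπT : IsLocalHom (Ideal.Quotient.mk (I.map (algebraMap A T))) :=
    IsLocalHom.of_surjective _ Ideal.Quotient.mk_surjective
  let e₁ : ResidueField A ≃+* ResidueField (A ⧸ I) :=
    RingEquiv.ofBijective (ResidueField.map (Ideal.Quotient.mk I))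
      (residueField_map_bijective_of_surjective _ Ideal.Quotient.mk_surjective)
  let e₂ : ResidueField T ≃+* ResidueField (T ⧸ I.map (algebraMap A T)) :=
    RingEquiv.ofBijective (ResidueField.map (Ideal.Quotient.mk (I.map (algebraMap A T))))
      (residueField_map_bijective_of_surjective _ Ideal.Quotient.mk_surjective)
  have h0 := hT.isSepClosure
  haveI : IsSepClosed (ResidueField T) := h0.sep_closed
  haveI : Algebra.IsSeparable (ResidueField A) (ResidueField T) := h0.separable
  have he : RingHom.comp (algebraMap (ResidueField (A ⧸ I))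
        (ResidueField (T ⧸ I.map (algebraMap A T)))) (e₁ : ResidueField A →+* _) =
      RingHom.comp (e₂ : ResidueField T →+* _) (algebraMap (ResidueField A) (ResidueField T)) := by
    ext z
    obtain ⟨a, rfl⟩ := residue_surjective z
    change ResidueField.map (algebraMap (A ⧸ I) (T ⧸ I.map (algebraMap A T)))
        (ResidueField.map (Ideal.Quotient.mk I) (residue A a)) =
      ResidueField.map (Ideal.Quotient.mk (I.map (algebraMap A T)))
        (ResidueField.map (algebraMap A T) (residue A a))
    rw [ResidueField.map_residue, ResidueField.map_residue, ResidueField.map_residue,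
      ResidueField.map_residue, Ideal.Quotient.algebraMap_quotient_map_quotient]
  exact ⟨isSepClosed_of_ringEquiv e₂, Algebra.IsSeparable.of_equiv_equiv e₁ e₂ he⟩

end Quot

section Transport

variable (A₁ A₂ S : Type u) [CommRing A₁] [IsLocalRing A₁] [CommRing A₂] [IsLocalRing A₂]
  [CommRing S] [IsLocalRing S] [Algebra A₂ S] [IsLocalHom (algebraMap A₂ S)]

/-- Transport of a henselization along an isomorphism of the base. -/
theorem isHenselization_of_ringEquiv (e : A₁ ≃+* A₂) [hS : Hensel.IsHenselization A₂ S]
    [Algebra A₁ S] (halg : algebraMap A₁ S = (algebraMap A₂ S).comp (e : A₁ →+* A₂))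
    [IsLocalHom (algebraMap A₁ S)] : Hensel.IsHenselization A₁ S where
  henselian := hS.henselian
  universal T _ _ f hf := by
    have hloc : IsLocalHom (f.comp (e.symm : A₂ →+* A₁)) := by
      constructor
      intro a ha
      have h1 : IsUnit (e.symm a) := hf.map_nonunit _ ha
      have h2 := h1.map e
      simpa using h2
    obtain ⟨g, hg, huniq⟩ := hS.universal T (f.comp (e.symm : A₂ →+* A₁)) hloc
    refine ⟨g, ?_, ?_⟩
    · change g.comp (algebraMap A₁ S) = f
      rw [halg, ← RingHom.comp_assoc, hg, RingHom.comp_assoc]
      ext a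
      simp
    · intro g' hg'
      apply huniq
      change g'.comp (algebraMap A₁ S) = f at hg'
      change g'.comp (algebraMap A₂ S) = f.comp (e.symm : A₂ →+* A₁)
      rw [halg, ← RingHom.comp_assoc] at hg'
      rw [← hg', RingHom.comp_assoc]
      ext a
      simp

end Transport

end Groth.Agent.Lib.Helper7.FibBr
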