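import Mathlib
import Groth.Prelude.Def_Pi1
import Groth.Agent.Lib.Helper7.NormField

/-!
# Integral birational morphisms onto normal schemes are isomorphisms

* `bijective_of_isIntegral_of_birational`: ring-level core.
* `isIntegrallyClosed_sections_of_isNormalScheme`: sections of a normal integral scheme over a
  nonempty affine open form an integrally closed domain.
* `isIso_of_isIntegralHom_of_birational(')`: an integral morphism `d : X' ⟶ Y` of integral schemes
  with `Y` normal, mapping generic point to generic point and inducing a bijection on the stalks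
  there, is an isomorphism.
* `bijective_stalkMap_of_comp`: two-out-of-three for generic stalks.
* `isIntegral_of_isNormalScheme`, `isIso_stalkMap_fromSpecStalk_closedPoint`, ...
-/

set_option autoImplicit false
set_option linter.style.haveILetI false
universe u

open CategoryTheory AlgebraicGeometry Polynomial

namespace Groth.Agent.Lib.Helper7.BiratIso

/-- An integral ring map out of an integrally closed domain which is an isomorphism on
"function fields" is bijective. -/
theorem bijective_of_isIntegral_of_birational
    {B C KB KC : Type*} [CommRing B] [IsDomain B] [IsIntegrallyClosed B] [CommRing C]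
    [Field KB] [Algebra B KB] [IsFractionRing B KB] [CommRing KC]
    (ψ : B →+* C) (hψ : ψ.IsIntegral) (γC : C →+* KC) (hγC : Function.Injective γC)
    (τ : KB →+* KC) (hτ : Function.Bijective τ)
    (hcomm : τ.comp (algebraMap B KB) = γC.comp ψ) : Function.Bijective ψ := by
  constructor
  · rw [injective_iff_map_eq_zero]
    intro b hb
    have h1 : τ (algebraMap B KB b) = 0 := by
      have := congr($hcomm b)
      simp only [RingHom.comp_apply] at this
      rw [this, hb, map_zero]
    have h2 : algebraMap B KB b = 0 := hτ.1 (by rw [h1, map_zero])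
    exact (IsFractionRing.injective B KB) (by rw [h2, map_zero])
  · intro c
    obtain ⟨x, hx⟩ := hτ.2 (γC c)
    have hxint : IsIntegral B x := by
      obtain ⟨q, hq, hq0⟩ := hψ c
      refine ⟨q, hq, ?_⟩
      apply hτ.1
      rw [map_zero, hom_eval₂, hcomm, hx, ← hom_eval₂, hq0, map_zero]
    obtain ⟨b', hb'⟩ := IsIntegrallyClosed.algebraMap_eq_of_integral hxint
    refine ⟨b', hγC ?_⟩
    have := congr($hcomm b')
    simp only [RingHom.comp_apply] at this
    rw [← this, hb', hx]

/-- On a normal integral scheme, the ring of sections over a nonempty affine open is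
integrally closed. -/
theorem isIntegrallyClosed_sections_of_isNormalScheme {Y : Scheme.{u}} [IsIntegral Y]
    (hY : Pi1.IsNormalScheme Y) (V : Y.Opens) (hV : IsAffineOpen V) [Nonempty V] :
    IsIntegrallyClosed Γ(Y, V) := by
  apply IsIntegrallyClosed.of_localization_maximal
  intro P _ hP
  let y : PrimeSpectrum Γ(Y, V) := ⟨P, hP.isPrime⟩
  have hy : hV.fromSpec y ∈ V := by
    have : hV.fromSpec y ∈ Set.range hV.fromSpec := ⟨y, rfl⟩
    rwa [hV.range_fromSpec] at this
  letI : Algebra Γ(Y, V) (Y.presheaf.stalk (hV.fromSpec y)) :=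
    TopCat.Presheaf.algebra_section_stalk Y.presheaf ⟨hV.fromSpec y, hy⟩
  have hloc : IsLocalization.AtPrime (Y.presheaf.stalk (hV.fromSpec y)) P :=
    hV.isLocalization_stalk' y hy
  have h := (hY (hV.fromSpec y)).2
  exact IsIntegrallyClosed.of_equiv
    (IsLocalization.algEquiv P.primeCompl (Y.presheaf.stalk (hV.fromSpec y))
      (Localization.AtPrime P)).toRingEquiv

/-- transport of the fraction-ring property along `y = genericPoint Y`. -/
theorem isFractionRing_stalk_of_eq_genericPoint {Y : Scheme.{u}} [IsIntegral Y]
    (V : Y.Opens) (hV : IsAffineOpen V) (y : Y) (hy : y = genericPoint Y) (hyV : y ∈ V) :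
    letI : Algebra Γ(Y, V) (Y.presheaf.stalk y) := (Y.presheaf.germ V y hyV).hom.toAlgebra
    IsFractionRing Γ(Y, V) (Y.presheaf.stalk y) := by
  subst hy
  haveI : Nonempty V := ⟨⟨_, hyV⟩⟩
  exact functionField_isFractionRing_of_isAffineOpen Y V hV

theorem isField_stalk_of_eq_genericPoint' {Y : Scheme.{u}} [IsIntegral Y]
    (y : Y) (hy : y = genericPoint Y) : IsField (Y.presheaf.stalk y) := by
  subst hy
  exact Field.toIsField Y.functionField

/-- **Birational integral morphisms onto normal schemes are isomorphisms.** -/
theorem isIso_of_isIntegralHom_of_birational {X' Y : Scheme.{u}} [IsIntegral X'] [IsIntegral Y]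
    (hY : Pi1.IsNormalScheme Y) (d : X' ⟶ Y) [IsIntegralHom d]
    (hgen : d (genericPoint X') = genericPoint Y)
    (hiso : Function.Bijective (d.stalkMap (genericPoint X')).hom) : IsIso d := by
  change MorphismProperty.isomorphisms Scheme d
  rw [IsZariskiLocalAtTarget.iff_of_iSup_eq_top (P := MorphismProperty.isomorphisms Scheme)
    (fun U : Y.affineOpens => (U : Y.Opens)) (iSup_affineOpens_eq_top Y)]
  intro U
  change IsIso (d ∣_ (U : Y.Opens))
  rw [isIso_morphismRestrict_iff_isIso_app d U.2]
  rw [ConcreteCategory.isIso_iff_bijective]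
  by_cases hne : Nonempty (U : Y.Opens)
  · have hξ : genericPoint Y ∈ (U : Y.Opens) :=
      ((genericPoint_spec Y).mem_open_set_iff U.1.isOpen).mpr (by simpa using hne)
    have hξ' : d (genericPoint X') ∈ (U : Y.Opens) := hgen ▸ hξ
    letI : Algebra Γ(Y, (U : Y.Opens)) (Y.presheaf.stalk (d (genericPoint X'))) :=
      (Y.presheaf.germ U _ hξ').hom.toAlgebra
    haveI := isFractionRing_stalk_of_eq_genericPoint U.1 U.2 _ hgen hξ'
    haveI := isIntegrallyClosed_sections_of_isNormalScheme hY U.1 U.2
    letI : Field (Y.presheaf.stalk (d (genericPoint X'))) :=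
      (isField_stalk_of_eq_genericPoint' _ hgen).toField
    haveI : IsDomain Γ(Y, (U : Y.Opens)) := inferInstance
    refine bijective_of_isIntegral_of_birational (KB := Y.presheaf.stalk (d (genericPoint X')))
      (KC := X'.presheaf.stalk (genericPoint X'))
      (d.app U).hom (IsIntegralHom.isIntegral_app d U U.2)
      (X'.presheaf.germ (d ⁻¹ᵁ U) (genericPoint X') hξ').hom
      (germ_injective_of_isIntegral _ _ _)
      (d.stalkMap (genericPoint X')).hom hiso ?_
    have := Scheme.Hom.germ_stalkMap d U (genericPoint X') hξ'
    exact congr(($this).hom)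
  · have hU : (U : Y.Opens) = ⊥ := by
      rw [not_nonempty_iff] at hne
      ext x
      simp only [TopologicalSpace.Opens.coe_bot, Set.mem_empty_iff_false, iff_false]
      intro hx
      exact hne.false ⟨x, hx⟩
    have h2 : d ⁻¹ᵁ (U : Y.Opens) = ⊥ := by rw [hU]; rfl
    have h1 : Subsingleton Γ(Y, (U : Y.Opens)) := by
      rw [hU]; infer_instance
    have h3 : Subsingleton Γ(X', d ⁻¹ᵁ (U : Y.Opens)) := by
      rw [h2]; infer_instance
    exact ⟨fun a b _ => Subsingleton.elim a b, fun c => ⟨0, Subsingleton.elim _ _⟩⟩

/-- Variant of `isIso_of_isIntegralHom_of_birational` with a free point `x' = genericPoint X'`. -/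
theorem isIso_of_isIntegralHom_of_birational' {X' Y : Scheme.{u}} [IsIntegral X'] [IsIntegral Y]
    (hY : Pi1.IsNormalScheme Y) (d : X' ⟶ Y) [IsIntegralHom d] (x' : X')
    (hx' : x' = genericPoint X') (hgen : d x' = genericPoint Y)
    (hiso : Function.Bijective (d.stalkMap x').hom) : IsIso d := by
  subst hx'
  exact isIso_of_isIntegralHom_of_birational hY d hgen hiso

/-- Two-out-of-three for generic stalks: if `(s ≫ g)` induces a bijection on stalks at `x` and
`s x` is the generic point of the integral scheme `B`, then `g` induces a bijection on stalks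
at `s x`. -/
theorem bijective_stalkMap_of_comp {A B C : Scheme.{u}} (s : A ⟶ B) (g : B ⟶ C) [IsIntegral B]
    (x : A) (hx : s x = genericPoint B)
    (h : Function.Bijective ((s ≫ g).stalkMap x).hom) :
    Function.Bijective (g.stalkMap (s x)).hom := by
  have key : ∀ c, ((s ≫ g).stalkMap x).hom c =
      (s.stalkMap x).hom ((g.stalkMap (s x)).hom c) := fun c => by
    rw [Scheme.Hom.stalkMap_comp]; rfl
  have hfield : IsField (B.presheaf.stalk (s x)) := isField_stalk_of_eq_genericPoint' _ hx
  letI := hfield.toField
  have hinj : Function.Injective (s.stalkMap x).hom := RingHom.injective _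
  refine ⟨fun a b hab => h.1 ?_, fun c => ?_⟩
  · rw [key, key]
    exact congrArg _ hab
  · obtain ⟨b, hb⟩ := h.2 ((s.stalkMap x).hom c)
    rw [key] at hb
    exact ⟨b, hinj hb⟩

/-- A normal irreducible scheme is integral. -/
theorem isIntegral_of_isNormalScheme {Y : Scheme.{u}} (hY : Pi1.IsNormalScheme Y)
    [IrreducibleSpace Y] : IsIntegral Y := by
  haveI : IsReduced Y := by
    haveI : ∀ y : Y, _root_.IsReduced (Y.presheaf.stalk y) := fun y => by
      haveI := (hY y).1
      infer_instance
    exact isReduced_of_isReduced_stalk Y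
  exact isIntegral_of_irreducibleSpace_of_isReduced Y

/-- The stalk map of `X.fromSpecStalk x` at the closed point is bijective. -/
theorem bijective_stalkMap_fromSpecStalk_closedPoint (X : Scheme.{u}) (x : X) :
    Function.Bijective ((X.fromSpecStalk x).stalkMap (IsLocalRing.closedPoint _)).hom := by
  have h1 : IsIso (Scheme.stalkClosedPointTo (X.fromSpecStalk x)) := by
    rw [Scheme.stalkClosedPointTo_fromSpecStalk]; infer_instance
  have h2 : (X.fromSpecStalk x).stalkMap (IsLocalRing.closedPoint _) =
      Scheme.stalkClosedPointTo (X.fromSpecStalk x) ≫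
        (stalkClosedPointIso (X.presheaf.stalk x)).inv := by
    rw [Scheme.stalkClosedPointTo, Category.assoc, Iso.hom_inv_id, Category.comp_id]
  have h3 : IsIso ((X.fromSpecStalk x).stalkMap (IsLocalRing.closedPoint _)) := by
    rw [h2]; infer_instance
  exact (ConcreteCategory.isIso_iff_bijective _).mp h3

end Groth.Agent.Lib.Helper7.BiratIso
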