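import Groth.Agent.Lib.Helper7.NilFree
import Mathlib

/-!
# Lifting projectivity along a nilpotent ideal (Eilenberg swindle)

* `flat_prod`: a product of two flat modules is flat.
* `exists_swindle`: for `P` projective there is a free module `L` with `P × L ≃ L`.
* `projective_of_isNilpotent_of_flat_family`: `J` nilpotent, `M/JM` projective over `A/J`, and a
  jointly injective family of `A`-algebras `B i` with `B i ⊗ M` flat ⟹ `M` projective.
-/

set_option autoImplicit false
universe u v w

namespace Groth.Agent.Lib.Helper7.NilProj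

open TensorProduct Function

section flatprod

variable {R : Type*} [CommRing R] {M N : Type*} [AddCommGroup M] [Module R M]
  [AddCommGroup N] [Module R N]

theorem flat_prod [Module.Flat R M] [Module.Flat R N] : Module.Flat R (M × N) := by
  rw [Module.Flat.iff_lTensor_injective']
  intro I
  have hM : Injective (LinearMap.lTensor M I.subtype) :=
    Module.Flat.lTensor_preserves_injective_linearMap _ I.subtype_injective
  have hN : Injective (LinearMap.lTensor N I.subtype) :=
    Module.Flat.lTensor_preserves_injective_linearMap _ I.subtype_injective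
  have hcomm : ∀ z : (M × N) ⊗[R] I,
      TensorProduct.prodLeft R R M N R (LinearMap.lTensor (M × N) I.subtype z) =
        (LinearMap.prodMap (LinearMap.lTensor M I.subtype) (LinearMap.lTensor N I.subtype))
          (TensorProduct.prodLeft R R M N I z) := by
    intro z
    induction z using TensorProduct.induction_on with
    | zero => simp only [map_zero]
    | add x y hx hy => simp only [map_add, hx, hy]
    | tmul mn a =>
      obtain ⟨m, n⟩ := mn
      simp only [LinearMap.lTensor_tmul, TensorProduct.prodLeft_tmul, LinearMap.prodMap_apply]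
  intro x y hxy
  have h1 := congrArg (TensorProduct.prodLeft R R M N R) hxy
  rw [hcomm, hcomm] at h1
  have hinj : Injective (LinearMap.prodMap (LinearMap.lTensor M I.subtype)
      (LinearMap.lTensor N I.subtype)) := by
    rw [LinearMap.coe_prodMap]
    exact Prod.map_injective.mpr ⟨hM, hN⟩
  exact (TensorProduct.prodLeft R R M N I).injective (hinj h1)

end flatprod

section swindle

variable {R : Type u} [CommRing R] (P : Type v) [AddCommGroup P] [Module R P]

/-- A projective module is a direct summand of a free module. -/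
theorem exists_complement [Module.Projective R P] :
    ∃ (Q : Type (max u v)) (_ : AddCommGroup Q) (_ : Module R Q),
      Nonempty ((P × Q) ≃ₗ[R] (P →₀ R)) := by
  obtain ⟨s, hs⟩ := Module.projective_def'.mp (inferInstance : Module.Projective R P)
  set π : (P →₀ R) →ₗ[R] P := Finsupp.linearCombination R id with hπ
  have hs' : ∀ p, π (s p) = p := fun p => LinearMap.congr_fun hs p
  refine ⟨LinearMap.ker π, inferInstance, inferInstance, ⟨?_⟩⟩
  refine LinearEquiv.ofBijective (LinearMap.coprod s (LinearMap.ker π).subtype) ⟨?_, ?_⟩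
  · rw [injective_iff_map_eq_zero]
    rintro ⟨p, k⟩ h
    rw [LinearMap.coprod_apply, Submodule.subtype_apply] at h
    have h1 := congrArg π h
    rw [map_add, hs', map_zero, LinearMap.mem_ker.mp k.2, add_zero] at h1
    subst h1
    rw [map_zero, zero_add] at h
    have : k = 0 := Subtype.ext h
    rw [this]
    rfl
  · intro x
    refine ⟨(π x, ⟨x - s (π x), ?_⟩), ?_⟩
    · rw [LinearMap.mem_ker, map_sub, hs', sub_self]
    · rw [LinearMap.coprod_apply, Submodule.subtype_apply]
      exact add_sub_cancel _ _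

variable (R) in
/-- `ℕ →₀ P ≃ P × (ℕ →₀ P)`. -/
noncomputable def shiftEquiv : (ℕ →₀ P) ≃ₗ[R] P × (ℕ →₀ P) :=
  (Finsupp.domLCongr Equiv.natSumPUnitEquivNat.{0}.symm) ≪≫ₗ
    (Finsupp.sumFinsuppLEquivProdFinsupp R) ≪≫ₗ
    (LinearEquiv.prodCongr (LinearEquiv.refl R _)
      (Finsupp.uniqueLinearEquiv R P PUnit.unit.{1})) ≪≫ₗ
    (LinearEquiv.prodComm R _ _)

variable (R) in
/-- `ℕ →₀ (P × Q) ≃ (ℕ →₀ P) × (ℕ →₀ Q)`. -/
noncomputable def splitEquiv (Q : Type w) [AddCommGroup Q] [Module R Q] :
    (ℕ →₀ (P × Q)) ≃ₗ[R] (ℕ →₀ P) × (ℕ →₀ Q) :=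
  LinearEquiv.ofLinearMap
    (LinearMap.prod (Finsupp.mapRange.linearMap (LinearMap.fst R P Q))
      (Finsupp.mapRange.linearMap (LinearMap.snd R P Q)))
    (LinearMap.coprod (Finsupp.mapRange.linearMap (LinearMap.inl R P Q))
      (Finsupp.mapRange.linearMap (LinearMap.inr R P Q)))
    (by
      apply LinearMap.ext
      rintro ⟨a, b⟩
      apply Prod.ext
      · ext n
        simp
      · ext n
        simp)
    (by
      apply LinearMap.ext
      intro g
      ext n
      · simp
      · simp)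

/-- Eilenberg swindle: for `P` projective there is a free module `L = Y →₀ R` with
`P × L ≃ L`. -/
theorem exists_swindle [Module.Projective R P] :
    ∃ Y : Type v, Nonempty ((P × (Y →₀ R)) ≃ₗ[R] (Y →₀ R)) := by
  obtain ⟨Q, _, _, ⟨e₀⟩⟩ := exists_complement (R := R) P
  -- `T = ℕ →₀ (P →₀ R)`
  let eT : (ℕ →₀ (P →₀ R)) ≃ₗ[R] (ℕ →₀ P) × (ℕ →₀ Q) :=
    (Finsupp.mapRange.linearEquiv e₀.symm) ≪≫ₗ splitEquiv R P Q
  let e1 : (P × (ℕ →₀ (P →₀ R))) ≃ₗ[R] (ℕ →₀ (P →₀ R)) :=
    (LinearEquiv.prodCongr (LinearEquiv.refl R P) eT) ≪≫ₗ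
      (LinearEquiv.prodAssoc R P (ℕ →₀ P) (ℕ →₀ Q)).symm ≪≫ₗ
      (LinearEquiv.prodCongr (shiftEquiv R P).symm (LinearEquiv.refl R (ℕ →₀ Q))) ≪≫ₗ eT.symm
  let e2 : ((ℕ × P) →₀ R) ≃ₗ[R] (ℕ →₀ (P →₀ R)) := Finsupp.curryLinearEquiv R
  exact ⟨ℕ × P, ⟨(LinearEquiv.prodCongr (LinearEquiv.refl R P) e2) ≪≫ₗ e1 ≪≫ₗ e2.symm⟩⟩

end swindle

section main

open Groth.Agent.Lib.Helper7.NilFree

variable {A : Type u} [CommRing A] (J : Ideal A) (M : Type u) [AddCommGroup M] [Module A M]

/-- `B ⊗ (M × L)` is flat over `B` when `B ⊗ M` is and `L` is free. -/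
theorem flat_baseChange_prod_finsupp (B : Type*) [CommRing B] [Algebra A B] (Y : Type*)
    [Module.Flat B (B ⊗[A] M)] : Module.Flat B (B ⊗[A] (M × (Y →₀ A))) := by
  haveI : Module.Free B (B ⊗[A] (Y →₀ A)) :=
    Module.Free.of_basis ((Finsupp.basisSingleOne (R := A) (ι := Y)).baseChange B)
  haveI : Module.Flat B ((B ⊗[A] M) × (B ⊗[A] (Y →₀ A))) := flat_prod
  exact Module.Flat.of_linearEquiv (TensorProduct.prodRight A B B M (Y →₀ A))

/-- **Lifting projectivity.** `J` nilpotent, `M/JM` projective over `A/J`, and a jointly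
injective family of `A`-algebras `B i` such that every `B i ⊗ M` is flat over `B i`.
Then `M` is projective over `A`. -/
theorem projective_of_isNilpotent_of_flat_family (hJ : IsNilpotent J)
    [Module.Projective (A ⧸ J) ((A ⧸ J) ⊗[A] M)]
    {ι : Type*} (B : ι → Type*) [∀ i, CommRing (B i)] [∀ i, Algebra A (B i)]
    (hB : ∀ a : A, (∀ i, algebraMap A (B i) a = 0) → a = 0)
    (hflat : ∀ i, Module.Flat (B i) (B i ⊗[A] M)) : Module.Projective A M := by
  classical
  obtain ⟨Y, ⟨esw⟩⟩ := exists_swindle (R := A ⧸ J) ((A ⧸ J) ⊗[A] M)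
  -- `M₁ = M × (Y →₀ A)` is free modulo `J`
  let e1 : ((A ⧸ J) ⊗[A] (M × (Y →₀ A))) ≃ₗ[A ⧸ J] (Y →₀ (A ⧸ J)) :=
    (TensorProduct.prodRight A (A ⧸ J) (A ⧸ J) M (Y →₀ A)) ≪≫ₗ
      (LinearEquiv.prodCongr (LinearEquiv.refl (A ⧸ J) _)
        ((Finsupp.basisSingleOne (R := A) (ι := Y)).baseChange (A ⧸ J)).repr) ≪≫ₗ esw
  haveI : Module.Free (A ⧸ J) ((A ⧸ J) ⊗[A] (M × (Y →₀ A))) := Module.Free.of_equiv e1.symm
  let b := Module.Free.chooseBasis (A ⧸ J) ((A ⧸ J) ⊗[A] (M × (Y →₀ A)))
  obtain ⟨m, hm⟩ := exists_lift_basis J b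
  have hbij := bijective_baseChange_linearCombination J m b hm
  have hsurj := surjective_of_baseChange_surjective J hJ _ hbij.2
  have hR₀ : contentIdeal (A := A) m = ⊥ := by
    rw [eq_bot_iff]
    intro a ha
    rw [Ideal.mem_bot]
    apply hB
    intro i
    haveI := hflat i
    haveI : Module.Flat (B i) (B i ⊗[A] (M × (Y →₀ A))) := flat_baseChange_prod_finsupp M (B i) Y
    have h1 := map_contentIdeal_eq_bot_of_flat J m hJ hbij (B i)
    have h2 : algebraMap A (B i) a ∈ (contentIdeal (A := A) m).map (algebraMap A (B i)) :=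
      Ideal.mem_map_of_mem _ ha
    rw [h1] at h2
    exact h2
  haveI : Module.Free A (A ⊗[A] (M × (Y →₀ A))) :=
    free_baseChange_of_map_contentIdeal_eq_bot m hsurj A (by rw [hR₀]; exact Ideal.map_bot)
  haveI : Module.Free A (M × (Y →₀ A)) := Module.Free.of_equiv (TensorProduct.lid A _)
  exact Module.Projective.of_split (LinearMap.inl A M (Y →₀ A)) (LinearMap.fst A M (Y →₀ A))
    (by ext; simp)

/-- `J` nilpotent, `M` flat and `M/JM` projective over `A/J` ⟹ `M` projective. -/
theorem projective_of_isNilpotent_of_flat (hJ : IsNilpotent J) [Module.Flat A M]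
    [Module.Projective (A ⧸ J) ((A ⧸ J) ⊗[A] M)] : Module.Projective A M :=
  projective_of_isNilpotent_of_flat_family J M hJ (fun _ : Unit => A) (fun _ h => h ())
    (fun _ => inferInstance)

end main

end Groth.Agent.Lib.Helper7.NilProj
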