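import Groth.Agent.Lib.Helper37.Hz61
import Groth.Agent.Lib.Helper69.GUTransport

/-!
# Local rings ind-étale over algebras with geometrically unibranch normalization (helper7)

Variants of `Hz59` (helper37) where "normal" is weakened to "all local rings geometrically unibranch"
and the conclusion "domain" to "the nilradical is prime".
-/

set_option autoImplicit false
set_option maxHeartbeats 400000
set_option linter.style.haveILetI false
set_option linter.unusedSectionVars false
universe u

open TensorProduct IsLocalRing

namespace Groth.Agent.Lib.Helper7.BrBC

open Groth.Agent.Lib.Helper4 Groth.Agent.Lib.Helper37.Hz Groth.Agent.Lib.Helper37.Hz.SmoothBr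

theorem nilradical_isPrime_of_injective {R S : Type*} [CommRing R] [CommRing S] (f : R →+* S)
    (hf : Function.Injective f) (h : (nilradical S).IsPrime) : (nilradical R).IsPrime := by
  have h1 : nilradical R = (nilradical S).comap f := by
    ext x
    rw [Ideal.mem_comap, mem_nilradical, mem_nilradical]
    exact (IsNilpotent.map_iff hf).symm
  rw [h1]
  haveI := h
  exact Ideal.comap_isPrime f _

/-- All local rings of `N` are geometrically unibranch. -/
def AllGU (N : Type u) [CommRing N] : Prop :=
  ∀ (n : Ideal N) [n.IsPrime], CAlg2.IsGeomUnibranch (Localization.AtPrime n)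

theorem AllGU.of_ringEquiv {N N' : Type u} [CommRing N] [CommRing N'] (e : N ≃+* N')
    (h : AllGU N') : AllGU N := by
  intro n hn
  let n' : Ideal N' := n.comap (e.symm : N' →+* N)
  haveI : n'.IsPrime := Ideal.comap_isPrime _ _
  have hmap : n.primeCompl.map (e : N →* N') = n'.primeCompl := by
    ext y
    constructor
    · rintro ⟨x, hx, rfl⟩
      change e x ∉ n'
      intro hmem
      apply hx
      have : e.symm (e x) ∈ n := hmem
      simpa using this
    · intro hy
      refine ⟨e.symm y, ?_, by simp⟩
      exact hy
  let φ : Localization.AtPrime n ≃+* Localization.AtPrime n' :=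
    IsLocalization.ringEquivOfRingEquiv (Localization.AtPrime n) (Localization.AtPrime n') e hmap
  exact (Groth.Agent.Lib.Helper69.GUTransport.isGeomUnibranch_iff_of_ringEquiv φ).mpr (h n')

/-- A local ring ind-étale over a ring all of whose local rings are geometrically unibranch has prime
nilradical. -/
theorem nilradical_isPrime_of_hasFactorization (N E : Type u) [CommRing N] [CommRing E]
    [IsLocalRing E] [Algebra N E]
    (hN : AllGU N)
    (hW : HasFactorization (etaleClass N) E) : (nilradical E).IsPrime := by
  classical
  let n : Ideal N := (maximalIdeal E).comap (algebraMap N E)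
  haveI hnprime : n.IsPrime := Ideal.comap_isPrime _ _
  have hunit : ∀ s : n.primeCompl, IsUnit (algebraMap N E s) := by
    intro s
    by_contra h
    exact s.2 ((mem_maximalIdeal _).mpr h)
  letI : Algebra (Localization.AtPrime n) E :=
    (IsLocalization.lift (M := n.primeCompl) (g := algebraMap N E) hunit).toAlgebra
  haveI : IsScalarTower N (Localization.AtPrime n) E :=
    IsScalarTower.of_algebraMap_eq' (IsLocalization.lift_comp _).symm
  haveI : IsLocalHom (algebraMap (Localization.AtPrime n) E) := by
    refine isLocalHom_of_atPrime n _ fun r hr => ?_
    rw [← IsScalarTower.algebraMap_apply N (Localization.AtPrime n) E]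
    exact hr
  have hfac : HasFactorization (etaleClass (Localization.AtPrime n)) E :=
    hasFactorization_of_isLocalization_base N n.primeCompl (Localization.AtPrime n) E hW
  letI : Algebra (Localization.AtPrime n) (SHens E) :=
    ((algebraMap E (SHens E)).comp (algebraMap (Localization.AtPrime n) E)).toAlgebra
  haveI : IsScalarTower (Localization.AtPrime n) E (SHens E) := IsScalarTower.of_algebraMap_eq' rfl
  haveI : IsLocalHom (algebraMap (Localization.AtPrime n) (SHens E)) := by
    change IsLocalHom ((algebraMap E (SHens E)).comp (algebraMap (Localization.AtPrime n) E))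
    infer_instance
  have hE1 : EtPBC.IsIndEtale (Localization.AtPrime n) E :=
    (isIndEtale_iff_hasFactorization E).mpr hfac
  have hE2 : HasFactorization (etaleClass E) (SHens E) :=
    (isIndEtale_iff_hasFactorization _).mp (isIndEtale_of_isStrictHenselization E (SHens E))
  have hfac2 : HasFactorization (etaleClass (Localization.AtPrime n)) (SHens E) :=
    hasFactorization_trans _ E (SHens E) hE1 hE2
  haveI hT : Hensel.IsStrictHenselization E (SHens E) := inferInstance
  haveI hh : HenselianLocalRing (SHens E) := hT.henselian
  haveI := hT.isSepClosure
  haveI : Algebra.IsSeparable (ResidueField (Localization.AtPrime n)) (ResidueField (SHens E)) :=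
    isSeparable_residueField_of_hasFactorization (Localization.AtPrime n) (SHens E) hfac2
  haveI : Hensel.IsStrictHenselization (Localization.AtPrime n) (SHens E) :=
    isStrictHenselization_of_hasFactorization (Localization.AtPrime n) (SHens E) hfac2 hh
      ⟨IsSepClosure.sep_closed (ResidueField E), inferInstance⟩
  have h1 : (nilradical (SHens E)).IsPrime :=
    (Unibranch.isGeomUnibranch_iff_nilradical_isPrime (Localization.AtPrime n) (SHens E)).mp (hN n)
  haveI : Module.FaithfullyFlat E (SHens E) := faithfullyFlat_of_isStrictHenselization _ _
  exact nilradical_isPrime_of_injective (algebraMap E (SHens E))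
    (FaithfulSMul.algebraMap_injective E (SHens E)) h1

section Generic

variable (Y T N : Type u) [CommRing Y] [CommRing T] [IsLocalRing T] [Algebra Y T]
  [CommRing N] [Algebra Y N]

/-- Generic form: `T` local ind-étale over `Y`, `N` a `Y`-algebra all of whose local rings are
geometrically unibranch, with `Y → N` injective and `N ⊗_Y T` local: then the nilradical of `T` is
prime. -/
theorem nilradical_isPrime_of_isLocalRing_tensor_generic
    (hN : AllGU N)
    (hinj : Function.Injective (algebraMap Y N)) (hT : HasFactorization (etaleClass Y) T)
    (hloc : IsLocalRing (N ⊗[Y] T)) : (nilradical T).IsPrime := by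
  have hind : EtPBC.IsIndEtale Y T := (isIndEtale_iff_hasFactorization T).mpr hT
  have hW : HasFactorization (etaleClass N) (N ⊗[Y] T) :=
    (isIndEtale_iff_hasFactorization _).mp (Groth.Agent.S0733.result Y T N hind)
  haveI : Algebra.WeaklyEtale Y T := Groth.Agent.S0736.result Y T hind
  haveI : Module.Flat Y T := Algebra.WeaklyEtale.flat
  have hinjT : Function.Injective
      (Algebra.TensorProduct.includeRight : T →ₐ[Y] N ⊗[Y] T) :=
    Algebra.TensorProduct.includeRight_injective (R := Y) (A := N) (B := T) hinj
  haveI := hloc
  have hE : (nilradical (N ⊗[Y] T)).IsPrime :=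
    nilradical_isPrime_of_hasFactorization N _ hN hW
  exact nilradical_isPrime_of_injective
    (Algebra.TensorProduct.includeRight : T →ₐ[Y] N ⊗[Y] T).toRingHom hinjT hE

end Generic

end Groth.Agent.Lib.Helper7.BrBC
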