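import Mathlib
import Groth.Agent.Lib.Helper7.FibBr2

/-!
# Branch numbers of a quotient local ring via minimal primes over the extended ideal (helper7)
-/

set_option autoImplicit false
set_option maxHeartbeats 400000
universe u

namespace Groth.Agent.Lib.Helper7.FibBr

open IsLocalRing
open Groth.Agent.Lib.Helper4 Groth.Agent.Lib.Helper37.Hz

variable (A : Type u) [CommRing A] [IsLocalRing A] (I : Ideal A)
  (B' : Type u) [CommRing B'] [IsLocalRing B']
  (T : Type u) [CommRing T] [IsLocalRing T] [Algebra A T] [IsLocalHom (algebraMap A T)]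

theorem isLocalHom_ringEquiv {R R' : Type*} [CommRing R] [CommRing R'] (e : R ≃+* R') :
    IsLocalHom (e : R →+* R') := by
  constructor
  intro a ha
  have := ha.map (e.symm : R' →+* R)
  simpa using this

/-- The geometric branch number of `B' ≃ A ⧸ I` is the number of minimal primes over `I T` for
any strict henselization `T` of `A`. -/
theorem numGeomBranches_eq_card' [Hensel.IsStrictHenselization A T] (hI : I ≤ maximalIdeal A)
    (e : A ⧸ I ≃+* B') :
    Brnch.numGeomBranches B' = ENat.card ((I.map (algebraMap A T)).minimalPrimes) := by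
  haveI : IsLocalRing (A ⧸ I) := isLocalRing_quotient A I hI
  haveI : IsLocalRing (T ⧸ I.map (algebraMap A T)) :=
    isLocalRing_quotient T _ (map_le_maximalIdeal A I T hI)
  haveI := isLocalHom_quotient A I T hI
  haveI hq : Hensel.IsStrictHenselization (A ⧸ I) (T ⧸ I.map (algebraMap A T)) :=
    isStrictHenselization_quotient A I T
  have h1 := Branches.card_minimalPrimes_eq_numGeomBranches (A ⧸ I)
    (T ⧸ I.map (algebraMap A T))
  let _ : Algebra (A ⧸ I) B' := (e : A ⧸ I →+* B').toAlgebra
  haveI hloc1 : IsLocalHom (algebraMap (A ⧸ I) B') := isLocalHom_ringEquiv e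
  haveI : Algebra.Etale (A ⧸ I) B' :=
    Algebra.Etale.of_equiv (AlgEquiv.ofRingEquiv (f := e) (fun x => rfl))
  let _ : Algebra (A ⧸ I) (SHens B') :=
    ((algebraMap B' (SHens B')).comp (e : A ⧸ I →+* B')).toAlgebra
  haveI : IsScalarTower (A ⧸ I) B' (SHens B') := IsScalarTower.of_algebraMap_eq (fun _ => rfl)
  haveI hloc2 : IsLocalHom (algebraMap (A ⧸ I) (SHens B')) := by
    change IsLocalHom ((algebraMap B' (SHens B')).comp (e : A ⧸ I →+* B'))
    haveI := isLocalHom_ringEquiv e
    infer_instance
  haveI h2 : Hensel.IsStrictHenselization (A ⧸ I) (SHens B') :=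
    Groth.Agent.Lib.Helper98.WEStrictHens.isStrictHenselization_of_weaklyEtale (A ⧸ I) B'
      (SHens B')
  have h3 := Branches.card_minimalPrimes_eq_numGeomBranches (A ⧸ I) (SHens B')
  have h4 := Branches.card_minimalPrimes_eq_numGeomBranches B' (SHens B')
  rw [← h4, h3, ← h1, card_minimalPrimes_quotient]

theorem numGeomBranches_eq_card (hI : I ≤ maximalIdeal A) (e : A ⧸ I ≃+* B') :
    Brnch.numGeomBranches B' =
      ENat.card ((I.map (algebraMap A (SHens A))).minimalPrimes) :=
  numGeomBranches_eq_card' A I B' (SHens A) hI e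

/-- The branch number of `B' ≃ A ⧸ I` is the number of minimal primes over `I T` for
any henselization `T` of `A`. -/
theorem numBranches_eq_card' [Hensel.IsHenselization A T] (hI : I ≤ maximalIdeal A)
    (e : A ⧸ I ≃+* B') :
    Brnch.numBranches B' = ENat.card ((I.map (algebraMap A T)).minimalPrimes) := by
  haveI : IsLocalRing (A ⧸ I) := isLocalRing_quotient A I hI
  haveI : IsLocalRing (T ⧸ I.map (algebraMap A T)) :=
    isLocalRing_quotient T _ (map_le_maximalIdeal A I T hI)
  haveI := isLocalHom_quotient A I T hI
  haveI hq : Hensel.IsHenselization (A ⧸ I) (T ⧸ I.map (algebraMap A T)) :=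
    Groth.Agent.S13598.result I hI
  have h1 := Branches.card_minimalPrimes_eq_numBranches (A ⧸ I)
    (T ⧸ I.map (algebraMap A T))
  let _ : Algebra (A ⧸ I) (Hens B') :=
    ((algebraMap B' (Hens B')).comp (e : A ⧸ I →+* B')).toAlgebra
  haveI hloc2 : IsLocalHom (algebraMap (A ⧸ I) (Hens B')) := by
    change IsLocalHom ((algebraMap B' (Hens B')).comp (e : A ⧸ I →+* B'))
    haveI := isLocalHom_ringEquiv e
    infer_instance
  haveI h2 : Hensel.IsHenselization (A ⧸ I) (Hens B') :=
    isHenselization_of_ringEquiv (A ⧸ I) B' (Hens B') e rfl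
  have h3 := Branches.card_minimalPrimes_eq_numBranches (A ⧸ I) (Hens B')
  have h4 := Branches.card_minimalPrimes_eq_numBranches B' (Hens B')
  rw [← h4, h3, ← h1, card_minimalPrimes_quotient]

theorem numBranches_eq_card (hI : I ≤ maximalIdeal A) (e : A ⧸ I ≃+* B') :
    Brnch.numBranches B' =
      ENat.card ((I.map (algebraMap A (Hens A))).minimalPrimes) :=
  numBranches_eq_card' A I B' (Hens A) hI e

/-- The number of minimal primes of a local ring is at most its geometric branch number. -/
theorem card_minimalPrimes_le_numGeomBranches :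
    ENat.card (minimalPrimes B') ≤ Brnch.numGeomBranches B' := by
  have h1 := Branches.card_minimalPrimes_eq_numGeomBranches B' (SHens B')
  haveI : Module.FaithfullyFlat B' (SHens B') := faithfullyFlat_of_isStrictHenselization _ _
  have h2 := Compare.card_minimalPrimes_le_of_faithfullyFlat B' (SHens B')
  rwa [h1] at h2

/-- The number of minimal primes of a local ring is at most its branch number. -/
theorem card_minimalPrimes_le_numBranches :
    ENat.card (minimalPrimes B') ≤ Brnch.numBranches B' := by
  have h1 := Branches.card_minimalPrimes_eq_numBranches B' (Hens B')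
  haveI : Module.FaithfullyFlat B' (Hens B') := faithfullyFlat_of_isHenselization _ _
  have h2 := Compare.card_minimalPrimes_le_of_faithfullyFlat B' (Hens B')
  rwa [h1] at h2

end Groth.Agent.Lib.Helper7.FibBr
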