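import Groth.Agent.S9753
import Groth.Agent.Lib.Helper7.FibBr3
import Groth.Agent.Lib.Helper7.BrBC1
import Groth.Agent.Lib.Helper97.GeomUni
import Groth.Agent.Lib.Helper51.AlgSpEtStalkRed
import Groth.Agent.Lib.Helper37.Hz39
import Groth.Agent.Lib.Helper37.Hz43

/-!
# Branches of algebraic spaces at a point via étale charts (helper7)

* `numGeomBranchesAt_le_of_charts`: if all charts over `x` have at most `n` minimal primes, every
  chart over `x` has at most `n` geometric branches.
* `card_minimalPrimes_le_numGeomBranchesAt_chart`: an étale neighbourhood of a chart has at most as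
  many minimal primes as the chart has geometric branches.
-/

set_option autoImplicit false
set_option maxHeartbeats 400000
set_option linter.unusedSectionVars false
universe u

open CategoryTheory CategoryTheory.Limits AlgebraicGeometry Opposite

namespace Groth.Agent.Lib.Helper7.AlgSpBr

open AlgSp Groth.Agent.Lib.Helper52 Groth.Agent.Lib.Helper51 Groth.Agent.Lib.Helper37.Hz

variable {S : Scheme.{u}} {X : AlgSp.Sp S}

/-- The chart obtained from an étale morphism to a chart. -/
noncomputable def etOver (U : Over S) {U' : Scheme.{u}} (g : U' ⟶ U.left) : Over S :=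
  Over.mk (g ≫ U.hom)

noncomputable def etOverHom (U : Over S) {U' : Scheme.{u}} (g : U' ⟶ U.left) : etOver U g ⟶ U :=
  Over.homMk g rfl

theorem repWith_etOver {U : Over S} (a : (AlgSp.yon S).obj U ⟶ X) (ha : AlgSp.RepWith @Etale a)
    {U' : Scheme.{u}} (g : U' ⟶ U.left) (hg : Etale g) :
    AlgSp.RepWith @Etale ((AlgSp.yon S).map (etOverHom U g) ≫ a) :=
  repWith_etale_yon_map_comp (etOverHom U g) hg a ha

theorem ofPt_etOver {U : Over S} (a : (AlgSp.yon S).obj U ⟶ X)
    {U' : Scheme.{u}} (g : U' ⟶ U.left) (u' : U') :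
    Points.ofPt ((AlgSp.yon S).map (etOverHom U g) ≫ a) (u' : ↥(etOver U g).left) =
      Points.ofPt a (g u') :=
  ofPt_yon_map_comp (etOverHom U g) a u'

/-- If every chart over `x` has at most `n` minimal primes in its local ring, every chart over `x`
has at most `n` geometric branches. -/
theorem numGeomBranchesAt_le_of_charts (x : AlgSp.Points X) (n : ℕ∞)
    (h : ∀ (U : Over S) (a : (AlgSp.yon S).obj U ⟶ X) (u : ↥U.left),
      AlgSp.RepWith @Etale a → AlgSp.Points.ofPt a u = x →
        ENat.card (minimalPrimes ↥(U.left.presheaf.stalk u)) ≤ n)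
    (U : Over S) (a : (AlgSp.yon S).obj U ⟶ X) (u : ↥U.left)
    (ha : AlgSp.RepWith @Etale a) (hu : AlgSp.Points.ofPt a u = x) :
    Brnch.numGeomBranchesAt U.left u ≤ n := by
  rw [Groth.Agent.S9753.result]
  refine iSup_le fun U' => iSup_le fun g => iSup_le fun u' => iSup_le fun hg => ?_
  obtain ⟨hg1, hg2⟩ := hg
  rw [BrCount.encard_eq_card_minimalPrimes]
  refine h (etOver U g) _ u' (repWith_etOver a ha g hg1) ?_
  rw [ofPt_etOver, hg2, hu]

/-- Minimal primes of the local ring of a chart are at most the geometric branches. -/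
theorem card_minimalPrimes_le_numGeomBranchesAt (U : Scheme.{u}) (u : U) :
    ENat.card (minimalPrimes ↥(U.presheaf.stalk u)) ≤ Brnch.numGeomBranchesAt U u :=
  FibBr.card_minimalPrimes_le_numGeomBranches _

theorem hasUniqueMinimalPrime_iff_card (A : Type*) [CommRing A] :
    CAlgX.HasUniqueMinimalPrime A ↔ ENat.card (minimalPrimes A) = 1 := by
  rw [ENat.card_eq_one_iff_unique]
  constructor
  · rintro ⟨P, hP, huniq⟩
    exact ⟨⟨⟨⟨P, hP⟩⟩, fun q => Subtype.ext (huniq q.1 q.2)⟩⟩
  · rintro ⟨hu⟩
    exact ⟨hu.default.1, hu.default.2, fun q hq => congrArg Subtype.val (hu.uniq ⟨q, hq⟩)⟩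

theorem hasUniqueMinimalPrime_of_isGeomUnibranch (A : Type u) [CommRing A] [IsLocalRing A]
    (h : CAlg2.IsGeomUnibranch A) : CAlgX.HasUniqueMinimalPrime A := by
  rw [← Unibranch.nilradical_isPrime_iff]
  have h1 : (nilradical (SHens A)).IsPrime :=
    (Unibranch.isGeomUnibranch_iff_nilradical_isPrime A (SHens A)).mp h
  haveI : Module.FaithfullyFlat A (SHens A) := faithfullyFlat_of_isStrictHenselization _ _
  exact Groth.Agent.Lib.Helper7.BrBC.nilradical_isPrime_of_injective (algebraMap A (SHens A))
    (FaithfulSMul.algebraMap_injective A (SHens A)) h1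

/-- (1) ⇒ (4): unique minimal prime on all charts over `x` gives geometrically unibranch on all
charts over `x`. -/
theorem isGeomUnibranch_of_charts (x : AlgSp.Points X)
    (h : ∀ (U : Over S) (a : (AlgSp.yon S).obj U ⟶ X) (u : ↥U.left),
      AlgSp.RepWith @Etale a → AlgSp.Points.ofPt a u = x →
        CAlgX.HasUniqueMinimalPrime ↥(U.left.presheaf.stalk u))
    (U : Over S) (a : (AlgSp.yon S).obj U ⟶ X) (u : ↥U.left)
    (ha : AlgSp.RepWith @Etale a) (hu : AlgSp.Points.ofPt a u = x) :
    CAlg2.IsGeomUnibranch ↥(U.left.presheaf.stalk u) := by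
  rw [← Groth.Agent.Lib.Helper97.GeomUni.numGeomBranches_eq_one_iff]
  apply le_antisymm
  · refine numGeomBranchesAt_le_of_charts x 1 (fun V b v hb hv => ?_) U a u ha hu
    exact ((hasUniqueMinimalPrime_iff_card _).mp (h V b v hb hv)).le
  · have h1 := (hasUniqueMinimalPrime_iff_card _).mp (h U a u ha hu)
    have h2 := card_minimalPrimes_le_numGeomBranchesAt U.left u
    rw [h1] at h2
    exact h2

end Groth.Agent.Lib.Helper7.AlgSpBr
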