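import Groth.Agent.Lib.Helper7.AlgSpBr1

/-!
# The étale local ring of an algebraic space and the nilradical of local rings of charts (helper7)
-/

set_option autoImplicit false
set_option maxHeartbeats 400000
set_option linter.unusedSectionVars false
universe u

open CategoryTheory CategoryTheory.Limits AlgebraicGeometry Opposite

set_option backward.isDefEq.respectTransparency false

namespace Groth.Agent.Lib.Helper7.AlgSpBr

open AlgSp Groth.Agent.Lib.Helper52 Groth.Agent.Lib.Helper51 Groth.Agent.Lib.Helper51.Hens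
  Groth.Agent.Lib.Helper37.Hz

/-- Ring-level: a localization `A` of `R` has prime nilradical if `R` maps to a ring `T` with prime
nilradical such that elements killed in `T` are killed in `A`. -/
theorem nilradical_isPrime_of_isLocalization {R A T : Type*} [CommRing R] [CommRing A] [CommRing T]
    [Algebra R A] (M : Submonoid R) [IsLocalization M A] [Nontrivial A] (φ : R →+* T)
    (hT : (nilradical T).IsPrime) (hφ : ∀ r, φ r = 0 → algebraMap R A r = 0) :
    (nilradical A).IsPrime := by
  have key : ∀ r : R, φ r ∈ nilradical T → algebraMap R A r ∈ nilradical A := by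
    intro r hr
    obtain ⟨j, hj⟩ := mem_nilradical.mp hr
    rw [← map_pow] at hj
    have := hφ _ hj
    rw [map_pow] at this
    exact mem_nilradical.mpr ⟨j, this⟩
  rw [Ideal.isPrime_iff]
  refine ⟨?_, ?_⟩
  · intro htop
    have h1 : (1 : A) ∈ nilradical A := by rw [htop]; trivial
    obtain ⟨n, hn⟩ := mem_nilradical.mp h1
    rw [one_pow] at hn
    exact one_ne_zero hn
  · intro x y hxy
    obtain ⟨a, s, rfl⟩ := IsLocalization.exists_mk'_eq M x
    obtain ⟨b, t, rfl⟩ := IsLocalization.exists_mk'_eq M y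
    rw [← IsLocalization.mk'_mul, IsLocalization.mk'_mem_iff] at hxy
    rw [IsLocalization.mk'_mem_iff, IsLocalization.mk'_mem_iff]
    obtain ⟨k, hk⟩ := mem_nilradical.mp hxy
    rw [← map_pow, IsLocalization.map_eq_zero_iff M] at hk
    obtain ⟨m, hm⟩ := hk
    have h0 : ((m : R) * a * b) ^ (k + 1) = 0 := by
      calc ((m : R) * a * b) ^ (k + 1) = (m : R) ^ k * (a * b) * ((m : R) * (a * b) ^ k) := by ring
        _ = 0 := by rw [hm, mul_zero]
    have h1 : φ ((m : R) * a) * φ b ∈ nilradical T := by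
      rw [← map_mul]
      exact mem_nilradical.mpr ⟨k + 1, by rw [← map_pow, h0, map_zero]⟩
    rcases hT.mem_or_mem h1 with h2 | h2
    · left
      have h3 := key _ h2
      rw [map_mul] at h3
      exact (Ideal.unit_mul_mem_iff_mem _ (IsLocalization.map_units A m)).mp h3
    · right
      exact key _ h2

variable {S : Scheme.{u}} {X : AlgSp.Sp S} (p : AlgSp.FieldPt X)

/-- a function whose germ in the Zariski local ring at the lifted point is nilpotent has nilpotent
germ in the étale local ring. -/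
theorem isNilpotent_germ_of_isNilpotent_stalk (N : AlgSp.EtNbhd p) (s : Γ(N.1.obj.left.left, ⊤))
    (hs : IsNilpotent (N.1.obj.left.left.presheaf.germ ⊤
      (N.2.1.left (IsLocalRing.closedPoint p.K)) (TopologicalSpace.Opens.mem_top _) s)) :
    IsNilpotent (germ p N s) := by
  have hmem : N.2.1.left (IsLocalRing.closedPoint p.K) ∈ (⊤ : N.1.obj.left.left.Opens) :=
    TopologicalSpace.Opens.mem_top _
  obtain ⟨m, hm⟩ := hs
  refine ⟨m, ?_⟩
  rw [← map_pow] at hm ⊢
  have hg' : N.1.obj.left.left.presheaf.germ ⊤ _ hmem (s ^ m) =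
      N.1.obj.left.left.presheaf.germ ⊤ _ hmem 0 := by
    rw [hm, map_zero]
  obtain ⟨W₀, hvW, iU, iV, hW⟩ :=
    TopCat.Presheaf.germ_eq N.1.obj.left.left.presheaf _ hmem hmem (s ^ m) 0 hg'
  rw [map_zero] at hW
  obtain ⟨W, rfl⟩ : ∃ W : N.1.obj.left.left.Opens, W = W₀ := ⟨W₀, rfl⟩
  apply germ_eq_zero_of_res_eq_zero p N W hvW (s ^ m)
  rw [Scheme.Opens.ι_appTop]
  have : (homOfLE (le_top : W.ι ''ᵁ ⊤ ≤ ⊤)).op =
      iU.op ≫ (homOfLE (show W.ι ''ᵁ ⊤ ≤ W by simp)).op := rfl
  rw [this, Functor.map_comp, CommRingCat.comp_apply, hW, map_zero]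

variable (hX : AlgSp.IsAlgSpace X) (hp : p.IsGeometric)

include hX hp in
/-- If the Zariski local rings of all étale neighbourhoods of `p` have prime nilradical, so does
the étale local ring at `p`. -/
theorem nilradical_isPrime_OEtStalk
    (h : ∀ N : AlgSp.EtNbhd p, (nilradical ↥(N.1.obj.left.left.presheaf.stalk
      (N.2.1.left (IsLocalRing.closedPoint p.K)))).IsPrime) :
    (nilradical ↥(AlgSp.OEtStalk p)).IsPrime := by
  haveI hloc : IsLocalRing ↥(AlgSp.OEtStalk p) := isLocalRing_OEtStalk p hX hp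
  haveI := isCofiltered_etNbhd hX p hp
  rw [Ideal.isPrime_iff]
  refine ⟨?_, ?_⟩
  · intro htop
    have h1 : (1 : ↥(AlgSp.OEtStalk p)) ∈ nilradical ↥(AlgSp.OEtStalk p) := by rw [htop]; trivial
    obtain ⟨n, hn⟩ := mem_nilradical.mp h1
    rw [one_pow] at hn
    exact one_ne_zero hn
  · intro r s hrs
    obtain ⟨N₁, a₁, rfl⟩ := exists_germ_eq p hX hp r
    obtain ⟨N₂, b₂, rfl⟩ := exists_germ_eq p hX hp s
    obtain ⟨n, hn⟩ := mem_nilradical.mp hrs
    let N₀ := IsCofiltered.min N₁ N₂
    let φ₁ : N₀ ⟶ N₁ := IsCofiltered.minToLeft N₁ N₂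
    let φ₂ : N₀ ⟶ N₂ := IsCofiltered.minToRight N₁ N₂
    rw [← germ_map p φ₁ a₁, ← germ_map p φ₂ b₂] at hn ⊢
    generalize φ₁.1.hom.left.left.appTop.hom a₁ = a at hn ⊢
    generalize φ₂.1.hom.left.left.appTop.hom b₂ = b at hn ⊢
    rw [← map_mul, ← map_pow, germ_eq_zero_iff p hX hp] at hn
    obtain ⟨N', ψ, hψ⟩ := hn
    rw [← germ_map p ψ a, ← germ_map p ψ b]
    rw [map_pow, map_mul] at hψ
    generalize ψ.1.hom.left.left.appTop.hom a = a' at hψ ⊢
    generalize ψ.1.hom.left.left.appTop.hom b = b' at hψ ⊢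
    have hmem : N'.2.1.left (IsLocalRing.closedPoint p.K) ∈ (⊤ : N'.1.obj.left.left.Opens) :=
      TopologicalSpace.Opens.mem_top _
    have h1 : N'.1.obj.left.left.presheaf.germ ⊤ _ hmem a' *
        N'.1.obj.left.left.presheaf.germ ⊤ _ hmem b' ∈ nilradical _ := by
      rw [← map_mul]
      exact mem_nilradical.mpr ⟨n, by rw [← map_pow, hψ, map_zero]⟩
    rcases (h N').mem_or_mem h1 with h2 | h2
    · left
      exact mem_nilradical.mpr (isNilpotent_germ_of_isNilpotent_stalk p N' a' (mem_nilradical.mp h2))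
    · right
      exact mem_nilradical.mpr (isNilpotent_germ_of_isNilpotent_stalk p N' b' (mem_nilradical.mp h2))

include hX hp in
/-- Affine charts: prime nilradical of the étale local ring descends to the Zariski local ring. -/
theorem nilradical_isPrime_stalk_of_OEtStalk_affine {U : Over S} (hU : IsAffine U.left)
    (a : (AlgSp.yon S).obj U ⟶ X) (ha : AlgSp.RepWith @Etale a) (u : ↥U.left)
    (hu : Points.ofPt a u = Points.mk p) (h : (nilradical ↥(AlgSp.OEtStalk p)).IsPrime) :
    (nilradical ↥(U.left.presheaf.stalk u)).IsPrime := by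
  obtain ⟨ubar, hub1, hub2⟩ := exists_lift_of_etale_chart a ha p hp u hu
  let N : AlgSp.EtNbhd p := ⟨AlgSp.EtOver.mk a ha, ⟨ubar, hub1⟩⟩
  have hloc := (isAffineOpen_top U.left).isLocalization_stalk ⟨u, TopologicalSpace.Opens.mem_top u⟩
  letI := U.left.presheaf.algebra_section_stalk (U := ⊤) ⟨u, TopologicalSpace.Opens.mem_top u⟩
  refine @nilradical_isPrime_of_isLocalization Γ(U.left, ⊤) (U.left.presheaf.stalk u)
    ↥(AlgSp.OEtStalk p) _ _ _ _
    ((isAffineOpen_top U.left).primeIdealOf ⟨u, TopologicalSpace.Opens.mem_top u⟩).asIdeal.primeCompl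
    hloc inferInstance (germ p N) h (fun y hy => ?_)
  change U.left.presheaf.germ ⊤ u _ y = 0
  obtain ⟨N', φ, hφ⟩ := (germ_eq_zero_iff p hX hp N y).1 hy
  have : Etale φ.1.hom.left.left := AlgSp.EtOver.etale_left φ.1
  have h3 := germ_eq_zero_of_flat φ.1.hom.left.left (N'.2.1.left (IsLocalRing.closedPoint p.K)) y hφ
  have h4 : φ.1.hom.left.left (N'.2.1.left (IsLocalRing.closedPoint p.K)) = u := by
    have h5 : N'.2.1 ≫ φ.1.hom.left = N.2.1 := congrArg Subtype.val φ.2
    have h6 : N'.2.1.left ≫ φ.1.hom.left.left = ubar.left := by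
      rw [← Over.comp_left, h5]
    rw [← hub2, ← h6]
    rfl
  rw [← h4]
  exact h3

include hX hp in
/-- All charts: prime nilradical of the étale local ring descends to the Zariski local ring. -/
theorem nilradical_isPrime_stalk_of_OEtStalk {U : Over S}
    (a : (AlgSp.yon S).obj U ⟶ X) (ha : AlgSp.RepWith @Etale a) (u : ↥U.left)
    (hu : Points.ofPt a u = Points.mk p) (h : (nilradical ↥(AlgSp.OEtStalk p)).IsPrime) :
    (nilradical ↥(U.left.presheaf.stalk u)).IsPrime := by
  obtain ⟨W, hW, huW, -⟩ := exists_isAffineOpen_mem_and_subset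
    (x := u) (U := (⊤ : U.left.Opens)) (TopologicalSpace.Opens.mem_top u)
  have hj : Etale (opensOverι U W).left := inferInstanceAs (Etale W.ι)
  have ha' : AlgSp.RepWith @Etale ((AlgSp.yon S).map (opensOverι U W) ≫ a) :=
    repWith_etale_yon_map_comp (opensOverι U W) hj a ha
  have hu' : Points.ofPt ((AlgSp.yon S).map (opensOverι U W) ≫ a)
      (⟨u, huW⟩ : ↥(opensOver U W).left) = Points.mk p := by
    rw [ofPt_yon_map_comp]
    exact hu
  have hWaff : IsAffine (opensOver U W).left := hW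
  have h1 := nilradical_isPrime_stalk_of_OEtStalk_affine p hX hp hWaff _ ha' _ hu' h
  have hiso : IsIso (W.ι.stalkMap ⟨u, huW⟩) := inferInstance
  have hinj : Function.Injective (W.ι.stalkMap ⟨u, huW⟩).hom :=
    ((ConcreteCategory.isIso_iff_bijective (W.ι.stalkMap ⟨u, huW⟩)).mp hiso).1
  exact Groth.Agent.Lib.Helper7.BrBC.nilradical_isPrime_of_injective
    (W.ι.stalkMap ⟨u, huW⟩).hom hinj h1

end Groth.Agent.Lib.Helper7.AlgSpBr
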