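import Groth.Agent.Lib.Helper7.AlgSpBr2

/-!
# Geometric branches are étale local, hence independent of the chart (helper7)
-/

set_option autoImplicit false
set_option maxHeartbeats 400000
set_option linter.unusedSectionVars false
universe u

open CategoryTheory CategoryTheory.Limits AlgebraicGeometry Opposite

namespace Groth.Agent.Lib.Helper7.AlgSpBr

open AlgSp Groth.Agent.Lib.Helper52 Groth.Agent.Lib.Helper51 Groth.Agent.Lib.Helper37.Hz

/-- The geometric branch number is invariant under étale morphisms. -/
theorem numGeomBranchesAt_eq_of_etale {X U : Scheme.{u}} (g : U ⟶ X) [Etale g] (u : U) :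
    Brnch.numGeomBranchesAt U u = Brnch.numGeomBranchesAt X (g u) := by
  let _ : Algebra (X.presheaf.stalk (g u)) (U.presheaf.stalk u) := (g.stalkMap u).hom.toAlgebra
  have hwe : Algebra.WeaklyEtale (X.presheaf.stalk (g u)) (U.presheaf.stalk u) :=
    Groth.Agent.Lib.Helper98.WERed.weaklyEtale_stalkMap g u
  have hloc1 : IsLocalHom (algebraMap (X.presheaf.stalk (g u)) (U.presheaf.stalk u)) := by
    change IsLocalHom (g.stalkMap u).hom
    infer_instance
  let _ : Algebra (X.presheaf.stalk (g u)) (SHens (U.presheaf.stalk u)) :=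
    ((algebraMap (U.presheaf.stalk u) (SHens (U.presheaf.stalk u))).comp
      (g.stalkMap u).hom).toAlgebra
  have htow : IsScalarTower (X.presheaf.stalk (g u)) (U.presheaf.stalk u)
      (SHens (U.presheaf.stalk u)) := IsScalarTower.of_algebraMap_eq (fun _ => rfl)
  have hloc2 : IsLocalHom (algebraMap (X.presheaf.stalk (g u)) (SHens (U.presheaf.stalk u))) := by
    change IsLocalHom ((algebraMap (U.presheaf.stalk u) (SHens (U.presheaf.stalk u))).comp
      (g.stalkMap u).hom)
    infer_instance
  have hsh : Hensel.IsStrictHenselization (X.presheaf.stalk (g u)) (SHens (U.presheaf.stalk u)) :=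
    Groth.Agent.Lib.Helper98.WEStrictHens.isStrictHenselization_of_weaklyEtale
      (X.presheaf.stalk (g u)) (U.presheaf.stalk u) (SHens (U.presheaf.stalk u))
  have h1 := Branches.card_minimalPrimes_eq_numGeomBranches (X.presheaf.stalk (g u))
    (SHens (U.presheaf.stalk u))
  have h0 := Branches.card_minimalPrimes_eq_numGeomBranches (U.presheaf.stalk u)
    (SHens (U.presheaf.stalk u))
  exact h0.symm.trans h1

variable {S : Scheme.{u}} {X : AlgSp.Sp S}

/-- The geometric branch number at a point of an algebraic space does not depend on the chart. -/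
theorem numGeomBranchesAt_chart_eq {U V : Over S} (a : (AlgSp.yon S).obj U ⟶ X)
    (b : (AlgSp.yon S).obj V ⟶ X) (ha : AlgSp.RepWith @Etale a) (hb : AlgSp.RepWith @Etale b)
    (u : ↥U.left) (v : ↥V.left) (h : Points.ofPt a u = Points.ofPt b v) :
    Brnch.numGeomBranchesAt U.left u = Brnch.numGeomBranchesAt V.left v := by
  obtain ⟨W, φ, ψ, sq⟩ := exists_isPullback_of_representable ha.1 b
  obtain ⟨w, hw1, hw2⟩ := exists_of_ofPt_eq_ofPt sq h
  have hψ : Etale ψ.left := ha.2 b _ ψ sq
  have hφ : Etale φ.left := hb.2 a _ φ sq.flip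
  rw [← hw1, ← hw2, ← numGeomBranchesAt_eq_of_etale φ.left w, ← numGeomBranchesAt_eq_of_etale ψ.left w]

end Groth.Agent.Lib.Helper7.AlgSpBr
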