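import Mathlib

/-!
# A point lies on a single irreducible component iff its local ring has prime nilradical (helper7)
-/

set_option autoImplicit false
set_option maxHeartbeats 400000
universe u

namespace Groth.Agent.Lib.Helper7.BrTop

open AlgebraicGeometry CategoryTheory TopologicalSpace

variable (U : Scheme.{u}) (u : U)

/-- Points of `Spec 𝒪_{U,u}` correspond to generizations of `u`, compatibly with specialization. -/
theorem specializes_iff_fromSpecStalk (a b : Spec (U.presheaf.stalk u)) :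
    U.fromSpecStalk u a ⤳ U.fromSpecStalk u b ↔ a ⤳ b :=
  (U.fromSpecStalk u).isEmbedding.isInducing.specializes_iff

theorem exists_of_specializes {ξ : U} (h : ξ ⤳ u) :
    ∃ a : Spec (U.presheaf.stalk u), U.fromSpecStalk u a = ξ := by
  have : ξ ∈ Set.range (U.fromSpecStalk u) := by
    rw [Scheme.range_fromSpecStalk]; exact h
  exact this

theorem fromSpecStalk_specializes (a : Spec (U.presheaf.stalk u)) : U.fromSpecStalk u a ⤳ u := by
  have : U.fromSpecStalk u a ∈ Set.range (U.fromSpecStalk u) := ⟨a, rfl⟩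
  rw [Scheme.range_fromSpecStalk] at this
  exact this

/-- Every irreducible component has a generic point. -/
theorem exists_generic {Z : Set U} (hZ : Z ∈ irreducibleComponents U) :
    ∃ ξ : U, closure {ξ} = Z := by
  have hcl : IsClosed Z := isClosed_of_mem_irreducibleComponents Z hZ
  obtain ⟨ξ, hξ⟩ := QuasiSober.sober hZ.1 hcl
  exact ⟨ξ, hξ.def⟩

/-- An irreducible closed set which contains a component's generic point's closure. -/
theorem component_of_irreducible (T : Set U) (hT : IsIrreducible T) :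
    ∃ Z ∈ irreducibleComponents U, T ⊆ Z := by
  obtain ⟨Z, hZ, hTZ, hmax⟩ := exists_preirreducible T hT.isPreirreducible
  refine ⟨Z, ⟨⟨(hT.nonempty.mono hTZ), hZ⟩, fun W hW hZW => ?_⟩, hTZ⟩
  exact (hmax W hW.isPreirreducible hZW).le

theorem encard_eq_one_of_isPrime_nilradical
    (h : (nilradical (U.presheaf.stalk u)).IsPrime) :
    {Z : Set U | Z ∈ irreducibleComponents U ∧ u ∈ Z}.encard = 1 := by
  let ν : Spec (U.presheaf.stalk u) := ⟨nilradical (U.presheaf.stalk u), h⟩
  set ξ₀ := U.fromSpecStalk u ν with hξ₀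
  have hξ₀u : ξ₀ ⤳ u := fromSpecStalk_specializes U u ν
  -- `ξ₀` specializes to every generization of `u`
  have hgen : ∀ ξ : U, ξ ⤳ u → ξ₀ ⤳ ξ := by
    intro ξ hξ
    obtain ⟨a, rfl⟩ := exists_of_specializes U u hξ
    rw [hξ₀, specializes_iff_fromSpecStalk]
    exact (PrimeSpectrum.le_iff_specializes (R := U.presheaf.stalk u) ν a).mp
      (nilradical_le_prime a.asIdeal)
  -- the component containing `closure {ξ₀}`
  obtain ⟨Z₀, hZ₀, hsub⟩ := component_of_irreducible U (closure {ξ₀})
    isIrreducible_singleton.closure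
  have huZ₀ : u ∈ Z₀ := hsub (hξ₀u.mem_closure)
  rw [Set.encard_eq_one]
  refine ⟨Z₀, ?_⟩
  ext Z
  simp only [Set.mem_setOf_eq, Set.mem_singleton_iff]
  constructor
  · rintro ⟨hZ, huZ⟩
    obtain ⟨ξ, hξ⟩ := exists_generic U hZ
    obtain ⟨ξ', hξ'⟩ := exists_generic U hZ₀
    have h1 : ξ ⤳ u := by
      rw [specializes_iff_mem_closure, hξ]; exact huZ
    have h1' : ξ' ⤳ u := by
      rw [specializes_iff_mem_closure, hξ']; exact huZ₀
    have h2 : ξ₀ ⤳ ξ := hgen ξ h1
    have h2' : ξ₀ ⤳ ξ' := hgen ξ' h1'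
    -- `closure {ξ₀} ⊇ Z`, irreducible, so equal by maximality
    have h3 : Z ⊆ closure {ξ₀} := by
      rw [← hξ]
      exact closure_minimal (Set.singleton_subset_iff.mpr h2.mem_closure) isClosed_closure
    have h3' : Z₀ ⊆ closure {ξ₀} := by
      rw [← hξ']
      exact closure_minimal (Set.singleton_subset_iff.mpr h2'.mem_closure) isClosed_closure
    have h4 : closure {ξ₀} ⊆ Z := hZ.2 isIrreducible_singleton.closure h3
    have h4' : closure {ξ₀} ⊆ Z₀ := hsub
    exact (h3.antisymm h4).trans (h3'.antisymm h4').symm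
  · rintro rfl
    exact ⟨hZ₀, huZ₀⟩

theorem isPrime_nilradical_of_encard_eq_one
    (h : {Z : Set U | Z ∈ irreducibleComponents U ∧ u ∈ Z}.encard = 1) :
    (nilradical (U.presheaf.stalk u)).IsPrime := by
  rw [Set.encard_eq_one] at h
  obtain ⟨Z₀, hZ₀⟩ := h
  have hmem : Z₀ ∈ {Z : Set U | Z ∈ irreducibleComponents U ∧ u ∈ Z} := by
    rw [hZ₀]; exact Set.mem_singleton _
  obtain ⟨hZ₀c, huZ₀⟩ := hmem
  obtain ⟨ξ₀, hξ₀⟩ := exists_generic U hZ₀c
  have hξ₀u : ξ₀ ⤳ u := by
    rw [specializes_iff_mem_closure, hξ₀]; exact huZ₀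
  obtain ⟨ν, hν⟩ := exists_of_specializes U u hξ₀u
  -- `ν` is below every prime
  have hle : ∀ a : Spec (U.presheaf.stalk u), ν.asIdeal ≤ a.asIdeal := by
    intro a
    refine (PrimeSpectrum.le_iff_specializes (R := U.presheaf.stalk u) ν a).mpr ?_
    refine (specializes_iff_fromSpecStalk U u ν a).mp ?_
    rw [hν]
    set ξ := U.fromSpecStalk u a with hξ
    have hξu : ξ ⤳ u := fromSpecStalk_specializes U u a
    obtain ⟨Z, hZ, hsub⟩ := component_of_irreducible U (closure {ξ})
      isIrreducible_singleton.closure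
    have huZ : u ∈ Z := hsub hξu.mem_closure
    have hZZ₀ : Z = Z₀ := by
      have : Z ∈ {Z : Set U | Z ∈ irreducibleComponents U ∧ u ∈ Z} := ⟨hZ, huZ⟩
      rw [hZ₀] at this
      exact this
    rw [specializes_iff_mem_closure, hξ₀, ← hZZ₀]
    exact hsub (subset_closure (Set.mem_singleton ξ))
  have heq : nilradical (U.presheaf.stalk u) = ν.asIdeal := by
    apply le_antisymm
    · exact nilradical_le_prime ν.asIdeal
    · rw [nilradical_eq_sInf]
      exact le_sInf fun J hJ => hle ⟨J, hJ⟩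
  rw [heq]
  exact ν.isPrime

theorem encard_eq_one_iff :
    {Z : Set U | Z ∈ irreducibleComponents U ∧ u ∈ Z}.encard = 1 ↔
      (nilradical (U.presheaf.stalk u)).IsPrime :=
  ⟨isPrime_nilradical_of_encard_eq_one U u, encard_eq_one_of_isPrime_nilradical U u⟩

end Groth.Agent.Lib.Helper7.BrTop
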