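import Mathlib
import Groth.Agent.Lib.Helper7.BrTop
import Groth.Agent.Lib.Helper21.MaximalPoints

/-!
# Irreducible components through a point = minimal primes of the local ring (helper7)
-/

set_option autoImplicit false
set_option maxHeartbeats 400000
universe u

namespace Groth.Agent.Lib.Helper7.BrCount

open AlgebraicGeometry CategoryTheory TopologicalSpace

variable (U : Scheme.{u}) (u : U)

/-- The point of `U` attached to a prime of the local ring. -/
noncomputable def pt (p : minimalPrimes (U.presheaf.stalk u)) : U :=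
  U.fromSpecStalk u ⟨p.1, p.2.1.1⟩

theorem pt_specializes (p : minimalPrimes (U.presheaf.stalk u)) : pt U u p ⤳ u :=
  BrTop.fromSpecStalk_specializes U u _

theorem pt_maximal (p : minimalPrimes (U.presheaf.stalk u)) (z : U) (hz : z ⤳ pt U u p) :
    pt U u p ⤳ z := by
  have hzu : z ⤳ u := hz.trans (pt_specializes U u p)
  obtain ⟨a, rfl⟩ := BrTop.exists_of_specializes U u hzu
  rw [pt, BrTop.specializes_iff_fromSpecStalk] at hz ⊢
  have hle : a.asIdeal ≤ p.1 :=
    (PrimeSpectrum.le_iff_specializes (R := U.presheaf.stalk u) a ⟨p.1, p.2.1.1⟩).mpr hz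
  have hge : p.1 ≤ a.asIdeal := p.2.2 ⟨a.isPrime, bot_le⟩ hle
  exact (PrimeSpectrum.le_iff_specializes (R := U.presheaf.stalk u) ⟨p.1, p.2.1.1⟩ a).mp hge

theorem closure_pt_mem (p : minimalPrimes (U.presheaf.stalk u)) :
    closure {pt U u p} ∈ irreducibleComponents U :=
  Groth.Agent.Lib.Helper21.closure_singleton_mem_irreducibleComponents_of_maximal
    (pt_maximal U u p)

theorem mem_closure_pt (p : minimalPrimes (U.presheaf.stalk u)) : u ∈ closure {pt U u p} :=
  (pt_specializes U u p).mem_closure

theorem pt_injective : Function.Injective (fun p : minimalPrimes (U.presheaf.stalk u) =>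
    closure {pt U u p}) := by
  intro p q hpq
  simp only at hpq
  have h1 : pt U u p ⤳ pt U u q := by
    rw [specializes_iff_mem_closure, hpq]; exact subset_closure rfl
  have h2 : pt U u q ⤳ pt U u p := by
    rw [specializes_iff_mem_closure, ← hpq]; exact subset_closure rfl
  rw [pt, pt, BrTop.specializes_iff_fromSpecStalk] at h1 h2
  have h1' := (PrimeSpectrum.le_iff_specializes (R := U.presheaf.stalk u) _ _).mpr h1
  have h2' := (PrimeSpectrum.le_iff_specializes (R := U.presheaf.stalk u) _ _).mpr h2
  exact Subtype.ext (le_antisymm h1' h2')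

theorem pt_surjective {Z : Set U} (hZ : Z ∈ irreducibleComponents U) (hu : u ∈ Z) :
    ∃ p : minimalPrimes (U.presheaf.stalk u), closure {pt U u p} = Z := by
  obtain ⟨ξ, hξ⟩ := BrTop.exists_generic U hZ
  have hξu : ξ ⤳ u := by
    rw [specializes_iff_mem_closure, hξ]; exact hu
  obtain ⟨a, rfl⟩ := BrTop.exists_of_specializes U u hξu
  have hmax := Groth.Agent.Lib.Helper21.maximal_of_closure_singleton_mem_irreducibleComponents
    (x := U.fromSpecStalk u a) (hξ ▸ hZ)
  have hmin : a.asIdeal ∈ minimalPrimes (U.presheaf.stalk u) := by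
    refine ⟨⟨a.isPrime, bot_le⟩, ?_⟩
    rintro b ⟨hb, -⟩ hba
    have h1 : U.fromSpecStalk u ⟨b, hb⟩ ⤳ U.fromSpecStalk u a := by
      rw [BrTop.specializes_iff_fromSpecStalk]
      exact (PrimeSpectrum.le_iff_specializes (R := U.presheaf.stalk u) ⟨b, hb⟩ a).mp hba
    have h2 := hmax _ h1
    rw [BrTop.specializes_iff_fromSpecStalk] at h2
    exact (PrimeSpectrum.le_iff_specializes (R := U.presheaf.stalk u) a ⟨b, hb⟩).mpr h2
  exact ⟨⟨a.asIdeal, hmin⟩, hξ⟩

/-- The number of irreducible components through a point is the number of minimal primes of the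
local ring. -/
theorem encard_eq_card_minimalPrimes :
    {Z : Set U | Z ∈ irreducibleComponents U ∧ u ∈ Z}.encard =
      ENat.card (minimalPrimes (U.presheaf.stalk u)) := by
  let F : minimalPrimes (U.presheaf.stalk u) → {Z : Set U | Z ∈ irreducibleComponents U ∧ u ∈ Z} :=
    fun p => ⟨closure {pt U u p}, closure_pt_mem U u p, mem_closure_pt U u p⟩
  have hF : Function.Bijective F := by
    constructor
    · intro p q hpq
      exact pt_injective U u (congrArg Subtype.val hpq)
    · rintro ⟨Z, hZ, hu⟩
      obtain ⟨p, hp⟩ := pt_surjective U u hZ hu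
      exact ⟨p, Subtype.ext hp⟩
  exact (ENat.card_congr (Equiv.ofBijective F hF)).symm

end Groth.Agent.Lib.Helper7.BrCount
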