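import Mathlib
import Groth.Agent.Lib.Helper37.Hz56
import Groth.Agent.Lib.Helper7.BrCount1

/-!
# Producing étale neighbourhoods with many components from ind-étale local algebras (helper7)
-/

set_option autoImplicit false
set_option maxHeartbeats 400000
universe u

namespace Groth.Agent.Lib.Helper7.BrCount

open AlgebraicGeometry CategoryTheory TopologicalSpace IsLocalRing
open Groth.Agent.Lib.Helper4 Groth.Agent.Lib.Helper37.Hz

theorem exists_injective_of_le_card {α : Type u} (n : ℕ) (h : (n : ℕ∞) ≤ ENat.card α) :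
    ∃ f : Fin n → α, Function.Injective f := by
  rw [ENat.card, Cardinal.natCast_le_toENat_iff] at h
  have h2 : Cardinal.lift.{u} (Cardinal.mk (Fin n)) ≤ Cardinal.lift.{0} (Cardinal.mk α) := by
    rw [Cardinal.mk_fin, Cardinal.lift_natCast, Cardinal.lift_uzero]
    exact h
  obtain ⟨e⟩ := Cardinal.lift_mk_le'.mp h2
  exact ⟨e, e.injective⟩

section Alg

variable (R : Type u) [CommRing R] (S : Type u) [CommRing S] [IsLocalRing S] [Algebra R S]
  [Module.Flat R S]

/-- If `S` is a flat ind-étale local `R`-algebra with at least `n` minimal primes, some étale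
`R`-algebra `E` mapping to `S` has `n` distinct minimal primes below the contraction of the
maximal ideal. -/
theorem exists_etale_minimalPrimes (hS : HasFactorization (etaleClass R) S) (n : ℕ)
    (hn : (n : ℕ∞) ≤ ENat.card (minimalPrimes S)) :
    ∃ (E : Type u) (_ : CommRing E) (_ : Algebra R E) (_ : Algebra.Etale R E) (β : E →ₐ[R] S)
      (f : Fin n → Ideal E), Function.Injective f ∧ ∀ j, f j ∈ minimalPrimes E ∧
        f j ≤ (maximalIdeal S).comap β.toRingHom := by
  classical
  obtain ⟨P, hP⟩ := exists_injective_of_le_card n hn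
  have hprime : ∀ j, (P j).1.IsPrime := fun j => (P j).2.1.1
  have hex : ∀ j k : Fin n, ∃ x : S, j ≠ k → x ∈ (P j).1 ∧ x ∉ (P k).1 := by
    intro j k
    by_cases hjk : j = k
    · exact ⟨0, fun h => absurd hjk h⟩
    · have hnle : ¬ (P j).1 ≤ (P k).1 := by
        intro hle
        have hge : (P k).1 ≤ (P j).1 := (P k).2.2 ⟨hprime j, bot_le⟩ hle
        exact hjk (hP (Subtype.ext (le_antisymm hle hge)))
      obtain ⟨x, hx1, hx2⟩ := Set.not_subset.mp hnle
      exact ⟨x, fun _ => ⟨hx1, hx2⟩⟩
  choose x hx using hex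
  let φ : MvPolynomial (Fin n × Fin n) R →ₐ[R] S := MvPolynomial.aeval (fun jk => x jk.1 jk.2)
  obtain ⟨E, _, _, hE, α, β, hαβ⟩ := hS (MvPolynomial (Fin n × Fin n) R) φ
  have hE' : Algebra.Etale R E := hE
  let _ : Algebra E S := β.toRingHom.toAlgebra
  have : IsScalarTower R E S := IsScalarTower.of_algebraMap_eq (fun r => (β.commutes r).symm)
  have hflat : Module.Flat E S := Compare.flat_of_weaklyEtale R E S
  have : Algebra.HasGoingDown E S := Algebra.HasGoingDown.of_flat
  refine ⟨E, inferInstance, inferInstance, hE', β, fun j => (P j).1.comap (algebraMap E S), ?_, ?_⟩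
  · intro j k hjk
    by_contra hne
    obtain ⟨h1, h2⟩ := hx j k hne
    have hval : β (α (MvPolynomial.X (j, k))) = x j k := by
      have := congrArg (fun m => m (MvPolynomial.X (j, k))) hαβ
      simpa [φ] using this
    have hmem : α (MvPolynomial.X (j, k)) ∈ (P j).1.comap (algebraMap E S) := by
      change β (α (MvPolynomial.X (j, k))) ∈ (P j).1
      rw [hval]; exact h1
    simp only at hjk
    rw [hjk] at hmem
    apply h2
    have : β (α (MvPolynomial.X (j, k))) ∈ (P k).1 := hmem
    rwa [hval] at this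
  · intro j
    refine ⟨comap_mem_minimalPrimes_of_hasGoingDown (P j).2, ?_⟩
    have : (P j).1 ≤ maximalIdeal S := le_maximalIdeal (hprime j).ne_top
    exact Ideal.comap_mono this

end Alg

section Sch

variable (X : Scheme.{u}) {V : X.Opens} (hV : IsAffineOpen V) (x : X) (hx : x ∈ V)
  (E : Type u) [CommRing E] [Algebra Γ(X, V) E] [Algebra.Etale Γ(X, V) E]
  (q : Ideal E) [q.IsPrime]

/-- The étale neighbourhood attached to an étale algebra over an affine open. -/
noncomputable def nbhdMap : Spec (CommRingCat.of E) ⟶ X :=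
  Spec.map (CommRingCat.ofHom (algebraMap Γ(X, V) E)) ≫ hV.fromSpec

instance : Etale (nbhdMap X hV E) := by
  have : Etale (Spec.map (CommRingCat.ofHom (algebraMap Γ(X, V) E))) := by
    rw [HasRingHomProperty.Spec_iff (P := @Etale)]
    exact RingHom.etale_algebraMap.mpr inferInstance
  unfold nbhdMap
  infer_instance

theorem nbhdMap_apply (hq : q.comap (algebraMap Γ(X, V) E) = (hV.primeIdealOf ⟨x, hx⟩).asIdeal) :
    nbhdMap X hV E (⟨q, inferInstance⟩ : PrimeSpectrum E) = x := by
  have h1 : Spec.map (CommRingCat.ofHom (algebraMap Γ(X, V) E)) (⟨q, inferInstance⟩ : PrimeSpectrum E)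
      = hV.primeIdealOf ⟨x, hx⟩ := by
    apply PrimeSpectrum.ext
    exact hq
  change hV.fromSpec (Spec.map (CommRingCat.ofHom (algebraMap Γ(X, V) E))
    (⟨q, inferInstance⟩ : PrimeSpectrum E)) = x
  rw [h1]
  exact hV.fromSpec_primeIdealOf ⟨x, hx⟩

theorem le_encard_components (n : ℕ) (f : Fin n → Ideal E) (hf : Function.Injective f)
    (hmin : ∀ j, f j ∈ minimalPrimes E ∧ f j ≤ q) :
    (n : ℕ∞) ≤ {Z : Set (Spec (CommRingCat.of E)) |
      Z ∈ irreducibleComponents (Spec (CommRingCat.of E)) ∧
        (⟨q, inferInstance⟩ : PrimeSpectrum E) ∈ Z}.encard := by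
  have hprime : ∀ j, (f j).IsPrime := fun j => (hmin j).1.1.1
  let F : Fin n → {Z : Set (Spec (CommRingCat.of E)) |
      Z ∈ irreducibleComponents (Spec (CommRingCat.of E)) ∧
        (⟨q, inferInstance⟩ : PrimeSpectrum E) ∈ Z} := fun j =>
    ⟨PrimeSpectrum.zeroLocus (f j : Set E), by
      refine ⟨?_, ?_⟩
      · refine PrimeSpectrum.zeroLocus_ideal_mem_irreducibleComponents.mpr ?_
        rw [(hprime j).radical]
        exact (hmin j).1
      · exact (PrimeSpectrum.mem_zeroLocus (⟨q, inferInstance⟩ : PrimeSpectrum E) _).mpr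
          (hmin j).2⟩
  have hF : Function.Injective F := by
    intro j k hjk
    have h1 : PrimeSpectrum.zeroLocus (f j : Set E) = PrimeSpectrum.zeroLocus (f k : Set E) :=
      congrArg Subtype.val hjk
    have h2 := congrArg PrimeSpectrum.vanishingIdeal h1
    rw [PrimeSpectrum.vanishingIdeal_zeroLocus_eq_radical,
      PrimeSpectrum.vanishingIdeal_zeroLocus_eq_radical, (hprime j).radical,
      (hprime k).radical] at h2
    exact hf h2
  have := ENat.card_le_card_of_injective hF
  rwa [ENat.card_eq_coe_fintype_card, Fintype.card_fin] at this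

end Sch

end Groth.Agent.Lib.Helper7.BrCount
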