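import Mathlib
import Groth.Agent.Lib.Helper7.BrCount2

/-!
# An elementwise criterion for "at most `m` minimal primes" (helper7)

`AtMost m T`: among any `m + 1` elements of `T` with pairwise nilpotent products, one is nilpotent.
`card_minimalPrimes_le_iff`: this says exactly that `T` has at most `m` minimal primes.
The criterion passes through filtered colimits and descends along injective maps.
-/

set_option autoImplicit false
set_option maxHeartbeats 400000
universe u

namespace Groth.Agent.Lib.Helper7.AlgSpBr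

/-- Among `m + 1` elements with pairwise nilpotent products, one is nilpotent. -/
def AtMost (m : ℕ) (T : Type*) [CommRing T] : Prop :=
  ∀ x : Fin (m + 1) → T, (∀ i j, i ≠ j → IsNilpotent (x i * x j)) → ∃ i, IsNilpotent (x i)

theorem ENat.eq_of_forall_le_natCast_iff {a b : ℕ∞} (h : ∀ m : ℕ, a ≤ m ↔ b ≤ m) : a = b := by
  apply le_antisymm
  · induction b with
    | top => exact le_top
    | coe k => exact (h k).mpr le_rfl
  · induction a with
    | top => exact le_top
    | coe k => exact (h k).mp le_rfl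

/-- An element of a minimal prime is killed, up to nilpotents, by an element outside. -/
theorem exists_mul_isNilpotent_of_mem_minimalPrimes {T : Type*} [CommRing T] {P : Ideal T}
    (hP : P ∈ minimalPrimes T) {x : T} (hx : x ∈ P) : ∃ s, s ∉ P ∧ IsNilpotent (s * x) := by
  haveI : P.IsPrime := hP.1.1
  have h1 := IsLocalization.AtPrime.radical_map_of_mem_minimalPrimes
    (A := Localization.AtPrime P) P ⊥ hP
  rw [Ideal.map_bot] at h1
  have h2 : algebraMap T (Localization.AtPrime P) x ∈ (⊥ : Ideal (Localization.AtPrime P)).radical := by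
    rw [h1]
    exact Ideal.mem_map_of_mem _ hx
  obtain ⟨n, hn⟩ := h2
  rw [Ideal.mem_bot, ← map_pow, IsLocalization.map_eq_zero_iff P.primeCompl] at hn
  obtain ⟨s, hs⟩ := hn
  refine ⟨s, s.2, n + 1, ?_⟩
  calc ((s : T) * x) ^ (n + 1) = (s : T) ^ n * x * ((s : T) * x ^ n) := by ring
    _ = 0 := by rw [hs, mul_zero]

theorem isNilpotent_mem_of_isPrime {T : Type*} [CommRing T] {P : Ideal T} [P.IsPrime] {x : T}
    (hx : IsNilpotent x) : x ∈ P := by
  obtain ⟨n, hn⟩ := hx
  exact Ideal.IsPrime.mem_of_pow_mem inferInstance n (by rw [hn]; exact P.zero_mem)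

theorem atMost_of_card_le {m : ℕ} {T : Type*} [CommRing T]
    (h : ENat.card (minimalPrimes T) ≤ m) : AtMost m T := by
  classical
  intro x hx
  by_contra hcon
  push_neg at hcon
  have hex : ∀ i, ∃ P : minimalPrimes T, x i ∉ P.1 := by
    intro i
    have h1 : x i ∉ nilradical T := fun h => hcon i (mem_nilradical.mp h)
    have h2 : nilradical T = sInf (minimalPrimes T) := by
      rw [nilradical, ← Ideal.sInf_minimalPrimes]
      rfl
    rw [h2, Submodule.mem_sInf] at h1
    push_neg at h1
    obtain ⟨P, hP, hxP⟩ := h1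
    exact ⟨⟨P, hP⟩, hxP⟩
  choose F hF using hex
  have hninj : ¬ Function.Injective F := by
    intro hinj
    have h1 := ENat.card_le_card_of_injective hinj
    have h2 : ENat.card (Fin (m + 1)) = ((m + 1 : ℕ) : ℕ∞) := by simp
    rw [h2] at h1
    have h3 := h1.trans h
    have h4 : m + 1 ≤ m := by exact_mod_cast h3
    omega
  rw [Function.Injective] at hninj
  push_neg at hninj
  obtain ⟨i, j, hij, hne⟩ := hninj
  haveI : (F i).1.IsPrime := (F i).2.1.1
  have h1 : x i * x j ∈ (F i).1 := isNilpotent_mem_of_isPrime (hx i j hne)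
  rcases Ideal.IsPrime.mem_or_mem inferInstance h1 with h2 | h2
  · exact hF i h2
  · rw [hij] at h2
    exact hF j h2

theorem card_le_of_atMost {m : ℕ} {T : Type u} [CommRing T] (h : AtMost m T) :
    ENat.card (minimalPrimes T) ≤ m := by
  classical
  by_contra hcon
  have h1 : ((m + 1 : ℕ) : ℕ∞) ≤ ENat.card (minimalPrimes T) := by
    rw [not_le] at hcon
    have := Order.add_one_le_of_lt hcon
    exact_mod_cast this
  obtain ⟨P, hP⟩ := BrCount.exists_injective_of_le_card (m + 1) h1
  have hprime : ∀ j, (P j).1.IsPrime := fun j => (P j).2.1.1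
  -- separating elements
  have hex : ∀ i j : Fin (m + 1), ∃ w : T, i ≠ j → w ∈ (P j).1 ∧ w ∉ (P i).1 := by
    intro i j
    by_cases hij : i = j
    · exact ⟨0, fun h => absurd hij h⟩
    · have hnle : ¬ (P j).1 ≤ (P i).1 := by
        intro hle
        have hge : (P i).1 ≤ (P j).1 := (P i).2.2 ⟨hprime j, bot_le⟩ hle
        exact hij (hP (Subtype.ext (le_antisymm hge hle)))
      obtain ⟨w, hw1, hw2⟩ := Set.not_subset.mp hnle
      exact ⟨w, fun _ => ⟨hw1, hw2⟩⟩
  choose w hw using hex
  let z : Fin (m + 1) → T := fun i => ∏ j ∈ Finset.univ.erase i, w i j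
  have hz1 : ∀ i, z i ∉ (P i).1 := by
    intro i hzi
    haveI := hprime i
    obtain ⟨j, hj, hwj⟩ := (Ideal.IsPrime.prod_mem_iff (p := (P i).1)).mp hzi
    have hne : i ≠ j := fun h => (Finset.mem_erase.mp hj).1 h.symm
    exact (hw i j hne).2 hwj
  have hz2 : ∀ i j, i ≠ j → z i ∈ (P j).1 := by
    intro i j hne
    exact Ideal.prod_mem _ (Finset.mem_erase.mpr ⟨hne.symm, Finset.mem_univ j⟩) (hw i j hne).1
  have hex2 : ∀ i j : Fin (m + 1), ∃ s : T, i ≠ j → s ∉ (P j).1 ∧ IsNilpotent (s * z i) := by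
    intro i j
    by_cases hij : i = j
    · exact ⟨0, fun h => absurd hij h⟩
    · obtain ⟨s, hs1, hs2⟩ := exists_mul_isNilpotent_of_mem_minimalPrimes (P j).2 (hz2 i j hij)
      exact ⟨s, fun _ => ⟨hs1, hs2⟩⟩
  choose s hs using hex2
  let y : Fin (m + 1) → T := fun j => z j * ∏ i ∈ Finset.univ.erase j, s i j
  have hy1 : ∀ j, y j ∉ (P j).1 := by
    intro j hyj
    haveI := hprime j
    rcases Ideal.IsPrime.mem_or_mem inferInstance hyj with h2 | h2
    · exact hz1 j h2
    · obtain ⟨i, hi, hsi⟩ := (Ideal.IsPrime.prod_mem_iff (p := (P j).1)).mp h2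
      have hne : i ≠ j := (Finset.mem_erase.mp hi).1
      exact (hs i j hne).1 hsi
  have hy2 : ∀ i j, i ≠ j → IsNilpotent (y i * y j) := by
    intro i j hne
    have hd1 : z i ∣ y i := Dvd.intro _ rfl
    have hd2 : s i j ∣ y j :=
      (Finset.dvd_prod_of_mem (fun l => s l j)
        (Finset.mem_erase.mpr ⟨hne, Finset.mem_univ i⟩)).mul_left _
    obtain ⟨c, hc⟩ := mul_dvd_mul hd1 hd2
    have h3 : s i j * z i ∈ nilradical T := mem_nilradical.mpr (hs i j hne).2
    have h4 : y i * y j ∈ nilradical T := by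
      rw [hc, mul_comm (z i) (s i j)]
      exact Ideal.mul_mem_right _ _ h3
    exact mem_nilradical.mp h4
  obtain ⟨i, hi⟩ := h y hy2
  haveI := hprime i
  exact hy1 i (isNilpotent_mem_of_isPrime hi)

theorem card_minimalPrimes_le_iff {m : ℕ} {T : Type u} [CommRing T] :
    ENat.card (minimalPrimes T) ≤ m ↔ AtMost m T :=
  ⟨atMost_of_card_le, card_le_of_atMost⟩

/-- Descent along maps reflecting nilpotency (e.g. injective maps). -/
theorem AtMost.of_reflects {m : ℕ} {A T : Type*} [CommRing A] [CommRing T] (φ : A →+* T)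
    (hφ : ∀ a, IsNilpotent (φ a) → IsNilpotent a) (h : AtMost m T) : AtMost m A := by
  intro x hx
  obtain ⟨i, hi⟩ := h (fun i => φ (x i)) (fun i j hij => by
    rw [← map_mul]; exact (hx i j hij).map φ)
  exact ⟨i, hφ _ hi⟩

theorem AtMost.of_injective {m : ℕ} {A T : Type*} [CommRing A] [CommRing T] (φ : A →+* T)
    (hφ : Function.Injective φ) (h : AtMost m T) : AtMost m A :=
  h.of_reflects φ (fun _ ha => (IsNilpotent.map_iff hφ).mp ha)

/-- Descent to a localization `A` of `R` along `φ : R → T` such that elements killed by `φ` die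
in `A`. -/
theorem AtMost.of_isLocalization {m : ℕ} {R A T : Type*} [CommRing R] [CommRing A] [CommRing T]
    [Algebra R A] (M : Submonoid R) [IsLocalization M A] (φ : R →+* T)
    (hφ : ∀ r, φ r = 0 → algebraMap R A r = 0) (h : AtMost m T) : AtMost m A := by
  classical
  have key : ∀ r : R, IsNilpotent (φ r) → algebraMap R A r ∈ nilradical A := by
    intro r hr
    obtain ⟨j, hj⟩ := hr
    rw [← map_pow] at hj
    have := hφ _ hj
    rw [map_pow] at this
    exact mem_nilradical.mpr ⟨j, this⟩
  intro x hx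
  have hex : ∀ i, ∃ (a : R) (t : M), IsLocalization.mk' A a t = x i := fun i =>
    IsLocalization.exists_mk'_eq M (x i)
  choose a t hat using hex
  have hex2 : ∀ i j : Fin (m + 1), ∃ (μ : M) (e : ℕ), i ≠ j → (μ : R) * (a i * a j) ^ e = 0 := by
    intro i j
    by_cases hij : i = j
    · exact ⟨1, 0, fun h => absurd hij h⟩
    · have h1 := hx i j hij
      rw [← hat i, ← hat j, ← IsLocalization.mk'_mul] at h1
      have h2 : algebraMap R A (a i * a j) ∈ nilradical A :=
        (IsLocalization.mk'_mem_iff (I := nilradical A)).mp (mem_nilradical.mpr h1)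
      obtain ⟨e, he⟩ := mem_nilradical.mp h2
      rw [← map_pow, IsLocalization.map_eq_zero_iff M] at he
      obtain ⟨μ, hμ⟩ := he
      exact ⟨μ, e, fun _ => hμ⟩
  choose μ e hμ using hex2
  let ν : M := ∏ ij : Fin (m + 1) × Fin (m + 1), μ ij.1 ij.2
  have hdvd : ∀ i j, ((μ i j : M) : R) ∣ (ν : R) := by
    intro i j
    have h1 : μ i j ∣ ν :=
      Finset.dvd_prod_of_mem (fun ij : Fin (m + 1) × Fin (m + 1) => μ ij.1 ij.2)
        (Finset.mem_univ (i, j))
    obtain ⟨c, hc⟩ := h1
    exact ⟨(c : R), by rw [hc]; rfl⟩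
  obtain ⟨i, hi⟩ := h (fun i => φ ((ν : R) * a i)) (fun i j hij => by
    rw [← map_mul]
    refine ⟨e i j + 1, ?_⟩
    rw [← map_pow]
    obtain ⟨c, hc⟩ := hdvd i j
    have h0 : ((ν : R) * a i * ((ν : R) * a j)) ^ (e i j + 1) = 0 := by
      generalize (ν : R) = n at hc
      subst hc
      calc (((μ i j : M) : R) * c * a i * (((μ i j : M) : R) * c * a j)) ^ (e i j + 1)
          = (c * (((μ i j : M) : R) * c) ^ (2 * e i j + 1) * (a i * a j)) *
              (((μ i j : M) : R) * (a i * a j) ^ (e i j)) := by ring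
        _ = 0 := by rw [hμ i j hij, mul_zero]
    rw [h0, map_zero])
  refine ⟨i, ?_⟩
  have h3 := key _ hi
  rw [map_mul] at h3
  have h4 : algebraMap R A (a i) ∈ nilradical A :=
    (Ideal.unit_mul_mem_iff_mem _ (IsLocalization.map_units A ν)).mp h3
  rw [← hat i]
  exact mem_nilradical.mp ((IsLocalization.mk'_mem_iff (I := nilradical A)).mpr h4)

end Groth.Agent.Lib.Helper7.AlgSpBr
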