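import Groth.Agent.Lib.Helper7.AlgSpBr3
import Groth.Agent.Lib.Helper7.AlgSpBr4

/-!
# Minimal primes of the étale local ring = geometric branches of any chart (helper7)
-/

set_option autoImplicit false
set_option maxHeartbeats 400000
set_option linter.unusedSectionVars false
universe u

open CategoryTheory CategoryTheory.Limits AlgebraicGeometry Opposite

set_option backward.isDefEq.respectTransparency false

namespace Groth.Agent.Lib.Helper7.AlgSpBr

open AlgSp Groth.Agent.Lib.Helper52 Groth.Agent.Lib.Helper51 Groth.Agent.Lib.Helper51.Hens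
  Groth.Agent.Lib.Helper37.Hz

variable {S : Scheme.{u}} {X : AlgSp.Sp S} (p : AlgSp.FieldPt X)
variable (hX : AlgSp.IsAlgSpace X) (hp : p.IsGeometric)

include hX hp in
/-- a function with nilpotent germ in the étale local ring has nilpotent germ in the Zariski local
ring at the lifted point. -/
theorem isNilpotent_stalk_of_isNilpotent_germ (N : AlgSp.EtNbhd p) (s : Γ(N.1.obj.left.left, ⊤))
    (hs : IsNilpotent (germ p N s)) :
    IsNilpotent (N.1.obj.left.left.presheaf.germ ⊤
      (N.2.1.left (IsLocalRing.closedPoint p.K)) (TopologicalSpace.Opens.mem_top _) s) := by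
  obtain ⟨m, hm⟩ := hs
  refine ⟨m, ?_⟩
  rw [← map_pow] at hm ⊢
  obtain ⟨N', φ, hφ⟩ := (germ_eq_zero_iff p hX hp N (s ^ m)).1 hm
  have : Etale φ.1.hom.left.left := AlgSp.EtOver.etale_left φ.1
  have h3 := germ_eq_zero_of_flat φ.1.hom.left.left (N'.2.1.left (IsLocalRing.closedPoint p.K))
    (s ^ m) hφ
  have h4 : φ.1.hom.left.left (N'.2.1.left (IsLocalRing.closedPoint p.K)) =
      N.2.1.left (IsLocalRing.closedPoint p.K) := by
    have h5 : N'.2.1 ≫ φ.1.hom.left = N.2.1 := congrArg Subtype.val φ.2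
    have h6 : N'.2.1.left ≫ φ.1.hom.left.left = N.2.1.left := by
      rw [← Over.comp_left, h5]
    rw [← h6]
    rfl
  rw [← h4]
  exact h3

include hX hp in
/-- `AtMost m` passes from the Zariski local rings of the étale neighbourhoods to the étale local
ring. -/
theorem atMost_OEtStalk (m : ℕ)
    (h : ∀ N : AlgSp.EtNbhd p, AtMost m ↥(N.1.obj.left.left.presheaf.stalk
      (N.2.1.left (IsLocalRing.closedPoint p.K)))) :
    AtMost m ↥(AlgSp.OEtStalk p) := by
  classical
  intro x hx
  obtain ⟨N₀, -, -⟩ := exists_germ_eq p hX hp (0 : ↥(AlgSp.OEtStalk p))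
  obtain ⟨N, -, hN⟩ := exists_nbhd_forall_mem_range p hX hp (Finset.univ.image x) N₀
  have hex : ∀ i, ∃ a : Γ(N.1.obj.left.left, ⊤), germ p N a = x i := fun i =>
    hN (x i) (Finset.mem_image_of_mem x (Finset.mem_univ i))
  choose a ha using hex
  have hmem : N.2.1.left (IsLocalRing.closedPoint p.K) ∈ (⊤ : N.1.obj.left.left.Opens) :=
    TopologicalSpace.Opens.mem_top _
  obtain ⟨i, hi⟩ := h N (fun i => N.1.obj.left.left.presheaf.germ ⊤ _ hmem (a i))
    (fun i j hij => by
      rw [← map_mul]
      apply isNilpotent_stalk_of_isNilpotent_germ p hX hp N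
      rw [map_mul, ha i, ha j]
      exact hx i j hij)
  refine ⟨i, ?_⟩
  rw [← ha i]
  exact isNilpotent_germ_of_isNilpotent_stalk p N (a i) hi

include hX hp in
/-- Affine charts: `AtMost m` descends from the étale local ring to the Zariski local ring. -/
theorem atMost_stalk_of_OEtStalk_affine (m : ℕ) {U : Over S} (hU : IsAffine U.left)
    (a : (AlgSp.yon S).obj U ⟶ X) (ha : AlgSp.RepWith @Etale a) (u : ↥U.left)
    (hu : Points.ofPt a u = Points.mk p) (h : AtMost m ↥(AlgSp.OEtStalk p)) :
    AtMost m ↥(U.left.presheaf.stalk u) := by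
  obtain ⟨ubar, hub1, hub2⟩ := exists_lift_of_etale_chart a ha p hp u hu
  let N : AlgSp.EtNbhd p := ⟨AlgSp.EtOver.mk a ha, ⟨ubar, hub1⟩⟩
  have hloc := (isAffineOpen_top U.left).isLocalization_stalk ⟨u, TopologicalSpace.Opens.mem_top u⟩
  letI := U.left.presheaf.algebra_section_stalk (U := ⊤) ⟨u, TopologicalSpace.Opens.mem_top u⟩
  refine @AtMost.of_isLocalization m Γ(U.left, ⊤) (U.left.presheaf.stalk u)
    ↥(AlgSp.OEtStalk p) _ _ _ _
    ((isAffineOpen_top U.left).primeIdealOf ⟨u, TopologicalSpace.Opens.mem_top u⟩).asIdeal.primeCompl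
    hloc (germ p N) (fun y hy => ?_) h
  change U.left.presheaf.germ ⊤ u _ y = 0
  obtain ⟨N', φ, hφ⟩ := (germ_eq_zero_iff p hX hp N y).1 hy
  have : Etale φ.1.hom.left.left := AlgSp.EtOver.etale_left φ.1
  have h3 := germ_eq_zero_of_flat φ.1.hom.left.left (N'.2.1.left (IsLocalRing.closedPoint p.K)) y hφ
  have h4 : φ.1.hom.left.left (N'.2.1.left (IsLocalRing.closedPoint p.K)) = u := by
    have h5 : N'.2.1 ≫ φ.1.hom.left = N.2.1 := congrArg Subtype.val φ.2
    have h6 : N'.2.1.left ≫ φ.1.hom.left.left = ubar.left := by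
      rw [← Over.comp_left, h5]
    rw [← hub2, ← h6]
    rfl
  rw [← h4]
  exact h3

include hX hp in
/-- All charts: `AtMost m` descends from the étale local ring to the Zariski local ring. -/
theorem atMost_stalk_of_OEtStalk (m : ℕ) {U : Over S}
    (a : (AlgSp.yon S).obj U ⟶ X) (ha : AlgSp.RepWith @Etale a) (u : ↥U.left)
    (hu : Points.ofPt a u = Points.mk p) (h : AtMost m ↥(AlgSp.OEtStalk p)) :
    AtMost m ↥(U.left.presheaf.stalk u) := by
  obtain ⟨W, hW, huW, -⟩ := exists_isAffineOpen_mem_and_subset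
    (x := u) (U := (⊤ : U.left.Opens)) (TopologicalSpace.Opens.mem_top u)
  have hj : Etale (opensOverι U W).left := inferInstanceAs (Etale W.ι)
  have ha' : AlgSp.RepWith @Etale ((AlgSp.yon S).map (opensOverι U W) ≫ a) :=
    repWith_etale_yon_map_comp (opensOverι U W) hj a ha
  have hu' : Points.ofPt ((AlgSp.yon S).map (opensOverι U W) ≫ a)
      (⟨u, huW⟩ : ↥(opensOver U W).left) = Points.mk p := by
    rw [ofPt_yon_map_comp]
    exact hu
  have hWaff : IsAffine (opensOver U W).left := hW
  have h1 := atMost_stalk_of_OEtStalk_affine p hX hp m hWaff _ ha' _ hu' h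
  have hiso : IsIso (W.ι.stalkMap ⟨u, huW⟩) := inferInstance
  have hinj : Function.Injective (W.ι.stalkMap ⟨u, huW⟩).hom :=
    ((ConcreteCategory.isIso_iff_bijective (W.ι.stalkMap ⟨u, huW⟩)).mp hiso).1
  exact AtMost.of_injective (W.ι.stalkMap ⟨u, huW⟩).hom hinj h1

include hX hp in
/-- The number of minimal primes of the étale local ring at a geometric point over `x` is the
number of geometric branches of any chart at a point over `x`. -/
theorem numGeomBranchesAt_eq_card_minimalPrimes_OEtStalk {U : Over S}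
    (a : (AlgSp.yon S).obj U ⟶ X) (ha : AlgSp.RepWith @Etale a) (u : ↥U.left)
    (hu : Points.ofPt a u = Points.mk p) :
    Brnch.numGeomBranchesAt U.left u = ENat.card (minimalPrimes ↥(AlgSp.OEtStalk p)) := by
  apply ENat.eq_of_forall_le_natCast_iff
  intro m
  constructor
  · intro h
    rw [card_minimalPrimes_le_iff]
    refine atMost_OEtStalk p hX hp m (fun N => ?_)
    rw [← card_minimalPrimes_le_iff]
    refine (card_minimalPrimes_le_numGeomBranchesAt _ _).trans ?_
    have h1 : Brnch.numGeomBranchesAt N.1.obj.left.left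
        (N.2.1.left (IsLocalRing.closedPoint p.K)) = Brnch.numGeomBranchesAt U.left u := by
      refine numGeomBranchesAt_chart_eq N.1.obj.hom a N.1.property ha _ u ?_
      rw [hu]
      exact ofPt_liftsTo p N.2
    rw [h1]
    exact h
  · intro h
    rw [card_minimalPrimes_le_iff] at h
    refine numGeomBranchesAt_le_of_charts (Points.mk p) m (fun V b v hb hv => ?_) U a u ha hu
    rw [card_minimalPrimes_le_iff]
    exact atMost_stalk_of_OEtStalk p hX hp m b hb v hv h

end Groth.Agent.Lib.Helper7.AlgSpBr
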