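import Groth.Agent.Lib.Helper7.AlgSpBr5

/-!
# Flat local descent of geometric unibranchness; chart diagrams through a point (helper7)
-/

set_option autoImplicit false
set_option maxHeartbeats 400000
set_option linter.unusedSectionVars false
universe u

open CategoryTheory CategoryTheory.Limits AlgebraicGeometry Opposite IsLocalRing

namespace Groth.Agent.Lib.Helper7.AlgSpBr

open AlgSp Groth.Agent.Lib.Helper52 Groth.Agent.Lib.Helper51 Groth.Agent.Lib.Helper37.Hz

/-- The comparison map `A^sh → B^sh` of a flat local homomorphism `A → B` is faithfully flat, in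
particular injective. -/
theorem exists_injective_sHens_map (A B : Type u) [CommRing A] [IsLocalRing A] [CommRing B]
    [IsLocalRing B] [Algebra A B] [IsLocalHom (algebraMap A B)] [Module.Flat A B] :
    ∃ g : SHens A →+* SHens B, Function.Injective g ∧ IsLocalHom g ∧
      g.comp (algebraMap A (SHens A)) = (algebraMap B (SHens B)).comp (algebraMap A B) := by
  haveI hTB : Hensel.IsStrictHenselization B (SHens B) := inferInstance
  haveI : HenselianLocalRing (SHens B) := hTB.henselian
  haveI := hTB.isSepClosure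
  haveI : IsSepClosed (ResidueField (SHens B)) := IsSepClosure.sep_closed (ResidueField B)
  obtain ⟨g, hg, hgloc⟩ := Compare.exists_map_of_isStrictHenselization A B (SHens A) (SHens B)
  letI : Algebra (SHens A) (SHens B) := g.toAlgebra
  letI : Algebra A (SHens B) := ((algebraMap B (SHens B)).comp (algebraMap A B)).toAlgebra
  haveI : IsScalarTower A B (SHens B) := IsScalarTower.of_algebraMap_eq' rfl
  haveI : IsScalarTower A (SHens A) (SHens B) := IsScalarTower.of_algebraMap_eq' hg.symm
  haveI : Module.FaithfullyFlat B (SHens B) := faithfullyFlat_of_isStrictHenselization _ _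
  haveI : Module.Flat A (SHens B) := Module.Flat.trans A B (SHens B)
  haveI : Algebra.WeaklyEtale A (SHens A) :=
    Groth.Agent.S0736.result A (SHens A) (isIndEtale_of_isStrictHenselization A (SHens A))
  haveI : Module.Flat (SHens A) (SHens B) := Compare.flat_of_weaklyEtale A (SHens A) (SHens B)
  haveI : IsLocalHom (algebraMap (SHens A) (SHens B)) := hgloc
  haveI : Module.FaithfullyFlat (SHens A) (SHens B) := Module.FaithfullyFlat.of_flat_of_isLocalHom
  exact ⟨g, FaithfulSMul.algebraMap_injective (SHens A) (SHens B), hgloc, hg⟩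

/-- Geometric unibranchness descends along flat local homomorphisms. -/
theorem isGeomUnibranch_of_flat (A B : Type u) [CommRing A] [IsLocalRing A] [CommRing B]
    [IsLocalRing B] [Algebra A B] [IsLocalHom (algebraMap A B)] [Module.Flat A B]
    (h : CAlg2.IsGeomUnibranch B) : CAlg2.IsGeomUnibranch A := by
  rw [Unibranch.isGeomUnibranch_iff_nilradical_isPrime A (SHens A)]
  have hB : (nilradical (SHens B)).IsPrime :=
    (Unibranch.isGeomUnibranch_iff_nilradical_isPrime B (SHens B)).mp h
  obtain ⟨g, hginj, -, -⟩ := exists_injective_sHens_map A B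
  exact Groth.Agent.Lib.Helper7.BrBC.nilradical_isPrime_of_injective g hginj hB

/-- The number of geometric branches does not decrease along flat local homomorphisms. -/
theorem numGeomBranches_le_of_flat (A B : Type u) [CommRing A] [IsLocalRing A] [CommRing B]
    [IsLocalRing B] [Algebra A B] [IsLocalHom (algebraMap A B)] [Module.Flat A B] :
    Brnch.numGeomBranches A ≤ Brnch.numGeomBranches B := by
  rw [← Branches.card_minimalPrimes_eq_numGeomBranches A (SHens A),
    ← Branches.card_minimalPrimes_eq_numGeomBranches B (SHens B)]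
  obtain ⟨g, hginj, -, -⟩ := exists_injective_sHens_map A B
  classical
  have h : ∀ P : minimalPrimes (SHens A), ∃ Q : minimalPrimes (SHens B),
      (Q : Ideal (SHens B)).comap g = P := by
    intro P
    have hP : (P : Ideal (SHens A)) ∈ ((⊥ : Ideal (SHens B)).comap g).minimalPrimes := by
      have : (⊥ : Ideal (SHens B)).comap g = ⊥ := by
        rw [Ideal.comap_bot_of_injective g hginj]
      rw [this]
      exact P.2
    obtain ⟨Q, hQ, hQP⟩ := Ideal.exists_minimalPrimes_comap_eq g P.1 hP
    exact ⟨⟨Q, hQ⟩, hQP⟩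
  choose f hf using h
  refine ENat.card_le_card_of_injective (f := f) ?_
  intro P₁ P₂ h12
  apply Subtype.ext
  rw [← hf P₁, ← hf P₂, h12]

/-- Scheme-level: if `h : W ⟶ V` is flat at `w` and `W` is geometrically unibranch at `w`, then `V`
is geometrically unibranch at `h w`. -/
theorem isGeomUnibranch_stalk_of_flat_stalkMap {W V : Scheme.{u}} (h : W ⟶ V) (w : W)
    (hfl : (h.stalkMap w).hom.Flat) (hgu : CAlg2.IsGeomUnibranch ↥(W.presheaf.stalk w)) :
    CAlg2.IsGeomUnibranch ↥(V.presheaf.stalk (h w)) := by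
  letI : Algebra ↥(V.presheaf.stalk (h w)) ↥(W.presheaf.stalk w) := (h.stalkMap w).hom.toAlgebra
  haveI : IsLocalHom (algebraMap ↥(V.presheaf.stalk (h w)) ↥(W.presheaf.stalk w)) := by
    change IsLocalHom (h.stalkMap w).hom
    infer_instance
  haveI : Module.Flat ↥(V.presheaf.stalk (h w)) ↥(W.presheaf.stalk w) := hfl
  exact isGeomUnibranch_of_flat _ _ hgu

variable {S : Scheme.{u}}

/-- Chart diagrams through a point: given a morphism `f : X ⟶ Y` of sheaves with `X` an algebraic
space, a point `x` of `X` and an étale chart `(V, b, w)` of `Y` over `f x`, there is an étale chart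
`(W, a, w')` of `X` over `x` with a morphism `φ : W ⟶ V`, `φ w' = w`, and `a ≫ f = φ ≫ b`. -/
theorem exists_chart_diagram {X Y : AlgSp.Sp S} (hX : AlgSp.IsAlgSpace X) (f : X ⟶ Y)
    (x : AlgSp.Points X) {V : Over S} (b : (AlgSp.yon S).obj V ⟶ Y) (w : ↥V.left)
    (hb : AlgSp.RepWith @Etale b) (hw : AlgSp.Points.ofPt b w = AlgSp.Points.map f x) :
    ∃ (W : Over S) (a : (AlgSp.yon S).obj W ⟶ X) (φ : W ⟶ V) (w' : ↥W.left),
      AlgSp.RepWith @Etale a ∧ a ≫ f = (AlgSp.yon S).map φ ≫ b ∧
        AlgSp.Points.ofPt a w' = x ∧ φ.left w' = w := by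
  obtain ⟨U₀, a₀, u₀, -, ha₀, hu₀⟩ := exists_affine_etale_chart_at hX x
  obtain ⟨W, φ, ψ, sq⟩ := exists_isPullback_of_representable hb.1 (a₀ ≫ f)
  have hψ : Etale ψ.left := hb.2 (a₀ ≫ f) _ ψ sq
  have hpt : Points.ofPt b w = Points.ofPt (a₀ ≫ f) u₀ := by
    rw [hw, ← hu₀]
    rfl
  obtain ⟨w', hw1, hw2⟩ := exists_of_ofPt_eq_ofPt sq hpt
  refine ⟨W, (AlgSp.yon S).map ψ ≫ a₀, φ, w', repWith_etale_yon_map_comp ψ hψ a₀ ha₀, ?_, ?_, hw1⟩
  · rw [Category.assoc, ← sq.w]
  · rw [ofPt_yon_map_comp, hw2, hu₀]

end Groth.Agent.Lib.Helper7.AlgSpBr
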