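import Mathlib
import Groth.Agent.Lib.Helper7.BrCount2

/-!
# Étale neighbourhoods from ind-étale local algebras over a stalk (helper7)
-/

set_option autoImplicit false
set_option maxHeartbeats 400000
universe u

namespace Groth.Agent.Lib.Helper7.BrCount

open AlgebraicGeometry CategoryTheory TopologicalSpace IsLocalRing
open Groth.Agent.Lib.Helper4 Groth.Agent.Lib.Helper37.Hz

theorem exists_etale_algebra (X : Scheme.{u}) {V : X.Opens} (hV : IsAffineOpen V) (x : X)
    (hx : x ∈ V)
    (S : Type u) [CommRing S] [IsLocalRing S] [Algebra (X.presheaf.stalk x) S]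
    [IsLocalHom (algebraMap (X.presheaf.stalk x) S)] [Module.Flat (X.presheaf.stalk x) S]
    (hS : HasFactorization (etaleClass (X.presheaf.stalk x)) S) (n : ℕ)
    (hn : (n : ℕ∞) ≤ ENat.card (minimalPrimes S)) :
    ∃ (E : Type u) (_ : CommRing E) (_ : Algebra Γ(X, V) E) (_ : Algebra.Etale Γ(X, V) E)
      (β : E →+* S) (q : Ideal E) (_ : q.IsPrime),
      β.comp (algebraMap Γ(X, V) E) =
        (algebraMap (X.presheaf.stalk x) S).comp (X.presheaf.germ V x hx).hom ∧
      q = (maximalIdeal S).comap β ∧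
      nbhdMap X hV E (⟨q, inferInstance⟩ : PrimeSpectrum E) = x ∧
      (n : ℕ∞) ≤ {Z : Set (Spec (CommRingCat.of E)) |
        Z ∈ irreducibleComponents (Spec (CommRingCat.of E)) ∧
          (⟨q, inferInstance⟩ : PrimeSpectrum E) ∈ Z}.encard := by
  let _ : Algebra Γ(X, V) (X.presheaf.stalk x) := X.presheaf.algebra_section_stalk ⟨x, hx⟩
  have hloc : IsLocalization.AtPrime (X.presheaf.stalk x) (hV.primeIdealOf ⟨x, hx⟩).asIdeal :=
    hV.isLocalization_stalk ⟨x, hx⟩
  let _ : Algebra Γ(X, V) S :=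
    ((algebraMap (X.presheaf.stalk x) S).comp
      (algebraMap Γ(X, V) (X.presheaf.stalk x))).toAlgebra
  have : IsScalarTower Γ(X, V) (X.presheaf.stalk x) S :=
    IsScalarTower.of_algebraMap_eq (fun _ => rfl)
  have hflatRA : Module.Flat Γ(X, V) (X.presheaf.stalk x) :=
    IsLocalization.flat _ (hV.primeIdealOf ⟨x, hx⟩).asIdeal.primeCompl
  have hflat : Module.Flat Γ(X, V) S := Module.Flat.trans Γ(X, V) (X.presheaf.stalk x) S
  have hRA : EtPBC.IsIndEtale Γ(X, V) (X.presheaf.stalk x) :=
    (isIndEtale_iff_hasFactorization _).mpr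
      (hasFactorization_of_isLocalization Γ(X, V)
        (hV.primeIdealOf ⟨x, hx⟩).asIdeal.primeCompl _)
  have hRS : HasFactorization (etaleClass Γ(X, V)) S :=
    hasFactorization_trans Γ(X, V) (X.presheaf.stalk x) S hRA hS
  obtain ⟨E, _, _, hE, β, f, hf, hmin⟩ := exists_etale_minimalPrimes Γ(X, V) S hRS n hn
  have hq : ((maximalIdeal S).comap β.toRingHom).IsPrime := Ideal.comap_isPrime _ _
  refine ⟨E, inferInstance, inferInstance, hE, β.toRingHom, (maximalIdeal S).comap β.toRingHom, hq,
    ?_, rfl, ?_, ?_⟩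
  · ext r
    exact β.commutes r
  · apply nbhdMap_apply X hV x hx E
    rw [Ideal.comap_comap]
    have h1 : β.toRingHom.comp (algebraMap Γ(X, V) E) = algebraMap Γ(X, V) S := by
      ext r
      exact β.commutes r
    rw [h1, IsScalarTower.algebraMap_eq Γ(X, V) (X.presheaf.stalk x) S, ← Ideal.comap_comap,
      maximalIdeal_comap (algebraMap (X.presheaf.stalk x) S)]
    exact IsLocalization.AtPrime.comap_maximalIdeal (X.presheaf.stalk x)
      (hV.primeIdealOf ⟨x, hx⟩).asIdeal
  · exact le_encard_components E _ n f hf hmin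

end Groth.Agent.Lib.Helper7.BrCount
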