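import Mathlib
import Groth.Agent.Lib.Helper7.BrCount3
import Groth.Agent.Lib.Helper37.Hz61

/-!
# Stalk maps of étale morphisms are ind-étale; residue fields of `nbhdMap` (helper7)
-/

set_option autoImplicit false
set_option maxHeartbeats 400000
universe u

namespace Groth.Agent.Lib.Helper7.BrCount

open AlgebraicGeometry CategoryTheory TopologicalSpace IsLocalRing
open Groth.Agent.Lib.Helper4 Groth.Agent.Lib.Helper37.Hz

/-- The stalk map of an étale morphism is ind-étale. -/
theorem hasFactorization_stalkMap {X U : Scheme.{u}} (g : U ⟶ X) [Etale g] (u : U)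
    [Algebra (X.presheaf.stalk (g u)) (U.presheaf.stalk u)]
    (halg : algebraMap (X.presheaf.stalk (g u)) (U.presheaf.stalk u) = (g.stalkMap u).hom) :
    HasFactorization (etaleClass (X.presheaf.stalk (g u))) (U.presheaf.stalk u) := by
  obtain ⟨_, ⟨V, hV : IsAffineOpen V, rfl⟩, hxV, -⟩ :=
    X.isBasis_affineOpens.exists_subset_of_mem_open (Set.mem_univ (g u)) isOpen_univ
  obtain ⟨_, ⟨W, hW : IsAffineOpen W, rfl⟩, huW, hWV⟩ :=
    U.isBasis_affineOpens.exists_subset_of_mem_open (show u ∈ (g ⁻¹ᵁ V : Set U) from hxV)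
      (g ⁻¹ᵁ V).isOpen
  have hWV' : W ≤ g ⁻¹ᵁ V := hWV
  let _ : Algebra Γ(X, V) Γ(U, W) := (g.appLE V W hWV').hom.toAlgebra
  have hEt : Algebra.Etale Γ(X, V) Γ(U, W) := by
    have h1 := HasRingHomProperty.appLE (P := @Etale) g inferInstance ⟨V, hV⟩ ⟨W, hW⟩ hWV'
    rw [← RingHom.etale_algebraMap, RingHom.algebraMap_toAlgebra]
    exact h1
  let _ : Algebra Γ(X, V) (X.presheaf.stalk (g u)) := X.presheaf.algebra_section_stalk ⟨g u, hxV⟩
  let _ : Algebra Γ(U, W) (U.presheaf.stalk u) := U.presheaf.algebra_section_stalk ⟨u, huW⟩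
  let _ : Algebra Γ(X, V) (U.presheaf.stalk u) :=
    ((algebraMap Γ(U, W) (U.presheaf.stalk u)).comp (algebraMap Γ(X, V) Γ(U, W))).toAlgebra
  have t1 : IsScalarTower Γ(X, V) Γ(U, W) (U.presheaf.stalk u) :=
    IsScalarTower.of_algebraMap_eq (fun _ => rfl)
  have t2 : IsScalarTower Γ(X, V) (X.presheaf.stalk (g u)) (U.presheaf.stalk u) := by
    refine IsScalarTower.of_algebraMap_eq (fun r => ?_)
    rw [halg]
    change U.presheaf.germ W u huW ((g.appLE V W hWV').hom r) =
      (g.stalkMap u).hom (X.presheaf.germ V (g u) hxV r)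
    simp only [Scheme.Hom.germ_stalkMap_apply, Scheme.Hom.appLE,
      homOfLE_leOfHom, CommRingCat.hom_comp, RingHom.coe_comp, Function.comp_apply,
      U.presheaf.germ_res_apply]
  have hlocB : IsLocalization.AtPrime (U.presheaf.stalk u) (hW.primeIdealOf ⟨u, huW⟩).asIdeal :=
    hW.isLocalization_stalk ⟨u, huW⟩
  have hlocA : IsLocalization.AtPrime (X.presheaf.stalk (g u))
      (hV.primeIdealOf ⟨g u, hxV⟩).asIdeal := hV.isLocalization_stalk ⟨g u, hxV⟩
  have h1 : HasFactorization (etaleClass Γ(U, W)) (U.presheaf.stalk u) :=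
    hasFactorization_of_isLocalization Γ(U, W) (hW.primeIdealOf ⟨u, huW⟩).asIdeal.primeCompl _
  have h2 : HasFactorization (etaleClass Γ(X, V)) (U.presheaf.stalk u) :=
    hasFactorization_of_etale_of_hasFactorization Γ(X, V) Γ(U, W) (U.presheaf.stalk u) h1
  exact SmoothBr.hasFactorization_of_isLocalization_base Γ(X, V)
    (hV.primeIdealOf ⟨g u, hxV⟩).asIdeal.primeCompl (X.presheaf.stalk (g u))
    (U.presheaf.stalk u) h2

theorem residueField_map_surjective {A B : Type*} [CommRing A] [CommRing B] [IsLocalRing A]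
    [IsLocalRing B] (f : A →+* B) [IsLocalHom f] (hf : Function.Surjective f) :
    Function.Surjective (ResidueField.map f) := by
  intro z
  obtain ⟨b, rfl⟩ := residue_surjective z
  obtain ⟨a, rfl⟩ := hf b
  exact ⟨residue A a, ResidueField.map_residue f a⟩

/-- For an elementary étale neighbourhood the number of minimal primes of the local ring is at
most the number of branches downstairs. -/
theorem le_numBranchesAt {X U : Scheme.{u}} (g : U ⟶ X) [Etale g] (u : U)
    (hres : Function.Bijective (g.residueFieldMap u)) :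
    ENat.card (minimalPrimes (U.presheaf.stalk u)) ≤ Brnch.numBranchesAt X (g u) := by
  let _ : Algebra (X.presheaf.stalk (g u)) (U.presheaf.stalk u) := (g.stalkMap u).hom.toAlgebra
  have hloc1 : IsLocalHom (algebraMap (X.presheaf.stalk (g u)) (U.presheaf.stalk u)) := by
    change IsLocalHom (g.stalkMap u).hom
    infer_instance
  have hAB : HasFactorization (etaleClass (X.presheaf.stalk (g u))) (U.presheaf.stalk u) :=
    hasFactorization_stalkMap g u rfl
  let _ : Algebra (X.presheaf.stalk (g u)) (Hens (U.presheaf.stalk u)) :=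
    ((algebraMap (U.presheaf.stalk u) (Hens (U.presheaf.stalk u))).comp
      (g.stalkMap u).hom).toAlgebra
  have htow : IsScalarTower (X.presheaf.stalk (g u)) (U.presheaf.stalk u)
      (Hens (U.presheaf.stalk u)) := IsScalarTower.of_algebraMap_eq (fun _ => rfl)
  have hloc2 : IsLocalHom (algebraMap (X.presheaf.stalk (g u)) (Hens (U.presheaf.stalk u))) := by
    change IsLocalHom ((algebraMap (U.presheaf.stalk u) (Hens (U.presheaf.stalk u))).comp
      (g.stalkMap u).hom)
    infer_instance
  have hD : HasFactorization (etaleClass (X.presheaf.stalk (g u))) (Hens (U.presheaf.stalk u)) :=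
    hasFactorization_trans (X.presheaf.stalk (g u)) (U.presheaf.stalk u)
      (Hens (U.presheaf.stalk u)) ((isIndEtale_iff_hasFactorization _).mpr hAB)
      (hasFactorization_H (U.presheaf.stalk u) _)
  have hunr : Algebra.FormallyUnramified (X.presheaf.stalk (g u)) (U.presheaf.stalk u) := by
    rw [← RingHom.formallyUnramified_algebraMap, RingHom.algebraMap_toAlgebra]
    exact FormallyUnramified.stalkMap g u
  have heft : Algebra.EssFiniteType (X.presheaf.stalk (g u)) (U.presheaf.stalk u) := by
    rw [← RingHom.essFiniteType_algebraMap, RingHom.algebraMap_toAlgebra]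
    exact LocallyOfFiniteType.stalkMap g u
  have hmax : (maximalIdeal (X.presheaf.stalk (g u))).map
      (algebraMap (X.presheaf.stalk (g u)) (Hens (U.presheaf.stalk u))) =
      maximalIdeal (Hens (U.presheaf.stalk u)) := by
    rw [IsScalarTower.algebraMap_eq (X.presheaf.stalk (g u)) (U.presheaf.stalk u)
      (Hens (U.presheaf.stalk u)), ← Ideal.map_map, Algebra.FormallyUnramified.map_maximalIdeal]
    exact map_maximalIdeal_of_isHenselization (U.presheaf.stalk u) (Hens (U.presheaf.stalk u))
  have hressurj : Function.Surjective (ResidueField.map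
      (algebraMap (X.presheaf.stalk (g u)) (Hens (U.presheaf.stalk u)))) := by
    have h1 : ResidueField.map (algebraMap (X.presheaf.stalk (g u)) (Hens (U.presheaf.stalk u))) =
        (ResidueField.map (algebraMap (U.presheaf.stalk u) (Hens (U.presheaf.stalk u)))).comp
          (ResidueField.map (g.stalkMap u).hom) := by
      rw [← ResidueField.map_comp]
      rfl
    rw [h1]
    exact (residueField_map_bijective_of_isHenselization (U.presheaf.stalk u)
      (Hens (U.presheaf.stalk u))).2.comp hres.2
  have hH : Hensel.IsHenselization (X.presheaf.stalk (g u)) (Hens (U.presheaf.stalk u)) :=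
    isHenselization_of_hasFactorization (X.presheaf.stalk (g u)) (Hens (U.presheaf.stalk u)) hD
      inferInstance hmax hressurj
  have h1 := Branches.card_minimalPrimes_eq_numBranches (X.presheaf.stalk (g u))
    (Hens (U.presheaf.stalk u))
  have hff : Module.FaithfullyFlat (U.presheaf.stalk u) (Hens (U.presheaf.stalk u)) :=
    faithfullyFlat_of_isHenselization _ _
  have h2 := Compare.card_minimalPrimes_le_of_faithfullyFlat (U.presheaf.stalk u)
    (Hens (U.presheaf.stalk u))
  rw [h1] at h2
  exact h2

theorem residueField_map_surjective_of_eq {A B : Type*} [CommRing A] [CommRing B] [IsLocalRing A]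
    [IsLocalRing B] (f g : A →+* B) [IsLocalHom f] [IsLocalHom g] (h : f = g)
    (hg : Function.Surjective (ResidueField.map g)) : Function.Surjective (ResidueField.map f) := by
  subst h
  exact hg

section Res

variable (X : Scheme.{u}) {V : X.Opens} (hV : IsAffineOpen V)
  (E : Type u) [CommRing E] [Algebra Γ(X, V) E] [Algebra.Etale Γ(X, V) E]
  (q : Ideal E) [q.IsPrime]

/-- The residue field extension of `nbhdMap` at a prime, in terms of elements. -/
theorem residueFieldMap_nbhdMap_bijective
    (h : ∀ a : E, ∃ r s : Γ(X, V), s ∉ q.comap (algebraMap Γ(X, V) E) ∧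
      algebraMap Γ(X, V) E s * a - algebraMap Γ(X, V) E r ∈ q) :
    Function.Bijective ((nbhdMap X hV E).residueFieldMap (⟨q, inferInstance⟩ : PrimeSpectrum E)) := by
  refine ⟨((nbhdMap X hV E).residueFieldMap (⟨q, inferInstance⟩ : PrimeSpectrum E)).hom.injective,
    ?_⟩
  have h1 : Function.Surjective (Ideal.ResidueField.map (q.comap (algebraMap Γ(X, V) E)) q
      (algebraMap Γ(X, V) E) rfl) :=
    (Pairs.residueField_map_surjective_iff (q.comap (algebraMap Γ(X, V) E)) q rfl).mpr h
  set φ : Γ(X, V) ⟶ CommRingCat.of E := CommRingCat.ofHom (algebraMap Γ(X, V) E) with hφ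
  set p : PrimeSpectrum E := ⟨q, inferInstance⟩ with hp
  have h2 : Function.Surjective ((Spec.map φ).residueFieldMap p) := by
    have hst := Scheme.localRingHom_comp_stalkIso φ p
    have hl2 : IsLocalHom (Spec.stalkIso (CommRingCat.of E) p).inv.hom := isLocalHom_of_isIso _
    have hs1 : Function.Surjective (Spec.stalkIso Γ(X, V) (p.comap φ.hom)).hom.hom :=
      ((ConcreteCategory.isIso_iff_bijective (Spec.stalkIso Γ(X, V) (p.comap φ.hom)).hom).mp
          inferInstance).2
    have hs2 : Function.Surjective (Spec.stalkIso (CommRingCat.of E) p).inv.hom :=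
      ((ConcreteCategory.isIso_iff_bijective (Spec.stalkIso (CommRingCat.of E) p).inv).mp
          inferInstance).2
    have h3 : ∀ a, ((Spec.map φ).stalkMap p).hom a =
        (Spec.stalkIso (CommRingCat.of E) p).inv.hom
          (Localization.localRingHom (q.comap (algebraMap Γ(X, V) E)) q
            (algebraMap Γ(X, V) E) rfl
          ((Spec.stalkIso Γ(X, V) (p.comap φ.hom)).hom.hom a)) := by
      intro a
      rw [← hst]
      rfl
    change Function.Surjective (ResidueField.map ((Spec.map φ).stalkMap p).hom)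
    intro z
    obtain ⟨b, rfl⟩ := residue_surjective z
    obtain ⟨c, rfl⟩ := hs2 b
    obtain ⟨w, hw⟩ := h1 (residue _ c)
    obtain ⟨a', rfl⟩ := residue_surjective w
    obtain ⟨a, rfl⟩ := hs1 a'
    refine ⟨residue _ a, ?_⟩
    rw [ResidueField.map_residue, h3]
    change residue _ (Localization.localRingHom (q.comap (algebraMap Γ(X, V) E)) q
            (algebraMap Γ(X, V) E) rfl _) = residue _ c at hw
    rw [← sub_eq_zero, ← map_sub, residue_eq_zero_iff] at hw ⊢
    rw [← map_sub]
    intro hu
    exact hw (hl2.map_nonunit _ hu)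
  have h4 : (nbhdMap X hV E).residueFieldMap p =
      hV.fromSpec.residueFieldMap (Spec.map φ p) ≫ (Spec.map φ).residueFieldMap p :=
    Scheme.residueFieldMap_comp _ _ _
  rw [h4]
  have h5 : Function.Bijective (hV.fromSpec.residueFieldMap (Spec.map φ p)) :=
    (ConcreteCategory.isIso_iff_bijective _).mp inferInstance
  exact h2.comp h5.2

end Res

end Groth.Agent.Lib.Helper7.BrCount
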