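import Groth.Agent.Lib.Helper7.AlgSpBr6
import Groth.Agent.S9752
import Groth.Agent.Lib.Helper97.NormRed

/-!
# Elementary étale neighbourhoods of a point of an algebraic space (helper7)

* `numBranchesAt_eq_of_elemEtale`: the branch number is invariant under elementary étale
  neighbourhoods of schemes.
* `residueFieldMap_bijective_of_mono`: in the fibre product of two charts, the residue field
  extension over the first chart is trivial if the point of the second chart is a monomorphism.
* `isElemEtaleNbhd_of_etale`: an elementary étale neighbourhood of an elementary étale neighbourhood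
  is an elementary étale neighbourhood.
* `numBranchesAt_elem_eq`: all elementary étale neighbourhoods of a point have the same branch
  number.
-/

set_option autoImplicit false
set_option maxHeartbeats 400000
set_option linter.unusedSectionVars false
universe u

open CategoryTheory CategoryTheory.Limits AlgebraicGeometry Opposite IsLocalRing TensorProduct

namespace Groth.Agent.Lib.Helper7.AlgSpBr

open AlgSp Groth.Agent.Lib.Helper52 Groth.Agent.Lib.Helper51 Groth.Agent.Lib.Helper37.Hz
  Groth.Agent.Lib.Helper4 Groth.Agent.Lib.Helper7.BrCount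

/-- An algebra over a field whose two coprojections to the tensor square agree is a quotient of the
field. -/
theorem surjective_algebraMap_of_forall_tmul_eq (k L : Type*) [Field k] [CommRing L] [Nontrivial L]
    [Algebra k L] (h : ∀ l : L, (1 : L) ⊗ₜ[k] l = l ⊗ₜ[k] (1 : L)) :
    Function.Surjective (algebraMap k L) := by
  let R' : Submodule k L := LinearMap.range (Algebra.linearMap k L)
  intro l
  have h1 : (LinearMap.lTensor L R'.mkQ) ((1 : L) ⊗ₜ[k] l) =
      (LinearMap.lTensor L R'.mkQ) (l ⊗ₜ[k] (1 : L)) := by rw [h]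
  rw [LinearMap.lTensor_tmul, LinearMap.lTensor_tmul] at h1
  have h2 : R'.mkQ (1 : L) = 0 :=
    (Submodule.Quotient.mk_eq_zero R').mpr ⟨1, by simp⟩
  rw [h2, TensorProduct.tmul_zero] at h1
  have hinj : Function.Injective (LinearMap.rTensor (L ⧸ R') (Algebra.linearMap k L)) :=
    Module.Flat.rTensor_preserves_injective_linearMap _ (algebraMap k L).injective
  have h3 : LinearMap.rTensor (L ⧸ R') (Algebra.linearMap k L) ((1 : k) ⊗ₜ[k] R'.mkQ l) = 0 := by
    rw [LinearMap.rTensor_tmul]
    simpa using h1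
  have h4 : (1 : k) ⊗ₜ[k] R'.mkQ l = 0 := hinj (by rw [h3, map_zero])
  have h5 : R'.mkQ l = 0 := by
    have := congrArg (TensorProduct.lid k (L ⧸ R')) h4
    simpa using this
  obtain ⟨c, hc⟩ := (Submodule.Quotient.mk_eq_zero R').mp h5
  exact ⟨c, hc⟩

/-- The branch number is invariant under elementary étale neighbourhoods. -/
theorem numBranchesAt_eq_of_elemEtale {X U : Scheme.{u}} (g : U ⟶ X) [Etale g] (u : U)
    (hres : Function.Bijective (g.residueFieldMap u)) :
    Brnch.numBranchesAt U u = Brnch.numBranchesAt X (g u) := by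
  let _ : Algebra (X.presheaf.stalk (g u)) (U.presheaf.stalk u) := (g.stalkMap u).hom.toAlgebra
  have hloc1 : IsLocalHom (algebraMap (X.presheaf.stalk (g u)) (U.presheaf.stalk u)) := by
    change IsLocalHom (g.stalkMap u).hom
    infer_instance
  have hAB : HasFactorization (etaleClass (X.presheaf.stalk (g u))) (U.presheaf.stalk u) :=
    hasFactorization_stalkMap g u rfl
  let _ : Algebra (X.presheaf.stalk (g u)) (Hens (U.presheaf.stalk u)) :=
    ((algebraMap (U.presheaf.stalk u) (Hens (U.presheaf.stalk u))).comp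
      (g.stalkMap u).hom).toAlgebra
  have htow : IsScalarTower (X.presheaf.stalk (g u)) (U.presheaf.stalk u)
      (Hens (U.presheaf.stalk u)) := IsScalarTower.of_algebraMap_eq (fun _ => rfl)
  have hloc2 : IsLocalHom (algebraMap (X.presheaf.stalk (g u)) (Hens (U.presheaf.stalk u))) := by
    change IsLocalHom ((algebraMap (U.presheaf.stalk u) (Hens (U.presheaf.stalk u))).comp
      (g.stalkMap u).hom)
    infer_instance
  have hD : HasFactorization (etaleClass (X.presheaf.stalk (g u))) (Hens (U.presheaf.stalk u)) :=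
    hasFactorization_trans (X.presheaf.stalk (g u)) (U.presheaf.stalk u)
      (Hens (U.presheaf.stalk u)) ((isIndEtale_iff_hasFactorization _).mpr hAB)
      (hasFactorization_H (U.presheaf.stalk u) _)
  have hunr : Algebra.FormallyUnramified (X.presheaf.stalk (g u)) (U.presheaf.stalk u) := by
    rw [← RingHom.formallyUnramified_algebraMap, RingHom.algebraMap_toAlgebra]
    exact FormallyUnramified.stalkMap g u
  have heft : Algebra.EssFiniteType (X.presheaf.stalk (g u)) (U.presheaf.stalk u) := by
    rw [← RingHom.essFiniteType_algebraMap, RingHom.algebraMap_toAlgebra]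
    exact LocallyOfFiniteType.stalkMap g u
  have hmax : (maximalIdeal (X.presheaf.stalk (g u))).map
      (algebraMap (X.presheaf.stalk (g u)) (Hens (U.presheaf.stalk u))) =
      maximalIdeal (Hens (U.presheaf.stalk u)) := by
    rw [IsScalarTower.algebraMap_eq (X.presheaf.stalk (g u)) (U.presheaf.stalk u)
      (Hens (U.presheaf.stalk u)), ← Ideal.map_map, Algebra.FormallyUnramified.map_maximalIdeal]
    exact map_maximalIdeal_of_isHenselization (U.presheaf.stalk u) (Hens (U.presheaf.stalk u))
  have hressurj : Function.Surjective (ResidueField.map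
      (algebraMap (X.presheaf.stalk (g u)) (Hens (U.presheaf.stalk u)))) := by
    have h1 : ResidueField.map (algebraMap (X.presheaf.stalk (g u)) (Hens (U.presheaf.stalk u))) =
        (ResidueField.map (algebraMap (U.presheaf.stalk u) (Hens (U.presheaf.stalk u)))).comp
          (ResidueField.map (g.stalkMap u).hom) := by
      rw [← ResidueField.map_comp]
      rfl
    rw [h1]
    exact (residueField_map_bijective_of_isHenselization (U.presheaf.stalk u)
      (Hens (U.presheaf.stalk u))).2.comp hres.2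
  have hH : Hensel.IsHenselization (X.presheaf.stalk (g u)) (Hens (U.presheaf.stalk u)) :=
    isHenselization_of_hasFactorization (X.presheaf.stalk (g u)) (Hens (U.presheaf.stalk u)) hD
      inferInstance hmax hressurj
  have h1 := Branches.card_minimalPrimes_eq_numBranches (X.presheaf.stalk (g u))
    (Hens (U.presheaf.stalk u))
  have h0 := Branches.card_minimalPrimes_eq_numBranches (U.presheaf.stalk u)
    (Hens (U.presheaf.stalk u))
  exact h0.symm.trans h1

/-- A split monomorphism followed by a monomorphism is a monomorphism (explicit hypotheses, for use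
when the objects are only definitionally equal). -/
theorem mono_of_split_comp {C : Type*} [Category C] {X Y Z : C} (e : X ⟶ Y) (einv : Y ⟶ X)
    (hid : e ≫ einv = 𝟙 X) (m : Y ⟶ Z) (hm : Mono m) : Mono (e ≫ m) := by
  refine ⟨fun g₁ g₂ hg => ?_⟩
  have hg' : (g₁ ≫ e) ≫ m = (g₂ ≫ e) ≫ m := by
    rw [Category.assoc, Category.assoc]; exact hg
  have h2 := hm.right_cancellation _ _ hg'
  calc g₁ = g₁ ≫ (e ≫ einv) := by rw [hid, Category.comp_id]
    _ = (g₁ ≫ e) ≫ einv := (Category.assoc _ _ _).symm
    _ = (g₂ ≫ e) ≫ einv := by rw [h2]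
    _ = g₂ ≫ (e ≫ einv) := Category.assoc _ _ _
    _ = g₂ := by rw [hid, Category.comp_id]

variable {S : Scheme.{u}} {F : AlgSp.Sp S}

/-- In the fibre product `W` of two charts `U`, `U₀` of a sheaf, at a point `w` whose image in `U₀`
defines a monomorphism `Spec κ ⟶ F`, the residue field extension `κ(φ w) → κ(w)` is trivial. -/
theorem residueFieldMap_bijective_of_mono {U U₀ W : Over S} (a : (AlgSp.yon S).obj U ⟶ F)
    (a₀ : (AlgSp.yon S).obj U₀ ⟶ F) (φ : W ⟶ U) (ψ : W ⟶ U₀)
    (sq : IsPullback ((AlgSp.yon S).map φ) ((AlgSp.yon S).map ψ) a a₀) (w : ↥W.left)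
    (hmono : Mono (FieldPt.ofPt a₀ (ψ.left w)).toHom) :
    Function.Bijective (φ.left.residueFieldMap w) := by
  refine ⟨(φ.left.residueFieldMap w).hom.injective, ?_⟩
  letI : Algebra (U.left.residueField (φ.left w)) (W.left.residueField w) :=
    (φ.left.residueFieldMap w).hom.toAlgebra
  refine surjective_algebraMap_of_forall_tmul_eq (U.left.residueField (φ.left w))
    (W.left.residueField w) ?_
  let k := U.left.residueField (φ.left w)
  let L := W.left.residueField w
  let i₁ : L →+* L ⊗[k] L := Algebra.TensorProduct.includeLeftRingHom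
  let i₂ : L →+* L ⊗[k] L :=
    (Algebra.TensorProduct.includeRight (R := k) (A := L) (B := L)).toRingHom
  suffices h : i₁ = i₂ by
    intro l
    exact (congrArg (fun f => f l) h).symm
  let p₁ : Spec (CommRingCat.of (L ⊗[k] L)) ⟶ Spec L := Spec.map (CommRingCat.ofHom i₁)
  let p₂ : Spec (CommRingCat.of (L ⊗[k] L)) ⟶ Spec L := Spec.map (CommRingCat.ofHom i₂)
  suffices hp : p₁ = p₂ by
    have h1 := Spec.map_injective hp
    exact congrArg CommRingCat.Hom.hom h1
  let jw : Spec L ⟶ W.left := W.left.fromSpecResidueField w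
  have hC : p₁ ≫ jw ≫ φ.left = p₂ ≫ jw ≫ φ.left := by
    have h1 := Scheme.Hom.SpecMap_residueFieldMap_fromSpecResidueField φ.left w
    have h2 : p₁ ≫ Spec.map (φ.left.residueFieldMap w) = p₂ ≫ Spec.map (φ.left.residueFieldMap w) := by
      rw [← Spec.map_comp, ← Spec.map_comp]
      congr 1
      ext x
      change (algebraMap k L x) ⊗ₜ[k] (1 : L) = (1 : L) ⊗ₜ[k] (algebraMap k L x)
      rw [Algebra.algebraMap_eq_smul_one, TensorProduct.smul_tmul]
    rw [← h1, ← Category.assoc, ← Category.assoc, h2]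
  have hS : p₁ ≫ jw ≫ W.hom = p₂ ≫ jw ≫ W.hom := by
    have hw : φ.left ≫ U.hom = W.hom := Over.w φ
    have h3 := congrArg (fun m => m ≫ U.hom) hC
    simp only [Category.assoc, hw] at h3
    exact h3
  let TO : Over S := Over.mk (p₁ ≫ jw ≫ W.hom)
  let q₁ : TO ⟶ W := Over.homMk (p₁ ≫ jw) (by simp [TO])
  let q₂ : TO ⟶ W := Over.homMk (p₂ ≫ jw) (by
    change (p₂ ≫ jw) ≫ W.hom = p₁ ≫ jw ≫ W.hom
    rw [Category.assoc]
    exact hS.symm)
  have hφ : q₁ ≫ φ = q₂ ≫ φ := by
    apply Over.OverMorphism.ext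
    change (p₁ ≫ jw) ≫ φ.left = (p₂ ≫ jw) ≫ φ.left
    rw [Category.assoc, Category.assoc]
    exact hC
  -- the second components, through the monomorphism
  let j₀ := U₀.left.fromSpecResidueField (ψ.left w)
  have hnat := Scheme.Hom.SpecMap_residueFieldMap_fromSpecResidueField ψ.left w
  let P₀ : Over S := Over.mk (j₀ ≫ U₀.hom)
  let ρ : P₀ ⟶ U₀ := Over.homMk j₀ rfl
  have hto : (FieldPt.ofPt a₀ (ψ.left w)).toHom = (AlgSp.yon S).map ρ ≫ a₀ :=
    FieldPt.toHom_ofPt a₀ (ψ.left w)
  have hr : ∀ (p : Spec (CommRingCat.of (L ⊗[k] L)) ⟶ Spec L),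
      (p ≫ Spec.map (ψ.left.residueFieldMap w)) ≫ j₀ ≫ U₀.hom = p ≫ jw ≫ W.hom := by
    intro p
    have hw : ψ.left ≫ U₀.hom = W.hom := Over.w ψ
    rw [← hw, Category.assoc, ← Category.assoc (Spec.map (ψ.left.residueFieldMap w)), hnat,
      Category.assoc]
  let r₁ : TO ⟶ P₀ := Over.homMk (p₁ ≫ Spec.map (ψ.left.residueFieldMap w)) (hr p₁)
  let r₂ : TO ⟶ P₀ := Over.homMk (p₂ ≫ Spec.map (ψ.left.residueFieldMap w)) ((hr p₂).trans hS.symm)
  have hr₁ : r₁ ≫ ρ = q₁ ≫ ψ := by
    apply Over.OverMorphism.ext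
    change (p₁ ≫ Spec.map (ψ.left.residueFieldMap w)) ≫ j₀ = (p₁ ≫ jw) ≫ ψ.left
    rw [Category.assoc, hnat, Category.assoc]
  have hr₂ : r₂ ≫ ρ = q₂ ≫ ψ := by
    apply Over.OverMorphism.ext
    change (p₂ ≫ Spec.map (ψ.left.residueFieldMap w)) ≫ j₀ = (p₂ ≫ jw) ≫ ψ.left
    rw [Category.assoc, hnat, Category.assoc]
  have hyr : (AlgSp.yon S).map r₁ ≫ (FieldPt.ofPt a₀ (ψ.left w)).toHom =
      (AlgSp.yon S).map r₂ ≫ (FieldPt.ofPt a₀ (ψ.left w)).toHom := by
    rw [hto, ← Category.assoc, ← Category.assoc, ← Functor.map_comp, ← Functor.map_comp, hr₁, hr₂,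
      Functor.map_comp, Functor.map_comp, Category.assoc, Category.assoc, ← sq.w,
      ← Category.assoc, ← Category.assoc, ← Functor.map_comp, ← Functor.map_comp, hφ]
  have hrr : r₁ = r₂ := (AlgSp.yon S).map_injective
    (hmono.right_cancellation ((AlgSp.yon S).map r₁) ((AlgSp.yon S).map r₂) hyr)
  have hψ : q₁ ≫ ψ = q₂ ≫ ψ := by rw [← hr₁, ← hr₂, hrr]
  have hq : q₁ = q₂ := by
    apply (AlgSp.yon S).map_injective
    apply sq.hom_ext
    · rw [← Functor.map_comp, ← Functor.map_comp, hφ]
    · rw [← Functor.map_comp, ← Functor.map_comp, hψ]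
  have hpj : p₁ ≫ jw = p₂ ≫ jw := congrArg (fun f => f.left) hq
  exact (cancel_mono jw).mp hpj

/-- An elementary étale neighbourhood (of schemes) of an elementary étale neighbourhood of a point
of a sheaf is again an elementary étale neighbourhood of that point. -/
theorem isElemEtaleNbhd_of_etale {U : Over S} (a : (AlgSp.yon S).obj U ⟶ F) {U' : Scheme.{u}}
    (g : U' ⟶ U.left) (hg : Etale g) (u' : U') (x : AlgSp.Points F)
    (h : AlgSp.IsElemEtaleNbhd a (g u') x) (hres : Function.Bijective (g.residueFieldMap u')) :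
    AlgSp.IsElemEtaleNbhd ((AlgSp.yon S).map (etOverHom U g) ≫ a) (u' : ↥(etOver U g).left) x := by
  refine ⟨repWith_etOver a h.etale g hg, ?_, ?_⟩
  · rw [ofPt_etOver]
    exact h.ofPt_eq
  · haveI : IsIso (g.residueFieldMap u') := (ConcreteCategory.isIso_iff_bijective _).mpr hres
    have hnat := Scheme.Hom.SpecMap_residueFieldMap_fromSpecResidueField g u'
    let ei : Over.mk (U'.fromSpecResidueField u' ≫ g ≫ U.hom) ≅
        Over.mk (U.left.fromSpecResidueField (g u') ≫ U.hom) :=
      Over.isoMk (asIso (Spec.map (g.residueFieldMap u'))) (by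
        change Spec.map (g.residueFieldMap u') ≫ U.left.fromSpecResidueField (g u') ≫ U.hom =
          U'.fromSpecResidueField u' ≫ g ≫ U.hom
        rw [← Category.assoc, hnat, Category.assoc])
    have hkey : (FieldPt.ofPt ((AlgSp.yon S).map (etOverHom U g) ≫ a)
        (u' : ↥(etOver U g).left)).toHom =
        (AlgSp.yon S).map ei.hom ≫ (FieldPt.ofPt a (g u')).toHom := by
      rw [FieldPt.toHom_ofPt, FieldPt.toHom_ofPt]
      have e1 : (Over.homMk ((etOver U g).left.fromSpecResidueField u') rfl :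
          Over.mk ((etOver U g).left.fromSpecResidueField u' ≫ (etOver U g).hom) ⟶ etOver U g) ≫
            etOverHom U g =
          ei.hom ≫ (Over.homMk (U.left.fromSpecResidueField (g u')) rfl :
            Over.mk (U.left.fromSpecResidueField (g u') ≫ U.hom) ⟶ U) :=
        Over.OverMorphism.ext hnat.symm
      calc (AlgSp.yon S).map (Over.homMk ((etOver U g).left.fromSpecResidueField u') rfl) ≫
            (AlgSp.yon S).map (etOverHom U g) ≫ a
          = (AlgSp.yon S).map ((Over.homMk ((etOver U g).left.fromSpecResidueField u') rfl :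
              Over.mk ((etOver U g).left.fromSpecResidueField u' ≫ (etOver U g).hom) ⟶ etOver U g) ≫
                etOverHom U g) ≫ a := by
            rw [Functor.map_comp, Category.assoc]
        _ = (AlgSp.yon S).map (ei.hom ≫ (Over.homMk (U.left.fromSpecResidueField (g u')) rfl :
              Over.mk (U.left.fromSpecResidueField (g u') ≫ U.hom) ⟶ U)) ≫ a := by rw [e1]; rfl
        _ = _ := by rw [Functor.map_comp, Category.assoc]; rfl
    rw [hkey]
    have hid : (AlgSp.yon S).map ei.hom ≫ (AlgSp.yon S).map ei.inv = 𝟙 _ :=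
      ((AlgSp.yon S).mapIso ei).hom_inv_id
    exact mono_of_split_comp _ _ hid _ h.mono

/-- All elementary étale neighbourhoods of a point of a sheaf have the same branch number. -/
theorem numBranchesAt_elem_eq {U U₀ : Over S} (a : (AlgSp.yon S).obj U ⟶ F)
    (a₀ : (AlgSp.yon S).obj U₀ ⟶ F) (u : ↥U.left) (u₀ : ↥U₀.left) (x : AlgSp.Points F)
    (h : AlgSp.IsElemEtaleNbhd a u x) (h₀ : AlgSp.IsElemEtaleNbhd a₀ u₀ x) :
    Brnch.numBranchesAt U.left u = Brnch.numBranchesAt U₀.left u₀ := by
  obtain ⟨W, φ, ψ, sq⟩ := exists_isPullback_of_representable h.etale.1 a₀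
  obtain ⟨w, hw1, hw2⟩ := exists_of_ofPt_eq_ofPt sq (h.ofPt_eq.trans h₀.ofPt_eq.symm)
  subst hw1 hw2
  have hψ : Etale ψ.left := h.etale.2 a₀ _ ψ sq
  have hφ : Etale φ.left := h₀.etale.2 a _ φ sq.flip
  have r1 := residueFieldMap_bijective_of_mono a a₀ φ ψ sq w h₀.mono
  have r2 := residueFieldMap_bijective_of_mono a₀ a ψ φ sq.flip w h.mono
  rw [← numBranchesAt_eq_of_elemEtale φ.left w r1, ← numBranchesAt_eq_of_elemEtale ψ.left w r2]

/-- Elementary étale neighbourhoods of schemes over an elementary étale neighbourhood of `x`. -/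
theorem isElemEtaleNbhd_of_isEtaleNbhd {U : Over S} (a : (AlgSp.yon S).obj U ⟶ F) (u : ↥U.left)
    (x : AlgSp.Points F) (h : AlgSp.IsElemEtaleNbhd a u x) {U' : Scheme.{u}} (g : U' ⟶ U.left)
    (u' : U') (hg : Hens2.IsEtaleNbhd g u' u) :
    AlgSp.IsElemEtaleNbhd ((AlgSp.yon S).map (etOverHom U g) ≫ a) (u' : ↥(etOver U g).left) x := by
  have hb : g u' = u := hg.base_eq
  subst hb
  exact isElemEtaleNbhd_of_etale a g hg.etale u' x h hg.residue_bijective

end Groth.Agent.Lib.Helper7.AlgSpBr
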