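import Groth.Agent.Lib.Helper7.AlgSpBr7

/-!
# Branches at a point of a sheaf via elementary étale neighbourhoods (helper7)
-/

set_option autoImplicit false
set_option maxHeartbeats 400000
set_option linter.unusedSectionVars false
universe u

open CategoryTheory CategoryTheory.Limits AlgebraicGeometry Opposite IsLocalRing

namespace Groth.Agent.Lib.Helper7.AlgSpBr

open AlgSp Groth.Agent.Lib.Helper52 Groth.Agent.Lib.Helper51 Groth.Agent.Lib.Helper37.Hz
  Groth.Agent.Lib.Helper4 Groth.Agent.Lib.Helper7.BrCount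

variable {S : Scheme.{u}} {F : AlgSp.Sp S}

/-- The number of components through the point of an elementary étale neighbourhood is at most
the common branch number. -/
theorem encard_components_le_numBranchesAt (U : Scheme.{u}) (u : U) :
    {Z : Set ↥U | Z ∈ irreducibleComponents ↥U ∧ u ∈ Z}.encard ≤ Brnch.numBranchesAt U u := by
  rw [encard_eq_card_minimalPrimes]
  exact FibBr.card_minimalPrimes_le_numBranches _

/-- If all elementary étale neighbourhoods of `x` have at most `n` components through the point,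
the branch number of any of them is at most `n`. -/
theorem numBranchesAt_le_of_elem (x : AlgSp.Points F) (n : ℕ∞)
    (h : ∀ (U : Over S) (a : (AlgSp.yon S).obj U ⟶ F) (u : ↥U.left), AlgSp.IsElemEtaleNbhd a u x →
      {Z : Set ↥U.left | Z ∈ irreducibleComponents ↥U.left ∧ u ∈ Z}.encard ≤ n)
    {U₀ : Over S} (a₀ : (AlgSp.yon S).obj U₀ ⟶ F) (u₀ : ↥U₀.left)
    (h₀ : AlgSp.IsElemEtaleNbhd a₀ u₀ x) : Brnch.numBranchesAt U₀.left u₀ ≤ n := by
  rw [Groth.Agent.S9752.result]
  refine iSup_le fun U' => iSup_le fun g => iSup_le fun u' => iSup_le fun hg => ?_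
  exact h (etOver U₀ g) _ u' (isElemEtaleNbhd_of_isEtaleNbhd a₀ u₀ x h₀ g u' hg)

/-- The branch number is attained by the number of components of some elementary étale
neighbourhood. -/
theorem exists_elem_le_encard (x : AlgSp.Points F) {U₀ : Over S} (a₀ : (AlgSp.yon S).obj U₀ ⟶ F)
    (u₀ : ↥U₀.left) (h₀ : AlgSp.IsElemEtaleNbhd a₀ u₀ x) (n : ℕ)
    (hn : (n : ℕ∞) ≤ Brnch.numBranchesAt U₀.left u₀) :
    ∃ (U : Over S) (a : (AlgSp.yon S).obj U ⟶ F) (u : ↥U.left), AlgSp.IsElemEtaleNbhd a u x ∧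
      (n : ℕ∞) ≤ {Z : Set ↥U.left | Z ∈ irreducibleComponents ↥U.left ∧ u ∈ Z}.encard := by
  obtain ⟨U', g, u', hg, hcard⟩ := Groth.Agent.S9752.exists_nbhd U₀.left u₀ n hn
  exact ⟨etOver U₀ g, _, u', isElemEtaleNbhd_of_isEtaleNbhd a₀ u₀ x h₀ g u' hg, hcard⟩

theorem one_le_card_minimalPrimes (A : Type*) [CommRing A] [Nontrivial A] :
    1 ≤ ENat.card (minimalPrimes A) := by
  have h1 : Nonempty (minimalPrimes A) := Ideal.nonempty_minimalPrimes (I := (⊥ : Ideal A)) bot_ne_top
  rw [ENat.one_le_iff_ne_zero]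
  intro h0
  rw [ENat.card_eq_zero_iff_empty] at h0
  exact h0.elim h1.some

end Groth.Agent.Lib.Helper7.AlgSpBr
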