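import Groth.Agent.Lib.Helper7.BrBC1

/-!
# Recognising a strict henselization of a localization (helper7)

A henselian local ring `E` with separably closed residue field, ind-étale over a ring `N`, is a
strict henselization of the localization of `N` at the contraction of its maximal ideal.
-/

set_option autoImplicit false
set_option maxHeartbeats 400000
set_option linter.style.haveILetI false
set_option linter.unusedSectionVars false
universe v

open TensorProduct IsLocalRing

namespace Groth.Agent.Lib.Helper7.AlgSpSH

open Groth.Agent.Lib.Helper4 Groth.Agent.Lib.Helper37.Hz Groth.Agent.Lib.Helper37.Hz.SmoothBr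

variable (N E : Type v) [CommRing N] [CommRing E] [IsLocalRing E] [Algebra N E]

/-- The contraction of the maximal ideal. -/
def ctr : Ideal N := (maximalIdeal E).comap (algebraMap N E)

instance : (ctr N E).IsPrime := Ideal.comap_isPrime _ _

theorem isUnit_algebraMap_of_mem_primeCompl (s : (ctr N E).primeCompl) :
    IsUnit (algebraMap N E s) := by
  by_contra h
  exact s.2 ((mem_maximalIdeal _).mpr h)

/-- The algebra structure of `E` over the localization. -/
noncomputable def algLoc : Algebra (Localization.AtPrime (ctr N E)) E :=
  (IsLocalization.lift (M := (ctr N E).primeCompl) (g := algebraMap N E)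
    (isUnit_algebraMap_of_mem_primeCompl N E)).toAlgebra

theorem isStrictHenselization_atPrime
    (hW : HasFactorization (etaleClass N) E) (hh : HenselianLocalRing E)
    (hsc : IsSepClosed (ResidueField E)) :
    letI := algLoc N E
    ∃ (_ : IsLocalHom (algebraMap (Localization.AtPrime (ctr N E)) E)),
      Hensel.IsStrictHenselization (Localization.AtPrime (ctr N E)) E := by
  letI := algLoc N E
  haveI : IsScalarTower N (Localization.AtPrime (ctr N E)) E :=
    IsScalarTower.of_algebraMap_eq' (IsLocalization.lift_comp _).symm
  haveI hloc : IsLocalHom (algebraMap (Localization.AtPrime (ctr N E)) E) := by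
    refine isLocalHom_of_atPrime (ctr N E) _ fun r hr => ?_
    rw [← IsScalarTower.algebraMap_apply N (Localization.AtPrime (ctr N E)) E]
    exact hr
  have hfac : HasFactorization (etaleClass (Localization.AtPrime (ctr N E))) E :=
    hasFactorization_of_isLocalization_base N (ctr N E).primeCompl
      (Localization.AtPrime (ctr N E)) E hW
  haveI : Algebra.IsSeparable (ResidueField (Localization.AtPrime (ctr N E))) (ResidueField E) :=
    isSeparable_residueField_of_hasFactorization (Localization.AtPrime (ctr N E)) E hfac
  exact ⟨hloc, isStrictHenselization_of_hasFactorization (Localization.AtPrime (ctr N E)) E hfac hh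
    ⟨hsc, inferInstance⟩⟩

end Groth.Agent.Lib.Helper7.AlgSpSH
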