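import Groth.Agent.Lib.Helper7.AlgSpBr5
import Groth.Agent.Lib.Helper7.AlgSpSH1

/-!
# The étale local ring of an algebraic space is ind-étale over the sections of an affine étale
neighbourhood (helper7)
-/

set_option autoImplicit false
set_option maxHeartbeats 800000
set_option linter.unusedSectionVars false
set_option linter.style.haveILetI false
universe u

open CategoryTheory CategoryTheory.Limits AlgebraicGeometry Opposite

set_option backward.isDefEq.respectTransparency false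

namespace Groth.Agent.Lib.Helper7.AlgSpSH

open AlgSp Groth.Agent.Lib.Helper52 Groth.Agent.Lib.Helper51 Groth.Agent.Lib.Helper51.Hens
  Groth.Agent.Lib.Helper37.Hz Groth.Agent.Lib.Helper4

variable {S : Scheme.{u}} {X : AlgSp.Sp S} (p : AlgSp.FieldPt X)

/-- The algebra structure on the étale local ring over the (universe-lifted) sections of an étale
neighbourhood. -/
noncomputable def algD (N₀ : AlgSp.EtNbhd p) :
    Algebra (ULift.{u + 1} Γ(N₀.1.obj.left.left, ⊤)) ↥(AlgSp.OEtStalk p) :=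
  ((germ p N₀).comp (ULift.ringEquiv (R := Γ(N₀.1.obj.left.left, ⊤))).toRingHom).toAlgebra

/-- Restriction of functions along a morphism of étale neighbourhoods. -/
noncomputable def res {N N' : AlgSp.EtNbhd p} (ψ : N' ⟶ N) :
    Γ(N.1.obj.left.left, ⊤) →+* Γ(N'.1.obj.left.left, ⊤) :=
  ψ.1.hom.left.left.appTop.hom

theorem germ_res {N N' : AlgSp.EtNbhd p} (ψ : N' ⟶ N) (s : Γ(N.1.obj.left.left, ⊤)) :
    germ p N' (res p ψ s) = germ p N s :=
  germ_map p ψ s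

theorem res_comp {N N' N'' : AlgSp.EtNbhd p} (ψ' : N'' ⟶ N') (ψ : N' ⟶ N)
    (s : Γ(N.1.obj.left.left, ⊤)) : res p (ψ' ≫ ψ) s = res p ψ' (res p ψ s) := by
  unfold res
  change ((ψ'.1.hom.left.left ≫ ψ.1.hom.left.left).appTop.hom s) = _
  rw [Scheme.Hom.comp_appTop]
  rfl

theorem exists_affine_refinement (N : AlgSp.EtNbhd p) :
    ∃ (N' : AlgSp.EtNbhd p) (_ : N' ⟶ N), IsAffine N'.1.obj.left.left := by
  let U := N.1.obj.left
  obtain ⟨W, hW, huW, -⟩ := exists_isAffineOpen_mem_and_subset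
    (x := N.2.1.left (IsLocalRing.closedPoint p.K)) (U := (⊤ : U.left.Opens))
    (TopologicalSpace.Opens.mem_top _)
  have hrange : Set.range N.2.1.left ⊆ Set.range W.ι := by
    rw [Scheme.Opens.range_ι]
    rintro _ ⟨x, rfl⟩
    have hx : x = IsLocalRing.closedPoint p.K := Subsingleton.elim (α := PrimeSpectrum p.K) _ _
    rw [hx]
    exact huW
  let l : p.pt ⟶ opensOver U W :=
    Over.homMk (IsOpenImmersion.lift W.ι N.2.1.left hrange) (by
      change IsOpenImmersion.lift W.ι N.2.1.left hrange ≫ W.ι ≫ U.hom = p.str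
      rw [IsOpenImmersion.lift_fac_assoc]
      exact Over.w N.2.1)
  have hl : l ≫ opensOverι U W = N.2.1 :=
    Over.OverMorphism.ext (IsOpenImmersion.lift_fac W.ι N.2.1.left hrange)
  have hj : Etale (opensOverι U W).left := inferInstanceAs (Etale W.ι)
  exact ⟨nbhdOfEtale p N (opensOverι U W) hj l hl, nbhdOfEtaleHom p N _ hj l hl, hW⟩

variable (hX : AlgSp.IsAlgSpace X) (hp : p.IsGeometric)

include hX hp in
theorem exists_nbhd_forall_res_eq_zero (N : AlgSp.EtNbhd p) (T : Finset Γ(N.1.obj.left.left, ⊤))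
    (h : ∀ t ∈ T, germ p N t = 0) :
    ∃ (N' : AlgSp.EtNbhd p) (ψ : N' ⟶ N), ∀ t ∈ T, res p ψ t = 0 := by
  classical
  induction T using Finset.induction_on with
  | empty => exact ⟨N, 𝟙 _, by simp⟩
  | insert t T _ ih =>
    obtain ⟨N₁, ψ₁, h₁⟩ := ih (fun t ht => h t (Finset.mem_insert_of_mem ht))
    obtain ⟨N₂, ψ₂, h₂⟩ := (germ_eq_zero_iff p hX hp N₁ (res p ψ₁ t)).1 (by
      rw [germ_res]; exact h t (Finset.mem_insert_self t T))
    refine ⟨N₂, ψ₂ ≫ ψ₁, ?_⟩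
    intro s hs
    rw [res_comp]
    rcases Finset.mem_insert.mp hs with rfl | hs
    · exact h₂
    · rw [h₁ s hs, map_zero]

include hX hp in
/-- The étale local ring is ind-étale over the sections of any affine étale neighbourhood. -/
theorem hasFactorization_OEtStalk (N₀ : AlgSp.EtNbhd p) (hN₀ : IsAffine N₀.1.obj.left.left) :
    letI := algD p N₀
    HasFactorization (etaleClass (ULift.{u + 1} Γ(N₀.1.obj.left.left, ⊤))) ↥(AlgSp.OEtStalk p) := by
  letI := algD p N₀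
  intro P _ _ hP φ
  classical
  obtain ⟨n, f, hfs, G, hG⟩ := Algebra.FinitePresentation.out
    (R := ULift.{u + 1} Γ(N₀.1.obj.left.left, ⊤)) (A := P)
  let down : ULift.{u + 1} Γ(N₀.1.obj.left.left, ⊤) →+* Γ(N₀.1.obj.left.left, ⊤) :=
    (ULift.ringEquiv (R := Γ(N₀.1.obj.left.left, ⊤))).toRingHom
  let x : Fin n → ↥(AlgSp.OEtStalk p) := fun i => φ (f (MvPolynomial.X i))
  obtain ⟨N₁, ψ₁, hN₁⟩ := exists_nbhd_forall_mem_range p hX hp (Finset.univ.image x) N₀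
  have hex : ∀ i, ∃ a : Γ(N₁.1.obj.left.left, ⊤), germ p N₁ a = x i := fun i =>
    hN₁ (x i) (Finset.mem_image_of_mem x (Finset.mem_univ i))
  choose a₁ ha₁ using hex
  let ρ₁ : ULift.{u + 1} Γ(N₀.1.obj.left.left, ⊤) →+* Γ(N₁.1.obj.left.left, ⊤) :=
    (res p ψ₁).comp down
  have key : ∀ g, germ p N₁ (MvPolynomial.eval₂ ρ₁ a₁ g) = φ (f g) := by
    intro g
    rw [MvPolynomial.eval₂_comp_left (germ p N₁) ρ₁ a₁ g]
    have h1 : (germ p N₁).comp ρ₁ =
        algebraMap (ULift.{u + 1} Γ(N₀.1.obj.left.left, ⊤)) ↥(AlgSp.OEtStalk p) := by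
      ext r
      exact germ_res p ψ₁ _
    have h2 : (germ p N₁) ∘ a₁ = x := funext ha₁
    rw [h1, h2]
    have h3 : φ.comp f = MvPolynomial.aeval x := by
      rw [MvPolynomial.aeval_unique (φ.comp f)]
      rfl
    rw [← MvPolynomial.aeval_def, ← h3]
    rfl
  have hG0 : ∀ t ∈ G.image (MvPolynomial.eval₂ ρ₁ a₁), germ p N₁ t = 0 := by
    intro t ht
    obtain ⟨g, hg, rfl⟩ := Finset.mem_image.mp ht
    rw [key]
    have h1 : g ∈ RingHom.ker f.toRingHom := hG ▸ Ideal.subset_span hg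
    have h2 : f g = 0 := h1
    rw [h2, map_zero]
  obtain ⟨N₂, ψ₂, h₂⟩ := exists_nbhd_forall_res_eq_zero p hX hp N₁ _ hG0
  obtain ⟨N₃, ψ₃, hN₃⟩ := exists_affine_refinement p N₂
  let ψ₃₂ : N₃ ⟶ N₁ := ψ₃ ≫ ψ₂
  let ψ : N₃ ⟶ N₀ := ψ₃₂ ≫ ψ₁
  let ρ : ULift.{u + 1} Γ(N₀.1.obj.left.left, ⊤) →+* Γ(N₃.1.obj.left.left, ⊤) :=
    (res p ψ).comp down
  let a : Fin n → Γ(N₃.1.obj.left.left, ⊤) := fun i => res p ψ₃₂ (a₁ i)
  have hρ : ρ = (res p ψ₃₂).comp ρ₁ := by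
    ext r
    exact res_comp p ψ₃₂ ψ₁ _
  have hev : ∀ g, MvPolynomial.eval₂ ρ a g = res p ψ₃₂ (MvPolynomial.eval₂ ρ₁ a₁ g) := by
    intro g
    rw [hρ, MvPolynomial.eval₂_comp_left]
    rfl
  have hGz : ∀ g ∈ G, MvPolynomial.eval₂ ρ a g = 0 := by
    intro g hg
    rw [hev, res_comp, h₂ _ (Finset.mem_image_of_mem _ hg), map_zero]
  -- the étale algebra
  let up3 : Γ(N₃.1.obj.left.left, ⊤) →+* ULift.{u + 1} Γ(N₃.1.obj.left.left, ⊤) :=
    (ULift.ringEquiv (R := Γ(N₃.1.obj.left.left, ⊤))).symm.toRingHom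
  letI algE : Algebra (ULift.{u + 1} Γ(N₀.1.obj.left.left, ⊤))
      (ULift.{u + 1} Γ(N₃.1.obj.left.left, ⊤)) := (up3.comp ρ).toAlgebra
  let evE : MvPolynomial (Fin n) (ULift.{u + 1} Γ(N₀.1.obj.left.left, ⊤)) →ₐ[
      ULift.{u + 1} Γ(N₀.1.obj.left.left, ⊤)] ULift.{u + 1} Γ(N₃.1.obj.left.left, ⊤) :=
    MvPolynomial.aeval (fun i => up3 (a i))
  have hevE : ∀ g, evE g = up3 (MvPolynomial.eval₂ ρ a g) := by
    intro g
    have h1 := MvPolynomial.eval₂_comp_left up3 ρ a g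
    rw [h1]
    rfl
  have hker : ∀ g ∈ RingHom.ker f, evE g = 0 := by
    intro g hg
    have hg' : g ∈ Ideal.span (G : Set (MvPolynomial (Fin n)
        (ULift.{u + 1} Γ(N₀.1.obj.left.left, ⊤)))) := by
      rw [hG]; exact hg
    have hle : Ideal.span (G : Set (MvPolynomial (Fin n)
        (ULift.{u + 1} Γ(N₀.1.obj.left.left, ⊤)))) ≤ RingHom.ker evE := by
      rw [Ideal.span_le]
      intro g hg
      change evE g = 0
      rw [hevE, hGz g hg, map_zero]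
    exact hle hg'
  let α₀ : (MvPolynomial (Fin n) (ULift.{u + 1} Γ(N₀.1.obj.left.left, ⊤)) ⧸ RingHom.ker f) →ₐ[
      ULift.{u + 1} Γ(N₀.1.obj.left.left, ⊤)] ULift.{u + 1} Γ(N₃.1.obj.left.left, ⊤) :=
    Ideal.Quotient.liftₐ _ evE hker
  let e := Ideal.quotientKerAlgEquivOfSurjective hfs
  let α : P →ₐ[ULift.{u + 1} Γ(N₀.1.obj.left.left, ⊤)] ULift.{u + 1} Γ(N₃.1.obj.left.left, ⊤) :=
    α₀.comp e.symm.toAlgHom
  have hαf : ∀ g, α (f g) = evE g := by
    intro g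
    have h1 : e.symm (f g) = Ideal.Quotient.mk _ g := by
      rw [AlgEquiv.symm_apply_eq]
      exact (Ideal.quotientKerAlgEquivOfSurjective_mk hfs g).symm
    change α₀ (e.symm (f g)) = evE g
    rw [h1]
    rfl
  let β : ULift.{u + 1} Γ(N₃.1.obj.left.left, ⊤) →ₐ[ULift.{u + 1} Γ(N₀.1.obj.left.left, ⊤)]
      ↥(AlgSp.OEtStalk p) :=
    { toRingHom := (germ p N₃).comp (ULift.ringEquiv (R := Γ(N₃.1.obj.left.left, ⊤))).toRingHom
      commutes' := fun r => by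
        change germ p N₃ (res p ψ (down r)) = germ p N₀ (down r)
        exact germ_res p ψ _ }
  refine ⟨ULift.{u + 1} Γ(N₃.1.obj.left.left, ⊤), inferInstance, algE, ?_, α, β, ?_⟩
  · -- étaleness
    have het : Etale ψ.1.hom.left.left := AlgSp.EtOver.etale_left ψ.1
    haveI := hN₀
    haveI := hN₃
    have h1 : (res p ψ).Etale := (HasRingHomProperty.iff_of_isAffine (P := @Etale)).mp het
    letI a1 : Algebra (ULift.{u + 1} Γ(N₀.1.obj.left.left, ⊤)) Γ(N₀.1.obj.left.left, ⊤) :=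
      down.toAlgebra
    haveI e1 : Algebra.Etale (ULift.{u + 1} Γ(N₀.1.obj.left.left, ⊤)) Γ(N₀.1.obj.left.left, ⊤) :=
      RingHom.Etale.of_bijective (f := down) (ULift.ringEquiv (R := Γ(N₀.1.obj.left.left, ⊤))).bijective
    letI a2 : Algebra Γ(N₀.1.obj.left.left, ⊤) Γ(N₃.1.obj.left.left, ⊤) := (res p ψ).toAlgebra
    haveI e2 : Algebra.Etale Γ(N₀.1.obj.left.left, ⊤) Γ(N₃.1.obj.left.left, ⊤) := h1
    letI a3 : Algebra (ULift.{u + 1} Γ(N₀.1.obj.left.left, ⊤)) Γ(N₃.1.obj.left.left, ⊤) :=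
      ρ.toAlgebra
    haveI : IsScalarTower (ULift.{u + 1} Γ(N₀.1.obj.left.left, ⊤)) Γ(N₀.1.obj.left.left, ⊤)
        Γ(N₃.1.obj.left.left, ⊤) := IsScalarTower.of_algebraMap_eq' rfl
    haveI e3 : Algebra.Etale (ULift.{u + 1} Γ(N₀.1.obj.left.left, ⊤)) Γ(N₃.1.obj.left.left, ⊤) :=
      Algebra.Etale.comp (ULift.{u + 1} Γ(N₀.1.obj.left.left, ⊤)) Γ(N₀.1.obj.left.left, ⊤)
        Γ(N₃.1.obj.left.left, ⊤)
    let eE : Γ(N₃.1.obj.left.left, ⊤) ≃ₐ[ULift.{u + 1} Γ(N₀.1.obj.left.left, ⊤)]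
        ULift.{u + 1} Γ(N₃.1.obj.left.left, ⊤) :=
      AlgEquiv.ofRingEquiv (f := (ULift.ringEquiv (R := Γ(N₃.1.obj.left.left, ⊤))).symm)
        (fun r => rfl)
    exact Algebra.Etale.of_equiv eE
  · -- the triangle commutes
    apply AlgHom.ext
    intro y
    obtain ⟨g, rfl⟩ := hfs y
    change β (α (f g)) = φ (f g)
    rw [hαf, hevE, ← key, hev]
    change germ p N₃ (res p ψ₃₂ (MvPolynomial.eval₂ ρ₁ a₁ g)) = _
    exact germ_res p ψ₃₂ _

end Groth.Agent.Lib.Helper7.AlgSpSH
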