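import Groth.Agent.Lib.Helper7.AlgSpSH2

/-!
# The étale local ring of an algebraic space is a strict henselization of the local ring of a
chart (helper7)
-/

set_option autoImplicit false
set_option maxHeartbeats 800000
set_option linter.unusedSectionVars false
set_option linter.style.haveILetI false
universe u

open CategoryTheory CategoryTheory.Limits AlgebraicGeometry Opposite IsLocalRing

set_option backward.isDefEq.respectTransparency false

namespace Groth.Agent.Lib.Helper7.AlgSpSH

open AlgSp Groth.Agent.Lib.Helper52 Groth.Agent.Lib.Helper51 Groth.Agent.Lib.Helper51.Hens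
  Groth.Agent.Lib.Helper37.Hz Groth.Agent.Lib.Helper4

variable {S : Scheme.{u}} {X : AlgSp.Sp S} (p : AlgSp.FieldPt X)

/-- A function on an étale neighbourhood is a unit in the Zariski local ring at the lifted point iff
its value at the geometric point is nonzero. -/
theorem isUnit_germ_iff_evNbhd_ne_zero (N : AlgSp.EtNbhd p) (s : Γ(N.1.obj.left.left, ⊤)) :
    IsUnit (N.1.obj.left.left.presheaf.germ ⊤ (N.2.1.left (IsLocalRing.closedPoint p.K))
      (TopologicalSpace.Opens.mem_top _) s) ↔ evNbhd p N s ≠ 0 := by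
  rw [← Scheme.mem_basicOpen_top]
  have hpre : N.2.1.left ⁻¹ᵁ (N.1.obj.left.left.basicOpen s) =
      (Spec (CommRingCat.of p.K)).basicOpen (N.2.1.left.appTop.hom s) :=
    Scheme.preimage_basicOpen_top _ _
  have hmem : N.2.1.left (IsLocalRing.closedPoint p.K) ∈ N.1.obj.left.left.basicOpen s ↔
      IsLocalRing.closedPoint p.K ∈ (Spec (CommRingCat.of p.K)).basicOpen
        (N.2.1.left.appTop.hom s) := by
    rw [← hpre]
    rfl
  rw [hmem]
  unfold evNbhd
  rw [RingHom.comp_apply]
  constructor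
  · intro h h0
    have h1 : N.2.1.left.appTop.hom s = 0 := by
      have hinj : Function.Injective (Scheme.ΓSpecIso (CommRingCat.of p.K)).hom.hom :=
        (ConcreteCategory.bijective_of_isIso (Scheme.ΓSpecIso (CommRingCat.of p.K)).hom).1
      apply hinj
      rw [map_zero]
      exact h0
    have hb : (Spec (CommRingCat.of p.K)).basicOpen (N.2.1.left.appTop.hom s) = ⊥ := by
      rw [h1]
      exact Scheme.basicOpen_zero _ _
    rw [hb] at h
    exact h
  · intro h
    have h1 : IsUnit ((Scheme.ΓSpecIso (CommRingCat.of p.K)).hom.hom (N.2.1.left.appTop.hom s)) :=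
      IsUnit.mk0 _ h
    have hunit : IsUnit (N.2.1.left.appTop.hom s) :=
      (isUnit_map_iff (Scheme.ΓSpecIso (CommRingCat.of p.K)).commRingCatIsoToRingEquiv _).1 h1
    have hb : (Spec (CommRingCat.of p.K)).basicOpen (N.2.1.left.appTop.hom s) = ⊤ :=
      Scheme.basicOpen_of_isUnit _ hunit
    rw [hb]
    trivial

variable (hX : AlgSp.IsAlgSpace X) (hp : p.IsGeometric)

include hX hp in
/-- Affine charts: the étale local ring is a strict henselization of (a universe lift of) the local
ring of the chart. -/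
theorem exists_strictHenselization_model_affine {U : Over S} (hU : IsAffine U.left)
    (a : (AlgSp.yon S).obj U ⟶ X) (ha : AlgSp.RepWith @Etale a) (u : ↥U.left)
    (hu : Points.ofPt a u = Points.mk p) :
    ∃ (B : Type (u + 1)) (_ : CommRing B) (_ : IsLocalRing B)
      (_ : Algebra B ↥(AlgSp.OEtStalk p)) (hloc : IsLocalHom (algebraMap B ↥(AlgSp.OEtStalk p))),
      Nonempty (B ≃+* ↥(U.left.presheaf.stalk u)) ∧
        @Hensel.IsStrictHenselization B ↥(AlgSp.OEtStalk p) _ _ _
          (isLocalRing_OEtStalk p hX hp) _ hloc := by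
  obtain ⟨ubar, hub1, hub2⟩ := exists_lift_of_etale_chart a ha p hp u hu
  subst hub2
  let u : ↥U.left := ubar.left (IsLocalRing.closedPoint p.K)
  let N₀ : AlgSp.EtNbhd p := ⟨AlgSp.EtOver.mk a ha, ⟨ubar, hub1⟩⟩
  have hN₀ : IsAffine N₀.1.obj.left.left := hU
  haveI hlocD : IsLocalRing ↥(AlgSp.OEtStalk p) := isLocalRing_OEtStalk p hX hp
  letI : Algebra (ULift.{u + 1} Γ(U.left, ⊤)) ↥(AlgSp.OEtStalk p) := algD p N₀
  have hW : HasFactorization (etaleClass (ULift.{u + 1} Γ(U.left, ⊤))) ↥(AlgSp.OEtStalk p) :=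
    hasFactorization_OEtStalk p hX hp N₀ hN₀
  have hh : HenselianLocalRing ↥(AlgSp.OEtStalk p) := henselianLocalRing_OEtStalk p hX hp
  have hsc : IsSepClosed (ResidueField ↥(AlgSp.OEtStalk p)) :=
    isSepClosed_residueField_OEtStalk p hX hp hlocD
  obtain ⟨hloc, hSH⟩ := isStrictHenselization_atPrime (ULift.{u + 1} Γ(U.left, ⊤))
    ↥(AlgSp.OEtStalk p) hW hh hsc
  refine ⟨Localization.AtPrime (ctr (ULift.{u + 1} Γ(U.left, ⊤)) ↥(AlgSp.OEtStalk p)),
    inferInstance, inferInstance, algLoc _ _, hloc, ?_, hSH⟩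
  -- the ring isomorphism with the Zariski local ring
  have hlocst := (isAffineOpen_top U.left).isLocalization_stalk
    ⟨u, TopologicalSpace.Opens.mem_top u⟩
  letI := U.left.presheaf.algebra_section_stalk (U := ⊤) ⟨u, TopologicalSpace.Opens.mem_top u⟩
  have hmemn : ∀ r : ULift.{u + 1} Γ(U.left, ⊤),
      r ∈ ctr (ULift.{u + 1} Γ(U.left, ⊤)) ↥(AlgSp.OEtStalk p) ↔
        r.down ∈ ((isAffineOpen_top U.left).primeIdealOf
          ⟨u, TopologicalSpace.Opens.mem_top u⟩).asIdeal := by
    intro r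
    have h1 : r ∈ ctr (ULift.{u + 1} Γ(U.left, ⊤)) ↥(AlgSp.OEtStalk p) ↔
        germ p N₀ r.down ∈ maximalIdeal ↥(AlgSp.OEtStalk p) := Iff.rfl
    rw [h1, mem_maximalIdeal_iff p hX hp hlocD, ev_germ]
    rw [(isAffineOpen_top U.left).primeIdealOf_eq_map_closedPoint]
    have h2 : r.down ∈ (Spec.map (U.left.presheaf.germ ⊤ u (TopologicalSpace.Opens.mem_top u))
        (IsLocalRing.closedPoint _)).asIdeal ↔
        U.left.presheaf.germ ⊤ u (TopologicalSpace.Opens.mem_top u) r.down ∈
          maximalIdeal ↥(U.left.presheaf.stalk u) := Iff.rfl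
    rw [h2, mem_maximalIdeal, mem_nonunits_iff]
    have h3 := isUnit_germ_iff_evNbhd_ne_zero p N₀ r.down
    constructor
    · intro h0 hun
      exact (h3.mp hun) h0
    · intro hnun
      by_contra h0
      exact hnun (h3.mpr h0)
  have H : (ctr (ULift.{u + 1} Γ(U.left, ⊤)) ↥(AlgSp.OEtStalk p)).primeCompl.map
      (ULift.ringEquiv (R := Γ(U.left, ⊤))).toMonoidHom =
      ((isAffineOpen_top U.left).primeIdealOf
        ⟨u, TopologicalSpace.Opens.mem_top u⟩).asIdeal.primeCompl := by
    ext y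
    constructor
    · rintro ⟨r, hr, rfl⟩
      exact fun hy => hr ((hmemn r).mpr hy)
    · intro hy
      exact ⟨ULift.up y, fun hr => hy ((hmemn (ULift.up y)).mp hr), rfl⟩
  exact ⟨IsLocalization.ringEquivOfRingEquiv
    (Localization.AtPrime (ctr (ULift.{u + 1} Γ(U.left, ⊤)) ↥(AlgSp.OEtStalk p)))
    (↥(U.left.presheaf.stalk u)) (ULift.ringEquiv (R := Γ(U.left, ⊤))) H⟩

include hX hp in
/-- All charts: the étale local ring is a strict henselization of (a universe lift of) the local ring
of the chart. -/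
theorem exists_strictHenselization_model {U : Over S}
    (a : (AlgSp.yon S).obj U ⟶ X) (ha : AlgSp.RepWith @Etale a) (u : ↥U.left)
    (hu : Points.ofPt a u = Points.mk p) :
    ∃ (B : Type (u + 1)) (_ : CommRing B) (_ : IsLocalRing B)
      (_ : Algebra B ↥(AlgSp.OEtStalk p)) (hloc : IsLocalHom (algebraMap B ↥(AlgSp.OEtStalk p))),
      Nonempty (B ≃+* ↥(U.left.presheaf.stalk u)) ∧
        @Hensel.IsStrictHenselization B ↥(AlgSp.OEtStalk p) _ _ _
          (isLocalRing_OEtStalk p hX hp) _ hloc := by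
  obtain ⟨W, hW, huW, -⟩ := exists_isAffineOpen_mem_and_subset
    (x := u) (U := (⊤ : U.left.Opens)) (TopologicalSpace.Opens.mem_top u)
  have hj : Etale (opensOverι U W).left := inferInstanceAs (Etale W.ι)
  have ha' : AlgSp.RepWith @Etale ((AlgSp.yon S).map (opensOverι U W) ≫ a) :=
    repWith_etale_yon_map_comp (opensOverι U W) hj a ha
  have hu' : Points.ofPt ((AlgSp.yon S).map (opensOverι U W) ≫ a)
      (⟨u, huW⟩ : ↥(opensOver U W).left) = Points.mk p := by
    rw [ofPt_yon_map_comp]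
    exact hu
  have hWaff : IsAffine (opensOver U W).left := hW
  obtain ⟨B, i1, i2, i3, hloc, ⟨e⟩, hSH⟩ :=
    exists_strictHenselization_model_affine p hX hp hWaff _ ha' _ hu'
  refine ⟨B, i1, i2, i3, hloc, ⟨e.trans ?_⟩, hSH⟩
  have hiso : IsIso (W.ι.stalkMap ⟨u, huW⟩) := inferInstance
  exact (asIso (W.ι.stalkMap ⟨u, huW⟩)).commRingCatIsoToRingEquiv.symm

end Groth.Agent.Lib.Helper7.AlgSpSH
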