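import Groth.Agent.Lib.Helper7.AlgSpSH3
import Groth.Agent.Lib.Helper37.Hz13
import Groth.Agent.Lib.Helper37.Hz20

/-!
# Dimension, Noetherianity and regularity of the étale local ring of an algebraic space (helper7)
-/

set_option autoImplicit false
set_option maxHeartbeats 800000
set_option linter.unusedSectionVars false
set_option linter.style.haveILetI false
universe u

open CategoryTheory CategoryTheory.Limits AlgebraicGeometry Opposite IsLocalRing

namespace Groth.Agent.Lib.Helper7.AlgSpSH

open AlgSp Groth.Agent.Lib.Helper52 Groth.Agent.Lib.Helper51 Groth.Agent.Lib.Helper51.Hens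
  Groth.Agent.Lib.Helper37.Hz Groth.Agent.Lib.Helper4

variable {S : Scheme.{u}} {X : AlgSp.Sp S} (p : AlgSp.FieldPt X)
variable (hX : AlgSp.IsAlgSpace X) (hp : p.IsGeometric)

include hX hp in
theorem ringKrullDim_OEtStalk_eq {U : Over S}
    (a : (AlgSp.yon S).obj U ⟶ X) (ha : AlgSp.RepWith @Etale a) (u : ↥U.left)
    (hu : Points.ofPt a u = Points.mk p) :
    ringKrullDim ↥(AlgSp.OEtStalk p) = ringKrullDim ↥(U.left.presheaf.stalk u) := by
  obtain ⟨B, i1, i2, i3, hloc, ⟨e⟩, hSH⟩ := exists_strictHenselization_model p hX hp a ha u hu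
  haveI hlocD : IsLocalRing ↥(AlgSp.OEtStalk p) := isLocalRing_OEtStalk p hX hp
  rw [ringKrullDim_of_isStrictHenselization B ↥(AlgSp.OEtStalk p)]
  exact ringKrullDim_eq_of_ringEquiv e

include hX hp in
theorem isNoetherianRing_OEtStalk_iff {U : Over S}
    (a : (AlgSp.yon S).obj U ⟶ X) (ha : AlgSp.RepWith @Etale a) (u : ↥U.left)
    (hu : Points.ofPt a u = Points.mk p) :
    IsNoetherianRing ↥(U.left.presheaf.stalk u) ↔ IsNoetherianRing ↥(AlgSp.OEtStalk p) := by
  obtain ⟨B, i1, i2, i3, hloc, ⟨e⟩, hSH⟩ := exists_strictHenselization_model p hX hp a ha u hu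
  haveI hlocD : IsLocalRing ↥(AlgSp.OEtStalk p) := isLocalRing_OEtStalk p hX hp
  rw [← isNoetherianRing_iff_of_isStrictHenselization B ↥(AlgSp.OEtStalk p)]
  constructor
  · intro h
    exact isNoetherianRing_of_ringEquiv _ e.symm
  · intro h
    exact isNoetherianRing_of_ringEquiv _ e

include hX hp in
theorem isRegularLocalRing_OEtStalk_iff {U : Over S}
    (a : (AlgSp.yon S).obj U ⟶ X) (ha : AlgSp.RepWith @Etale a) (u : ↥U.left)
    (hu : Points.ofPt a u = Points.mk p) :
    IsRegularLocalRing ↥(U.left.presheaf.stalk u) ↔ IsRegularLocalRing ↥(AlgSp.OEtStalk p) := by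
  obtain ⟨B, i1, i2, i3, hloc, ⟨e⟩, hSH⟩ := exists_strictHenselization_model p hX hp a ha u hu
  haveI hlocD : IsLocalRing ↥(AlgSp.OEtStalk p) := isLocalRing_OEtStalk p hX hp
  constructor
  · intro h
    haveI hB : IsRegularLocalRing B := IsRegularLocalRing.of_ringEquiv e.symm
    haveI : IsNoetherianRing B := inferInstance
    exact (isRegularLocalRing_iff_of_isStrictHenselization B ↥(AlgSp.OEtStalk p)).mp hB
  · intro h
    haveI := h
    haveI : IsNoetherianRing ↥(AlgSp.OEtStalk p) := inferInstance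
    haveI : IsNoetherianRing B :=
      (isNoetherianRing_iff_of_isStrictHenselization B ↥(AlgSp.OEtStalk p)).mpr inferInstance
    haveI hB : IsRegularLocalRing B :=
      (isRegularLocalRing_iff_of_isStrictHenselization B ↥(AlgSp.OEtStalk p)).mpr h
    exact IsRegularLocalRing.of_ringEquiv e

end Groth.Agent.Lib.Helper7.AlgSpSH
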