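import Groth.Agent.Lib.Helper7.BrBC1

/-!
# Local rings ind-étale over flat algebras over strictly henselian domains (helper7)

`nilradical_isPrime_of_isSepClosed`: `D` a strictly henselian local domain with normalization `Dν`, `Y` a flat
`D`-algebra such that all local rings of `Dν ⊗_D Y` are geometrically unibranch, `T` a local ring ind-étale
over `Y` with `D → T` local: the nilradical of `T` is prime.  (Variant of helper37's `Hz59`.)
-/

set_option autoImplicit false
set_option maxHeartbeats 400000
set_option linter.style.haveILetI false
set_option linter.unusedSectionVars false
universe u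

open TensorProduct IsLocalRing

namespace Groth.Agent.Lib.Helper7.BrBC

open Groth.Agent.Lib.Helper4 Groth.Agent.Lib.Helper37.Hz Groth.Agent.Lib.Helper37.Hz.SmoothBr

section Core

attribute [local instance] Algebra.TensorProduct.rightAlgebra

variable (D Y T : Type u) [CommRing D] [IsDomain D] [CommRing Y] [Algebra D Y]
  [Module.Flat D Y] [CommRing T] [IsLocalRing T] [Algebra Y T] [Algebra D T]
  [IsScalarTower D Y T]

theorem nilradical_isPrime_of_isLocalRing_tensor
    (hN : AllGU (integralClosure D (FractionRing D) ⊗[D] Y))
    (hT : HasFactorization (etaleClass Y) T)
    (hloc : IsLocalRing (integralClosure D (FractionRing D) ⊗[D] T)) : (nilradical T).IsPrime := by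
  classical
  have hind : EtPBC.IsIndEtale Y T := (isIndEtale_iff_hasFactorization T).mpr hT
  haveI : Algebra.WeaklyEtale Y T := Groth.Agent.S0736.result Y T hind
  haveI : Module.Flat Y T := Algebra.WeaklyEtale.flat
  have hinjD : Function.Injective (algebraMap D (integralClosure D (FractionRing D))) := by
    intro a b hab
    have := congrArg (Subtype.val) hab
    exact IsFractionRing.injective D (FractionRing D) this
  have hinjY : Function.Injective
      (algebraMap Y (integralClosure D (FractionRing D) ⊗[D] Y)) :=
    Algebra.TensorProduct.includeRight_injective (R := D)
      (A := integralClosure D (FractionRing D)) (B := Y) hinjD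
  have hgen : ∀ n : integralClosure D (FractionRing D) ⊗[D] Y,
      n ∈ Submodule.span Y (Set.range
        (algebraMap (integralClosure D (FractionRing D))
          (integralClosure D (FractionRing D) ⊗[D] Y))) := by
    intro n
    induction n using TensorProduct.induction_on with
    | zero => exact zero_mem _
    | tmul k y =>
      have : k ⊗ₜ[D] y = y • (algebraMap (integralClosure D (FractionRing D))
          (integralClosure D (FractionRing D) ⊗[D] Y) k) := by
        rw [Algebra.smul_def]
        change _ = ((1 : integralClosure D (FractionRing D)) ⊗ₜ[D] y) * (k ⊗ₜ[D] (1 : Y))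
        rw [Algebra.TensorProduct.tmul_mul_tmul, one_mul, mul_one]
      rw [this]
      exact Submodule.smul_mem _ _ (Submodule.subset_span ⟨k, rfl⟩)
    | add x y hx hy => exact add_mem hx hy
  haveI := hloc
  refine nilradical_isPrime_of_isLocalRing_tensor_generic Y T
    (integralClosure D (FractionRing D) ⊗[D] Y) hN hinjY hT ?_
  exact isLocalRing_tensor_generic Y T (integralClosure D (FractionRing D) ⊗[D] Y) D
    (integralClosure D (FractionRing D)) hgen hinjY

variable [hD : HenselianLocalRing D] [IsSepClosed (ResidueField D)]

/-- A local ring `T`, ind-étale over a flat algebra `Y` over a strictly henselian local domain `D`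
(with `D → T` local) such that the local rings of `Dν ⊗_D Y` are geometrically unibranch, has prime
nilradical. -/
theorem nilradical_isPrime_of_isSepClosed (hDT : IsLocalHom (algebraMap D T))
    (hN : AllGU (integralClosure D (FractionRing D) ⊗[D] Y))
    (hT : HasFactorization (etaleClass Y) T) : (nilradical T).IsPrime := by
  classical
  haveI : IsLocalRing (integralClosure D (FractionRing D)) :=
    Unibranch.isLocalRing_integralClosure_of_isDomain' D D hD inferInstance
  haveI : Algebra.IsIntegral D (integralClosure D (FractionRing D)) :=
    integralClosure.AlgebraIsIntegral
  haveI : IsLocalHom (algebraMap D (integralClosure D (FractionRing D))) :=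
    Unibranch.isLocalHom_of_isIntegral D _
  haveI : Algebra.IsAlgebraic (ResidueField D)
      (ResidueField (integralClosure D (FractionRing D))) :=
    PITens.isAlgebraic_residueField_left D _
  haveI : ExpChar (ResidueField D) (ringExpChar (ResidueField D)) :=
    ringExpChar.expChar _
  haveI : ExpChar (ResidueField (integralClosure D (FractionRing D)))
      (ringExpChar (ResidueField D)) :=
    expChar_of_injective_algebraMap (FaithfulSMul.algebraMap_injective (ResidueField D)
      (ResidueField (integralClosure D (FractionRing D)))) _
  have hpi : PITens.PI D (integralClosure D (FractionRing D)) (ringExpChar (ResidueField D)) :=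
    PITens.pi_of_isPurelyInseparable D _ _
  haveI : Nontrivial (integralClosure D (FractionRing D) ⊗[D] T) :=
    PITens.nontrivial_tensor D _ T
  exact nilradical_isPrime_of_isLocalRing_tensor D Y T hN hT
    (PITens.isLocalRing D _ T (ringExpChar (ResidueField D)) hpi)

end Core

end Groth.Agent.Lib.Helper7.BrBC
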