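import Groth.Agent.Lib.Helper7.BrBC2

/-!
# Geometric branches under flat base change: the abstract comparison (helper7)

Variant of helper37's `Hz61.card_minimalPrimes_eq_numGeomBranches_of_smooth` with smoothness replaced by
flatness plus the hypothesis that the radical of the extension of every minimal prime is prime.
-/

set_option autoImplicit false
set_option maxHeartbeats 400000
set_option linter.style.haveILetI false
set_option linter.unusedSectionVars false
universe u

open TensorProduct IsLocalRing

namespace Groth.Agent.Lib.Helper7.BrBC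

open Groth.Agent.Lib.Helper4 Groth.Agent.Lib.Helper37.Hz Groth.Agent.Lib.Helper37.Hz.SmoothBr

section Main2

attribute [local instance] Algebra.TensorProduct.rightAlgebra

variable (R S Ash : Type u) [CommRing R] [CommRing S] [Algebra R S] [Module.Flat R S]
  (q : Ideal S) [q.IsPrime]
  [CommRing Ash] [hAh : HenselianLocalRing Ash] [IsSepClosed (ResidueField Ash)] [Algebra R Ash]
  (Q : Ideal (Ash ⊗[R] S)) [Q.IsPrime]

local notation "CQ" => Localization.AtPrime Q
local notation "TQ" => SHens (Localization.AtPrime Q)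

/-- The structure map `Ash → (Ash ⊗ S)_Q^{sh}`. -/
noncomputable def toTQ : Ash →+* TQ :=
  ((algebraMap CQ TQ).comp (algebraMap (Ash ⊗[R] S) CQ)).comp (algebraMap Ash (Ash ⊗[R] S))

theorem card_minimalPrimes_eq_numGeomBranches_of_radical
    (hRA : HasFactorization (etaleClass R) Ash)
    (hQA : ∀ x : Ash, x ⊗ₜ[R] (1 : S) ∈ Q ↔ x ∈ maximalIdeal Ash)
    (hQS : ∀ s : S, (1 : Ash) ⊗ₜ[R] s ∈ Q ↔ s ∈ q)
    (hprime : ∀ a ∈ minimalPrimes Ash, ((a : Ideal Ash).map (toTQ R S Ash Q)).radical.IsPrime) :
    ENat.card (minimalPrimes Ash) = Brnch.numGeomBranches (Localization.AtPrime q) := by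
  classical
  haveI hT : Hensel.IsStrictHenselization CQ TQ := inferInstance
  -- algebra structures on `T`
  letI : Algebra (Ash ⊗[R] S) TQ :=
    ((algebraMap CQ TQ).comp (algebraMap (Ash ⊗[R] S) CQ)).toAlgebra
  haveI : IsScalarTower (Ash ⊗[R] S) CQ TQ := IsScalarTower.of_algebraMap_eq' rfl
  letI : Algebra Ash TQ := ((algebraMap (Ash ⊗[R] S) TQ).comp (algebraMap Ash _)).toAlgebra
  haveI : IsScalarTower Ash (Ash ⊗[R] S) TQ := IsScalarTower.of_algebraMap_eq' rfl
  letI : Algebra S TQ := ((algebraMap (Ash ⊗[R] S) TQ).comp (algebraMap S _)).toAlgebra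
  haveI : IsScalarTower S (Ash ⊗[R] S) TQ := IsScalarTower.of_algebraMap_eq' rfl
  -- elements of `Q` go to the maximal ideal
  have hQT : ∀ y ∈ Q, algebraMap (Ash ⊗[R] S) TQ y ∈ maximalIdeal TQ := by
    intro y hy
    have h1 : algebraMap (Ash ⊗[R] S) CQ y ∈ maximalIdeal CQ := by
      rw [← Localization.AtPrime.map_eq_maximalIdeal]
      exact Ideal.mem_map_of_mem _ hy
    have h3 : IsLocalHom (algebraMap CQ TQ) := inferInstance
    have h4 : (maximalIdeal CQ).map (algebraMap CQ TQ) ≤ maximalIdeal TQ :=
      ((IsLocalRing.local_hom_TFAE (algebraMap CQ TQ)).out 0 2).mp h3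
    exact h4 (Ideal.mem_map_of_mem _ h1)
  have hunit : ∀ y ∉ Q, IsUnit (algebraMap (Ash ⊗[R] S) TQ y) := by
    intro y hy
    have h1 : IsUnit (algebraMap (Ash ⊗[R] S) CQ y) :=
      IsLocalization.map_units CQ (⟨y, hy⟩ : Q.primeCompl)
    exact h1.map (algebraMap CQ TQ)
  -- `Ash → T` is local and faithfully flat
  have hlocA : IsLocalHom (algebraMap Ash TQ) := by
    refine ((IsLocalRing.local_hom_TFAE _).out 2 0).mp ?_
    rw [Ideal.map_le_iff_le_comap]
    intro x hx
    rw [Ideal.mem_comap]
    exact hQT _ ((hQA x).mpr hx)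
  have hTY : HasFactorization (etaleClass (Ash ⊗[R] S)) TQ :=
    hasFactorization_of_isStrictHenselization_atPrime (Ash ⊗[R] S) Q TQ
  haveI : Module.FaithfullyFlat CQ TQ := faithfullyFlat_of_isStrictHenselization _ _
  haveI : Module.Flat (Ash ⊗[R] S) CQ := IsLocalization.flat _ Q.primeCompl
  haveI : Module.Flat (Ash ⊗[R] S) TQ := Module.Flat.trans (Ash ⊗[R] S) CQ TQ
  haveI : Module.Flat Ash (Ash ⊗[R] S) := inferInstance
  haveI : Module.Flat Ash TQ := Module.Flat.trans Ash (Ash ⊗[R] S) TQ
  haveI := hlocA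
  haveI : Module.FaithfullyFlat Ash TQ := Module.FaithfullyFlat.of_flat_of_isLocalHom
  -- primes stay prime
  have hprime' : ∀ a ∈ minimalPrimes Ash,
      ((a : Ideal Ash).map (algebraMap Ash TQ)).radical.IsPrime := hprime
  rw [card_minimalPrimes_eq_of_radical_isPrime Ash TQ hprime']
  -- `T` is a strict henselization of `S_q`
  have hunitS : ∀ s : q.primeCompl, IsUnit (algebraMap S TQ s) := by
    intro s
    exact hunit _ (fun h => s.2 ((hQS s).mp h))
  letI : Algebra (Localization.AtPrime q) TQ :=
    (IsLocalization.lift (M := q.primeCompl) (g := algebraMap S TQ) hunitS).toAlgebra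
  haveI : IsScalarTower S (Localization.AtPrime q) TQ :=
    IsScalarTower.of_algebraMap_eq' (IsLocalization.lift_comp _).symm
  haveI : IsLocalHom (algebraMap (Localization.AtPrime q) TQ) := by
    refine isLocalHom_of_atPrime q _ fun r hr => ?_
    rw [← IsScalarTower.algebraMap_apply S (Localization.AtPrime q) TQ]
    exact hQT _ ((hQS r).mpr hr)
  have hSY : EtPBC.IsIndEtale S (Ash ⊗[R] S) :=
    (isIndEtale_iff_hasFactorization _).mpr
      (hasFactorization_tensor_right R Ash S ((isIndEtale_iff_hasFactorization Ash).mpr hRA))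
  have hfacS : HasFactorization (etaleClass S) TQ :=
    hasFactorization_trans S (Ash ⊗[R] S) TQ hSY hTY
  have hfacSq : HasFactorization (etaleClass (Localization.AtPrime q)) TQ :=
    hasFactorization_of_isLocalization_base S q.primeCompl (Localization.AtPrime q) TQ hfacS
  haveI hh : HenselianLocalRing TQ := hT.henselian
  haveI := hT.isSepClosure
  haveI : Algebra.IsSeparable (ResidueField (Localization.AtPrime q)) (ResidueField TQ) :=
    isSeparable_residueField_of_hasFactorization (Localization.AtPrime q) TQ hfacSq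
  haveI : Hensel.IsStrictHenselization (Localization.AtPrime q) TQ :=
    isStrictHenselization_of_hasFactorization (Localization.AtPrime q) TQ hfacSq hh
      ⟨IsSepClosure.sep_closed (ResidueField CQ), inferInstance⟩
  exact Branches.card_minimalPrimes_eq_numGeomBranches (Localization.AtPrime q) TQ

end Main2

end Groth.Agent.Lib.Helper7.BrBC
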