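import Groth.Agent.Lib.Helper7.BrBC3

/-!
# Geometric branches under flat base change: primes of the strict henselization (helper7)

`radical_isPrime_map_toTQ`: in the situation of `BrBC3`, the radical of the extension of a prime `a` of `Ash` to
`(Ash ⊗ S)_Q^{sh}` is prime as soon as all local rings of `(Ash/a)^ν ⊗ (Ash ⊗ S)/a` are geometrically
unibranch.
-/

set_option autoImplicit false
set_option maxHeartbeats 800000
set_option linter.style.haveILetI false
set_option linter.unusedSectionVars false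
universe u

open TensorProduct IsLocalRing

namespace Groth.Agent.Lib.Helper7.BrBC

open Groth.Agent.Lib.Helper4 Groth.Agent.Lib.Helper37.Hz Groth.Agent.Lib.Helper37.Hz.SmoothBr

theorem radical_eq_comap_nilradical {R : Type*} [CommRing R] (J : Ideal R) :
    J.radical = (nilradical (R ⧸ J)).comap (Ideal.Quotient.mk J) := by
  ext x
  rw [Ideal.mem_comap, mem_nilradical]
  constructor
  · rintro ⟨n, hn⟩
    exact ⟨n, by rw [← map_pow]; exact Ideal.Quotient.eq_zero_iff_mem.mpr hn⟩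
  · rintro ⟨n, hn⟩
    exact ⟨n, Ideal.Quotient.eq_zero_iff_mem.mp (by rw [map_pow]; exact hn)⟩

section Main3

attribute [local instance] Algebra.TensorProduct.rightAlgebra

variable (R S Ash : Type u) [CommRing R] [CommRing S] [Algebra R S] [Module.Flat R S]
  [CommRing Ash] [hAh : HenselianLocalRing Ash] [IsSepClosed (ResidueField Ash)] [Algebra R Ash]
  (Q : Ideal (Ash ⊗[R] S)) [Q.IsPrime]

local notation "CQ" => Localization.AtPrime Q
local notation "TQ" => SHens (Localization.AtPrime Q)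

theorem radical_isPrime_map_toTQ
    (hQA : ∀ x : Ash, x ⊗ₜ[R] (1 : S) ∈ Q ↔ x ∈ maximalIdeal Ash)
    (I : Ideal Ash) [hI : I.IsPrime]
    (hGU : AllGU (integralClosure (Ash ⧸ I) (FractionRing (Ash ⧸ I)) ⊗[Ash ⧸ I]
      ((Ash ⊗[R] S) ⧸ I.map (algebraMap Ash (Ash ⊗[R] S))))) :
    (I.map (toTQ R S Ash Q)).radical.IsPrime := by
  classical
  haveI hT : Hensel.IsStrictHenselization CQ TQ := inferInstance
  letI : Algebra (Ash ⊗[R] S) TQ :=
    ((algebraMap CQ TQ).comp (algebraMap (Ash ⊗[R] S) CQ)).toAlgebra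
  haveI : IsScalarTower (Ash ⊗[R] S) CQ TQ := IsScalarTower.of_algebraMap_eq' rfl
  letI : Algebra Ash TQ := ((algebraMap (Ash ⊗[R] S) TQ).comp (algebraMap Ash _)).toAlgebra
  haveI : IsScalarTower Ash (Ash ⊗[R] S) TQ := IsScalarTower.of_algebraMap_eq' rfl
  have hQT : ∀ y ∈ Q, algebraMap (Ash ⊗[R] S) TQ y ∈ maximalIdeal TQ := by
    intro y hy
    have h1 : algebraMap (Ash ⊗[R] S) CQ y ∈ maximalIdeal CQ := by
      rw [← Localization.AtPrime.map_eq_maximalIdeal]
      exact Ideal.mem_map_of_mem _ hy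
    have h3 : IsLocalHom (algebraMap CQ TQ) := inferInstance
    have h4 : (maximalIdeal CQ).map (algebraMap CQ TQ) ≤ maximalIdeal TQ :=
      ((IsLocalRing.local_hom_TFAE (algebraMap CQ TQ)).out 0 2).mp h3
    exact h4 (Ideal.mem_map_of_mem _ h1)
  have hRT : IsLocalHom (algebraMap Ash TQ) := by
    refine ((IsLocalRing.local_hom_TFAE _).out 2 0).mp ?_
    rw [Ideal.map_le_iff_le_comap]
    intro x hx
    rw [Ideal.mem_comap]
    exact hQT _ ((hQA x).mpr hx)
  have hTY : HasFactorization (etaleClass (Ash ⊗[R] S)) TQ :=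
    hasFactorization_of_isStrictHenselization_atPrime (Ash ⊗[R] S) Q TQ
  change (I.map (algebraMap Ash TQ)).radical.IsPrime
  have hmapmap : (I.map (algebraMap Ash (Ash ⊗[R] S))).map (algebraMap (Ash ⊗[R] S) TQ) =
      I.map (algebraMap Ash TQ) := by
    rw [Ideal.map_map, ← IsScalarTower.algebraMap_eq]
  rw [← hmapmap]
  -- the quotient rings
  haveI : IsDomain (Ash ⧸ I) := Ideal.Quotient.isDomain I
  haveI : IsLocalRing (Ash ⧸ I) :=
    IsLocalRing.of_surjective' (Ideal.Quotient.mk I) Ideal.Quotient.mk_surjective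
  haveI : Algebra.IsIntegral Ash (Ash ⧸ I) :=
    Algebra.isIntegral_of_surjective Ideal.Quotient.mk_surjective
  haveI hD : HenselianLocalRing (Ash ⧸ I) := henselianLocalRing_of_isIntegral Ash (Ash ⧸ I)
  haveI : IsLocalHom (algebraMap Ash (Ash ⧸ I)) := Unibranch.isLocalHom_of_isIntegral Ash _
  haveI : Algebra.IsAlgebraic (ResidueField Ash) (ResidueField (Ash ⧸ I)) :=
    PITens.isAlgebraic_residueField_left Ash _
  haveI : IsSepClosed (ResidueField (Ash ⧸ I)) :=
    Algebra.IsAlgebraic.isSepClosed (F := ResidueField Ash)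
  -- flatness of the quotient
  haveI : Module.Flat Ash (Ash ⊗[R] S) := inferInstance
  haveI : Module.Flat (Ash ⧸ I) ((Ash ⊗[R] S) ⧸ I.map (algebraMap Ash (Ash ⊗[R] S))) :=
    Module.Flat.of_linearEquiv
      (Algebra.TensorProduct.quotIdealMapEquivQuotTensor (Ash ⊗[R] S) I).toLinearEquiv
  have hT' := hasFactorization_quotient (Ash ⊗[R] S) TQ (I.map (algebraMap Ash (Ash ⊗[R] S))) hTY
  -- proper ideal
  have hle : (I.map (algebraMap Ash (Ash ⊗[R] S))).map (algebraMap (Ash ⊗[R] S) TQ) ≤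
      maximalIdeal TQ := by
    rw [hmapmap]
    refine le_trans (Ideal.map_mono (le_maximalIdeal hI.ne_top)) ?_
    exact ((IsLocalRing.local_hom_TFAE (algebraMap Ash TQ)).out 0 2).mp hRT
  have hne : (I.map (algebraMap Ash (Ash ⊗[R] S))).map (algebraMap (Ash ⊗[R] S) TQ) ≠ ⊤ :=
    fun h => (maximalIdeal.isMaximal TQ).ne_top (top_le_iff.mp (h ▸ hle))
  haveI : Nontrivial (TQ ⧸ (I.map (algebraMap Ash (Ash ⊗[R] S))).map
      (algebraMap (Ash ⊗[R] S) TQ)) :=
    Ideal.Quotient.nontrivial_iff.mpr hne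
  haveI : IsLocalRing (TQ ⧸ (I.map (algebraMap Ash (Ash ⊗[R] S))).map
      (algebraMap (Ash ⊗[R] S) TQ)) :=
    IsLocalRing.of_surjective' (Ideal.Quotient.mk _) Ideal.Quotient.mk_surjective
  letI : Algebra (Ash ⧸ I) (TQ ⧸ (I.map (algebraMap Ash (Ash ⊗[R] S))).map
      (algebraMap (Ash ⊗[R] S) TQ)) :=
    ((algebraMap ((Ash ⊗[R] S) ⧸ I.map (algebraMap Ash (Ash ⊗[R] S)))
      (TQ ⧸ (I.map (algebraMap Ash (Ash ⊗[R] S))).map (algebraMap (Ash ⊗[R] S) TQ))).comp
      (algebraMap (Ash ⧸ I) ((Ash ⊗[R] S) ⧸ I.map (algebraMap Ash (Ash ⊗[R] S))))).toAlgebra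
  haveI : IsScalarTower (Ash ⧸ I) ((Ash ⊗[R] S) ⧸ I.map (algebraMap Ash (Ash ⊗[R] S)))
      (TQ ⧸ (I.map (algebraMap Ash (Ash ⊗[R] S))).map (algebraMap (Ash ⊗[R] S) TQ)) :=
    IsScalarTower.of_algebraMap_eq' rfl
  have hloc : IsLocalHom (algebraMap (Ash ⧸ I)
      (TQ ⧸ (I.map (algebraMap Ash (Ash ⊗[R] S))).map (algebraMap (Ash ⊗[R] S) TQ))) := by
    refine ⟨fun d hd => ?_⟩
    obtain ⟨r, rfl⟩ := Ideal.Quotient.mk_surjective d
    have h1 : algebraMap (Ash ⧸ I) (TQ ⧸ (I.map (algebraMap Ash (Ash ⊗[R] S))).map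
        (algebraMap (Ash ⊗[R] S) TQ))
        (Ideal.Quotient.mk I r) = Ideal.Quotient.mk _ (algebraMap Ash TQ r) := by
      rw [IsScalarTower.algebraMap_apply Ash (Ash ⊗[R] S) TQ]
      rfl
    rw [h1] at hd
    by_contra hr
    have hr' : r ∈ maximalIdeal Ash := by
      by_contra hr'
      rw [mem_maximalIdeal, mem_nonunits_iff, not_not] at hr'
      exact hr (hr'.map _)
    have h2' : (maximalIdeal Ash).map (algebraMap Ash TQ) ≤ maximalIdeal TQ :=
      ((IsLocalRing.local_hom_TFAE (algebraMap Ash TQ)).out 0 2).mp hRT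
    have h2 : algebraMap Ash TQ r ∈ maximalIdeal TQ := h2' (Ideal.mem_map_of_mem _ hr')
    obtain ⟨z, hz⟩ := hd.exists_right_inv
    obtain ⟨z, rfl⟩ := Ideal.Quotient.mk_surjective z
    rw [← map_mul, ← map_one (Ideal.Quotient.mk _), Ideal.Quotient.eq] at hz
    have h3 : algebraMap Ash TQ r * z - 1 ∈ maximalIdeal TQ := hle hz
    have h4 : (1 : TQ) ∈ maximalIdeal TQ := by
      have := Ideal.sub_mem _ (Ideal.mul_mem_right z _ h2) h3
      rwa [sub_sub_cancel] at this
    exact (maximalIdeal.isMaximal TQ).ne_top ((Ideal.eq_top_iff_one _).mpr h4)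
  have hnil : (nilradical (TQ ⧸ (I.map (algebraMap Ash (Ash ⊗[R] S))).map
      (algebraMap (Ash ⊗[R] S) TQ))).IsPrime :=
    nilradical_isPrime_of_isSepClosed (Ash ⧸ I)
      ((Ash ⊗[R] S) ⧸ I.map (algebraMap Ash (Ash ⊗[R] S))) _ hloc hGU hT'
  rw [radical_eq_comap_nilradical]
  haveI := hnil
  exact Ideal.comap_isPrime _ _

end Main3

end Groth.Agent.Lib.Helper7.BrBC
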