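import Groth.Agent.Lib.Helper7.BrBC4
import Groth.Agent.S2685

/-!
# Geometric branches under base field extension: the unibranch input (helper7)

`allGU_quotient_of_allGU`: all local rings of `E ⊗_{Ash/I} (Ash ⊗_R S) / I` are geometrically unibranch as soon as
those of `E ⊗_R S` are; `allGU_tensor_field'`: all local rings of `E ⊗_A (A ⊗_k K)` are geometrically
unibranch for an integrally closed domain `E` (helper69's S2685).
-/

set_option autoImplicit false
set_option maxHeartbeats 800000
set_option linter.style.haveILetI false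
set_option linter.unusedSectionVars false
universe u

open TensorProduct IsLocalRing

namespace Groth.Agent.Lib.Helper7.BrBC

theorem allGU_tensor_field (k K E : Type u) [Field k] [Field K] [Algebra k K] [CommRing E]
    [IsDomain E] [IsIntegrallyClosed E] [Algebra k E] : AllGU (K ⊗[k] E) :=
  fun n _ => Groth.Agent.S2685.result k E K n

theorem allGU_tensor_field' (k K A E : Type u) [Field k] [Field K] [Algebra k K] [CommRing A]
    [Algebra k A] [CommRing E] [IsDomain E] [IsIntegrallyClosed E] [Algebra k E] [Algebra A E]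
    [IsScalarTower k A E] : AllGU (E ⊗[A] (A ⊗[k] K)) := by
  let e4 := Algebra.TensorProduct.cancelBaseChange k A A E K
  let e5 := Algebra.TensorProduct.comm k E K
  exact AllGU.of_ringEquiv (e4.toRingEquiv.trans e5.toRingEquiv) (allGU_tensor_field k K E)

section

variable (R S Ash E : Type u) [CommRing R] [CommRing S] [Algebra R S] [CommRing Ash]
  [Algebra R Ash] (I : Ideal Ash) [CommRing E] [Algebra (Ash ⧸ I) E] [Algebra Ash E]
  [IsScalarTower Ash (Ash ⧸ I) E] [Algebra R E] [IsScalarTower R Ash E]

theorem allGU_quotient_of_allGU (h : AllGU (E ⊗[R] S)) :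
    AllGU (E ⊗[Ash ⧸ I] ((Ash ⊗[R] S) ⧸ I.map (algebraMap Ash (Ash ⊗[R] S)))) := by
  let e1 := Algebra.TensorProduct.congr (AlgEquiv.refl : E ≃ₐ[Ash ⧸ I] E)
    (Algebra.TensorProduct.quotIdealMapEquivQuotTensor (Ash ⊗[R] S) I)
  let e2 := Algebra.TensorProduct.cancelBaseChange Ash (Ash ⧸ I) (Ash ⧸ I) E (Ash ⊗[R] S)
  let e3 := Algebra.TensorProduct.cancelBaseChange R Ash Ash E S
  exact AllGU.of_ringEquiv ((e1.toRingEquiv.trans e2.toRingEquiv).trans e3.toRingEquiv) h

end

end Groth.Agent.Lib.Helper7.BrBC
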