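import Groth.Agent.Lib.Helper7.BrBC5

/-!
# The number of geometric branches is invariant under base field extension (helper7)

`numGeomBranches_eq_baseChange_field`: `k` a field, `A` a local `k`-algebra, `K/k` a field extension, `q` a prime of
`A ⊗_k K` over the maximal ideal of `A`: `A` and `(A ⊗_k K)_q` have the same number of geometric branches.
-/

set_option autoImplicit false
set_option maxHeartbeats 800000
set_option linter.style.haveILetI false
set_option linter.unusedSectionVars false
universe u

open TensorProduct IsLocalRing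

namespace Groth.Agent.Lib.Helper7.BrBC

open Groth.Agent.Lib.Helper4 Groth.Agent.Lib.Helper37.Hz Groth.Agent.Lib.Helper37.Hz.SmoothBr

attribute [local instance] Algebra.TensorProduct.rightAlgebra in
theorem numGeomBranches_eq_baseChange_field (k A K : Type u) [Field k] [CommRing A] [IsLocalRing A]
    [Algebra k A] [Field K] [Algebra k K] (q : Ideal (A ⊗[k] K)) [q.IsPrime]
    (hq : q.comap (algebraMap A (A ⊗[k] K)) = maximalIdeal A) :
    Brnch.numGeomBranches A = Brnch.numGeomBranches (Localization.AtPrime q) := by
  classical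
  haveI hA : Hensel.IsStrictHenselization A (SHens A) := inferInstance
  haveI hAh : HenselianLocalRing (SHens A) := hA.henselian
  haveI : IsSepClosed (ResidueField (SHens A)) := hA.isSepClosure.sep_closed
  haveI hB : Hensel.IsStrictHenselization (Localization.AtPrime q) (SHens (Localization.AtPrime q)) :=
    inferInstance
  haveI hBh : HenselianLocalRing (SHens (Localization.AtPrime q)) := hB.henselian
  haveI : IsSepClosed (ResidueField (SHens (Localization.AtPrime q))) := hB.isSepClosure.sep_closed
  -- the local map `A → B`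
  haveI : IsScalarTower A (A ⊗[k] K) (Localization.AtPrime q) := inferInstance
  haveI : IsLocalHom (algebraMap A (Localization.AtPrime q)) := by
    refine ⟨fun a ha => ?_⟩
    by_contra hna
    have h1 : a ∈ maximalIdeal A := (mem_maximalIdeal a).mpr hna
    rw [← hq, Ideal.mem_comap] at h1
    have h2 : algebraMap (A ⊗[k] K) (Localization.AtPrime q) (algebraMap A (A ⊗[k] K) a) ∈
        maximalIdeal (Localization.AtPrime q) := by
      rw [← Localization.AtPrime.map_eq_maximalIdeal]
      exact Ideal.mem_map_of_mem _ h1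
    rw [← IsScalarTower.algebraMap_apply] at h2
    exact h2 ha
  obtain ⟨g, hg, hgloc⟩ := Compare.exists_map_of_isStrictHenselization
    A (Localization.AtPrime q) (SHens A) (SHens (Localization.AtPrime q))
  -- algebra structures over `A`
  letI : Algebra (A ⊗[k] K) (SHens (Localization.AtPrime q)) :=
    ((algebraMap (Localization.AtPrime q) (SHens (Localization.AtPrime q))).comp
      (algebraMap (A ⊗[k] K) (Localization.AtPrime q))).toAlgebra
  haveI : IsScalarTower (A ⊗[k] K) (Localization.AtPrime q) (SHens (Localization.AtPrime q)) :=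
    IsScalarTower.of_algebraMap_eq' rfl
  letI : Algebra A (SHens (Localization.AtPrime q)) :=
    ((algebraMap (A ⊗[k] K) (SHens (Localization.AtPrime q))).comp
      (algebraMap A (A ⊗[k] K))).toAlgebra
  haveI : IsScalarTower A (A ⊗[k] K) (SHens (Localization.AtPrime q)) :=
    IsScalarTower.of_algebraMap_eq' rfl
  let gA : SHens A →ₐ[A] SHens (Localization.AtPrime q) :=
    { toRingHom := g
      commutes' := fun r => by
        have := RingHom.congr_fun hg r
        rw [RingHom.comp_apply, RingHom.comp_apply] at this
        exact this }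
  let χ : SHens A ⊗[A] (A ⊗[k] K) →ₐ[A] SHens (Localization.AtPrime q) :=
    Algebra.TensorProduct.lift gA (IsScalarTower.toAlgHom A (A ⊗[k] K) _)
      (fun _ _ => Commute.all _ _)
  -- the prime
  let Q : Ideal (SHens A ⊗[A] (A ⊗[k] K)) :=
    (maximalIdeal (SHens (Localization.AtPrime q))).comap χ.toRingHom
  haveI hQ : Q.IsPrime := Ideal.comap_isPrime _ _
  have hQA : ∀ x : SHens A, x ⊗ₜ[A] (1 : A ⊗[k] K) ∈ Q ↔ x ∈ maximalIdeal (SHens A) := by
    intro x
    change χ (x ⊗ₜ[A] (1 : A ⊗[k] K)) ∈ maximalIdeal _ ↔ _
    rw [show χ (x ⊗ₜ[A] (1 : A ⊗[k] K)) = g x by simp [χ, gA]]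
    rw [← maximalIdeal_comap g, Ideal.mem_comap]
  have hQS : ∀ s : A ⊗[k] K, (1 : SHens A) ⊗ₜ[A] s ∈ Q ↔ s ∈ q := by
    intro s
    change χ ((1 : SHens A) ⊗ₜ[A] s) ∈ maximalIdeal _ ↔ _
    rw [show χ ((1 : SHens A) ⊗ₜ[A] s) = algebraMap (Localization.AtPrime q) _
      (algebraMap (A ⊗[k] K) (Localization.AtPrime q) s) by simp [χ, gA]; rfl]
    have h1 : algebraMap (Localization.AtPrime q) (SHens (Localization.AtPrime q))
        (algebraMap (A ⊗[k] K) (Localization.AtPrime q) s) ∈ maximalIdeal _ ↔
        algebraMap (A ⊗[k] K) (Localization.AtPrime q) s ∈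
          maximalIdeal (Localization.AtPrime q) := by
      rw [← maximalIdeal_comap (algebraMap (Localization.AtPrime q)
        (SHens (Localization.AtPrime q))), Ideal.mem_comap]
    have h2 : (maximalIdeal (Localization.AtPrime q)).comap
        (algebraMap (A ⊗[k] K) (Localization.AtPrime q)) = q :=
      IsLocalization.AtPrime.under_maximalIdeal (Localization.AtPrime q) q
    rw [h1, ← Ideal.mem_comap, h2]
  have hRA : HasFactorization (etaleClass A) (SHens A) :=
    (isIndEtale_iff_hasFactorization _).mp (isIndEtale_of_isStrictHenselization A (SHens A))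
  -- primes
  letI : Algebra k (SHens A) := ((algebraMap A (SHens A)).comp (algebraMap k A)).toAlgebra
  haveI : IsScalarTower k A (SHens A) := IsScalarTower.of_algebraMap_eq' rfl
  have hprime : ∀ a ∈ minimalPrimes (SHens A),
      ((a : Ideal (SHens A)).map (toTQ A (A ⊗[k] K) (SHens A) Q)).radical.IsPrime := by
    intro a ha
    haveI : a.IsPrime := ha.1.1
    haveI : IsDomain (SHens A ⧸ a) := Ideal.Quotient.isDomain a
    haveI : IsIntegrallyClosed (integralClosure (SHens A ⧸ a) (FractionRing (SHens A ⧸ a))) :=
      integralClosure.isIntegrallyClosedOfFiniteExtension (FractionRing (SHens A ⧸ a))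
    letI : Algebra (SHens A) (integralClosure (SHens A ⧸ a) (FractionRing (SHens A ⧸ a))) :=
      ((algebraMap (SHens A ⧸ a) (integralClosure (SHens A ⧸ a) (FractionRing (SHens A ⧸ a)))).comp
        (algebraMap (SHens A) (SHens A ⧸ a))).toAlgebra
    haveI : IsScalarTower (SHens A) (SHens A ⧸ a)
        (integralClosure (SHens A ⧸ a) (FractionRing (SHens A ⧸ a))) :=
      IsScalarTower.of_algebraMap_eq' rfl
    letI : Algebra A (integralClosure (SHens A ⧸ a) (FractionRing (SHens A ⧸ a))) :=
      ((algebraMap (SHens A) (integralClosure (SHens A ⧸ a) (FractionRing (SHens A ⧸ a)))).comp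
        (algebraMap A (SHens A))).toAlgebra
    haveI : IsScalarTower A (SHens A)
        (integralClosure (SHens A ⧸ a) (FractionRing (SHens A ⧸ a))) :=
      IsScalarTower.of_algebraMap_eq' rfl
    letI : Algebra k (integralClosure (SHens A ⧸ a) (FractionRing (SHens A ⧸ a))) :=
      ((algebraMap A (integralClosure (SHens A ⧸ a) (FractionRing (SHens A ⧸ a)))).comp
        (algebraMap k A)).toAlgebra
    haveI : IsScalarTower k A (integralClosure (SHens A ⧸ a) (FractionRing (SHens A ⧸ a))) :=
      IsScalarTower.of_algebraMap_eq' rfl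
    have h1 : AllGU (integralClosure (SHens A ⧸ a) (FractionRing (SHens A ⧸ a)) ⊗[A] (A ⊗[k] K)) :=
      allGU_tensor_field' k K A _
    have h2 := allGU_quotient_of_allGU A (A ⊗[k] K) (SHens A)
      (integralClosure (SHens A ⧸ a) (FractionRing (SHens A ⧸ a))) a h1
    exact radical_isPrime_map_toTQ A (A ⊗[k] K) (SHens A) Q hQA a h2
  have h := card_minimalPrimes_eq_numGeomBranches_of_radical A (A ⊗[k] K) (SHens A) q Q hRA hQA hQS
    hprime
  rw [← h]
  exact (Branches.card_minimalPrimes_eq_numGeomBranches A (SHens A)).symm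

end Groth.Agent.Lib.Helper7.BrBC
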