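import Groth.Agent.Lib.Helper7.BrBC6
import Groth.Agent.Lib.Helper7.FibBr3
import Groth.Agent.Lib.Helper62.BCStalk2

/-!
# Geometric branches of a base change `X_K` (helper7)

`numGeomBranches_eq_of_ringEquiv`: the number of geometric branches is invariant under ring isomorphisms;
`numGeomBranches_stalk_bc`: for a `k`-scheme `X`, a field extension `K/k` and `y ∈ X_K` over `x ∈ X`, the local
rings of `X` at `x` and of `X_K` at `y` have the same number of geometric branches.
-/

set_option autoImplicit false
set_option maxHeartbeats 800000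
set_option linter.style.haveILetI false
set_option linter.unusedSectionVars false
universe u

open TensorProduct IsLocalRing CategoryTheory CategoryTheory.Limits AlgebraicGeometry

namespace Groth.Agent.Lib.Helper7.BrBC

open Groth.Agent.Lib.Helper4 Groth.Agent.Lib.Helper37.Hz

theorem numGeomBranches_eq_of_ringEquiv {A B : Type u} [CommRing A] [IsLocalRing A] [CommRing B]
    [IsLocalRing B] (e : A ≃+* B) : Brnch.numGeomBranches A = Brnch.numGeomBranches B := by
  let _ : Algebra A B := (e : A →+* B).toAlgebra
  haveI hloc1 : IsLocalHom (algebraMap A B) := Groth.Agent.Lib.Helper7.FibBr.isLocalHom_ringEquiv e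
  haveI : Algebra.Etale A B :=
    Algebra.Etale.of_equiv (AlgEquiv.ofRingEquiv (f := e) (fun x => rfl))
  let _ : Algebra A (SHens B) := ((algebraMap B (SHens B)).comp (e : A →+* B)).toAlgebra
  haveI : IsScalarTower A B (SHens B) := IsScalarTower.of_algebraMap_eq (fun _ => rfl)
  haveI hloc2 : IsLocalHom (algebraMap A (SHens B)) := by
    change IsLocalHom ((algebraMap B (SHens B)).comp (e : A →+* B))
    haveI := Groth.Agent.Lib.Helper7.FibBr.isLocalHom_ringEquiv e
    infer_instance
  haveI h2 : Hensel.IsStrictHenselization A (SHens B) :=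
    Groth.Agent.Lib.Helper98.WEStrictHens.isStrictHenselization_of_weaklyEtale A B (SHens B)
  rw [← Branches.card_minimalPrimes_eq_numGeomBranches A (SHens B),
    Branches.card_minimalPrimes_eq_numGeomBranches B (SHens B)]

/-- Ring-level form with the field on the left. -/
theorem numGeomBranches_eq_baseChange_field' (k A K : Type u) [Field k] [CommRing A] [IsLocalRing A]
    [Algebra k A] [Field K] [Algebra k K] (M : Ideal (K ⊗[k] A)) [M.IsPrime]
    (hM : M.comap (Algebra.TensorProduct.includeRight (R := k) (A := K) (B := A)).toRingHom =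
      maximalIdeal A) :
    Brnch.numGeomBranches A = Brnch.numGeomBranches (Localization.AtPrime M) := by
  let c : A ⊗[k] K ≃+* K ⊗[k] A := (Algebra.TensorProduct.comm k A K).toRingEquiv
  let q : Ideal (A ⊗[k] K) := M.comap (c : A ⊗[k] K →+* K ⊗[k] A)
  haveI : q.IsPrime := Ideal.comap_isPrime _ _
  have hq : q.comap (algebraMap A (A ⊗[k] K)) = maximalIdeal A := by
    rw [← hM]
    ext a
    simp only [Ideal.mem_comap]
    change c (a ⊗ₜ[k] (1 : K)) ∈ M ↔ (1 : K) ⊗ₜ[k] a ∈ M
    rfl
  rw [numGeomBranches_eq_baseChange_field k A K q hq]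
  have hmap : q.primeCompl.map (c : A ⊗[k] K →* K ⊗[k] A) = M.primeCompl := by
    ext y
    constructor
    · rintro ⟨x, hx, rfl⟩
      exact hx
    · intro hy
      refine ⟨c.symm y, ?_, by simp⟩
      change c (c.symm y) ∉ M
      rw [RingEquiv.apply_symm_apply]
      exact hy
  exact numGeomBranches_eq_of_ringEquiv
    (IsLocalization.ringEquivOfRingEquiv (Localization.AtPrime q) (Localization.AtPrime M) c hmap)

open Groth.Agent.Lib.Helper62.BCStalk in
/-- The local rings of `X` at `x` and of `X_K` at a point `y` over `x` have the same number of geometric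
branches. -/
theorem numGeomBranches_stalk_bc {k : Type u} [Field k] {X : Scheme.{u}}
    (f : X ⟶ Spec (CommRingCat.of k)) (K : Type u) [Field K] [Algebra k K] (y : bc f K) :
    Brnch.numGeomBranches (X.presheaf.stalk ((bcπ f K).base y)) =
      Brnch.numGeomBranches ((bc f K).presheaf.stalk y) := by
  letI : Algebra k (X.presheaf.stalk ((bcπ f K).base y)) :=
    (stalkStr f ((bcπ f K).base y)).toAlgebra
  letI : Algebra K ((bc f K).presheaf.stalk y) := (stalkStr (bcσ f K) y).toAlgebra
  obtain ⟨M, hMprime, hM, ⟨e⟩⟩ := exists_prime_of_point_algEquiv f K y _ rfl rfl rfl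
  haveI := hMprime
  rw [numGeomBranches_eq_baseChange_field' k _ K M hM]
  exact (numGeomBranches_eq_of_ringEquiv e.toRingEquiv).symm

end Groth.Agent.Lib.Helper7.BrBC
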