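import Groth.Agent.Lib.Helper7.BrFwd

/-!
# The key idempotent argument for detecting branches in étale neighbourhoods (helper7)
-/

set_option autoImplicit false
set_option maxHeartbeats 400000
universe u

namespace Groth.Agent.Lib.Helper7.BrCore

open IsLocalRing TensorProduct Polynomial

/-- If `R'' ⊗ S₁` has a complete system of orthogonal idempotents separating the primes over
`P''`, then two ring maps to fields through a common domain with the same restriction to `R''`
(kernel `P''`) have the same kernel. -/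
theorem ker_eq_of_idempotents
    {R₁ S₁ R'' : Type u} [CommRing R₁] [CommRing S₁] [CommRing R''] [Algebra R₁ S₁]
    [Algebra R₁ R''] (P'' : Ideal R'') [P''.IsPrime]
    (n : ℕ) (e : Fin (n + 1) → R'' ⊗[R₁] S₁) (he : CompleteOrthogonalIdempotents e)
    (P' : Fin n → Ideal (R'' ⊗[R₁] S₁))
    (H : ∀ (Q : Ideal (R'' ⊗[R₁] S₁)), Q.IsPrime → Q.LiesOver P'' →
      e (Fin.last n) ∈ Q ∧ ∀ i, e i.castSucc ∉ Q → Q = P' i)
    {T' : Type u} [CommRing T'] [IsDomain T'] (Θ : R'' ⊗[R₁] S₁ →+* T')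
    {Ω Ω' : Type u} [Field Ω] [Field Ω'] (χ : T' →+* Ω) (χ' : T' →+* Ω')
    (h1 : RingHom.ker ((χ.comp Θ).comp (algebraMap R'' (R'' ⊗[R₁] S₁))) = P'')
    (h2 : RingHom.ker ((χ'.comp Θ).comp (algebraMap R'' (R'' ⊗[R₁] S₁))) = P'') :
    RingHom.ker (χ.comp Θ) = RingHom.ker (χ'.comp Θ) := by
  -- general fact: for such a map the kernel is one of the `P' i`, with `Θ (e i) = 1`
  have key : ∀ {Ω₀ : Type u} [Field Ω₀] (χ₀ : T' →+* Ω₀),
      RingHom.ker ((χ₀.comp Θ).comp (algebraMap R'' (R'' ⊗[R₁] S₁))) = P'' →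
      ∃ i : Fin n, RingHom.ker (χ₀.comp Θ) = P' i ∧ Θ (e i.castSucc) = 1 := by
    intro Ω₀ _ χ₀ h0
    haveI : (RingHom.ker (χ₀.comp Θ)).IsPrime := RingHom.ker_isPrime _
    haveI : (RingHom.ker (χ₀.comp Θ)).LiesOver P'' := ⟨by
      rw [Ideal.under_def, ← h0]; rfl⟩
    obtain ⟨hlast, hQ⟩ := H (RingHom.ker (χ₀.comp Θ)) inferInstance inferInstance
    -- some `e j` is not in the kernel
    have hex : ∃ j, e j ∉ RingHom.ker (χ₀.comp Θ) := by
      by_contra hcon
      push_neg at hcon
      have h1 : (1 : R'' ⊗[R₁] S₁) ∈ RingHom.ker (χ₀.comp Θ) := by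
        rw [← he.complete]
        exact Ideal.sum_mem _ (fun j _ => hcon j)
      exact (inferInstance : (RingHom.ker (χ₀.comp Θ)).IsPrime).ne_top
        ((Ideal.eq_top_iff_one _).mpr h1)
    obtain ⟨j, hj⟩ := hex
    have hjlast : j ≠ Fin.last n := fun h => hj (h ▸ hlast)
    obtain ⟨i, rfl⟩ := Fin.exists_castSucc_eq.mpr hjlast
    refine ⟨i, hQ i hj, ?_⟩
    have hid : IsIdempotentElem (Θ (e i.castSucc)) := (he.idem i.castSucc).map Θ
    rcases IsIdempotentElem.iff_eq_zero_or_one.mp hid with h | h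
    · exfalso
      apply hj
      rw [RingHom.mem_ker, RingHom.comp_apply, h, map_zero]
    · exact h
  obtain ⟨i, hi, hi1⟩ := key χ h1
  obtain ⟨i', hi', hi1'⟩ := key χ' h2
  by_cases hii : i = i'
  · rw [hi, hi', hii]
  · exfalso
    have hne : i.castSucc ≠ i'.castSucc := fun h => hii (Fin.castSucc_injective n h)
    have h0 : e i.castSucc * e i'.castSucc = 0 := he.ortho hne
    have : (1 : T') = 0 := by
      rw [← map_zero Θ, ← h0, map_mul, hi1, hi1', mul_one]
    exact one_ne_zero this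

/-- The residue condition from bijectivity of the residue field map. -/
theorem resSurj_of_bijective {R₁ R'' : Type u} [CommRing R₁] [CommRing R''] [Algebra R₁ R'']
    (P₁ : Ideal R₁) [P₁.IsPrime] (P'' : Ideal R'') [P''.IsPrime] [P''.LiesOver P₁]
    (hbij : Function.Bijective
      (Ideal.ResidueField.mapₐ P₁ P'' (Algebra.ofId R₁ R'') (P''.over_def P₁))) :
    BrFwd.ResSurj P₁ P'' := by
  intro b
  obtain ⟨y, hy⟩ := hbij.2 (algebraMap R'' P''.ResidueField b)
  obtain ⟨z, rfl⟩ := IsLocalRing.residue_surjective y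
  obtain ⟨r, s, rfl⟩ := IsLocalization.exists_mk'_eq P₁.primeCompl z
  refine ⟨r, s, s.2, ?_⟩
  have h1 : IsLocalRing.residue (Localization.AtPrime P₁)
      (IsLocalization.mk' (Localization.AtPrime P₁) r s) * algebraMap R₁ P₁.ResidueField s =
      algebraMap R₁ P₁.ResidueField r := by
    rw [IsScalarTower.algebraMap_apply R₁ (Localization.AtPrime P₁) P₁.ResidueField,
      IsScalarTower.algebraMap_apply R₁ (Localization.AtPrime P₁) P₁.ResidueField,
      IsLocalRing.ResidueField.algebraMap_eq, ← map_mul, IsLocalization.mk'_spec]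
  have h2 := congrArg (Ideal.ResidueField.mapₐ P₁ P'' (Algebra.ofId R₁ R'') (P''.over_def P₁)) h1
  rw [map_mul, hy, Ideal.ResidueField.mapₐ_apply, Ideal.ResidueField.mapₐ_apply,
    Ideal.ResidueField.map_algebraMap, Ideal.ResidueField.map_algebraMap] at h2
  rw [← Ideal.algebraMap_residueField_eq_zero, map_sub, map_mul, sub_eq_zero, mul_comm]
  exact h2

end Groth.Agent.Lib.Helper7.BrCore
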