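import Groth.Agent.Lib.Helper7.GUEtaleLoc

/-!
# Étale ascent for unibranch local domains along residually trivial étale maps (helper7)

`coreU'`: `A = R_p` a unibranch local domain, `B` étale over `R`, `q` a prime of `B` over `p` with
trivial residue field extension.  Then `B_q` is a domain.
-/

set_option autoImplicit false
set_option maxHeartbeats 400000
universe u

namespace Groth.Agent.Lib.Helper7.BrCoreU

open IsLocalRing TensorProduct

section pow

variable {A Aν E C : Type*} [CommRing A] [CommRing Aν] [CommRing E] [CommRing C]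
  (α : A →+* Aν) (β : A →+* E) (φ : E →+* C) (ψ : Aν →+* C)
  (hsq : φ.comp β = ψ.comp α)
  (hgen : Subring.closure (Set.range φ ∪ Set.range ψ) = ⊤)
  (q : Ideal E) (hres : ∀ e : E, ∃ b : A, e - β b ∈ q)

include hsq hgen hres in
theorem exists_sub_mem (Q : Ideal C) (hq : q ≤ Q.comap φ) (c : C) : ∃ a : Aν, c - ψ a ∈ Q := by
  have hc : c ∈ Subring.closure (Set.range φ ∪ Set.range ψ) := by rw [hgen]; trivial
  induction hc using Subring.closure_induction with
  | mem x hx =>
    rcases hx with ⟨e, rfl⟩ | ⟨a, rfl⟩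
    · obtain ⟨b, hb⟩ := hres e
      refine ⟨α b, ?_⟩
      have h1 : ψ (α b) = φ (β b) := by
        have := congrArg (fun f => f b) hsq
        exact this.symm
      rw [h1, ← map_sub]
      exact hq hb
    · exact ⟨a, by rw [sub_self]; exact Q.zero_mem⟩
  | zero => exact ⟨0, by rw [map_zero, sub_self]; exact Q.zero_mem⟩
  | one => exact ⟨1, by rw [map_one, sub_self]; exact Q.zero_mem⟩
  | add x y _ _ hx hy =>
    obtain ⟨a, ha⟩ := hx
    obtain ⟨b, hb⟩ := hy
    refine ⟨a + b, ?_⟩
    have : x + y - ψ (a + b) = (x - ψ a) + (y - ψ b) := by rw [map_add]; ring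
    rw [this]; exact Q.add_mem ha hb
  | neg x _ hx =>
    obtain ⟨a, ha⟩ := hx
    refine ⟨-a, ?_⟩
    have : -x - ψ (-a) = -(x - ψ a) := by rw [map_neg]; ring
    rw [this]; exact Q.neg_mem ha
  | mul x y _ _ hx hy =>
    obtain ⟨a, ha⟩ := hx
    obtain ⟨b, hb⟩ := hy
    refine ⟨a * b, ?_⟩
    have : x * y - ψ (a * b) = x * (y - ψ b) + ψ b * (x - ψ a) := by rw [map_mul]; ring
    rw [this]; exact Q.add_mem (Q.mul_mem_left _ hb) (Q.mul_mem_left _ ha)

include hsq hgen hres in
theorem le_of_comap (m : Ideal Aν) [m.IsMaximal] (Q₁ Q₂ : Ideal C) [Q₁.IsPrime] [Q₂.IsPrime]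
    (h₁ : m ≤ Q₁.comap ψ) (h₂ : m ≤ Q₂.comap ψ) (hq₁ : q ≤ Q₁.comap φ) (hq₂ : q ≤ Q₂.comap φ) :
    Q₁ ≤ Q₂ := by
  intro c hc
  obtain ⟨a, ha⟩ := exists_sub_mem α β φ ψ hsq hgen q hres (Q₁ ⊓ Q₂)
    (fun x hx => ⟨hq₁ hx, hq₂ hx⟩) c
  have h3 : ψ a ∈ Q₁ := by
    have : ψ a = c - (c - ψ a) := by ring
    rw [this]; exact Q₁.sub_mem hc ha.1
  have h4 : Q₁.comap ψ = m :=
    ((inferInstance : m.IsMaximal).eq_of_le (Ideal.IsPrime.ne_top inferInstance) h₁).symm
  have h5 : a ∈ m := by rw [← h4]; exact h3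
  have h6 : ψ a ∈ Q₂ := h₂ h5
  have : c = (c - ψ a) + ψ a := by ring
  rw [this]; exact Q₂.add_mem ha.2 h6

include hsq hgen hres in
theorem eq_of_comap (m : Ideal Aν) [m.IsMaximal] (Q₁ Q₂ : Ideal C) [Q₁.IsPrime] [Q₂.IsPrime]
    (h₁ : m ≤ Q₁.comap ψ) (h₂ : m ≤ Q₂.comap ψ) (hq₁ : q ≤ Q₁.comap φ) (hq₂ : q ≤ Q₂.comap φ) :
    Q₁ = Q₂ :=
  le_antisymm (le_of_comap α β φ ψ hsq hgen q hres m Q₁ Q₂ h₁ h₂ hq₁ hq₂)
    (le_of_comap α β φ ψ hsq hgen q hres m Q₂ Q₁ h₂ h₁ hq₂ hq₁)

end pow

/-- The domain part of `GUCore.core_abstract`: only uniqueness of the prime is needed. -/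
theorem isDomain_of_unique
    {E : Type u} [CommRing E] (q : Ideal E) [q.IsPrime]
    {F : Type u} [CommRing F] [Algebra E F] [IsArtinianRing F] [IsReduced F]
    (D : Type u) [CommRing D] [IsLocalRing D] [Algebra E D] [IsLocalization.AtPrime D q]
    (L : Type u) [CommRing L] [Algebra F L]
    [IsLocalization (Algebra.algebraMapSubmonoid F q.primeCompl) L]
    [Algebra D L] [Algebra E L] [IsScalarTower E D L] [IsScalarTower E F L]
    (hinjF : Function.Injective (algebraMap E F))
    (hU : ∀ (Q₁ Q₂ : Ideal (integralClosure E F)) [Q₁.IsPrime] [Q₂.IsPrime],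
      Q₁.comap (algebraMap E (integralClosure E F)) = q →
      Q₂.comap (algebraMap E (integralClosure E F)) = q → Q₁ = Q₂) :
    IsDomain D := by
  haveI := GUCore.nontrivial_L q L hinjF
  haveI : IsArtinianRing L :=
    IsArtinianRing.localization_artinian (Algebra.algebraMapSubmonoid F q.primeCompl) L
  haveI : IsReduced L :=
    isReduced_localizationPreserves (Algebra.algebraMapSubmonoid F q.primeCompl) L inferInstance
  haveI := GUCore.isLocalRing_integralClosure q D L hU
  have hL : IsField L := GUCore.isField_of_isLocalRing_integralClosure D L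
  have hinj := GUCore.injective_algebraMap_D_L q D L hinjF
  haveI : IsDomain L := hL.isDomain
  exact hinj.isDomain (algebraMap D L)

theorem isLocalRing_of_isUnibranch (D : Type u) [CommRing D] [IsDomain D] [IsLocalRing D]
    (L : Type u) [CommRing L] [Algebra D L] [IsFractionRing D L] (hD : CAlg2.IsUnibranch D) :
    IsLocalRing (integralClosure D L) :=
  haveI : IsLocalRing (CAlg2.normRed D) := hD.2
  (GUModel.modelEquiv D L).isLocalRing

section main

variable {A : Type u} [CommRing A] [IsDomain A] [IsLocalRing A]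
  {E : Type u} [CommRing E] [Algebra A E] [Algebra.Etale A E]
  (K : Type u) [Field K] [Algebra A K] [IsFractionRing A K]

include K in
theorem coreU_aux (hA : CAlg2.IsUnibranch A) (q : Ideal E) [q.IsPrime]
    (hq : q.comap (algebraMap A E) = maximalIdeal A)
    (hres : ∀ e : E, ∃ a : A, e - algebraMap A E a ∈ q)
    (D : Type u) [CommRing D] [IsLocalRing D] [Algebra E D] [IsLocalization.AtPrime D q] :
    IsDomain D := by
  haveI : IsLocalRing (integralClosure A K) := isLocalRing_of_isUnibranch A K hA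
  set m := maximalIdeal (integralClosure A K) with hm
  obtain ⟨L, _, _, _, _, hloc, htow₁, htow₂⟩ := GUCore.exists_L_data (F := E ⊗[A] K) q (D := D)
  refine isDomain_of_unique q (F := E ⊗[A] K) D L (GUEtale.injective_algebraMap_tensor K) ?_
  intro Q₁ Q₂ _ _ h₁ h₂
  exact eq_of_comap (algebraMap A (integralClosure A K)) (algebraMap A E)
    (algebraMap E (integralClosure E (E ⊗[A] K))) (GUEtale.psi (E := E) K) (GUEtale.hsq K)
    (GUEtale.hgen K) q hres m Q₁ Q₂ (GUEtale.le_comap_psi K q hq Q₁ h₁)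
    (GUEtale.le_comap_psi K q hq Q₂ h₂) (le_of_eq h₁.symm) (le_of_eq h₂.symm)

theorem coreU (hA : CAlg2.IsUnibranch A) (q : Ideal E) [q.IsPrime]
    (hq : q.comap (algebraMap A E) = maximalIdeal A)
    (hres : ∀ e : E, ∃ a : A, e - algebraMap A E a ∈ q)
    (D : Type u) [CommRing D] [IsLocalRing D] [Algebra E D] [IsLocalization.AtPrime D q] :
    IsDomain D :=
  coreU_aux (FractionRing A) hA q hq hres D

end main

section loc

variable {R B : Type u} [CommRing R] [CommRing B] [Algebra R B] [Algebra.Etale R B]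
  (p : Ideal R) [p.IsPrime] (q : Ideal B) [q.IsPrime] (hqp : q.comap (algebraMap R B) = p)
  (A : Type u) [CommRing A] [IsDomain A] [IsLocalRing A] [Algebra R A] [IsLocalization.AtPrime A p]
  (D : Type u) [CommRing D] [IsLocalRing D] [Algebra B D] [IsLocalization.AtPrime D q]
  [Algebra R D] [IsScalarTower R B D] [Algebra A D] [IsScalarTower R A D]

include hqp in
theorem coreU' (hA : CAlg2.IsUnibranch A)
    (hres : ∀ d : D, ∃ a : A, d - algebraMap A D a ∈ maximalIdeal D) : IsDomain D := by
  letI : Algebra (A ⊗[R] B) D := (GUEtale.tensorToD (R := R) (B := B) A D).toRingHom.toAlgebra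
  haveI := GUEtale.isLocalization_atPrime_tensor p q hqp A D
  have hleft : ∀ a : A, algebraMap (A ⊗[R] B) D (algebraMap A (A ⊗[R] B) a) =
      algebraMap A D a := by
    intro a
    rw [Algebra.TensorProduct.algebraMap_apply, Algebra.algebraMap_self, RingHom.id_apply]
    exact GUEtale.tensorToD_left A D a
  have hmax : ((maximalIdeal D).comap (algebraMap (A ⊗[R] B) D)).comap
      (algebraMap A (A ⊗[R] B)) = maximalIdeal A := by
    have h1 : ((maximalIdeal D).comap (algebraMap (A ⊗[R] B) D)).comap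
        (algebraMap A (A ⊗[R] B)) = (maximalIdeal D).comap (algebraMap A D) := by
      rw [Ideal.comap_comap]
      congr 1
      exact RingHom.ext hleft
    rw [h1]
    have e1 : (maximalIdeal D).comap (algebraMap B D) = q :=
      IsLocalization.AtPrime.comap_maximalIdeal D q
    have h2 : ((maximalIdeal D).comap (algebraMap A D)).comap (algebraMap R A) = p := by
      rw [Ideal.comap_comap, ← IsScalarTower.algebraMap_eq, IsScalarTower.algebraMap_eq R B D,
        ← Ideal.comap_comap, e1, hqp]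
    have h3 : (maximalIdeal A).comap (algebraMap R A) = p :=
      IsLocalization.AtPrime.comap_maximalIdeal A p
    calc (maximalIdeal D).comap (algebraMap A D)
        = Ideal.map (algebraMap R A)
            (((maximalIdeal D).comap (algebraMap A D)).comap (algebraMap R A)) :=
          (IsLocalization.map_comap p.primeCompl A _).symm
      _ = Ideal.map (algebraMap R A) p := by rw [h2]
      _ = Ideal.map (algebraMap R A) ((maximalIdeal A).comap (algebraMap R A)) := by rw [h3]
      _ = maximalIdeal A := IsLocalization.map_comap p.primeCompl A _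
  refine coreU (A := A) (E := A ⊗[R] B) hA
    ((maximalIdeal D).comap (algebraMap (A ⊗[R] B) D)) hmax ?_ D
  intro e
  obtain ⟨a, ha⟩ := hres (algebraMap (A ⊗[R] B) D e)
  refine ⟨a, ?_⟩
  change algebraMap (A ⊗[R] B) D (e - algebraMap A (A ⊗[R] B) a) ∈ maximalIdeal D
  rw [map_sub, hleft]
  exact ha

end loc

end Groth.Agent.Lib.Helper7.BrCoreU
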