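import Groth.Agent.Lib.Helper7.BrM

/-!
# Unibranch from elementary étale neighbourhoods (helper7)
-/

set_option autoImplicit false
set_option maxHeartbeats 800000
universe u

namespace Groth.Agent.Lib.Helper7.BrE

open IsLocalRing TensorProduct Polynomial BrFwd BrT

theorem isPrime_nilradical_of_ringEquiv {S S' : Type*} [CommRing S] [CommRing S'] (e : S ≃+* S')
    (h : (nilradical S).IsPrime) : (nilradical S').IsPrime := by
  have : nilradical S' = (nilradical S).comap e.symm.toRingHom := by
    ext x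
    constructor
    · intro hx
      exact (show IsNilpotent x from hx).map e.symm
    · intro hx
      have h1 : IsNilpotent (e.symm x) := hx
      have h2 := h1.map e
      rwa [RingEquiv.apply_symm_apply] at h2
  rw [this]
  exact Ideal.comap_isPrime _ _

variable {R : Type u} [CommRing R] (p : Ideal R) [p.IsPrime]
  (A : Type u) [CommRing A] [IsLocalRing A] [Algebra R A] [IsLocalization.AtPrime A p]

theorem exists_scaled_integral (hnil : (nilradical A).IsPrime) (t : CAlg2.normRed A) :
    ∃ s : R, s ∉ p ∧ ∃ f : R[X], f.Monic ∧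
      f.eval₂ (toNorm (R := R) A) (toNorm (R := R) A s * t) = 0 := by
  haveI hp0prime : (p0 (R := R) A).IsPrime := p0_isPrime A hnil
  haveI : IsDomain (R ⧸ p0 (R := R) A) := Ideal.Quotient.isDomain _
  haveI : IsDomain (CAlg2.red A) := Ideal.Quotient.isDomain _
  haveI hpbar : (pbar p A).IsPrime := pbar_isPrime p A
  letI algRbRed : Algebra (R ⧸ p0 (R := R) A) (CAlg2.red A) := (redHom (R := R) A).toAlgebra
  haveI locRed : IsLocalization.AtPrime (CAlg2.red A) (pbar p A) := isLocalization_red p A
  have ht : IsIntegral (CAlg2.red A) t := integralClosure.isIntegral t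
  obtain ⟨⟨m, hm⟩, hmt⟩ := IsIntegral.exists_multiple_integral_of_isLocalization
    (pbar p A).primeCompl (Rₘ := CAlg2.red A) t ht
  obtain ⟨s, rfl⟩ := Ideal.Quotient.mk_surjective m
  have hs : s ∉ p := fun h => hm ((mem_pbar_iff p A s).mpr h)
  refine ⟨s, hs, ?_⟩
  obtain ⟨fb, hfb, hfb0⟩ := hmt
  have hlifts : fb ∈ Polynomial.lifts (Ideal.Quotient.mk (p0 (R := R) A)) := by
    rw [Polynomial.mem_lifts]
    exact Polynomial.map_surjective _ Ideal.Quotient.mk_surjective fb
  obtain ⟨f, hf1, -, hf3⟩ := Polynomial.lifts_and_natDegree_eq_and_monic hlifts hfb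
  refine ⟨f, hf3, ?_⟩
  have e1 : toNorm (R := R) A = (algebraMap (R ⧸ p0 (R := R) A) (CAlg2.normRed A)).comp
      (Ideal.Quotient.mk (p0 (R := R) A)) := rfl
  have e2 : toNorm (R := R) A s * t =
      (⟨Ideal.Quotient.mk (p0 (R := R) A) s, hm⟩ : (pbar p A).primeCompl) • t := by
    rw [Submonoid.smul_def, Algebra.smul_def]
    rfl
  rw [e2, e1, ← Polynomial.eval₂_map, hf1]
  exact hfb0

/-- The kernel of `R → normRed A → normRed A / m` is `p`. -/
theorem ker_toNorm_quot (hnil : (nilradical A).IsPrime) (m : Ideal (CAlg2.normRed A))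
    [m.IsMaximal] :
    RingHom.ker ((Ideal.Quotient.mk m).comp (toNorm (R := R) A)) = p := by
  haveI : IsDomain (CAlg2.red A) := Ideal.Quotient.isDomain _
  haveI : IsLocalRing (CAlg2.red A) := GURed.isLocalRing_red A
  have h1 : m.comap (algebraMap (CAlg2.red A) (CAlg2.normRed A)) = maximalIdeal (CAlg2.red A) :=
    IsLocalRing.eq_maximalIdeal (Ideal.isMaximal_comap_of_isIntegral_of_isMaximal m)
  have h2 : (maximalIdeal (CAlg2.red A)).comap (Ideal.Quotient.mk (nilradical A)) =
      maximalIdeal A :=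
    IsLocalRing.eq_maximalIdeal
      (Ideal.comap_isMaximal_of_surjective _ Ideal.Quotient.mk_surjective)
  have h3 : (maximalIdeal A).comap (algebraMap R A) = p :=
    IsLocalization.AtPrime.comap_maximalIdeal A p
  rw [← RingHom.comap_ker, Ideal.mk_ker]
  change ((m.comap (algebraMap (CAlg2.red A) (CAlg2.normRed A))).comap
    (Ideal.Quotient.mk (nilradical A))).comap (algebraMap R A) = p
  rw [h1, h2, h3]

/-- **Unibranch from elementary étale neighbourhoods**. -/
theorem isUnibranch_of_elementary
    (H : ∀ (R' : Type u) [CommRing R'] [Algebra R R'] [Algebra.Etale R R'] (P : Ideal R')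
      [P.IsPrime], P.comap (algebraMap R R') = p → ResSurj p P →
      (nilradical (Localization.AtPrime P)).IsPrime) :
    CAlg2.IsUnibranch A := by
  -- the nilradical of `A` is prime
  have hnil : (nilradical A).IsPrime := by
    have h0 : (nilradical (Localization.AtPrime p)).IsPrime := by
      refine H R p (by rw [Algebra.algebraMap_self, Ideal.comap_id]) ?_
      intro b
      exact ⟨b, 1, fun h => (inferInstance : p.IsPrime).ne_top ((Ideal.eq_top_iff_one _).mpr h),
        by simp⟩
    exact isPrime_nilradical_of_ringEquiv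
      (IsLocalization.algEquiv p.primeCompl (Localization.AtPrime p) A).toRingEquiv h0
  haveI : IsDomain (CAlg2.red A) := Ideal.Quotient.isDomain _
  refine ⟨inferInstance, ?_⟩
  haveI : Nontrivial (CAlg2.normRed A) :=
    ⟨⟨0, 1, fun h => zero_ne_one (α := FractionRing (CAlg2.red A)) (congrArg Subtype.val h)⟩⟩
  obtain ⟨M₀, hM₀⟩ := Ideal.exists_maximal (CAlg2.normRed A)
  refine IsLocalRing.of_unique_max_ideal ⟨M₀, hM₀, fun M hM => ?_⟩
  have key : ∀ (m₁ m₂ : Ideal (CAlg2.normRed A)) [m₁.IsMaximal] [m₂.IsMaximal], m₁ ≤ m₂ := by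
    intro m₁ m₂ _ _ t ht
    obtain ⟨s, hs, f, hf, hft⟩ := exists_scaled_integral p A hnil t
    letI : Field (CAlg2.normRed A ⧸ m₁) := Ideal.Quotient.field m₁
    letI : Field (CAlg2.normRed A ⧸ m₂) := Ideal.Quotient.field m₂
    have hmain := BrM.main p A hnil R p (by rw [Algebra.algebraMap_self, Ideal.comap_id]) H f hf
      (toNorm (R := R) A s * t) hft
      ((Ideal.Quotient.mk m₁).comp (toNorm (R := R) A))
      ((Ideal.Quotient.mk m₂).comp (toNorm (R := R) A))
      (ker_toNorm_quot p A hnil m₁) (ker_toNorm_quot p A hnil m₂)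
      (Ideal.Quotient.mk m₁) (Ideal.Quotient.mk m₂) rfl rfl Polynomial.X
    rw [Polynomial.eval₂_X, Polynomial.eval₂_X, Ideal.Quotient.eq_zero_iff_mem,
      Ideal.Quotient.eq_zero_iff_mem] at hmain
    have h1 : toNorm (R := R) A s * t ∈ m₂ := hmain.mp (m₁.mul_mem_left _ ht)
    rcases (inferInstance : m₂.IsMaximal).isPrime.mem_or_mem h1 with h | h
    · exfalso
      apply hs
      rw [← ker_toNorm_quot p A hnil m₂, RingHom.mem_ker, RingHom.comp_apply,
        Ideal.Quotient.eq_zero_iff_mem]
      exact h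
    · exact h
  exact le_antisymm (key M M₀) (key M₀ M)

end Groth.Agent.Lib.Helper7.BrE
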