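import Groth.Agent.Lib.Helper7.GUIrr

/-!
# Reduction modulo a nil prime for étale-local rings (helper7)

`R → B` étale, `q` a prime of `B` over `p`, `p₀ ⊆ p` a prime of `R` whose elements become nilpotent
in `R_p`.  Then `B_q` has prime nilradical iff `(B / p₀B)_q` is a domain.
-/

set_option autoImplicit false
set_option maxHeartbeats 400000
universe u

namespace Groth.Agent.Lib.Helper7.BrRed

open IsLocalRing TensorProduct

section

variable {R B : Type u} [CommRing R] [CommRing B] [Algebra R B]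
  (p : Ideal R) [p.IsPrime] (q : Ideal B) [q.IsPrime] (hqp : q.comap (algebraMap R B) = p)
  (p₀ : Ideal R) [p₀.IsPrime]
  (hp₀ : ∀ r ∈ p₀, ∃ s ∈ p.primeCompl, ∃ k : ℕ, s * r ^ k = 0)

/-- The extension of `p₀` to `B`. -/
abbrev nB : Ideal B := p₀.map (algebraMap R B)

/-- The image of `q` in `B / p₀B`. -/
abbrev qbar : Ideal (B ⧸ nB (B := B) p₀) := q.map (Ideal.Quotient.mk (nB (B := B) p₀))

include hp₀ in
theorem p₀_le : p₀ ≤ p := by
  intro r hr
  obtain ⟨s, hs, k, hk⟩ := hp₀ r hr
  have h1 : s * r ^ k ∈ p := by rw [hk]; exact p.zero_mem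
  rcases (inferInstance : p.IsPrime).mem_or_mem h1 with h | h
  · exact absurd h hs
  · exact (inferInstance : p.IsPrime).mem_of_pow_mem k h

include hqp hp₀ in
theorem nB_le : nB (B := B) p₀ ≤ q := by
  rw [Ideal.map_le_iff_le_comap, hqp]
  exact p₀_le p p₀ hp₀

include hqp hp₀ in
theorem qbar_isPrime : (qbar q p₀).IsPrime :=
  Ideal.map_isPrime_of_surjective Ideal.Quotient.mk_surjective
    (by rw [Ideal.mk_ker]; exact nB_le p q hqp p₀ hp₀)

include hqp hp₀ in
theorem mem_qbar_iff (b : B) : Ideal.Quotient.mk (nB (B := B) p₀) b ∈ qbar q p₀ ↔ b ∈ q := by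
  have h1 : (qbar q p₀).comap (Ideal.Quotient.mk (nB (B := B) p₀)) = q := by
    rw [Ideal.comap_map_of_surjective _ Ideal.Quotient.mk_surjective,
      ← RingHom.ker_eq_comap_bot, Ideal.mk_ker]
    exact sup_eq_left.mpr (nB_le p q hqp p₀ hp₀)
  rw [← Ideal.mem_comap, h1]

variable (D : Type u) [CommRing D] [Algebra B D] [IsLocalization.AtPrime D q]

include hqp hp₀ in
/-- The image of `p₀B` in `B_q` consists of nilpotent elements. -/
theorem map_nB_le_nilradical : (nB (B := B) p₀).map (algebraMap B D) ≤ nilradical D := by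
  rw [Ideal.map_le_iff_le_comap, Ideal.map_le_iff_le_comap]
  intro r hr
  obtain ⟨s, hs, k, hk⟩ := hp₀ r hr
  have hsq : algebraMap R B s ∈ q.primeCompl := by
    intro h
    have : s ∈ q.comap (algebraMap R B) := h
    rw [hqp] at this
    exact hs this
  have hunit : IsUnit (algebraMap B D (algebraMap R B s)) :=
    IsLocalization.map_units D (⟨_, hsq⟩ : q.primeCompl)
  change IsNilpotent (algebraMap B D (algebraMap R B r))
  refine ⟨k, ?_⟩
  have h1 : algebraMap B D (algebraMap R B s) * (algebraMap B D (algebraMap R B r)) ^ k = 0 := by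
    rw [← map_pow, ← map_pow, ← map_mul, ← map_mul, hk, map_zero, map_zero]
  exact (hunit.mul_right_eq_zero).mp h1

end

section

variable {R B : Type u} [CommRing R] [CommRing B] [Algebra R B] [Algebra.Etale R B]
  (p₀ : Ideal R) [p₀.IsPrime]

instance etale_quot : Algebra.Etale (R ⧸ p₀) (B ⧸ nB (B := B) p₀) :=
  Algebra.Etale.of_equiv (Algebra.TensorProduct.quotIdealMapEquivQuotTensor B p₀).symm

instance isReduced_quot : IsReduced (B ⧸ nB (B := B) p₀) := by
  haveI : IsDomain (R ⧸ p₀) := Ideal.Quotient.isDomain p₀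
  have hinj := GUEtale.injective_algebraMap_tensor (A := R ⧸ p₀) (E := B ⧸ nB (B := B) p₀)
    (FractionRing (R ⧸ p₀))
  exact isReduced_of_injective _ hinj

end

section main

variable {R B : Type u} [CommRing R] [CommRing B] [Algebra R B] [Algebra.Etale R B]
  (p : Ideal R) [p.IsPrime] (q : Ideal B) [q.IsPrime] (hqp : q.comap (algebraMap R B) = p)
  (p₀ : Ideal R) [p₀.IsPrime]
  (hp₀ : ∀ r ∈ p₀, ∃ s ∈ p.primeCompl, ∃ k : ℕ, s * r ^ k = 0)
  (D : Type u) [CommRing D] [Algebra B D] [IsLocalization.AtPrime D q]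
  (Dbar : Type u) [CommRing Dbar] [Algebra (B ⧸ nB (B := B) p₀) Dbar]

include hqp hp₀ in
theorem primeCompl_le [hq' : (qbar q p₀).IsPrime] :
    q.primeCompl ≤ (qbar q p₀).primeCompl.comap (Ideal.Quotient.mk (nB (B := B) p₀)) := by
  intro b hb hb'
  exact hb ((mem_qbar_iff p q hqp p₀ hp₀ b).mp hb')

variable [hq' : (qbar q p₀).IsPrime] [IsLocalization.AtPrime Dbar (qbar q p₀)]

/-- The comparison map `B_q → (B/p₀B)_q`. -/
noncomputable def psi : D →+* Dbar :=
  IsLocalization.map (M := q.primeCompl) (T := (qbar q p₀).primeCompl) Dbar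
    (Ideal.Quotient.mk (nB (B := B) p₀)) (primeCompl_le p q hqp p₀ hp₀)

theorem psi_algebraMap (b : B) :
    psi p q hqp p₀ hp₀ D Dbar (algebraMap B D b) =
      algebraMap (B ⧸ nB (B := B) p₀) Dbar (Ideal.Quotient.mk _ b) :=
  IsLocalization.map_eq _ b

theorem psi_surjective : Function.Surjective (psi p q hqp p₀ hp₀ D Dbar) := by
  intro z
  obtain ⟨b', ⟨s', hs'⟩, rfl⟩ := IsLocalization.exists_mk'_eq (qbar q p₀).primeCompl z
  obtain ⟨b, rfl⟩ := Ideal.Quotient.mk_surjective b'
  obtain ⟨s, rfl⟩ := Ideal.Quotient.mk_surjective s'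
  have hs : s ∈ q.primeCompl := fun h => hs' ((mem_qbar_iff p q hqp p₀ hp₀ s).mpr h)
  refine ⟨IsLocalization.mk' D b (⟨s, hs⟩ : q.primeCompl), ?_⟩
  rw [psi, IsLocalization.map_mk']

theorem ker_psi_le : RingHom.ker (psi p q hqp p₀ hp₀ D Dbar) ≤ nilradical D := by
  intro z hz
  have hz0 : psi p q hqp p₀ hp₀ D Dbar z = 0 := hz
  obtain ⟨b, ⟨s, hs⟩, rfl⟩ := IsLocalization.exists_mk'_eq q.primeCompl z
  set z := IsLocalization.mk' D b (⟨s, hs⟩ : q.primeCompl) with hzdef
  have hzb : z * algebraMap B D s = algebraMap B D b := IsLocalization.mk'_spec _ _ _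
  have h1 : algebraMap (B ⧸ nB (B := B) p₀) Dbar (Ideal.Quotient.mk _ b) = 0 := by
    rw [← psi_algebraMap p q hqp p₀ hp₀ D Dbar, ← hzb, map_mul, hz0, zero_mul]
  rw [IsLocalization.map_eq_zero_iff (qbar q p₀).primeCompl] at h1
  obtain ⟨⟨t', ht'⟩, ht⟩ := h1
  obtain ⟨t, rfl⟩ := Ideal.Quotient.mk_surjective t'
  have htq : t ∈ q.primeCompl := fun h => ht' ((mem_qbar_iff p q hqp p₀ hp₀ t).mpr h)
  have h2 : t * b ∈ nB (B := B) p₀ := by
    rw [← Ideal.Quotient.eq_zero_iff_mem, map_mul]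
    exact ht
  have h3 : algebraMap B D (t * b) ∈ nilradical D :=
    map_nB_le_nilradical p q hqp p₀ hp₀ D (Ideal.mem_map_of_mem _ h2)
  have hunit : IsUnit (algebraMap B D t * algebraMap B D s) :=
    (IsLocalization.map_units D (⟨t, htq⟩ : q.primeCompl)).mul
      (IsLocalization.map_units D (⟨s, hs⟩ : q.primeCompl))
  have h4 : z * (algebraMap B D t * algebraMap B D s) ∈ nilradical D := by
    have : z * (algebraMap B D t * algebraMap B D s) = algebraMap B D (t * b) := by
      rw [map_mul, ← hzb]; ring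
    rw [this]
    exact h3
  exact (Ideal.mul_unit_mem_iff_mem _ hunit).mp h4

include hqp hp₀ in
theorem isPrime_nilradical_of_isDomain [IsDomain Dbar] : (nilradical D).IsPrime := by
  have hker : nilradical D = RingHom.ker (psi p q hqp p₀ hp₀ D Dbar) := by
    apply le_antisymm
    · intro z hz
      exact ((show IsNilpotent z from hz).map (psi p q hqp p₀ hp₀ D Dbar)).eq_zero
    · exact ker_psi_le p q hqp p₀ hp₀ D Dbar
  rw [hker]
  exact RingHom.ker_isPrime _

include hqp hp₀ in
theorem isDomain_of_isPrime_nilradical (h : (nilradical D).IsPrime) : IsDomain Dbar := by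
  haveI : IsLocalRing Dbar := IsLocalization.AtPrime.isLocalRing Dbar (qbar q p₀)
  haveI : IsReduced Dbar :=
    isReduced_localizationPreserves (qbar q p₀).primeCompl Dbar inferInstance
  haveI : NoZeroDivisors Dbar := ⟨by
    intro x y hxy
    obtain ⟨a, rfl⟩ := psi_surjective p q hqp p₀ hp₀ D Dbar x
    obtain ⟨b, rfl⟩ := psi_surjective p q hqp p₀ hp₀ D Dbar y
    have hab : a * b ∈ nilradical D := by
      apply ker_psi_le p q hqp p₀ hp₀ D Dbar
      rw [RingHom.mem_ker, map_mul]; exact hxy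
    rcases h.mem_or_mem hab with ha | hb
    · left
      exact ((show IsNilpotent a from ha).map (psi p q hqp p₀ hp₀ D Dbar)).eq_zero
    · right
      exact ((show IsNilpotent b from hb).map (psi p q hqp p₀ hp₀ D Dbar)).eq_zero⟩
  exact NoZeroDivisors.to_isDomain Dbar

end main

end Groth.Agent.Lib.Helper7.BrRed
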