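import Groth.Agent.Lib.Helper7.BrCoreU
import Groth.Agent.Lib.Helper7.BrRed

/-!
# Étale neighbourhoods of (geometrically) unibranch points have prime nilradical (helper7)
-/

set_option autoImplicit false
set_option maxHeartbeats 400000
universe u

namespace Groth.Agent.Lib.Helper7.BrFwd

open IsLocalRing TensorProduct

/-- Ring-level form of "the residue field extension `κ(p) → κ(q)` is trivial". -/
def ResSurj {R B : Type*} [CommRing R] [CommRing B] [Algebra R B] (p : Ideal R) (q : Ideal B) :
    Prop :=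
  ∀ b : B, ∃ r s : R, s ∉ p ∧ algebraMap R B s * b - algebraMap R B r ∈ q

section redLoc

variable {R : Type u} [CommRing R] (p : Ideal R) [p.IsPrime]
  (A : Type u) [CommRing A] [Algebra R A] [IsLocalization.AtPrime A p]

/-- The contraction of the nilradical of `A = R_p` to `R`. -/
def p0 : Ideal R := (nilradical A).comap (algebraMap R A)

theorem hp0 : ∀ r ∈ p0 (R := R) A, ∃ s ∈ p.primeCompl, ∃ k : ℕ, s * r ^ k = 0 := by
  intro r hr
  obtain ⟨k, hk⟩ : IsNilpotent (algebraMap R A r) := hr
  rw [← map_pow, IsLocalization.map_eq_zero_iff p.primeCompl] at hk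
  obtain ⟨s, hs⟩ := hk
  exact ⟨s, s.2, k, hs⟩

theorem p0_isPrime (h : (nilradical A).IsPrime) : (p0 (R := R) A).IsPrime :=
  Ideal.comap_isPrime (algebraMap R A) (nilradical A)

include p in
theorem map_p0 : (p0 (R := R) A).map (algebraMap R A) = nilradical A :=
  IsLocalization.map_comap p.primeCompl A _

/-- The structure map `R / p₀ → A_red`. -/
noncomputable def redHom : R ⧸ p0 (R := R) A →+* CAlg2.red A :=
  Ideal.Quotient.lift (p0 (R := R) A)
    ((Ideal.Quotient.mk (nilradical A)).comp (algebraMap R A)) (by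
      intro r hr
      change Ideal.Quotient.mk _ (algebraMap R A r) = 0
      rw [Ideal.Quotient.eq_zero_iff_mem]
      exact hr)

theorem redHom_mk (r : R) : redHom (R := R) A (Ideal.Quotient.mk _ r) =
    Ideal.Quotient.mk (nilradical A) (algebraMap R A r) := rfl

/-- The image of `p` in `R / p₀`. -/
abbrev pbar : Ideal (R ⧸ p0 (R := R) A) := p.map (Ideal.Quotient.mk (p0 (R := R) A))

theorem p0_le : p0 (R := R) A ≤ p := by
  intro r hr
  obtain ⟨s, hs, k, hk⟩ := hp0 p A r hr
  have h1 : s * r ^ k ∈ p := by rw [hk]; exact p.zero_mem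
  rcases (inferInstance : p.IsPrime).mem_or_mem h1 with h | h
  · exact absurd h hs
  · exact (inferInstance : p.IsPrime).mem_of_pow_mem k h

theorem pbar_isPrime : (pbar p A).IsPrime :=
  Ideal.map_isPrime_of_surjective Ideal.Quotient.mk_surjective
    (by rw [Ideal.mk_ker]; exact p0_le p A)

theorem mem_pbar_iff (r : R) : Ideal.Quotient.mk (p0 (R := R) A) r ∈ pbar p A ↔ r ∈ p := by
  have h1 : (pbar p A).comap (Ideal.Quotient.mk (p0 (R := R) A)) = p := by
    rw [Ideal.comap_map_of_surjective _ Ideal.Quotient.mk_surjective,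
      ← RingHom.ker_eq_comap_bot, Ideal.mk_ker]
    exact sup_eq_left.mpr (p0_le p A)
  rw [← Ideal.mem_comap, h1]

theorem isLocalization_red [hp' : (pbar p A).IsPrime] :
    letI : Algebra (R ⧸ p0 (R := R) A) (CAlg2.red A) := (redHom (R := R) A).toAlgebra
    IsLocalization.AtPrime (CAlg2.red A) (pbar p A) := by
  letI : Algebra (R ⧸ p0 (R := R) A) (CAlg2.red A) := (redHom (R := R) A).toAlgebra
  have h1 : IsLocalization (p.primeCompl.map (Ideal.Quotient.mk (p0 (R := R) A)))
      (CAlg2.red A) :=
    IsLocalization.of_surjective p.primeCompl A (Ideal.Quotient.mk (p0 (R := R) A))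
      Ideal.Quotient.mk_surjective (Ideal.Quotient.mk (nilradical A))
      Ideal.Quotient.mk_surjective (by ext r; rfl)
      (by rw [Ideal.mk_ker, Ideal.mk_ker, map_p0 p A])
  have h2 : p.primeCompl.map (Ideal.Quotient.mk (p0 (R := R) A)) = (pbar p A).primeCompl := by
    ext x
    obtain ⟨r, rfl⟩ := Ideal.Quotient.mk_surjective x
    constructor
    · rintro ⟨r', hr', hrr'⟩ hx
      have hrr'' : Ideal.Quotient.mk (p0 (R := R) A) r' = Ideal.Quotient.mk _ r := hrr'
      have hx' : Ideal.Quotient.mk (p0 (R := R) A) r ∈ pbar p A := hx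
      rw [← hrr'', mem_pbar_iff] at hx'
      exact hr' hx'
    · intro hx
      exact ⟨r, fun hr => hx ((mem_pbar_iff p A r).mpr hr), rfl⟩
  rw [h2] at h1
  exact h1

end redLoc

section domain

variable {R B : Type u} [CommRing R] [CommRing B] [Algebra R B] [Algebra.Etale R B]
  (p : Ideal R) [p.IsPrime] (q : Ideal B) [q.IsPrime] (hqp : q.comap (algebraMap R B) = p)

section AD

variable (A : Type u) [CommRing A] [IsLocalRing A] [Algebra R A] [IsLocalization.AtPrime A p]
  (D : Type u) [CommRing D] [IsLocalRing D] [Algebra B D] [IsLocalization.AtPrime D q]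
  [Algebra R D] [IsScalarTower R B D] [Algebra A D] [IsScalarTower R A D]

omit [Algebra.Etale R B] [IsLocalRing A] in
include hqp in
/-- From the ring-level residue condition to the condition on local rings. -/
theorem hres_AD_of_resSurj (hres : ResSurj p q) :
    ∀ d : D, ∃ a : A, d - algebraMap A D a ∈ maximalIdeal D := by
  intro d
  obtain ⟨b, ⟨t, ht⟩, rfl⟩ := IsLocalization.exists_mk'_eq q.primeCompl d
  set d := IsLocalization.mk' D b (⟨t, ht⟩ : q.primeCompl) with hd
  have hdt : d * algebraMap B D t = algebraMap B D b := IsLocalization.mk'_spec _ _ _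
  obtain ⟨r₁, s₁, hs₁, h₁⟩ := hres b
  obtain ⟨r₂, s₂, hs₂, h₂⟩ := hres t
  have hmemq : ∀ x : R, algebraMap R B x ∈ q ↔ x ∈ p := fun x => by
    rw [← hqp]; rfl
  have hr₂ : r₂ ∉ p := by
    intro hr₂
    have h3 : algebraMap R B s₂ * t ∈ q := by
      have : algebraMap R B s₂ * t = (algebraMap R B s₂ * t - algebraMap R B r₂) +
          algebraMap R B r₂ := by ring
      rw [this]
      exact q.add_mem h₂ ((hmemq r₂).mpr hr₂)
    rcases (inferInstance : q.IsPrime).mem_or_mem h3 with h | h
    · exact hs₂ ((hmemq s₂).mp h)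
    · exact ht h
  have hs₁r₂ : s₁ * r₂ ∈ p.primeCompl := p.primeCompl.mul_mem hs₁ hr₂
  refine ⟨IsLocalization.mk' A (r₁ * s₂) (⟨s₁ * r₂, hs₁r₂⟩ : p.primeCompl), ?_⟩
  set a := IsLocalization.mk' A (r₁ * s₂) (⟨s₁ * r₂, hs₁r₂⟩ : p.primeCompl) with ha
  have haa : a * algebraMap R A (s₁ * r₂) = algebraMap R A (r₁ * s₂) :=
    IsLocalization.mk'_spec _ _ _
  have haD : algebraMap A D a * algebraMap R D (s₁ * r₂) = algebraMap R D (r₁ * s₂) := by
    rw [IsScalarTower.algebraMap_apply R A D, IsScalarTower.algebraMap_apply R A D, ← map_mul, haa]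
  -- the unit
  have hu1 : IsUnit (algebraMap B D t) := IsLocalization.map_units D (⟨t, ht⟩ : q.primeCompl)
  have hu2 : IsUnit (algebraMap R D (s₁ * r₂)) := by
    rw [IsScalarTower.algebraMap_apply R B D]
    have : algebraMap R B (s₁ * r₂) ∈ q.primeCompl := fun h => hs₁r₂ ((hmemq _).mp h)
    exact IsLocalization.map_units D (⟨_, this⟩ : q.primeCompl)
  have hu : IsUnit (algebraMap B D t * algebraMap R D (s₁ * r₂)) := hu1.mul hu2
  have hkey : (d - algebraMap A D a) * (algebraMap B D t * algebraMap R D (s₁ * r₂)) =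
      algebraMap B D (algebraMap R B r₂ * (algebraMap R B s₁ * b - algebraMap R B r₁) -
        algebraMap R B r₁ * (algebraMap R B s₂ * t - algebraMap R B r₂)) := by
    have e1 : (d - algebraMap A D a) * (algebraMap B D t * algebraMap R D (s₁ * r₂)) =
        (d * algebraMap B D t) * algebraMap R D (s₁ * r₂) -
          (algebraMap A D a * algebraMap R D (s₁ * r₂)) * algebraMap B D t := by ring
    rw [e1, hdt, haD, IsScalarTower.algebraMap_apply R B D, IsScalarTower.algebraMap_apply R B D,
      ← map_mul, ← map_mul, ← map_sub]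
    congr 1
    simp only [map_mul]
    ring
  have hmem : (d - algebraMap A D a) * (algebraMap B D t * algebraMap R D (s₁ * r₂)) ∈
      maximalIdeal D := by
    rw [hkey]
    rw [IsLocalization.AtPrime.to_map_mem_maximal_iff D q]
    exact q.sub_mem (q.mul_mem_left _ h₁) (q.mul_mem_left _ h₂)
  exact (Ideal.mul_unit_mem_iff_mem _ hu).mp hmem

end AD

include hqp in
/-- `B` étale over `R`, `q` over `p` residually trivial, `A = R_p` a unibranch local domain: the
local ring `B_q` is a domain. -/
theorem isDomain_atPrime_of_etale_U (hres : ResSurj p q)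
    (A : Type u) [CommRing A] [IsDomain A] [IsLocalRing A] [Algebra R A]
    [IsLocalization.AtPrime A p] (hA : CAlg2.IsUnibranch A)
    (D : Type u) [CommRing D] [Algebra B D] [IsLocalization.AtPrime D q] : IsDomain D := by
  haveI : IsLocalRing D := IsLocalization.AtPrime.isLocalRing D q
  letI : Algebra R D := ((algebraMap B D).comp (algebraMap R B)).toAlgebra
  haveI : IsScalarTower R B D := .of_algebraMap_eq' rfl
  have hunits : ∀ y : p.primeCompl, IsUnit (algebraMap R D y) := by
    intro y
    change IsUnit (algebraMap B D (algebraMap R B y))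
    have hy : algebraMap R B y ∈ q.primeCompl := by
      intro hy
      have hy' : (y : R) ∈ q.comap (algebraMap R B) := hy
      rw [hqp] at hy'
      exact y.2 hy'
    exact IsLocalization.map_units D (⟨_, hy⟩ : q.primeCompl)
  letI : Algebra A D := (IsLocalization.lift (M := p.primeCompl) (S := A) hunits).toAlgebra
  haveI : IsScalarTower R A D := .of_algebraMap_eq' (by
    refine RingHom.ext fun r => ?_
    exact (IsLocalization.lift_eq hunits r).symm)
  exact BrCoreU.coreU' (R := R) (B := B) p q hqp A D hA (hres_AD_of_resSurj p q hqp A D hres)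

end domain

section general

variable {R B : Type u} [CommRing R] [CommRing B] [Algebra R B] [Algebra.Etale R B]
  (p : Ideal R) [p.IsPrime] (q : Ideal B) [q.IsPrime] (hqp : q.comap (algebraMap R B) = p)
  (A : Type u) [CommRing A] [IsLocalRing A] [Algebra R A] [IsLocalization.AtPrime A p]
  (D : Type u) [CommRing D] [Algebra B D] [IsLocalization.AtPrime D q]

include hqp in
/-- Common reduction: it suffices that `(B/p₀B)_q̄` is a domain whenever `A_red` is the
localization of `R/p₀`. -/
theorem isPrime_nilradical_of_red (hnil : (nilradical A).IsPrime)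
    (key : ∀ (R' B' : Type u) [CommRing R'] [IsDomain R'] [CommRing B'] [Algebra R' B']
      [Algebra.Etale R' B'] (p' : Ideal R') [p'.IsPrime] (q' : Ideal B') [q'.IsPrime]
      (_ : q'.comap (algebraMap R' B') = p') (ρ : R →+* R') (β : B →+* B')
      (_ : β.comp (algebraMap R B) = (algebraMap R' B').comp ρ)
      (_ : ∀ r, ρ r ∈ p' ↔ r ∈ p) (_ : ∀ b, β b ∈ q' ↔ b ∈ q)
      (_ : Function.Surjective ρ) (_ : Function.Surjective β)
      [Algebra R' (CAlg2.red A)] [IsLocalization.AtPrime (CAlg2.red A) p'],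
      IsDomain (Localization.AtPrime q')) :
    (nilradical D).IsPrime := by
  haveI hp0prime : (p0 (R := R) A).IsPrime := p0_isPrime A hnil
  haveI : IsDomain (R ⧸ p0 (R := R) A) := Ideal.Quotient.isDomain _
  haveI hpbar : (pbar p A).IsPrime := pbar_isPrime p A
  haveI hqbar : (BrRed.qbar q (p0 (R := R) A)).IsPrime :=
    BrRed.qbar_isPrime p q hqp (p0 (R := R) A) (hp0 p A)
  letI : Algebra (R ⧸ p0 (R := R) A) (CAlg2.red A) := (redHom (R := R) A).toAlgebra
  haveI := isLocalization_red p A
  have hqp' : (BrRed.qbar q (p0 (R := R) A)).comap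
      (algebraMap (R ⧸ p0 (R := R) A) (B ⧸ BrRed.nB (B := B) (p0 (R := R) A))) = pbar p A := by
    ext x
    obtain ⟨r, rfl⟩ := Ideal.Quotient.mk_surjective x
    rw [Ideal.mem_comap, mem_pbar_iff]
    have : algebraMap (R ⧸ p0 (R := R) A) (B ⧸ BrRed.nB (B := B) (p0 (R := R) A))
        (Ideal.Quotient.mk _ r) = Ideal.Quotient.mk _ (algebraMap R B r) := rfl
    rw [this, BrRed.mem_qbar_iff p q hqp (p0 (R := R) A) (hp0 p A), ← hqp]
    rfl
  haveI : IsDomain (Localization.AtPrime (BrRed.qbar q (p0 (R := R) A))) :=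
    key (R ⧸ p0 (R := R) A) (B ⧸ BrRed.nB (B := B) (p0 (R := R) A)) (pbar p A)
      (BrRed.qbar q (p0 (R := R) A)) hqp' (Ideal.Quotient.mk _) (Ideal.Quotient.mk _)
      (RingHom.ext fun r => rfl) (mem_pbar_iff p A)
      (BrRed.mem_qbar_iff p q hqp (p0 (R := R) A) (hp0 p A))
      Ideal.Quotient.mk_surjective Ideal.Quotient.mk_surjective
  exact BrRed.isPrime_nilradical_of_isDomain p q hqp (p0 (R := R) A) (hp0 p A) D
    (Localization.AtPrime (BrRed.qbar q (p0 (R := R) A)))

include hqp in
theorem isPrime_nilradical_of_isGeomUnibranch (hA : CAlg2.IsGeomUnibranch A) :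
    (nilradical D).IsPrime := by
  haveI : IsDomain (CAlg2.red A) := hA.1.1
  have hnil : (nilradical A).IsPrime := (Ideal.Quotient.isDomain_iff_prime _).mp inferInstance
  haveI : IsLocalRing (CAlg2.red A) := GURed.isLocalRing_red A
  have hA' := GURed.isGeomUnibranch_red A hA
  refine isPrime_nilradical_of_red p q hqp A D hnil ?_
  intro R' B' _ _ _ _ _ p' _ q' _ hq'p' ρ β hβ hρp hβq hρs hβs _ _
  exact GUUnram.isDomain_atPrime_of_etale q' p' hq'p' (CAlg2.red A) hA' _

theorem isUnibranch_red (hA : CAlg2.IsUnibranch A) [IsLocalRing (CAlg2.red A)] :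
    CAlg2.IsUnibranch (CAlg2.red A) := by
  haveI : IsDomain (CAlg2.red A) := hA.1
  haveI hloc : IsLocalRing (integralClosure (CAlg2.red A) (FractionRing (CAlg2.red A))) := hA.2
  haveI : IsLocalRing (CAlg2.normRed (CAlg2.red A)) :=
    (GUModel.modelEquiv (CAlg2.red A) (FractionRing (CAlg2.red A))).symm.isLocalRing
  refine ⟨?_, inferInstance⟩
  haveI : IsReduced (CAlg2.red A) := inferInstance
  have : nilradical (CAlg2.red A) = ⊥ := nilradical_eq_zero _
  haveI : (nilradical (CAlg2.red A)).IsPrime := by rw [this]; exact Ideal.isPrime_bot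
  exact Ideal.Quotient.isDomain _

include hqp in
theorem isPrime_nilradical_of_isUnibranch (hA : CAlg2.IsUnibranch A) (hres : ResSurj p q) :
    (nilradical D).IsPrime := by
  haveI : IsDomain (CAlg2.red A) := hA.1
  have hnil : (nilradical A).IsPrime := (Ideal.Quotient.isDomain_iff_prime _).mp inferInstance
  haveI : IsLocalRing (CAlg2.red A) := GURed.isLocalRing_red A
  have hA' := isUnibranch_red A hA
  refine isPrime_nilradical_of_red p q hqp A D hnil ?_
  intro R' B' _ _ _ _ _ p' _ q' _ hq'p' ρ β hβ hρp hβq hρs hβs _ _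
  refine isDomain_atPrime_of_etale_U p' q' hq'p' ?_ (CAlg2.red A) hA' _
  intro b'
  obtain ⟨b, rfl⟩ := hβs b'
  obtain ⟨r, s, hs, h⟩ := hres b
  refine ⟨ρ r, ρ s, fun hs' => hs ((hρp s).mp hs'), ?_⟩
  have h1 : algebraMap R' B' (ρ s) * β b - algebraMap R' B' (ρ r) =
      β (algebraMap R B s * b - algebraMap R B r) := by
    have e1 : ∀ x, algebraMap R' B' (ρ x) = β (algebraMap R B x) := fun x =>
      (congrArg (fun f => f x) hβ).symm
    rw [e1, e1, map_sub, map_mul]
  rw [h1, hβq]
  exact h

end general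

end Groth.Agent.Lib.Helper7.BrFwd
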