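import Mathlib

/-!
# Realizing a separable residue element by a standard étale algebra (helper7)
-/

set_option autoImplicit false
set_option maxHeartbeats 800000
universe u

namespace Groth.Agent.Lib.Helper7.BrSE

open Polynomial

theorem exists_standard_etale_separating
    {R : Type u} [CommRing R] (p : Ideal R) [p.IsPrime] (κ' : Type u) [Field κ'] [Algebra R κ']
    [Algebra p.ResidueField κ'] [IsScalarTower R p.ResidueField κ']
    [Algebra.IsAlgebraic p.ResidueField κ']
    (x : κ') (hsep : IsSeparable p.ResidueField x)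
    (hx : x ∉ (algebraMap p.ResidueField κ').range) :
    ∃ (s : R) (_ : s ∉ p) (R₁ : Type u) (_ : CommRing R₁) (_ : Algebra R R₁)
      (_ : Algebra.Etale R R₁) (γ₁ γ₁' : R₁ →+* AlgebraicClosure κ') (c : R₁),
      RingHom.ker γ₁' = RingHom.ker γ₁ ∧
      γ₁.comp (algebraMap R R₁) =
        (algebraMap κ' (AlgebraicClosure κ')).comp (algebraMap R κ') ∧
      γ₁'.comp (algebraMap R R₁) =
        (algebraMap κ' (AlgebraicClosure κ')).comp (algebraMap R κ') ∧
      γ₁ c = algebraMap κ' (AlgebraicClosure κ') (algebraMap R κ' s * x) ∧ γ₁' c ≠ γ₁ c := by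
  classical
  let F := p.ResidueField
  let Rt := R ⧸ p
  have hxint : IsIntegral F x := Algebra.IsIntegral.isIntegral x
  set μ := minpoly F x with hμdef
  have hμ : μ.Monic := minpoly.monic hxint
  set st := IsLocalization.commonDenom (nonZeroDivisors Rt) μ.support μ.coeff with hst
  set c₀ : F := algebraMap Rt F st with hc₀
  have hc₀ne : c₀ ≠ 0 := by
    rw [hc₀]
    intro h
    have := (IsFractionRing.injective Rt F) (h.trans (map_zero _).symm)
    exact nonZeroDivisors.ne_zero st.2 this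
  set Gt := μ.scaleRoots c₀ with hGt
  have hGtlifts : Gt ∈ Polynomial.lifts (algebraMap Rt F) :=
    IsLocalization.scaleRoots_commonDenom_mem_lifts (nonZeroDivisors Rt) μ
      (by rw [hμ.leadingCoeff]; exact one_mem _)
  have hGtmonic : Gt.Monic := (monic_scaleRoots_iff c₀).mpr hμ
  obtain ⟨G₁, hG₁map, -, hG₁monic⟩ := lifts_and_natDegree_eq_and_monic hGtlifts hGtmonic
  have hG₁lifts : G₁ ∈ Polynomial.lifts (Ideal.Quotient.mk p) := by
    rw [Polynomial.mem_lifts]
    exact Polynomial.map_surjective _ Ideal.Quotient.mk_surjective G₁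
  obtain ⟨g, hgmap, -, hgmonic⟩ := lifts_and_natDegree_eq_and_monic hG₁lifts hG₁monic
  obtain ⟨s, hs⟩ := Ideal.Quotient.mk_surjective (st : Rt)
  have hsp : s ∉ p := by
    intro h
    have : (st : Rt) = 0 := by rw [← hs]; exact Ideal.Quotient.eq_zero_iff_mem.mpr h
    exact nonZeroDivisors.ne_zero st.2 this
  have hgF : g.map (algebraMap R F) = Gt := by
    rw [IsScalarTower.algebraMap_eq R Rt F, ← Polynomial.map_map]
    change (g.map (Ideal.Quotient.mk p)).map (algebraMap Rt F) = Gt
    rw [hgmap, hG₁map]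
  have hsF : algebraMap R F s = c₀ := by
    rw [IsScalarTower.algebraMap_apply R Rt F, hc₀]
    congr 1
  set β₀ : κ' := algebraMap F κ' c₀ * x with hβ₀
  have hβ₀' : β₀ = algebraMap R κ' s * x := by
    rw [hβ₀, IsScalarTower.algebraMap_apply R F κ', hsF]
  have hβ₀root : aeval β₀ Gt = 0 := scaleRoots_aeval_eq_zero (minpoly.aeval F x)
  have hβ₀sep : IsSeparable F β₀ := Field.isSeparable_mul (isSeparable_algebraMap c₀) hsep
  have hβ₀notin : β₀ ∉ (algebraMap F κ').range := by
    rintro ⟨z, hz⟩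
    apply hx
    refine ⟨c₀⁻¹ * z, ?_⟩
    rw [map_mul, hz, hβ₀, ← mul_assoc, ← map_mul, inv_mul_cancel₀ hc₀ne, map_one, one_mul]
  have hβ₀int : IsIntegral F β₀ := Algebra.IsIntegral.isIntegral β₀
  set ν := minpoly F β₀ with hν
  have hνmonic : ν.Monic := minpoly.monic hβ₀int
  -- `Gt = ν`
  have hGtν : Gt = ν := by
    have hdvd : ν ∣ Gt := minpoly.dvd F β₀ hβ₀root
    have h1 : aeval x (ν.scaleRoots c₀⁻¹) = 0 := by
      have := scaleRoots_aeval_eq_zero (r := c₀⁻¹) (minpoly.aeval F β₀)
      rwa [hβ₀, ← mul_assoc, ← map_mul, inv_mul_cancel₀ hc₀ne, map_one, one_mul] at this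
    have hdvd2 : μ ∣ ν.scaleRoots c₀⁻¹ := minpoly.dvd F x h1
    have hne : ν.scaleRoots c₀⁻¹ ≠ 0 := scaleRoots_ne_zero hνmonic.ne_zero _
    have hdeg : μ.natDegree ≤ ν.natDegree := by
      have := Polynomial.natDegree_le_of_dvd hdvd2 hne
      rwa [natDegree_scaleRoots] at this
    refine Polynomial.eq_of_monic_of_dvd_of_natDegree_le hνmonic hGtmonic hdvd ?_
    rw [hGt, natDegree_scaleRoots]
    exact hdeg
  have hGtsep : Gt.Separable := by rw [hGtν]; exact hβ₀sep
  -- the algebraic closure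
  let Ω := AlgebraicClosure κ'
  haveI : IsScalarTower R F Ω := .of_algebraMap_eq (by
    intro r
    rw [IsScalarTower.algebraMap_apply R κ' Ω, IsScalarTower.algebraMap_apply F κ' Ω,
      ← IsScalarTower.algebraMap_apply R F κ'])
  haveI : Algebra.IsAlgebraic F Ω := Algebra.IsAlgebraic.trans F κ' Ω
  haveI : IsAlgClosure F Ω := ⟨inferInstance, inferInstance⟩
  set β : Ω := algebraMap κ' Ω β₀ with hβ
  have hminβ : minpoly F β = ν := minpoly.algebraMap_eq (algebraMap κ' Ω).injective β₀
  have hβroot : aeval β Gt = 0 := by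
    rw [hβ, Polynomial.aeval_algebraMap_apply, hβ₀root, map_zero]
  -- degree at least two
  have hdeg2 : 1 < ν.natDegree := by
    have h1 : 0 < ν.natDegree := minpoly.natDegree_pos hβ₀int
    have h2 : ν.natDegree ≠ 1 := fun h => hβ₀notin (minpoly.natDegree_eq_one_iff.mp h)
    omega
  -- a second root
  have hsplits : (ν.map (algebraMap F Ω)).Splits := IsAlgClosed.splits _
  have hcard : Fintype.card (ν.rootSet Ω) = ν.natDegree :=
    Polynomial.card_rootSet_eq_natDegree (hGtν ▸ hGtsep) hsplits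
  have hβmem : β ∈ ν.rootSet Ω := by
    rw [Polynomial.mem_rootSet]
    exact ⟨hνmonic.ne_zero, by rw [← hGtν]; exact hβroot⟩
  obtain ⟨⟨y, hymem⟩, hyne⟩ := Fintype.exists_ne_of_one_lt_card (by rw [hcard]; exact hdeg2)
    (⟨β, hβmem⟩ : ν.rootSet Ω)
  have hyβ : y ≠ β := fun h => hyne (Subtype.ext h)
  have hyroot : aeval y ν = 0 := (Polynomial.mem_rootSet.mp hymem).2
  have hminy : minpoly F y = ν :=
    (minpoly.eq_of_irreducible_of_monic (minpoly.irreducible hβ₀int) hyroot hνmonic).symm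
  obtain ⟨θ, hθ⟩ := minpoly.exists_algEquiv_of_root (K := F) (L := Ω) (x := β) (y := y)
    (Algebra.IsAlgebraic.isAlgebraic y) (by rw [hminy, ← hminβ]; exact minpoly.aeval F β)
  -- the standard étale algebra
  let Pair : StandardEtalePair R := ⟨g, hgmonic, derivative g, 1, 0, 1, by simp⟩
  have haeval : ∀ q : R[X], aeval β q = aeval β (q.map (algebraMap R F)) := fun q =>
    (Polynomial.aeval_map_algebraMap F β q).symm
  have hasMap : Pair.HasMap β := by
    refine ⟨?_, ?_⟩
    · change aeval β g = 0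
      rw [haeval, hgF, hβroot]
    · change IsUnit (aeval β (derivative g))
      rw [haeval, ← Polynomial.derivative_map, hgF, isUnit_iff_ne_zero]
      exact hGtsep.aeval_derivative_ne_zero hβroot
  let γ₁ : Pair.Ring →+* Ω := (Pair.lift β hasMap).toRingHom
  let γ₁' : Pair.Ring →+* Ω := (θ : Ω ≃ₐ[F] Ω).toRingEquiv.toRingHom.comp γ₁
  have hθR : ∀ r : R, θ (algebraMap R Ω r) = algebraMap R Ω r := by
    intro r
    rw [IsScalarTower.algebraMap_apply R F Ω]
    exact θ.commutes _
  refine ⟨s, hsp, Pair.Ring, inferInstance, inferInstance, inferInstance, γ₁, γ₁', Pair.X,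
    ?_, ?_, ?_, ?_, ?_⟩
  · ext z
    rw [RingHom.mem_ker, RingHom.mem_ker]
    change θ (γ₁ z) = 0 ↔ γ₁ z = 0
    exact map_eq_zero_iff θ θ.injective
  · refine RingHom.ext fun r => ?_
    change Pair.lift β hasMap (algebraMap R Pair.Ring r) = algebraMap R Ω r
    exact (Pair.lift β hasMap).commutes r
  · refine RingHom.ext fun r => ?_
    change θ (Pair.lift β hasMap (algebraMap R Pair.Ring r)) = algebraMap R Ω r
    rw [(Pair.lift β hasMap).commutes r, hθR]
  · change Pair.lift β hasMap Pair.X = _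
    rw [StandardEtalePair.lift_X, hβ, hβ₀']
  · change θ (Pair.lift β hasMap Pair.X) ≠ Pair.lift β hasMap Pair.X
    rw [StandardEtalePair.lift_X, hθ]
    exact hyβ

end Groth.Agent.Lib.Helper7.BrSE
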