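import Groth.Agent.Lib.Helper7.BrE
import Groth.Agent.Lib.Helper7.BrSE

/-!
# Geometrically unibranch from étale neighbourhoods (helper7)
-/

set_option autoImplicit false
set_option maxHeartbeats 1600000
universe u

namespace Groth.Agent.Lib.Helper7.BrG

open IsLocalRing TensorProduct Polynomial BrFwd BrT BrE

variable {R : Type u} [CommRing R] (p : Ideal R) [p.IsPrime]
  (A : Type u) [CommRing A] [IsLocalRing A] [Algebra R A] [IsLocalization.AtPrime A p]

theorem isGeomUnibranch_of_all
    (H : ∀ (R' : Type u) [CommRing R'] [Algebra R R'] [Algebra.Etale R R'] (P : Ideal R')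
      [P.IsPrime], P.comap (algebraMap R R') = p →
      (nilradical (Localization.AtPrime P)).IsPrime) :
    CAlg2.IsGeomUnibranch A := by
  have hU : CAlg2.IsUnibranch A :=
    isUnibranch_of_elementary p A (fun R' _ _ _ P _ hP _ => H R' P hP)
  refine ⟨hU, ?_⟩
  intro m' hm'
  haveI : IsDomain (CAlg2.red A) := hU.1
  have hnil : (nilradical A).IsPrime := (Ideal.Quotient.isDomain_iff_prime _).mp inferInstance
  -- the residue field and its structures
  letI fieldκ : Field (CAlg2.normRed A ⧸ m') := Ideal.Quotient.field m'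
  set ρ : R →+* CAlg2.normRed A ⧸ m' := (Ideal.Quotient.mk m').comp (toNorm (R := R) A) with hρ
  have hkerρ : RingHom.ker ρ = p := ker_toNorm_quot p A hnil m'
  have hρne : ∀ s : R, s ∉ p → ρ s ≠ 0 := by
    intro s hs h0
    apply hs
    rw [← hkerρ]; exact h0
  have hρalg : algebraMap R (CAlg2.normRed A ⧸ m') = ρ := rfl
  have hunits : p.primeCompl ≤ (IsUnit.submonoid (CAlg2.normRed A ⧸ m')).comap ρ := by
    intro s hs
    change IsUnit (ρ s)
    rw [isUnit_iff_ne_zero]
    exact hρne s hs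
  letI algFκ : Algebra p.ResidueField (CAlg2.normRed A ⧸ m') :=
    (Ideal.ResidueField.lift p ρ (le_of_eq hkerρ.symm) hunits).toAlgebra
  have hFκ : ∀ r : R, algebraMap p.ResidueField (CAlg2.normRed A ⧸ m')
      (algebraMap R p.ResidueField r) = ρ r := fun r =>
    Ideal.ResidueField.lift_algebraMap _ _ _ hunits r
  haveI towRFκ : IsScalarTower R p.ResidueField (CAlg2.normRed A ⧸ m') :=
    .of_algebraMap_eq (fun r => by rw [hFκ, hρalg])
  -- scaled elements are integral
  have hscaled : ∀ a' : CAlg2.normRed A, ∃ s₁ : R, s₁ ∉ p ∧ ∃ f : R[X], f.Monic ∧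
      f.eval₂ (toNorm (R := R) A) (toNorm (R := R) A s₁ * a') = 0 :=
    exists_scaled_integral p A hnil
  have hint : ∀ x : CAlg2.normRed A ⧸ m', IsIntegral p.ResidueField x := by
    intro x
    obtain ⟨a', rfl⟩ := Ideal.Quotient.mk_surjective x
    obtain ⟨s₁, hs₁, f, hf, hft⟩ := hscaled a'
    have h1 : IsIntegral R (ρ s₁ * Ideal.Quotient.mk m' a') := by
      refine ⟨f, hf, ?_⟩
      change f.eval₂ ρ (ρ s₁ * Ideal.Quotient.mk m' a') = 0
      have : ρ s₁ * Ideal.Quotient.mk m' a' =
          Ideal.Quotient.mk m' (toNorm (R := R) A s₁ * a') := by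
        rw [map_mul]; rfl
      rw [this, hρ, ← Polynomial.hom_eval₂, hft, map_zero]
    have h2 : IsIntegral p.ResidueField (ρ s₁ * Ideal.Quotient.mk m' a') := h1.tower_top
    have h3 : IsIntegral p.ResidueField
        (algebraMap p.ResidueField (CAlg2.normRed A ⧸ m') (algebraMap R p.ResidueField s₁)⁻¹) :=
      isIntegral_algebraMap
    have h4 := h3.mul h2
    have h5 : algebraMap p.ResidueField (CAlg2.normRed A ⧸ m')
        (algebraMap R p.ResidueField s₁)⁻¹ * (ρ s₁ * Ideal.Quotient.mk m' a') =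
        Ideal.Quotient.mk m' a' := by
      rw [map_inv₀, hFκ, ← mul_assoc, inv_mul_cancel₀ (hρne s₁ hs₁), one_mul]
    rwa [h5] at h4
  haveI : Algebra.IsIntegral p.ResidueField (CAlg2.normRed A ⧸ m') := ⟨hint⟩
  haveI : Algebra.IsAlgebraic p.ResidueField (CAlg2.normRed A ⧸ m') :=
    Algebra.IsIntegral.isAlgebraic
  -- purely inseparable
  have hpi : IsPurelyInseparable p.ResidueField (CAlg2.normRed A ⧸ m') := by
    rw [isPurelyInseparable_iff]
    intro x
    refine ⟨hint x, fun hsep => ?_⟩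
    by_contra hx
    obtain ⟨a', rfl⟩ := Ideal.Quotient.mk_surjective x
    obtain ⟨s₁, hs₁, f, hf, hft⟩ := hscaled a'
    set t₁ := toNorm (R := R) A s₁ * a' with ht₁
    set x₁ : CAlg2.normRed A ⧸ m' := Ideal.Quotient.mk m' t₁ with hx₁
    have hx₁eq : x₁ = algebraMap p.ResidueField (CAlg2.normRed A ⧸ m')
        (algebraMap R p.ResidueField s₁) * Ideal.Quotient.mk m' a' := by
      rw [hFκ, hx₁, ht₁, map_mul]; rfl
    have hsep₁ : IsSeparable p.ResidueField x₁ := by
      rw [hx₁eq]
      exact Field.isSeparable_mul (isSeparable_algebraMap _) hsep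
    have hx₁notin : x₁ ∉ (algebraMap p.ResidueField (CAlg2.normRed A ⧸ m')).range := by
      rintro ⟨z, hz⟩
      apply hx
      refine ⟨(algebraMap R p.ResidueField s₁)⁻¹ * z, ?_⟩
      rw [map_mul, hz, hx₁eq, ← mul_assoc, ← map_mul, inv_mul_cancel₀, map_one, one_mul]
      intro h0
      have := hFκ s₁
      rw [h0, map_zero] at this
      exact hρne s₁ hs₁ this.symm
    obtain ⟨s, hs, R₁, _, _, _, γ₁, γ₁', c, hker, hγ, hγ', hc, hne⟩ :=
      BrSE.exists_standard_etale_separating p (CAlg2.normRed A ⧸ m') x₁ hsep₁ hx₁notin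
    -- the integral element `t'' = s • t₁`
    set t'' := toNorm (R := R) A s * t₁ with ht''
    have hft'' : (f.scaleRoots s).eval₂ (toNorm (R := R) A) t'' = 0 := by
      rw [ht'', Polynomial.scaleRoots_eval₂_mul, hft, mul_zero]
    have hf'' : (f.scaleRoots s).Monic := (monic_scaleRoots_iff s).mpr hf
    haveI hP₁prime : (RingHom.ker γ₁).IsPrime := RingHom.ker_isPrime γ₁
    have hP₁ : (RingHom.ker γ₁).comap (algebraMap R R₁) = p := by
      rw [RingHom.comap_ker, hγ, RingHom.ker_comp_of_injective _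
        (algebraMap (CAlg2.normRed A ⧸ m') (AlgebraicClosure (CAlg2.normRed A ⧸ m'))).injective]
      exact hkerρ
    let τ : CAlg2.normRed A →+* AlgebraicClosure (CAlg2.normRed A ⧸ m') :=
      (algebraMap (CAlg2.normRed A ⧸ m') (AlgebraicClosure (CAlg2.normRed A ⧸ m'))).comp
        (Ideal.Quotient.mk m')
    have hτ : γ₁.comp (algebraMap R R₁) = τ.comp (toNorm (R := R) A) := by
      rw [hγ]; rfl
    have hτ' : γ₁'.comp (algebraMap R R₁) = τ.comp (toNorm (R := R) A) := by
      rw [hγ']; rfl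
    have hmain := BrM.main p A hnil R₁ (RingHom.ker γ₁) hP₁
      (fun R'' _ _ _ P'' _ hP'' _ => by
        letI : Algebra R R'' := ((algebraMap R₁ R'').comp (algebraMap R R₁)).toAlgebra
        haveI : IsScalarTower R R₁ R'' := .of_algebraMap_eq' rfl
        haveI : Algebra.Etale R R'' := Algebra.Etale.comp R R₁ R''
        refine H R'' P'' ?_
        rw [IsScalarTower.algebraMap_eq R R₁ R'', ← Ideal.comap_comap, hP'', hP₁])
      (f.scaleRoots s) hf'' t'' hft'' γ₁ γ₁' rfl hker τ τ hτ hτ' (X - C c)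
    rw [eval₂_sub, eval₂_sub, eval₂_X, eval₂_X, eval₂_C, eval₂_C, sub_eq_zero, sub_eq_zero] at hmain
    have hτt : τ t'' = γ₁ c := by
      rw [hc]
      change algebraMap _ _ (Ideal.Quotient.mk m' t'') = _
      congr 1
    exact hne ((hmain.mp hτt).symm.trans hτt)
  -- conclusion
  intro x
  haveI : ExpChar (CAlg2.normRed A ⧸ m') (ringExpChar (CAlg2.normRed A ⧸ m')) :=
    ringExpChar.expChar _
  haveI : ExpChar p.ResidueField (ringExpChar (CAlg2.normRed A ⧸ m')) :=
    (algebraMap p.ResidueField (CAlg2.normRed A ⧸ m')).expChar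
      (algebraMap p.ResidueField (CAlg2.normRed A ⧸ m')).injective _
  obtain ⟨n, z, hz⟩ := (isPurelyInseparable_iff_pow_mem p.ResidueField
    (ringExpChar (CAlg2.normRed A ⧸ m'))).mp hpi x
  refine ⟨n, ?_⟩
  rw [← hz]
  -- elements of the image of `F` come from `A`
  obtain ⟨w, rfl⟩ := IsLocalRing.residue_surjective z
  obtain ⟨r, s, rfl⟩ := IsLocalization.exists_mk'_eq p.primeCompl w
  have h1 : IsLocalRing.residue (Localization.AtPrime p)
      (IsLocalization.mk' (Localization.AtPrime p) r s) * algebraMap R p.ResidueField s =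
      algebraMap R p.ResidueField r := by
    rw [IsScalarTower.algebraMap_apply R (Localization.AtPrime p) p.ResidueField,
      IsScalarTower.algebraMap_apply R (Localization.AtPrime p) p.ResidueField,
      IsLocalRing.ResidueField.algebraMap_eq, ← map_mul, IsLocalization.mk'_spec]
  have h2 := congrArg (algebraMap p.ResidueField (CAlg2.normRed A ⧸ m')) h1
  rw [map_mul, hFκ, hFκ] at h2
  refine ⟨IsLocalization.mk' A r s, ?_⟩
  have h3 : ((Ideal.Quotient.mk m').comp ((algebraMap (CAlg2.red A) (CAlg2.normRed A)).comp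
      (Ideal.Quotient.mk (nilradical A)))) (IsLocalization.mk' A r s) * ρ s = ρ r := by
    have e1 : ∀ r' : R, ρ r' = ((Ideal.Quotient.mk m').comp
        ((algebraMap (CAlg2.red A) (CAlg2.normRed A)).comp
        (Ideal.Quotient.mk (nilradical A)))) (algebraMap R A r') := fun r' => rfl
    rw [e1 s, e1 r, ← map_mul, IsLocalization.mk'_spec]
  have hs0 : ρ s ≠ 0 := hρne s s.2
  exact mul_right_cancel₀ hs0 (h3.trans h2.symm)

end Groth.Agent.Lib.Helper7.BrG
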