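import Groth.Agent.Lib.Helper7.BrT

/-!
# Main lemma: compatible pairs of maps to fields cannot be separated (helper7)
-/

set_option autoImplicit false
set_option maxHeartbeats 800000
universe u

namespace Groth.Agent.Lib.Helper7.BrM

open IsLocalRing TensorProduct Polynomial BrFwd BrT

variable {R : Type u} [CommRing R] (p : Ideal R) [p.IsPrime]
  (A : Type u) [CommRing A] [IsLocalRing A] [Algebra R A] [IsLocalization.AtPrime A p]

/-- Extend a map `γ₁ : R₁ → Ω` with kernel `P₁` along a residually trivial extension. -/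
theorem exists_extension {R₁ R'' : Type u} [CommRing R₁] [CommRing R''] [Algebra R₁ R'']
    (P₁ : Ideal R₁) [P₁.IsPrime] (P'' : Ideal R'') [P''.IsPrime] [P''.LiesOver P₁]
    (hbij : Function.Bijective
      (Ideal.ResidueField.mapₐ P₁ P'' (Algebra.ofId R₁ R'') (P''.over_def P₁)))
    {Ω : Type u} [Field Ω] (γ₁ : R₁ →+* Ω) (hker : RingHom.ker γ₁ = P₁) :
    ∃ γ'' : R'' →+* Ω, γ''.comp (algebraMap R₁ R'') = γ₁ ∧ RingHom.ker γ'' = P'' := by
  have hunits : P₁.primeCompl ≤ (IsUnit.submonoid Ω).comap γ₁ := by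
    intro s hs
    change IsUnit (γ₁ s)
    rw [isUnit_iff_ne_zero]
    intro h0
    apply hs
    rw [← hker]; exact h0
  let l : P₁.ResidueField →+* Ω := Ideal.ResidueField.lift P₁ γ₁ (le_of_eq hker.symm) hunits
  let ε : P₁.ResidueField ≃+* P''.ResidueField :=
    RingEquiv.ofBijective
      (Ideal.ResidueField.mapₐ P₁ P'' (Algebra.ofId R₁ R'') (P''.over_def P₁)).toRingHom hbij
  have hε : ∀ r : R₁, ε (algebraMap R₁ P₁.ResidueField r) =
      algebraMap R'' P''.ResidueField (algebraMap R₁ R'' r) := by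
    intro r
    change Ideal.ResidueField.mapₐ P₁ P'' (Algebra.ofId R₁ R'') (P''.over_def P₁)
      (algebraMap R₁ P₁.ResidueField r) = _
    rw [Ideal.ResidueField.mapₐ_apply, Ideal.ResidueField.map_algebraMap]
    rfl
  refine ⟨l.comp (ε.symm.toRingHom.comp (algebraMap R'' P''.ResidueField)), ?_, ?_⟩
  · refine RingHom.ext fun r => ?_
    change l (ε.symm (algebraMap R'' P''.ResidueField (algebraMap R₁ R'' r))) = γ₁ r
    rw [← hε, RingEquiv.symm_apply_apply]
    exact Ideal.ResidueField.lift_algebraMap _ _ _ hunits r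
  · ext x
    rw [RingHom.mem_ker]
    change l (ε.symm (algebraMap R'' P''.ResidueField x)) = 0 ↔ x ∈ P''
    rw [map_eq_zero_iff l l.injective, map_eq_zero_iff ε.symm ε.symm.injective,
      Ideal.algebraMap_residueField_eq_zero]

theorem main (hnil : (nilradical A).IsPrime)
    (R₁ : Type u) [CommRing R₁] [Algebra R R₁] [Algebra.Etale R R₁] (P₁ : Ideal R₁) [P₁.IsPrime]
    (hP₁ : P₁.comap (algebraMap R R₁) = p)
    (H : ∀ (R'' : Type u) [CommRing R''] [Algebra R₁ R''] [Algebra.Etale R₁ R'']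
      (P'' : Ideal R'') [P''.IsPrime], P''.comap (algebraMap R₁ R'') = P₁ → ResSurj P₁ P'' →
      (nilradical (Localization.AtPrime P'')).IsPrime)
    (f : R[X]) (hf : f.Monic) (t' : CAlg2.normRed A)
    (hft : f.eval₂ (toNorm (R := R) A) t' = 0)
    {Ω Ω' : Type u} [Field Ω] [Field Ω'] (γ₁ : R₁ →+* Ω) (γ₁' : R₁ →+* Ω')
    (hker : RingHom.ker γ₁ = P₁) (hker' : RingHom.ker γ₁' = P₁)
    (τ : CAlg2.normRed A →+* Ω) (τ' : CAlg2.normRed A →+* Ω')
    (hτ : γ₁.comp (algebraMap R R₁) = τ.comp (toNorm (R := R) A))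
    (hτ' : γ₁'.comp (algebraMap R R₁) = τ'.comp (toNorm (R := R) A)) :
    ∀ h : R₁[X], h.eval₂ γ₁ (τ t') = 0 ↔ h.eval₂ γ₁' (τ' t') = 0 := by
  set f₁ := f.map (algebraMap R R₁) with hf₁def
  have hf₁ : f₁.Monic := hf.map _
  haveI : Module.Finite R₁ (AdjoinRoot f₁) := hf₁.finite_adjoinRoot
  obtain ⟨R'', _, _, _, P'', _, _, n, e, he, P', _, _, hbij, hnot, Hprop⟩ :=
    Algebra.exists_etale_completeOrthogonalIdempotents_forall_liesOver_eq (R := R₁)
      (S := AdjoinRoot f₁) P₁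
  have hcomap : P''.comap (algebraMap R₁ R'') = P₁ := (P''.over_def P₁).symm
  have hres : ResSurj P₁ P'' := BrCore.resSurj_of_bijective P₁ P'' hbij
  have hnil'' := H R'' P'' hcomap hres
  letI algRR'' : Algebra R R'' := ((algebraMap R₁ R'').comp (algebraMap R R₁)).toAlgebra
  haveI : IsScalarTower R R₁ R'' := .of_algebraMap_eq' rfl
  haveI : Algebra.Etale R R'' := Algebra.Etale.comp R R₁ R''
  have hqp : P''.comap (algebraMap R R'') = p := by
    rw [IsScalarTower.algebraMap_eq R R₁ R'', ← Ideal.comap_comap, hcomap, hP₁]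
  obtain ⟨T', _, _, a, b, hab, huniv⟩ := exists_T p A hnil R'' P'' hqp hnil''
  obtain ⟨γ'', hγ''₁, hγ''ker⟩ := exists_extension P₁ P'' hbij γ₁ hker
  obtain ⟨γ''', hγ'''₁, hγ'''ker⟩ := exists_extension P₁ P'' hbij γ₁' hker'
  have hc : γ''.comp (algebraMap R R'') = τ.comp (toNorm (R := R) A) := by
    rw [IsScalarTower.algebraMap_eq R R₁ R'', ← RingHom.comp_assoc, hγ''₁, hτ]
  have hc' : γ'''.comp (algebraMap R R'') = τ'.comp (toNorm (R := R) A) := by
    rw [IsScalarTower.algebraMap_eq R R₁ R'', ← RingHom.comp_assoc, hγ'''₁, hτ']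
  obtain ⟨χ, hχa, hχb⟩ := huniv Ω γ'' τ hγ''ker hc
  obtain ⟨χ', hχ'a, hχ'b⟩ := huniv Ω' γ''' τ' hγ'''ker hc'
  -- the map `Θ`
  letI algR₁T : Algebra R₁ T' := (a.comp (algebraMap R₁ R'')).toAlgebra
  let aAlg : R'' →ₐ[R₁] T' := { a with commutes' := fun r => rfl }
  have hroot : f₁.eval₂ (Algebra.ofId R₁ T') (b t') = 0 := by
    rw [hf₁def, Polynomial.eval₂_map]
    have h1 : ((Algebra.ofId R₁ T' : R₁ →+* T')).comp (algebraMap R R₁) =
        b.comp (toNorm (R := R) A) := by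
      rw [← hab]
      rfl
    change f.eval₂ (((Algebra.ofId R₁ T' : R₁ →+* T')).comp (algebraMap R R₁)) (b t') = 0
    rw [h1, ← Polynomial.hom_eval₂, hft, map_zero]
  let g : AdjoinRoot f₁ →ₐ[R₁] T' := AdjoinRoot.liftAlgHom f₁ (Algebra.ofId R₁ T') (b t') hroot
  let Θ : R'' ⊗[R₁] AdjoinRoot f₁ →+* T' := (Algebra.TensorProduct.productMap aAlg g).toRingHom
  have hΘl : ∀ x : R'', Θ (algebraMap R'' (R'' ⊗[R₁] AdjoinRoot f₁) x) = a x := by
    intro x
    change Algebra.TensorProduct.productMap aAlg g (x ⊗ₜ 1) = a x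
    rw [Algebra.TensorProduct.productMap_apply_tmul, map_one, mul_one]
    rfl
  have hΘr : ∀ h : R₁[X], Θ ((1 : R'') ⊗ₜ AdjoinRoot.mk f₁ h) =
      h.eval₂ (algebraMap R₁ T') (b t') := by
    intro h
    change Algebra.TensorProduct.productMap aAlg g ((1 : R'') ⊗ₜ AdjoinRoot.mk f₁ h) = _
    rw [Algebra.TensorProduct.productMap_apply_tmul, map_one, one_mul]
    rfl
  have hk1 : RingHom.ker ((χ.comp Θ).comp (algebraMap R'' (R'' ⊗[R₁] AdjoinRoot f₁))) = P'' := by
    rw [← hγ''ker, ← hχa]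
    congr 1
    refine RingHom.ext fun x => ?_
    change χ (Θ (algebraMap R'' _ x)) = χ (a x)
    rw [hΘl]
  have hk2 : RingHom.ker ((χ'.comp Θ).comp (algebraMap R'' (R'' ⊗[R₁] AdjoinRoot f₁))) = P'' := by
    rw [← hγ'''ker, ← hχ'a]
    congr 1
    refine RingHom.ext fun x => ?_
    change χ' (Θ (algebraMap R'' _ x)) = χ' (a x)
    rw [hΘl]
  have hkk := BrCore.ker_eq_of_idempotents P'' n e he P' Hprop Θ χ χ' hk1 hk2
  intro h
  have e1 : (χ.comp Θ) ((1 : R'') ⊗ₜ AdjoinRoot.mk f₁ h) = h.eval₂ γ₁ (τ t') := by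
    rw [RingHom.comp_apply, hΘr, Polynomial.hom_eval₂]
    have h1 : χ.comp (algebraMap R₁ T') = γ₁ := by
      change χ.comp (a.comp (algebraMap R₁ R'')) = γ₁
      rw [← RingHom.comp_assoc, hχa, hγ''₁]
    have h2 : χ (b t') = τ t' := congrArg (fun φ => φ t') hχb
    rw [h1, h2]
  have e2 : (χ'.comp Θ) ((1 : R'') ⊗ₜ AdjoinRoot.mk f₁ h) = h.eval₂ γ₁' (τ' t') := by
    rw [RingHom.comp_apply, hΘr, Polynomial.hom_eval₂]
    have h1 : χ'.comp (algebraMap R₁ T') = γ₁' := by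
      change χ'.comp (a.comp (algebraMap R₁ R'')) = γ₁'
      rw [← RingHom.comp_assoc, hχ'a, hγ'''₁]
    have h2 : χ' (b t') = τ' t' := congrArg (fun φ => φ t') hχ'b
    rw [h1, h2]
  rw [← e1, ← e2, ← RingHom.mem_ker, ← RingHom.mem_ker, hkk]

end Groth.Agent.Lib.Helper7.BrM
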