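import Mathlib

/-!
# Properties of morphisms "on a neighbourhood of a point" via affine charts (helper7)

For a morphism property `P` with `HasRingHomProperty P Q` (`Q` stable under composition with
localization-away at the source):
`∃ U ∋ x open, P (U.ι ≫ f)` iff there are affine opens `V ⊆ Y`, `W ⊆ X` with `x ∈ W ⊆ f⁻¹V` and
`Q (Γ(Y,V) → Γ(X,W))`.
-/

set_option autoImplicit false
universe u

namespace Groth.Agent.Lib.Helper7.LocalAt

open AlgebraicGeometry CategoryTheory TopologicalSpace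

variable {P : MorphismProperty Scheme.{u}}
  {Q : ∀ {R S : Type u} [CommRing R] [CommRing S], (R →+* S) → Prop}
  [HasRingHomProperty P Q]
  {X Y : Scheme.{u}} (f : X ⟶ Y) (x : X)

theorem of_appLE (hQ : RingHom.StableUnderCompositionWithLocalizationAwaySource Q)
    (V : Y.affineOpens) (W : X.affineOpens) (e : W.1 ≤ f ⁻¹ᵁ V.1)
    (h : Q (f.appLE V.1 W.1 e).hom) : P (W.1.ι ≫ f) := by
  have hri := (HasRingHomProperty.isLocal_ringHomProperty P (Q := Q)).respectsIso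
  haveI : IsAffine W.1.toScheme := W.2
  haveI : IsAffine V.1.toScheme := V.2
  have h1 : P (f.resLE V.1 W.1 e) := by
    rw [HasRingHomProperty.iff_of_isAffine (P := P)]
    have : (RingHom.toMorphismProperty Q).RespectsIso :=
      RingHom.toMorphismProperty_respectsIso_iff.mp hri
    exact (MorphismProperty.arrow_mk_iso_iff (RingHom.toMorphismProperty Q)
      (arrowResLEAppIso f V.1 W.1 e)).mpr h
  have := HasRingHomProperty.respects_isOpenImmersion (P := P) hQ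
  rw [← Scheme.Hom.resLE_comp_ι f e]
  exact MorphismProperty.RespectsRight.postcomp (Q := @IsOpenImmersion) _ inferInstance _ h1

theorem exists_appLE_of_open (hQ : RingHom.StableUnderCompositionWithLocalizationAwaySource Q)
    (U : X.Opens) (hx : x ∈ U) (h : P (U.ι ≫ f)) :
    ∃ (V : Y.affineOpens) (W : X.affineOpens) (_ : x ∈ W.1) (_ : W.1 ≤ U)
      (e : W.1 ≤ f ⁻¹ᵁ V.1), Q (f.appLE V.1 W.1 e).hom := by
  have e₀ : U ≤ f ⁻¹ᵁ (⊤ : Y.Opens) := le_top
  have h1 : P (f.resLE ⊤ U e₀) := by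
    have h2 : P (f.resLE ⊤ U e₀ ≫ (⊤ : Y.Opens).ι) := by
      rw [Scheme.Hom.resLE_comp_ι]; exact h
    haveI : IsIso (⊤ : Y.Opens).ι := Y.topIso.isIso_hom
    exact (MorphismProperty.cancel_right_of_respectsIso P _ _).mp h2
  obtain ⟨V₀, W', hxW', e', hQ'⟩ :=
    (HasRingHomProperty.iff_exists_appLE (P := P) hQ).mp h1 ⟨x, hx⟩
  rw [Scheme.Hom.resLE_appLE] at hQ'
  refine ⟨⟨(⊤ : Y.Opens).ι ''ᵁ V₀.1, V₀.2.image_of_isOpenImmersion _⟩,
    ⟨U.ι ''ᵁ W'.1, W'.2.image_of_isOpenImmersion _⟩, ?_, ?_, _, hQ'⟩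
  · exact ⟨⟨x, hx⟩, hxW', rfl⟩
  · exact U.ι_image_le _

theorem exists_open_iff (hQ : RingHom.StableUnderCompositionWithLocalizationAwaySource Q) :
    (∃ U : X.Opens, x ∈ U ∧ P (U.ι ≫ f)) ↔
      ∃ (V : Y.affineOpens) (W : X.affineOpens) (_ : x ∈ W.1) (e : W.1 ≤ f ⁻¹ᵁ V.1),
        Q (f.appLE V.1 W.1 e).hom := by
  constructor
  · rintro ⟨U, hx, h⟩
    obtain ⟨V, W, hxW, -, e, hQ'⟩ := exists_appLE_of_open f x hQ U hx h
    exact ⟨V, W, hxW, e, hQ'⟩
  · rintro ⟨V, W, hxW, e, h⟩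
    exact ⟨W.1, hxW, of_appLE f hQ V W e h⟩

end Groth.Agent.Lib.Helper7.LocalAt
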