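import Groth.Agent.Lib.Helper7.GUEtaleLoc
import Groth.Agent.Lib.Helper7.LocalAt

/-!
# Étale ascent of "geometrically unibranch" for schemes (helper7)

`stalk_of_etale_appLE`: if `Γ(Y,V) → Γ(X,W)` is étale (`x ∈ W ⊆ f⁻¹V` affine opens) and `O_{Y,f x}`
is a geometrically unibranch domain then so is `O_{X,x}`, and every nonzero element of `O_{X,x}`
divides the image of a nonzero element of `O_{Y,f x}`.
-/

set_option autoImplicit false
set_option maxHeartbeats 400000
universe u

namespace Groth.Agent.Lib.Helper7.GUSch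

open AlgebraicGeometry CategoryTheory TopologicalSpace

theorem etale_holdsForLocalizationAway : RingHom.HoldsForLocalizationAway RingHom.Etale := by
  intro R S _ _ _ r _
  rw [RingHom.etale_algebraMap]
  exact Algebra.Etale.of_isLocalizationAway r

theorem etale_stable : RingHom.StableUnderCompositionWithLocalizationAwaySource RingHom.Etale :=
  (RingHom.Etale.stableUnderComposition.stableUnderCompositionWithLocalizationAway
    etale_holdsForLocalizationAway).1

variable {X Y : Scheme.{u}} (f : X ⟶ Y) (x : X)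

/-- Compatibility of the stalk map with the section map on affine opens. -/
theorem stalkMap_germ_appLE (V : Y.Opens) (W : X.Opens) (hxW : x ∈ W) (e : W ≤ f ⁻¹ᵁ V)
    (r : Γ(Y, V)) :
    (f.stalkMap x).hom (Y.presheaf.germ V (f x) (e hxW) r) =
      X.presheaf.germ W x hxW ((f.appLE V W e).hom r) := by
  have h1 := Scheme.Hom.germ_stalkMap_apply f V x (e hxW) r
  rw [show (f.stalkMap x).hom (Y.presheaf.germ V (f x) (e hxW) r) =
    f.stalkMap x (Y.presheaf.germ V (f x) (e hxW) r) from rfl, h1]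
  simp only [Scheme.Hom.appLE, homOfLE_leOfHom, CommRingCat.hom_comp, RingHom.coe_comp,
    Function.comp_apply, X.presheaf.germ_res_apply]

theorem stalk_of_etale_appLE
    (V : Y.affineOpens) (W : X.affineOpens) (hxW : x ∈ W.1) (e : W.1 ≤ f ⁻¹ᵁ V.1)
    (het : (f.appLE V.1 W.1 e).hom.Etale)
    (hY : IsDomain (Y.presheaf.stalk (f x)))
    (hY' : CAlg2.IsGeomUnibranch (Y.presheaf.stalk (f x))) :
    IsDomain (X.presheaf.stalk x) ∧ CAlg2.IsGeomUnibranch (X.presheaf.stalk x) ∧
      ∀ t : X.presheaf.stalk x, t ≠ 0 → ∃ a : Y.presheaf.stalk (f x), a ≠ 0 ∧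
        ∃ y : X.presheaf.stalk x, t * y = (f.stalkMap x).hom a := by
  letI algRB : Algebra Γ(Y, V.1) Γ(X, W.1) := (f.appLE V.1 W.1 e).hom.toAlgebra
  haveI : Algebra.Etale Γ(Y, V.1) Γ(X, W.1) := het
  set p := (V.2.primeIdealOf ⟨f x, e hxW⟩).asIdeal with hp
  set q := (W.2.primeIdealOf ⟨x, hxW⟩).asIdeal with hq
  have hqp : q.comap (algebraMap Γ(Y, V.1) Γ(X, W.1)) = p :=
    congrArg PrimeSpectrum.asIdeal
      (IsAffineOpen.comap_primeIdealOf_appLE V.1 V.2 W.1 W.2 e hxW)
  letI algRA : Algebra Γ(Y, V.1) (Y.presheaf.stalk (f x)) :=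
    Y.presheaf.algebra_section_stalk ⟨f x, e hxW⟩
  haveI : IsLocalization.AtPrime (Y.presheaf.stalk (f x)) p :=
    V.2.isLocalization_stalk ⟨f x, e hxW⟩
  letI algBD : Algebra Γ(X, W.1) (X.presheaf.stalk x) :=
    X.presheaf.algebra_section_stalk ⟨x, hxW⟩
  haveI : IsLocalization.AtPrime (X.presheaf.stalk x) q := W.2.isLocalization_stalk ⟨x, hxW⟩
  letI algRD : Algebra Γ(Y, V.1) (X.presheaf.stalk x) :=
    ((algebraMap Γ(X, W.1) (X.presheaf.stalk x)).comp
      (algebraMap Γ(Y, V.1) Γ(X, W.1))).toAlgebra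
  haveI : IsScalarTower Γ(Y, V.1) Γ(X, W.1) (X.presheaf.stalk x) := .of_algebraMap_eq' rfl
  letI algAD : Algebra (Y.presheaf.stalk (f x)) (X.presheaf.stalk x) :=
    (f.stalkMap x).hom.toAlgebra
  haveI : IsScalarTower Γ(Y, V.1) (Y.presheaf.stalk (f x)) (X.presheaf.stalk x) :=
    .of_algebraMap_eq' (by
      refine RingHom.ext fun r => ?_
      exact (stalkMap_germ_appLE f x V.1 W.1 hxW e r).symm)
  exact GUEtale.core' (R := Γ(Y, V.1)) (B := Γ(X, W.1)) p q hqp (Y.presheaf.stalk (f x))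
    (X.presheaf.stalk x) hY'

end Groth.Agent.Lib.Helper7.GUSch
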