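import Groth.Agent.Lib.Helper7.NormRedRes

set_option autoImplicit false
universe u
open CategoryTheory AlgebraicGeometry

namespace Groth.Agent.Lib.Helper7.SpecResidue

variable (R : CommRingCat.{u}) (x : Spec R)

/-- Evaluation of ring elements in the residue field of a point of `Spec R`. -/
noncomputable def specEv : R →+* (Spec R).residueField x :=
  ((Scheme.ΓSpecIso R).inv ≫ (Spec R).Γevaluation x).hom

set_option backward.isDefEq.respectTransparency.types false in
theorem specEv_eq :
    specEv R x = (Scheme.Spec.residueFieldIso R x).inv.hom.comp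
      (algebraMap R x.asIdeal.ResidueField) := by
  have h := Scheme.Spec.algebraMap_residueFieldIso_inv R x
  have := congr($(h).hom)
  exact this.symm

set_option backward.isDefEq.respectTransparency.types false in
theorem ker_specEv : RingHom.ker (specEv R x) = x.asIdeal := by
  haveI := x.isPrime
  ext a
  rw [RingHom.mem_ker, specEv_eq, RingHom.comp_apply]
  have hinj : Function.Injective (Scheme.Spec.residueFieldIso R x).inv.hom :=
    (ConcreteCategory.bijective_of_isIso (Scheme.Spec.residueFieldIso R x).inv).1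
  rw [map_eq_zero_iff _ hinj, Ideal.algebraMap_residueField_eq_zero]

set_option backward.isDefEq.respectTransparency.types false in
theorem fractions_specEv (z : (Spec R).residueField x) :
    ∃ a b : R, specEv R x b ≠ 0 ∧ z * specEv R x b = specEv R x a := by
  haveI := x.isPrime
  have hbij := ConcreteCategory.bijective_of_isIso (Scheme.Spec.residueFieldIso R x).inv
  obtain ⟨w, rfl⟩ := hbij.2 z
  obtain ⟨⟨a', ⟨b', hb'⟩⟩, hab⟩ := IsLocalization.surj (nonZeroDivisors (R ⧸ x.asIdeal)) w
  obtain ⟨a, rfl⟩ := Ideal.Quotient.mk_surjective a'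
  obtain ⟨b, rfl⟩ := Ideal.Quotient.mk_surjective b'
  refine ⟨a, b, ?_, ?_⟩
  · intro h0
    have : b ∈ RingHom.ker (specEv R x) := h0
    rw [ker_specEv] at this
    have hb0 : (Ideal.Quotient.mk x.asIdeal b) = 0 := Ideal.Quotient.eq_zero_iff_mem.mpr this
    exact nonZeroDivisors.ne_zero hb' hb0
  · rw [specEv_eq, RingHom.comp_apply, RingHom.comp_apply, ← map_mul]
    congr 1

theorem specEv_naturality {R S : CommRingCat.{u}} (φ : R ⟶ S) (q : Spec S) (a : R) :
    ((Spec.map φ).residueFieldMap q).hom (specEv R (Spec.map φ q) a) = specEv S q (φ.hom a) := by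
  have h1 := Scheme.Γevaluation_naturality (Spec.map φ) q
  have h2 := Scheme.ΓSpecIso_inv_naturality φ
  have : (Scheme.ΓSpecIso R).inv ≫ (Spec R).Γevaluation (Spec.map φ q) ≫
      (Spec.map φ).residueFieldMap q = φ ≫ (Scheme.ΓSpecIso S).inv ≫ (Spec S).Γevaluation q := by
    rw [h1, ← Category.assoc, ← h2, Category.assoc]
  exact congr($(this).hom a)

end Groth.Agent.Lib.Helper7.SpecResidue

namespace Groth.Agent.Lib.Helper7.SpecResidue

open Groth.Agent.Lib.Helper7.NormRed

/-- Pure inseparability of the residue field extension of `normRed A₁` at `m'`, transported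
along an identification `θ` of the residue field. -/
theorem pow_mem_range_iff (A₁ : Type u) [CommRing A₁] [IsLocalRing A₁]
    (m' : MaximalSpectrum (CAlg2.normRed A₁)) {F E : Type u} [Field F] [Field E]
    (ι : F →+* E) (ρ : A₁ →+* F) (hρ : Function.Surjective ρ)
    (θ : CAlg2.normRed A₁ ⧸ m'.asIdeal ≃+* E)
    (hθ : ∀ a, θ (Brnch.toResidue A₁ m' a) = ι (ρ a)) :
    (∀ x : CAlg2.normRed A₁ ⧸ m'.asIdeal,
      ∃ n : ℕ, x ^ (ringExpChar (CAlg2.normRed A₁ ⧸ m'.asIdeal)) ^ n ∈
        (Brnch.toResidue A₁ m').range) ↔ ι.IsPurelyInseparable := by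
  haveI := m'.isMaximal
  letI : Field (CAlg2.normRed A₁ ⧸ m'.asIdeal) := Ideal.Quotient.field _
  letI : Algebra F E := ι.toAlgebra
  set q := ringExpChar (CAlg2.normRed A₁ ⧸ m'.asIdeal) with hq
  haveI : ExpChar (CAlg2.normRed A₁ ⧸ m'.asIdeal) q := ringExpChar.expChar _
  haveI : ExpChar E q := expChar_of_injective_ringHom (f := θ.toRingHom) θ.injective q
  haveI : ExpChar F q := (algebraMap F E).expChar (RingHom.injective _) q
  change _ ↔ IsPurelyInseparable F E
  rw [isPurelyInseparable_iff_pow_mem F q]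
  constructor
  · intro h e
    obtain ⟨z, rfl⟩ := θ.surjective e
    obtain ⟨n, a, ha⟩ := h z
    refine ⟨n, ρ a, ?_⟩
    change ι (ρ a) = _
    rw [← hθ a, ha, map_pow]
  · intro h z
    obtain ⟨n, w, hw⟩ := h (θ z)
    obtain ⟨a, rfl⟩ := hρ w
    refine ⟨n, a, ?_⟩
    apply θ.injective
    rw [hθ a, map_pow]
    exact hw

end Groth.Agent.Lib.Helper7.SpecResidue
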