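import Groth.Agent.Lib.Helper7.BrG
import Groth.Agent.Lib.Helper7.BrTop
import Groth.Agent.Lib.Helper7.GUSch
import Groth.Agent.Lib.Helper7.SpecResidue

/-!
# Scheme-level bridging for the étale-neighbourhood characterizations of (geometrically)
unibranch points (helper7)
-/

set_option autoImplicit false
set_option maxHeartbeats 800000
universe u

namespace Groth.Agent.Lib.Helper7.BrSch

open AlgebraicGeometry CategoryTheory TopologicalSpace IsLocalRing BrFwd

section fromRing

variable {X : Scheme.{u}} {W : X.Opens} (hW : IsAffineOpen W) (x : X) (hx : x ∈ W)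
  (R' : Type u) [CommRing R'] [Algebra Γ(X, W) R'] (P : Ideal R') [P.IsPrime]

/-- The étale neighbourhood `Spec R' → Spec Γ(X, W) → X`. -/
noncomputable def nbhdMap : Spec (CommRingCat.of R') ⟶ X :=
  Spec.map (CommRingCat.ofHom (algebraMap Γ(X, W) R')) ≫ hW.fromSpec

/-- The point of `Spec R'` given by `P`. -/
def nbhdPt : Spec (CommRingCat.of R') := ⟨P, inferInstance⟩

theorem etale_nbhdMap [Algebra.Etale Γ(X, W) R'] : Etale (nbhdMap hW R') := by
  haveI : Etale (Spec.map (CommRingCat.ofHom (algebraMap Γ(X, W) R'))) := by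
    rw [HasRingHomProperty.Spec_iff (P := @Etale)]
    change (algebraMap Γ(X, W) R').Etale
    rw [RingHom.etale_algebraMap]
    infer_instance
  unfold nbhdMap
  infer_instance

theorem nbhdMap_pt (hP : P.comap (algebraMap Γ(X, W) R') = (hW.primeIdealOf ⟨x, hx⟩).asIdeal) :
    nbhdMap hW R' (nbhdPt R' P) = x := by
  unfold nbhdMap
  rw [Scheme.Hom.comp_apply]
  have h1 : Spec.map (CommRingCat.ofHom (algebraMap Γ(X, W) R')) (nbhdPt R' P) =
      hW.primeIdealOf ⟨x, hx⟩ := by
    apply PrimeSpectrum.ext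
    exact hP
  rw [h1]
  exact hW.fromSpec_primeIdealOf ⟨x, hx⟩

theorem isPrime_nilradical_loc
    (h : (nilradical ((Spec (CommRingCat.of R')).presheaf.stalk (nbhdPt R' P))).IsPrime) :
    (nilradical (Localization.AtPrime P)).IsPrime := by
  letI : Algebra R' ((Spec (CommRingCat.of R')).presheaf.stalk (nbhdPt R' P)) :=
    StructureSheaf.stalkAlgebra (R := R') (nbhdPt R' P)
  haveI : IsLocalization.AtPrime ((Spec (CommRingCat.of R')).presheaf.stalk (nbhdPt R' P)) P :=
    StructureSheaf.IsLocalization.to_stalk R' (nbhdPt R' P)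
  exact BrE.isPrime_nilradical_of_ringEquiv
    (IsLocalization.algEquiv P.primeCompl
      ((Spec (CommRingCat.of R')).presheaf.stalk (nbhdPt R' P))
      (Localization.AtPrime P)).toRingEquiv h

open SpecResidue in
theorem residue_bijective
    (hP : P.comap (algebraMap Γ(X, W) R') = (hW.primeIdealOf ⟨x, hx⟩).asIdeal)
    (hres : ResSurj (hW.primeIdealOf ⟨x, hx⟩).asIdeal P) :
    Function.Bijective ((nbhdMap hW R').residueFieldMap (nbhdPt R' P)).hom := by
  unfold nbhdMap
  rw [Scheme.residueFieldMap_comp]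
  set φ : Γ(X, W) ⟶ CommRingCat.of R' := CommRingCat.ofHom (algebraMap Γ(X, W) R') with hφ
  set u := nbhdPt R' P with hu
  have hiso : Function.Bijective (hW.fromSpec.residueFieldMap (Spec.map φ u)).hom :=
    ConcreteCategory.bijective_of_isIso _
  have hsp : Function.Bijective ((Spec.map φ).residueFieldMap u).hom := by
    refine ⟨((Spec.map φ).residueFieldMap u).hom.injective, ?_⟩
    intro z
    obtain ⟨a, b, hb, hab⟩ := fractions_specEv (CommRingCat.of R') u z
    obtain ⟨r₁, s₁, hs₁, h₁⟩ := hres a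
    obtain ⟨r₂, s₂, hs₂, h₂⟩ := hres b
    -- evaluation maps
    set ev' := specEv (CommRingCat.of R') u with hev'
    set ev := specEv Γ(X, W) (Spec.map φ u) with hev
    set f := ((Spec.map φ).residueFieldMap u).hom with hf
    have hnat : ∀ r : Γ(X, W), f (ev r) = ev' (algebraMap Γ(X, W) R' r) :=
      fun r => specEv_naturality φ u r
    have hmem : ∀ y : R', y ∈ P → ev' y = 0 := by
      intro y hy
      have : y ∈ RingHom.ker ev' := by rw [hev', ker_specEv]; exact hy
      exact this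
    have e1 : ev' (algebraMap Γ(X, W) R' s₁) * ev' a = ev' (algebraMap Γ(X, W) R' r₁) := by
      have := hmem _ h₁
      rwa [map_sub, map_mul, sub_eq_zero] at this
    have e2 : ev' (algebraMap Γ(X, W) R' s₂) * ev' b = ev' (algebraMap Γ(X, W) R' r₂) := by
      have := hmem _ h₂
      rwa [map_sub, map_mul, sub_eq_zero] at this
    have hne : ∀ s : Γ(X, W), s ∉ (hW.primeIdealOf ⟨x, hx⟩).asIdeal →
        ev' (algebraMap Γ(X, W) R' s) ≠ 0 := by
      intro s hs h0
      apply hs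
      rw [← hP, Ideal.mem_comap]
      have : algebraMap Γ(X, W) R' s ∈ RingHom.ker ev' := h0
      rwa [hev', ker_specEv] at this
    have hs₁' := hne s₁ hs₁
    have hs₂' := hne s₂ hs₂
    have hr₂' : ev' (algebraMap Γ(X, W) R' r₂) ≠ 0 := by
      rw [← e2]; exact mul_ne_zero hs₂' hb
    refine ⟨ev r₁ * ev s₂ / (ev s₁ * ev r₂), ?_⟩
    rw [map_div₀, map_mul, map_mul, hnat, hnat, hnat, hnat]
    rw [div_eq_iff (mul_ne_zero hs₁' hr₂')]
    rw [← e1, ← e2, ← hab]
    ring
  exact hsp.comp hiso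

end fromRing

section toRing

variable {U X : Scheme.{u}} (g : U ⟶ X) (u : U)

/-- Affine charts in which an étale morphism is given by an étale ring map. -/
theorem exists_etale_chart [Etale g] :
    ∃ (V : X.affineOpens) (W : U.affineOpens) (_ : u ∈ W.1) (e : W.1 ≤ g ⁻¹ᵁ V.1),
      (g.appLE V.1 W.1 e).hom.Etale := by
  have hP : Etale ((⊤ : U.Opens).ι ≫ g) := inferInstance
  obtain ⟨V, W, hxW, -, e, het⟩ := LocalAt.exists_appLE_of_open (P := @Etale) g u
    GUSch.etale_stable ⊤ trivial hP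
  exact ⟨V, W, hxW, e, het⟩

theorem isPrime_nilradical_stalk_of_isGeomUnibranch [Etale g]
    (hA : CAlg2.IsGeomUnibranch (X.presheaf.stalk (g u))) :
    (nilradical (U.presheaf.stalk u)).IsPrime := by
  obtain ⟨V, W, hxW, e, het⟩ := exists_etale_chart g u
  letI algRB : Algebra Γ(X, V.1) Γ(U, W.1) := (g.appLE V.1 W.1 e).hom.toAlgebra
  haveI : Algebra.Etale Γ(X, V.1) Γ(U, W.1) := het
  set p := (V.2.primeIdealOf ⟨g u, e hxW⟩).asIdeal with hp
  set q := (W.2.primeIdealOf ⟨u, hxW⟩).asIdeal with hq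
  have hqp : q.comap (algebraMap Γ(X, V.1) Γ(U, W.1)) = p :=
    congrArg PrimeSpectrum.asIdeal
      (IsAffineOpen.comap_primeIdealOf_appLE V.1 V.2 W.1 W.2 e hxW)
  letI algRA : Algebra Γ(X, V.1) (X.presheaf.stalk (g u)) :=
    X.presheaf.algebra_section_stalk ⟨g u, e hxW⟩
  haveI : IsLocalization.AtPrime (X.presheaf.stalk (g u)) p :=
    V.2.isLocalization_stalk ⟨g u, e hxW⟩
  letI algBD : Algebra Γ(U, W.1) (U.presheaf.stalk u) :=
    U.presheaf.algebra_section_stalk ⟨u, hxW⟩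
  haveI : IsLocalization.AtPrime (U.presheaf.stalk u) q := W.2.isLocalization_stalk ⟨u, hxW⟩
  exact BrFwd.isPrime_nilradical_of_isGeomUnibranch (R := Γ(X, V.1)) (B := Γ(U, W.1)) p q hqp
    (X.presheaf.stalk (g u)) (U.presheaf.stalk u) hA

theorem isPrime_nilradical_stalk_of_isUnibranch [Etale g]
    (hsurj : Function.Surjective (g.residueFieldMap u).hom)
    (hA : CAlg2.IsUnibranch (X.presheaf.stalk (g u))) :
    (nilradical (U.presheaf.stalk u)).IsPrime := by
  obtain ⟨V, W, hxW, e, het⟩ := exists_etale_chart g u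
  letI algRB : Algebra Γ(X, V.1) Γ(U, W.1) := (g.appLE V.1 W.1 e).hom.toAlgebra
  haveI : Algebra.Etale Γ(X, V.1) Γ(U, W.1) := het
  set p := (V.2.primeIdealOf ⟨g u, e hxW⟩).asIdeal with hp
  set q := (W.2.primeIdealOf ⟨u, hxW⟩).asIdeal with hq
  have hqp : q.comap (algebraMap Γ(X, V.1) Γ(U, W.1)) = p :=
    congrArg PrimeSpectrum.asIdeal
      (IsAffineOpen.comap_primeIdealOf_appLE V.1 V.2 W.1 W.2 e hxW)
  letI algRA : Algebra Γ(X, V.1) (X.presheaf.stalk (g u)) :=
    X.presheaf.algebra_section_stalk ⟨g u, e hxW⟩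
  haveI : IsLocalization.AtPrime (X.presheaf.stalk (g u)) p :=
    V.2.isLocalization_stalk ⟨g u, e hxW⟩
  letI algBD : Algebra Γ(U, W.1) (U.presheaf.stalk u) :=
    U.presheaf.algebra_section_stalk ⟨u, hxW⟩
  haveI : IsLocalization.AtPrime (U.presheaf.stalk u) q := W.2.isLocalization_stalk ⟨u, hxW⟩
  refine BrFwd.isPrime_nilradical_of_isUnibranch (R := Γ(X, V.1)) (B := Γ(U, W.1)) p q hqp
    (X.presheaf.stalk (g u)) (U.presheaf.stalk u) hA ?_
  intro b
  obtain ⟨z, hz⟩ := hsurj (IsLocalRing.residue _ (algebraMap Γ(U, W.1) (U.presheaf.stalk u) b))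
  obtain ⟨a, rfl⟩ := IsLocalRing.residue_surjective z
  obtain ⟨⟨r, s⟩, hrs⟩ := IsLocalization.surj p.primeCompl a
  refine ⟨r, s.1, s.2, ?_⟩
  have hz' : IsLocalRing.residue _ ((g.stalkMap u).hom a) =
      IsLocalRing.residue _ (algebraMap Γ(U, W.1) (U.presheaf.stalk u) b) := hz
  have hcomm : ∀ t : Γ(X, V.1), (g.stalkMap u).hom (algebraMap Γ(X, V.1) (X.presheaf.stalk (g u)) t) =
      algebraMap Γ(U, W.1) (U.presheaf.stalk u) (algebraMap Γ(X, V.1) Γ(U, W.1) t) :=
    fun t => GUSch.stalkMap_germ_appLE g u V.1 W.1 hxW e t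
  have hmem : (g.stalkMap u).hom a - algebraMap Γ(U, W.1) (U.presheaf.stalk u) b ∈
      IsLocalRing.maximalIdeal (U.presheaf.stalk u) := by
    rw [← IsLocalRing.residue_eq_zero_iff, map_sub, hz', sub_self]
  rw [← IsLocalization.AtPrime.to_map_mem_maximal_iff (U.presheaf.stalk u) q]
  have key : algebraMap Γ(U, W.1) (U.presheaf.stalk u)
      (algebraMap Γ(X, V.1) Γ(U, W.1) s.1 * b - algebraMap Γ(X, V.1) Γ(U, W.1) r) =
      - (algebraMap Γ(U, W.1) (U.presheaf.stalk u) (algebraMap Γ(X, V.1) Γ(U, W.1) s.1) *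
        ((g.stalkMap u).hom a - algebraMap Γ(U, W.1) (U.presheaf.stalk u) b)) := by
    have h1 : (g.stalkMap u).hom (a * algebraMap Γ(X, V.1) (X.presheaf.stalk (g u)) s.1) =
        (g.stalkMap u).hom (algebraMap Γ(X, V.1) (X.presheaf.stalk (g u)) r) := by
      rw [hrs]
    rw [map_mul, hcomm, hcomm] at h1
    rw [map_sub, map_mul, ← h1]
    ring
  rw [key]
  exact neg_mem (Ideal.mul_mem_left _ _ hmem)

end toRing

section stalk

variable {X : Scheme.{u}} {W : X.Opens} (hW : IsAffineOpen W) (x : X) (hx : x ∈ W)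

theorem isGeomUnibranch_stalk_of_all
    (H : ∀ (R' : Type u) [CommRing R'] [Algebra Γ(X, W) R'] [Algebra.Etale Γ(X, W) R']
      (P : Ideal R') [P.IsPrime],
      P.comap (algebraMap Γ(X, W) R') = (hW.primeIdealOf ⟨x, hx⟩).asIdeal →
      {Z : Set (Spec (CommRingCat.of R')) | Z ∈ irreducibleComponents (Spec (CommRingCat.of R')) ∧
        nbhdPt R' P ∈ Z}.encard = 1) :
    CAlg2.IsGeomUnibranch (X.presheaf.stalk x) := by
  letI algRA : Algebra Γ(X, W) (X.presheaf.stalk x) := X.presheaf.algebra_section_stalk ⟨x, hx⟩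
  haveI : IsLocalization.AtPrime (X.presheaf.stalk x) (hW.primeIdealOf ⟨x, hx⟩).asIdeal :=
    hW.isLocalization_stalk ⟨x, hx⟩
  refine BrG.isGeomUnibranch_of_all (hW.primeIdealOf ⟨x, hx⟩).asIdeal (X.presheaf.stalk x) ?_
  intro R' _ _ _ P _ hP
  exact isPrime_nilradical_loc R' P
    (BrTop.isPrime_nilradical_of_encard_eq_one _ _ (H R' P hP))

theorem isUnibranch_stalk_of_elementary
    (H : ∀ (R' : Type u) [CommRing R'] [Algebra Γ(X, W) R'] [Algebra.Etale Γ(X, W) R']
      (P : Ideal R') [P.IsPrime],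
      P.comap (algebraMap Γ(X, W) R') = (hW.primeIdealOf ⟨x, hx⟩).asIdeal →
      ResSurj (hW.primeIdealOf ⟨x, hx⟩).asIdeal P →
      {Z : Set (Spec (CommRingCat.of R')) | Z ∈ irreducibleComponents (Spec (CommRingCat.of R')) ∧
        nbhdPt R' P ∈ Z}.encard = 1) :
    CAlg2.IsUnibranch (X.presheaf.stalk x) := by
  letI algRA : Algebra Γ(X, W) (X.presheaf.stalk x) := X.presheaf.algebra_section_stalk ⟨x, hx⟩
  haveI : IsLocalization.AtPrime (X.presheaf.stalk x) (hW.primeIdealOf ⟨x, hx⟩).asIdeal :=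
    hW.isLocalization_stalk ⟨x, hx⟩
  refine BrE.isUnibranch_of_elementary (hW.primeIdealOf ⟨x, hx⟩).asIdeal (X.presheaf.stalk x) ?_
  intro R' _ _ _ P _ hP hres
  exact isPrime_nilradical_loc R' P
    (BrTop.isPrime_nilradical_of_encard_eq_one _ _ (H R' P hP hres))

end stalk

end Groth.Agent.Lib.Helper7.BrSch
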