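import Groth.Agent.Lib.Helper7.BrCore

/-!
# The domain `(B/p₀B)_q ⊗ A'` (helper7)

For an étale `R`-algebra `B` and a prime `q` over `p` such that `B_q` has prime nilradical, we
construct a domain `T'` receiving `B` and the normalization `A' = normRed (R_p)`, through which
every compatible pair of maps to a field (with kernel `q` on `B`) factors.
-/

set_option autoImplicit false
set_option maxHeartbeats 800000
universe u

namespace Groth.Agent.Lib.Helper7.BrT

open IsLocalRing TensorProduct Polynomial BrFwd

variable {R : Type u} [CommRing R] (p : Ideal R) [p.IsPrime]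
  (A : Type u) [CommRing A] [IsLocalRing A] [Algebra R A] [IsLocalization.AtPrime A p]

/-- The structure map `R → normRed A`. -/
noncomputable def toNorm : R →+* CAlg2.normRed A :=
  (algebraMap (CAlg2.red A) (CAlg2.normRed A)).comp
    ((Ideal.Quotient.mk (nilradical A)).comp (algebraMap R A))

theorem isFractionRing_of_localization {R : Type*} [CommRing R] [IsDomain R] (M : Submonoid R)
    (S T : Type*) [CommRing S] [IsDomain S] [CommRing T] [Algebra R S] [Algebra R T] [Algebra S T]
    [IsScalarTower R S T] [IsLocalization M S] [IsFractionRing S T]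
    (hinj : Function.Injective (algebraMap R S)) : IsFractionRing R T := by
  have h := IsLocalization.localization_localization_isLocalization_of_has_all_units M
    (nonZeroDivisors S) T (fun x hx => hx.mem_nonZeroDivisors)
  have heq : (nonZeroDivisors S).comap (algebraMap R S) = nonZeroDivisors R := by
    ext r
    rw [Submonoid.mem_comap, mem_nonZeroDivisors_iff_ne_zero, mem_nonZeroDivisors_iff_ne_zero]
    exact map_ne_zero_iff _ hinj
  rw [heq] at h
  exact h

theorem redHom_injective : Function.Injective (redHom (R := R) A) := by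
  rw [injective_iff_map_eq_zero]
  intro x hx
  obtain ⟨r, rfl⟩ := Ideal.Quotient.mk_surjective x
  rw [redHom_mk, Ideal.Quotient.eq_zero_iff_mem] at hx
  rw [Ideal.Quotient.eq_zero_iff_mem]
  exact hx

theorem exists_T (hnil : (nilradical A).IsPrime)
    (B : Type u) [CommRing B] [Algebra R B] [Algebra.Etale R B] (q : Ideal B) [q.IsPrime]
    (hqp : q.comap (algebraMap R B) = p)
    (hnilD : (nilradical (Localization.AtPrime q)).IsPrime) :
    ∃ (T' : Type u) (_ : CommRing T') (_ : IsDomain T') (a : B →+* T')
      (b : CAlg2.normRed A →+* T'),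
      a.comp (algebraMap R B) = b.comp (toNorm (R := R) A) ∧
      ∀ (Ω : Type u) [Field Ω] (γ : B →+* Ω) (τ : CAlg2.normRed A →+* Ω),
        RingHom.ker γ = q → γ.comp (algebraMap R B) = τ.comp (toNorm (R := R) A) →
        ∃ χ : T' →+* Ω, χ.comp a = γ ∧ χ.comp b = τ := by
  haveI hp0prime : (p0 (R := R) A).IsPrime := p0_isPrime A hnil
  haveI : IsDomain (R ⧸ p0 (R := R) A) := Ideal.Quotient.isDomain _
  haveI : IsDomain (CAlg2.red A) := Ideal.Quotient.isDomain _
  haveI hpbar : (pbar p A).IsPrime := pbar_isPrime p A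
  haveI hqbar : (BrRed.qbar q (p0 (R := R) A)).IsPrime :=
    BrRed.qbar_isPrime p q hqp (p0 (R := R) A) (hp0 p A)
  -- notation
  let Rb := R ⧸ p0 (R := R) A
  let Bb := B ⧸ BrRed.nB (B := B) (p0 (R := R) A)
  let qb : Ideal Bb := BrRed.qbar q (p0 (R := R) A)
  let Db := Localization.AtPrime qb
  haveI : IsDomain Db := BrRed.isDomain_of_isPrime_nilradical p q hqp (p0 (R := R) A) (hp0 p A)
    (Localization.AtPrime q) Db hnilD
  let K := FractionRing (CAlg2.red A)
  letI algRbRed : Algebra Rb (CAlg2.red A) := (redHom (R := R) A).toAlgebra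
  haveI locRed : IsLocalization.AtPrime (CAlg2.red A) (pbar p A) := isLocalization_red p A
  haveI fracRb : IsFractionRing Rb K :=
    isFractionRing_of_localization (pbar p A).primeCompl (CAlg2.red A) K
      (redHom_injective (R := R) A)
  -- flatness
  haveI : Module.Flat Bb Db := IsLocalization.flat Db qb.primeCompl
  haveI : Module.Flat Rb Db := Module.Flat.trans Rb Bb Db
  -- `Db ⊗ K` is a domain
  have hle : Algebra.algebraMapSubmonoid Db (nonZeroDivisors Rb) ≤ nonZeroDivisors Db := by
    rintro _ ⟨r, hr, rfl⟩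
    apply mem_nonZeroDivisors_of_ne_zero
    intro h0
    have hreg := Module.Flat.isSMulRegular_of_nonZeroDivisors (M := Db) hr
    have h1 : r • (1 : Db) = r • (0 : Db) := by
      rw [smul_zero, Algebra.smul_def, mul_one]; exact h0
    exact one_ne_zero (hreg h1)
  haveI : IsDomain (Db ⊗[Rb] K) :=
    IsLocalization.isDomain_of_le_nonZeroDivisors (R := Db) (S := Db ⊗[Rb] K) hle
  -- `Db ⊗ A'` injects into it
  let valK : CAlg2.normRed A →ₐ[Rb] K :=
    { (integralClosure (CAlg2.red A) K).val.toRingHom with
      commutes' := fun r => rfl }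
  have hvalinj : Function.Injective valK := Subtype.val_injective
  have hinj : Function.Injective (LinearMap.lTensor Db valK.toLinearMap) :=
    Module.Flat.lTensor_preserves_injective_linearMap valK.toLinearMap hvalinj
  let ι : Db ⊗[Rb] CAlg2.normRed A →ₐ[Db] Db ⊗[Rb] K :=
    Algebra.TensorProduct.map (AlgHom.id Db Db) valK
  have hιinj : Function.Injective ι := by
    have : ⇑ι = ⇑(LinearMap.lTensor Db valK.toLinearMap) := by
      ext x
      induction x using TensorProduct.induction_on with
      | zero => simp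
      | tmul d c => simp [ι]
      | add x y hx hy => rw [map_add, map_add, hx, hy]
    rw [this]; exact hinj
  haveI : IsDomain (Db ⊗[Rb] CAlg2.normRed A) := hιinj.isDomain ι.toRingHom
  let a : B →+* Db ⊗[Rb] CAlg2.normRed A :=
    (algebraMap Db (Db ⊗[Rb] CAlg2.normRed A)).comp
      ((algebraMap Bb Db).comp (Ideal.Quotient.mk _))
  let b : CAlg2.normRed A →+* Db ⊗[Rb] CAlg2.normRed A :=
    (Algebra.TensorProduct.includeRight (R := Rb) (A := Db) (B := CAlg2.normRed A)).toRingHom
  refine ⟨Db ⊗[Rb] CAlg2.normRed A, inferInstance, inferInstance, a, b, ?_, ?_⟩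
  · refine RingHom.ext fun r => ?_
    change (algebraMap Bb Db (Ideal.Quotient.mk _ (algebraMap R B r))) ⊗ₜ[Rb]
      (1 : CAlg2.normRed A) = (1 : Db) ⊗ₜ[Rb] toNorm (R := R) A r
    have e1 : algebraMap Bb Db (Ideal.Quotient.mk _ (algebraMap R B r)) =
        (Ideal.Quotient.mk (p0 (R := R) A) r) • (1 : Db) := by
      rw [Algebra.smul_def, mul_one, IsScalarTower.algebraMap_apply Rb Bb Db]
      rfl
    have e2 : toNorm (R := R) A r =
        (Ideal.Quotient.mk (p0 (R := R) A) r) • (1 : CAlg2.normRed A) := by
      rw [Algebra.smul_def, mul_one]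
      rfl
    rw [e1, e2, TensorProduct.smul_tmul]
  · intro Ω _ γ τ hker hcompat
    -- descend `γ` to `Bb`, then extend to `Db`
    have hnBle : BrRed.nB (B := B) (p0 (R := R) A) ≤ RingHom.ker γ := by
      rw [hker]; exact BrRed.nB_le p q hqp (p0 (R := R) A) (hp0 p A)
    let γb : Bb →+* Ω := Ideal.Quotient.lift _ γ (fun x hx => hnBle hx)
    have hγb : ∀ x : B, γb (Ideal.Quotient.mk _ x) = γ x := fun x => rfl
    have hunits : ∀ y : qb.primeCompl, IsUnit (γb y) := by
      rintro ⟨y, hy⟩
      obtain ⟨x, rfl⟩ := Ideal.Quotient.mk_surjective y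
      rw [hγb, isUnit_iff_ne_zero]
      intro h0
      apply hy
      refine (BrRed.mem_qbar_iff p q hqp (p0 (R := R) A) (hp0 p A) x).mpr ?_
      rw [← hker]
      exact h0
    let γd : Db →+* Ω := IsLocalization.lift (M := qb.primeCompl) (g := γb) hunits
    have hγd : ∀ y : Bb, γd (algebraMap Bb Db y) = γb y := fun y =>
      IsLocalization.lift_eq hunits y
    letI algΩ : Algebra Rb Ω := (γd.comp (algebraMap Rb Db)).toAlgebra
    let γa : Db →ₐ[Rb] Ω := { γd with commutes' := fun r => rfl }
    let τa : CAlg2.normRed A →ₐ[Rb] Ω :=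
      { τ with
        commutes' := by
          intro r
          obtain ⟨r, rfl⟩ := Ideal.Quotient.mk_surjective r
          change τ (toNorm (R := R) A r) = γd (algebraMap Rb Db (Ideal.Quotient.mk _ r))
          rw [IsScalarTower.algebraMap_apply Rb Bb Db]
          have : algebraMap Rb Bb (Ideal.Quotient.mk _ r) =
              Ideal.Quotient.mk _ (algebraMap R B r) := rfl
          rw [this, hγd, hγb]
          exact (congrArg (fun f => f r) hcompat).symm }
    let χ : Db ⊗[Rb] CAlg2.normRed A →ₐ[Rb] Ω :=
      Algebra.TensorProduct.productMap γa τa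
    refine ⟨χ.toRingHom, ?_, ?_⟩
    · refine RingHom.ext fun x => ?_
      change χ ((algebraMap Bb Db (Ideal.Quotient.mk _ x)) ⊗ₜ[Rb] (1 : CAlg2.normRed A)) = γ x
      rw [Algebra.TensorProduct.productMap_apply_tmul, map_one, mul_one]
      change γd (algebraMap Bb Db (Ideal.Quotient.mk _ x)) = γ x
      rw [hγd, hγb]
    · refine RingHom.ext fun x => ?_
      change χ ((1 : Db) ⊗ₜ[Rb] x) = τ x
      rw [Algebra.TensorProduct.productMap_apply_tmul, map_one, one_mul]
      rfl

end Groth.Agent.Lib.Helper7.BrT
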