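/-
helper7: purely topological counting lemmas: a continuous surjection under which preimages of
connected (resp. irreducible) components are connected (resp. irreducible) induces a bijection
on connected (resp. irreducible) components.
-/
import Mathlib.Topology.Connected.TotallyDisconnected
import Mathlib.Topology.Irreducible
import Mathlib.Data.Set.Card
import Mathlib.SetTheory.Cardinal.Finite

set_option autoImplicit false

namespace Groth.Agent.Lib.Helper7.CompCountTop

variable {α β : Type*} [TopologicalSpace α] [TopologicalSpace β] {p : α → β}

theorem bijective_connectedComponentsMap (hp : Continuous p) (hs : Function.Surjective p)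
    (h : ∀ b : β, IsPreconnected (p ⁻¹' connectedComponent b)) :
    Function.Bijective hp.connectedComponentsMap := by
  constructor
  · intro a₁ a₂ h12
    induction a₁ using ConnectedComponents.surjective_coe.forall.2 with | _ a₁ => ?_
    induction a₂ using ConnectedComponents.surjective_coe.forall.2 with | _ a₂ => ?_
    rw [hp.connectedComponentsMap_mk, hp.connectedComponentsMap_mk,
      ConnectedComponents.coe_eq_coe'] at h12
    rw [ConnectedComponents.coe_eq_coe']
    have h1 : a₁ ∈ p ⁻¹' connectedComponent (p a₂) := h12
    have h2 : a₂ ∈ p ⁻¹' connectedComponent (p a₂) := mem_connectedComponent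
    exact (h (p a₂)).subset_connectedComponent h2 h1
  · intro b
    induction b using ConnectedComponents.surjective_coe.forall.2 with | _ b => ?_
    obtain ⟨a, rfl⟩ := hs b
    exact ⟨(a : ConnectedComponents α), hp.connectedComponentsMap_mk a⟩

theorem card_connectedComponents_eq (hp : Continuous p) (hs : Function.Surjective p)
    (h : ∀ b : β, IsPreconnected (p ⁻¹' connectedComponent b)) :
    ENat.card (ConnectedComponents α) = ENat.card (ConnectedComponents β) :=
  ENat.card_congr (Equiv.ofBijective _ (bijective_connectedComponentsMap hp hs h))

theorem preimage_mem_irreducibleComponents (hp : Continuous p) (hs : Function.Surjective p)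
    {Z : Set β} (hZ : Z ∈ irreducibleComponents β) (hirr : IsIrreducible (p ⁻¹' Z)) :
    p ⁻¹' Z ∈ irreducibleComponents α := by
  refine ⟨hirr, fun T' hT' hle => ?_⟩
  have h1 : IsIrreducible (closure (p '' T')) := (hT'.image p hp.continuousOn).closure
  have h2 : Z ⊆ closure (p '' T') := by
    intro z hz
    obtain ⟨a, rfl⟩ := hs z
    exact subset_closure ⟨a, hle hz, rfl⟩
  have h3 : closure (p '' T') ⊆ Z := hZ.2 h1 h2
  intro t ht
  exact h3 (subset_closure ⟨t, ht, rfl⟩)

theorem image_preimage_irreducibleComponents (hp : Continuous p) (hs : Function.Surjective p)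
    (h : ∀ Z ∈ irreducibleComponents β, IsIrreducible (p ⁻¹' Z)) :
    (fun Z : Set β => p ⁻¹' Z) '' irreducibleComponents β = irreducibleComponents α := by
  apply Set.Subset.antisymm
  · rintro _ ⟨Z, hZ, rfl⟩
    exact preimage_mem_irreducibleComponents hp hs hZ (h Z hZ)
  · intro T hT
    have h1 : IsIrreducible (closure (p '' T)) := (hT.1.image p hp.continuousOn).closure
    obtain ⟨Z, hZ, hsub⟩ := exists_mem_irreducibleComponents_subset_of_isIrreducible _ h1
    refine ⟨Z, hZ, ?_⟩
    have h2 : T ⊆ p ⁻¹' Z := fun t ht => hsub (subset_closure ⟨t, ht, rfl⟩)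
    exact Set.Subset.antisymm (hT.2 (h Z hZ) h2) h2

theorem encard_irreducibleComponents_eq (hp : Continuous p) (hs : Function.Surjective p)
    (h : ∀ Z ∈ irreducibleComponents β, IsIrreducible (p ⁻¹' Z)) :
    (irreducibleComponents α).encard = (irreducibleComponents β).encard := by
  rw [← image_preimage_irreducibleComponents hp hs h]
  exact Set.InjOn.encard_image ((Set.preimage_injective.2 hs).injOn)

end Groth.Agent.Lib.Helper7.CompCountTop
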