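import Mathlib
import Groth.Agent.S4366

/-!
# Dominant quasi-compact morphisms hit the generic point; irreducibility from connected dominant
sources when every point has an irreducible open neighbourhood.
-/

set_option maxHeartbeats 400000
set_option autoImplicit false

open CategoryTheory CategoryTheory.Limits AlgebraicGeometry Opposite
universe u

namespace Groth.Agent.Lib.Helper7.DomGenericPt

/-- If `X` is connected, `f : X → S` is continuous with dense range and every point of `S` has an
irreducible open neighbourhood, then `S` is irreducible. -/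
theorem irreducibleSpace_of_connected_denseRange {X S : Type*} [TopologicalSpace X]
    [TopologicalSpace S] [ConnectedSpace X] (f : X → S) (hf : Continuous f) (hd : DenseRange f)
    (hloc : ∀ s : S, ∃ U : Set S, IsOpen U ∧ s ∈ U ∧ IsIrreducible U) : IrreducibleSpace S := by
  obtain ⟨x₀⟩ := (inferInstance : Nonempty X)
  set Z₀ := irreducibleComponent (f x₀) with hZ₀
  have hZ₀c : Z₀ ∈ irreducibleComponents S := irreducibleComponent_mem_irreducibleComponents _
  have hZ₀closed : IsClosed Z₀ := isClosed_irreducibleComponent
  have hZ₀open : IsOpen Z₀ := by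
    rw [isOpen_iff_forall_mem_open]
    intro s hs
    obtain ⟨U, hUo, hsU, hUirr⟩ := hloc s
    refine ⟨U, ?_, hUo, hsU⟩
    have h1 : Z₀ ⊆ closure (Z₀ ∩ U) :=
      subset_closure_inter_of_isPreirreducible_of_isOpen hZ₀c.1.2 hUo ⟨s, hs, hsU⟩
    have h2 : Z₀ ⊆ closure U := h1.trans (closure_mono Set.inter_subset_right)
    have h3 : closure U ⊆ Z₀ := hZ₀c.2 hUirr.closure h2
    exact subset_closure.trans h3
  have hclopen : IsClopen (f ⁻¹' Z₀) := ⟨hZ₀closed.preimage hf, hZ₀open.preimage hf⟩
  have huniv : f ⁻¹' Z₀ = Set.univ :=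
    hclopen.eq_univ ⟨x₀, mem_irreducibleComponent⟩
  have hrange : Set.range f ⊆ Z₀ := by
    rintro _ ⟨x, rfl⟩
    have : x ∈ f ⁻¹' Z₀ := by rw [huniv]; trivial
    exact this
  have hZ₀univ : Z₀ = Set.univ := by
    rw [← Set.univ_subset_iff, ← hd.closure_range]
    exact hZ₀closed.closure_subset_iff.mpr hrange
  have : IsIrreducible (Set.univ : Set S) := hZ₀univ ▸ hZ₀c.1
  exact (irreducibleSpace_def S).mpr this

/-- A quasi-compact dominant morphism to an integral scheme hits the generic point. -/
theorem exists_eq_genericPoint {X S : Scheme.{u}} [IsIntegral S] (f : X ⟶ S) [QuasiCompact f]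
    [IsDominant f] : ∃ x : X, f x = genericPoint S := by
  haveI : IsSchemeTheoreticallyDominant f := IsSchemeTheoreticallyDominant.of_isDominant f
  set η := genericPoint S with hη
  haveI : Flat (S.fromSpecStalk η) := Groth.Agent.S4366.flat_fromSpecStalk S η
  haveI : IsSchemeTheoreticallyDominant (pullback.snd f (S.fromSpecStalk η)) := inferInstance
  haveI : QuasiCompact (pullback.snd f (S.fromSpecStalk η)) :=
    MorphismProperty.pullback_snd _ _ inferInstance
  have hdom : IsDominant (pullback.snd f (S.fromSpecStalk η)) := inferInstance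
  haveI : Nonempty (Spec (S.presheaf.stalk η)) := inferInstance
  obtain ⟨p⟩ := (inferInstance : Nonempty (Spec (S.presheaf.stalk η)))
  have hne : Nonempty ↥(pullback f (S.fromSpecStalk η)) := by
    by_contra hempty
    rw [not_nonempty_iff] at hempty
    have h1 := hdom.denseRange
    have h2 : Set.range (pullback.snd f (S.fromSpecStalk η)) = ∅ := Set.range_eq_empty _
    have h3 := h1.closure_range
    rw [h2, closure_empty] at h3
    have : p ∈ (∅ : Set (Spec (S.presheaf.stalk η))) := by rw [h3]; trivial
    exact this
  obtain ⟨z⟩ := hne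
  refine ⟨pullback.fst f (S.fromSpecStalk η) z, ?_⟩
  have h1 : f (pullback.fst f (S.fromSpecStalk η) z) =
      S.fromSpecStalk η (pullback.snd f (S.fromSpecStalk η) z) := by
    rw [← Scheme.Hom.comp_apply, pullback.condition, Scheme.Hom.comp_apply]
  have h2 : f (pullback.fst f (S.fromSpecStalk η) z) ∈ Set.range (S.fromSpecStalk η) :=
    ⟨_, h1.symm⟩
  rw [Scheme.range_fromSpecStalk] at h2
  have h3 : η ⤳ f (pullback.fst f (S.fromSpecStalk η) z) :=
    (genericPoint_spec S).specializes trivial
  exact (h2.antisymm h3).eq

end Groth.Agent.Lib.Helper7.DomGenericPt
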