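import Mathlib

set_option autoImplicit false
universe u v

namespace Groth.Agent.Lib.Helper7.ENatCard

open scoped ENNReal

theorem hasSum_enat {ι : Type*} (f : ι → ℕ∞) : HasSum f (⨆ s : Finset ι, ∑ i ∈ s, f i) :=
  hasSum_of_isLUB _ isLUB_iSup

theorem summable_enat {ι : Type*} (f : ι → ℕ∞) : Summable f := (hasSum_enat f).summable

theorem toENNReal_tsum {ι : Type*} (f : ι → ℕ∞) :
    ((∑' i, f i : ℕ∞) : ℝ≥0∞) = ∑' i, (f i : ℝ≥0∞) := by
  have h := (summable_enat f).hasSum.map ENat.toENNRealRingHom ENat.continuous_toENNReal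
  exact h.tsum_eq.symm

/-- The cardinality of a sigma type is the (possibly infinite) sum of the cardinalities. -/
theorem card_sigma {ι : Type u} (F : ι → Type v) :
    ENat.card (Σ i, F i) = ∑' i, ENat.card (F i) := by
  apply ENat.toENNRealOrderEmbedding.injective
  change ((ENat.card (Σ i, F i) : ℕ∞) : ℝ≥0∞) = ((∑' i, ENat.card (F i) : ℕ∞) : ℝ≥0∞)
  rw [toENNReal_tsum, ← ENNReal.tsum_one, ENNReal.tsum_sigma' (f := fun _ => (1 : ℝ≥0∞))]
  congr 1
  ext i
  rw [ENNReal.tsum_one]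

end Groth.Agent.Lib.Helper7.ENatCard
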