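import Mathlib

/-!
# Lifting étale algebras along surjections

If `φ : A → Ā` is a surjective ring map and `C` is an étale `Ā`-algebra, then there is an étale
`A`-algebra `B` with a surjection `B → C` over `φ`.
-/

set_option maxHeartbeats 400000

universe u

namespace Groth.Agent.Lib.Helper7.EtLiftSurj

open Algebra MvPolynomial

theorem exists_etale_lift {A Abar : Type u} [CommRing A] [CommRing Abar] (φ : A →+* Abar)
    (hφ : Function.Surjective φ) (C : Type u) [CommRing C] [Algebra Abar C]
    [Algebra.Etale Abar C] :
    ∃ (B : Type u) (_ : CommRing B) (_ : Algebra A B) (_ : Algebra.Etale A B) (ψ : B →+* C),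
      Function.Surjective ψ ∧ ψ.comp (algebraMap A B) = (algebraMap Abar C).comp φ := by
  classical
  obtain ⟨ι, σ, _, _, P, hP⟩ :=
    (Algebra.Etale.iff_isStandardSmoothOfRelativeDimension_zero.mp
      (inferInstance : Algebra.Etale Abar C)).out
  letI := Fintype.ofFinite σ
  have hv : ∀ s, ∃ v : MvPolynomial ι A, MvPolynomial.map φ v = P.relation s :=
    fun s => MvPolynomial.map_surjective φ hφ _
  choose v hv using hv
  let B₀ := MvPolynomial ι A ⧸ Ideal.span (Set.range v)
  let P₀ : PreSubmersivePresentation A B₀ ι σ :=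
    PreSubmersivePresentation.naive (v := v) P.map P.map_inj
  let B := Localization.Away P₀.jacobian
  let Q : PreSubmersivePresentation B₀ B Unit Unit :=
    PreSubmersivePresentation.localizationAway B P₀.jacobian
  let QP : SubmersivePresentation A B (Unit ⊕ ι) (Unit ⊕ σ) :=
    { toPreSubmersivePresentation := Q.comp P₀
      jacobian_isUnit := by
        rw [PreSubmersivePresentation.comp_jacobian_eq_jacobian_smul_jacobian,
          PreSubmersivePresentation.localizationAway_jacobian, Algebra.smul_def]
        exact (IsLocalization.Away.algebraMap_isUnit _).mul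
          (IsLocalization.Away.algebraMap_isUnit _) }
  have hdim : QP.dimension = 0 := by
    have h1 : (Q.comp P₀).dimension = Q.dimension + P₀.dimension :=
      PreSubmersivePresentation.dimension_comp_eq_dimension_add_dimension Q P₀
    have h2 : Q.dimension = 0 := Presentation.localizationAway_dimension_zero _
    have h3 : P₀.dimension = 0 := hP
    show (Q.comp P₀).dimension = 0
    rw [h1, h2, h3]
  have hEt : Algebra.Etale A B :=
    Algebra.Etale.iff_isStandardSmoothOfRelativeDimension_zero.mpr
      (QP.isStandardSmoothOfRelativeDimension hdim)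
  -- the map `B₀ → C`
  let Φ : MvPolynomial ι A →+* C := (aeval P.val).toRingHom.comp (MvPolynomial.map φ)
  have hΦ : ∀ a ∈ Ideal.span (Set.range v), Φ a = 0 := by
    intro a ha
    have : Ideal.span (Set.range v) ≤ RingHom.ker Φ := by
      rw [Ideal.span_le]
      rintro _ ⟨s, rfl⟩
      show Φ (v s) = 0
      simp only [Φ, RingHom.comp_apply, hv]
      exact P.aeval_val_relation s
    exact this ha
  let ψ₀ : B₀ →+* C := Ideal.Quotient.lift _ Φ hΦ
  have hjac : ψ₀ P₀.jacobian = P.jacobian := by
    rw [PreSubmersivePresentation.jacobian_eq_jacobiMatrix_det,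
      PreSubmersivePresentation.jacobian_eq_jacobiMatrix_det]
    have hdet : MvPolynomial.map φ P₀.jacobiMatrix.det = P.jacobiMatrix.det := by
      rw [RingHom.map_det]
      congr 1
      ext i j : 1
      rw [RingHom.mapMatrix_apply, Matrix.map_apply,
        PreSubmersivePresentation.jacobiMatrix_apply,
        PreSubmersivePresentation.jacobiMatrix_apply, ← MvPolynomial.pderiv_map]
      show (pderiv (P.map i)) ((MvPolynomial.map φ) (v j)) = _
      rw [hv]
    have h0 : (algebraMap P₀.Ring B₀) P₀.jacobiMatrix.det =
        Ideal.Quotient.mk (Ideal.span (Set.range v)) P₀.jacobiMatrix.det := by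
      rfl
    rw [h0, Algebra.Generators.algebraMap_apply, Ideal.Quotient.lift_mk, ← hdet]
    rfl
  have hunit : IsUnit (ψ₀ P₀.jacobian) := by
    rw [hjac]; exact P.jacobian_isUnit
  let ψ : B →+* C := IsLocalization.Away.lift (S := B) P₀.jacobian hunit
  have hψ : ∀ b, ψ (algebraMap B₀ B b) = ψ₀ b := fun b => IsLocalization.Away.lift_eq _ hunit b
  refine ⟨B, inferInstance, inferInstance, hEt, ψ, ?_, ?_⟩
  · -- surjectivity
    have hΦsurj : Function.Surjective Φ := by
      intro c
      obtain ⟨p, rfl⟩ := P.algebraMap_surjective c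
      obtain ⟨q, rfl⟩ := MvPolynomial.map_surjective φ hφ p
      exact ⟨q, (Algebra.Generators.algebraMap_apply _ _).symm⟩
    intro c
    obtain ⟨q, rfl⟩ := hΦsurj c
    exact ⟨algebraMap B₀ B (Ideal.Quotient.mk _ q), by rw [hψ]; rfl⟩
  · ext a
    show ψ (algebraMap A B a) = algebraMap Abar C (φ a)
    rw [IsScalarTower.algebraMap_apply A B₀ B, hψ,
      IsScalarTower.algebraMap_apply A (MvPolynomial ι A) B₀]
    show ψ₀ (Ideal.Quotient.mk _ (algebraMap A (MvPolynomial ι A) a)) = _
    rw [Ideal.Quotient.lift_mk]
    show (aeval P.val) (MvPolynomial.map φ (algebraMap A (MvPolynomial ι A) a)) = _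
    rw [MvPolynomial.algebraMap_eq, MvPolynomial.map_C, MvPolynomial.aeval_C]

end Groth.Agent.Lib.Helper7.EtLiftSurj
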