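import Groth.Agent.Lib.Helper7.GUEtale

/-!
# Images of étale integral algebras over a normal domain in a field (helper7)

`A'` an integrally closed domain, `S` an étale and integral `A'`-algebra, `φ : S → L₁` an
`A'`-algebra map to a field such that every element of `L₁` is of the form `φ s / a`.  Then the
range of `φ` is the integral closure of `A'` in `L₁`, and it is étale over `A'`.
-/

set_option autoImplicit false
set_option maxHeartbeats 400000
universe u

namespace Groth.Agent.Lib.Helper7.EtNormal

open TensorProduct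

/-- In a commutative semisimple ring every ideal is generated by an idempotent, with complementary
idempotent killing it. -/
theorem exists_idempotent_of_isSemisimpleRing {F : Type*} [CommRing F] [IsSemisimpleRing F]
    (I : Ideal F) : ∃ e : F, IsIdempotentElem e ∧ (1 - e) ∈ I ∧ ∀ x ∈ I, e * x = 0 := by
  obtain ⟨J, hJ⟩ := exists_isCompl I
  have h1 : (1 : F) ∈ I ⊔ J := by rw [hJ.sup_eq_top]; exact Submodule.mem_top
  obtain ⟨i, hi, j, hj, hij⟩ := Submodule.mem_sup.mp h1
  have hIJ : ∀ x, x ∈ I → x ∈ J → x = 0 := fun x hxI hxJ => by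
    have : x ∈ I ⊓ J := ⟨hxI, hxJ⟩
    rw [hJ.inf_eq_bot] at this
    exact this
  have hkill : ∀ x ∈ I, j * x = 0 := fun x hx =>
    hIJ _ (I.mul_mem_left j hx) (J.mul_mem_right x hj)
  refine ⟨j, ?_, ?_, hkill⟩
  · have : j * i = 0 := hkill i hi
    calc j * j = j * (i + j) - j * i := by ring
      _ = j := by rw [hij, this, mul_one, sub_zero]
  · have : 1 - j = i := by rw [← hij]; ring
    rw [this]; exact hi

section main

variable {A' S L₁ : Type u} [CommRing A'] [IsDomain A'] [IsIntegrallyClosed A'] [CommRing S]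
  [Algebra A' S] [Algebra.Etale A' S] [Field L₁] [Algebra A' L₁]

/-- Elements of `S ⊗ K` integral over `S` come from `S`. -/
theorem exists_eq_algebraMap_of_isIntegral (z : S ⊗[A'] FractionRing A')
    (hz : IsIntegral S z) : ∃ s : S, z = algebraMap S (S ⊗[A'] FractionRing A') s := by
  obtain ⟨t, ht⟩ := (TensorProduct.toIntegralClosure_bijective_of_smooth (R := A') (S := S)
    (B := FractionRing A')).2 ⟨z, hz⟩
  have key : ∀ t : S ⊗[A'] integralClosure A' (FractionRing A'),
      ∃ s : S, ((TensorProduct.toIntegralClosure A' S (FractionRing A') t :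
        integralClosure S (S ⊗[A'] FractionRing A')) : S ⊗[A'] FractionRing A') =
        algebraMap S (S ⊗[A'] FractionRing A') s := by
    intro t
    induction t using TensorProduct.induction_on with
    | zero => exact ⟨0, by simp⟩
    | tmul s c =>
      obtain ⟨a, ha⟩ := (IsIntegrallyClosed.isIntegral_iff (R := A')
        (K := FractionRing A')).mp c.2
      refine ⟨a • s, ?_⟩
      change (Algebra.TensorProduct.map (AlgHom.id S S)
        (integralClosure A' (FractionRing A')).val) (s ⊗ₜ c) = _
      rw [Algebra.TensorProduct.map_tmul, Algebra.TensorProduct.algebraMap_apply,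
        Algebra.algebraMap_self, RingHom.id_apply, AlgHom.id_apply, TensorProduct.smul_tmul]
      congr 1
      change (c : FractionRing A') = a • (1 : FractionRing A')
      rw [← ha, Algebra.algebraMap_eq_smul_one]
    | add x y hx hy =>
      obtain ⟨sx, hsx⟩ := hx
      obtain ⟨sy, hsy⟩ := hy
      exact ⟨sx + sy, by rw [map_add, Subalgebra.coe_add, hsx, hsy, map_add]⟩
  obtain ⟨s, hs⟩ := key t
  exact ⟨s, by rw [← hs, ht]⟩

theorem idem_mul_aeval {F : Type*} [CommRing F] [Algebra A' F] (e w : F)
    (he : IsIdempotentElem e) (P : Polynomial A') :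
    e * Polynomial.aeval (e * w) P = e * Polynomial.aeval w P := by
  induction P using Polynomial.induction_on with
  | C a => simp
  | add p q hp hq => rw [map_add, map_add, mul_add, mul_add, hp, hq]
  | monomial n a _ =>
    simp only [map_mul, Polynomial.aeval_C, map_pow, Polynomial.aeval_X]
    have hpow : e * (e * w) ^ (n + 1) = e * w ^ (n + 1) := by
      rw [mul_pow, ← mul_assoc, ← pow_succ', he.pow_succ_eq]
    calc e * (algebraMap A' F a * (e * w) ^ (n + 1))
        = algebraMap A' F a * (e * (e * w) ^ (n + 1)) := by ring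
      _ = algebraMap A' F a * (e * w ^ (n + 1)) := by rw [hpow]
      _ = e * (algebraMap A' F a * w ^ (n + 1)) := by ring

theorem main (hinj' : Function.Injective (algebraMap A' L₁)) (φ : S →ₐ[A'] L₁)
    (hsurj : ∀ x : L₁, ∃ (s : S) (a : A'), a ≠ 0 ∧ algebraMap A' L₁ a * x = φ s) :
    (∀ x : L₁, IsIntegral A' x → x ∈ φ.range) ∧
      ∃ e : S, IsIdempotentElem e ∧ RingHom.ker φ.toRingHom = Ideal.span {1 - e} := by
  let K := FractionRing A'
  let F := S ⊗[A'] K
  let κ : K →ₐ[A'] L₁ := IsFractionRing.liftAlgHom (g := Algebra.ofId A' L₁) hinj'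
  let φK : F →ₐ[A'] L₁ := Algebra.TensorProduct.productMap φ κ
  have hφK_tmul : ∀ (s : S) (k : K), φK (s ⊗ₜ k) = φ s * κ k := fun s k =>
    Algebra.TensorProduct.productMap_apply_tmul φ κ s k
  have hφK_alg : ∀ s : S, φK (algebraMap S F s) = φ s := fun s => by
    rw [Algebra.TensorProduct.algebraMap_apply, Algebra.algebraMap_self, RingHom.id_apply,
      hφK_tmul, map_one, mul_one]
  have hκ : ∀ a : A', κ (algebraMap A' K a) = algebraMap A' L₁ a := fun a => κ.commutes a
  have hφK_surj : Function.Surjective φK := by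
    intro x
    obtain ⟨s, a, ha, hax⟩ := hsurj x
    refine ⟨s ⊗ₜ (algebraMap A' K a)⁻¹, ?_⟩
    have ha' : algebraMap A' L₁ a ≠ 0 := fun h => ha (hinj' (by rw [h, map_zero]))
    rw [hφK_tmul, map_inv₀, hκ, ← hax]
    field_simp
  have hinjF : Function.Injective (algebraMap S F) :=
    GUEtale.injective_algebraMap_tensor (A := A') (E := S) K
  haveI : IsSemisimpleRing F := IsArtinianRing.isSemisimpleRing_of_isReduced F
  obtain ⟨e, he, he1, hekill⟩ := exists_idempotent_of_isSemisimpleRing
    (RingHom.ker φK.toRingHom)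
  have hφKe : φK e = 1 := by
    have h0 : φK (1 - e) = 0 := he1
    rw [map_sub, map_one, sub_eq_zero] at h0
    exact h0.symm
  -- `e` comes from `S`
  haveI : Nontrivial S := φ.toRingHom.domain_nontrivial
  have heint : IsIntegral S e := by
    refine ⟨Polynomial.X ^ 2 - Polynomial.X, ?_, ?_⟩
    · exact Polynomial.monic_X_pow_sub (by rw [Polynomial.degree_X]; norm_num)
    · rw [Polynomial.eval₂_sub, Polynomial.eval₂_pow, Polynomial.eval₂_X, pow_two, he.eq, sub_self]
  obtain ⟨se, hse⟩ := exists_eq_algebraMap_of_isIntegral e heint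
  have hse_idem : IsIdempotentElem se := by
    apply hinjF
    rw [map_mul, ← hse, he.eq]
  refine ⟨?_, se, hse_idem, ?_⟩
  · intro x hx
    obtain ⟨P, hPm, hP⟩ := hx
    have hP' : Polynomial.aeval x P = 0 := hP
    obtain ⟨w, hw⟩ := hφK_surj x
    have h1 : Polynomial.aeval w P ∈ RingHom.ker φK.toRingHom := by
      change φK (Polynomial.aeval w P) = 0
      rw [← Polynomial.aeval_algHom_apply, hw, hP']
    have h2 : e * Polynomial.aeval (e * w) P = 0 := by
      rw [idem_mul_aeval e w he P]
      exact hekill _ h1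
    have h3 : IsIntegral A' (e * w) := by
      refine ⟨Polynomial.X * P, Polynomial.monic_X.mul hPm, ?_⟩
      change Polynomial.aeval (e * w) (Polynomial.X * P) = 0
      rw [map_mul, Polynomial.aeval_X, mul_right_comm, h2, zero_mul]
    obtain ⟨s, hs⟩ := exists_eq_algebraMap_of_isIntegral (e * w) h3.tower_top
    refine ⟨s, ?_⟩
    change φ s = x
    rw [← hφK_alg, ← hs, map_mul, hφKe, one_mul, hw]
  · apply le_antisymm
    · intro s hs
      have hs0 : φ s = 0 := hs
      have h1 : algebraMap S F s ∈ RingHom.ker φK.toRingHom := by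
        change φK (algebraMap S F s) = 0
        rw [hφK_alg, hs0]
      have h2 : se * s = 0 := by
        apply hinjF
        rw [map_mul, ← hse, map_zero]
        exact hekill _ h1
      rw [Ideal.mem_span_singleton']
      exact ⟨s, by rw [mul_sub, mul_one, mul_comm s se, h2, sub_zero]⟩
    · rw [Ideal.span_le, Set.singleton_subset_iff]
      change φ (1 - se) = 0
      rw [← hφK_alg, map_sub, map_one, ← hse]
      exact he1

/-- If `L₁` is generated as a field by the image of `φ`, every element of `L₁` is `φ s / a`. -/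
theorem hsurj_of_closure (hinj' : Function.Injective (algebraMap A' L₁)) (φ : S →ₐ[A'] L₁)
    (hgen : Subfield.closure (Set.range φ) = ⊤) :
    ∀ x : L₁, ∃ (s : S) (a : A'), a ≠ 0 ∧ algebraMap A' L₁ a * x = φ s := by
  let K := FractionRing A'
  let F := S ⊗[A'] K
  let κ : K →ₐ[A'] L₁ := IsFractionRing.liftAlgHom (g := Algebra.ofId A' L₁) hinj'
  let φK : F →ₐ[A'] L₁ := Algebra.TensorProduct.productMap φ κ
  have hφK_tmul : ∀ (s : S) (k : K), φK (s ⊗ₜ k) = φ s * κ k := fun s k =>
    Algebra.TensorProduct.productMap_apply_tmul φ κ s k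
  have hφK_alg : ∀ s : S, φK (algebraMap S F s) = φ s := fun s => by
    rw [Algebra.TensorProduct.algebraMap_apply, Algebra.algebraMap_self, RingHom.id_apply,
      hφK_tmul, map_one, mul_one]
  -- the range of `φK` is a field
  have hfield : ∀ y ∈ φK.range, y⁻¹ ∈ φK.range := by
    intro y hy
    by_cases hy0 : y = 0
    · rw [hy0, inv_zero]; exact zero_mem _
    let e : (F ⧸ RingHom.ker φK.toRingHom) ≃+* φK.toRingHom.range :=
      RingHom.quotientKerEquivRange φK.toRingHom
    haveI : IsDomain φK.toRingHom.range := inferInstance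
    haveI : IsArtinianRing φK.toRingHom.range := e.surjective.isArtinianRing
    have hf : IsField φK.toRingHom.range := IsArtinianRing.isField_of_isDomain _
    have hy' : y ∈ φK.toRingHom.range := hy
    obtain ⟨z, hz⟩ := hf.mul_inv_cancel (a := ⟨y, hy'⟩) (fun h => hy0 (congrArg Subtype.val h))
    have hz' : y * (z : L₁) = 1 := congrArg Subtype.val hz
    have : y⁻¹ = (z : L₁) := (eq_inv_of_mul_eq_one_right hz').symm
    rw [this]
    exact z.2
  -- hence `φK` is surjective
  have hφK_surj : Function.Surjective φK := by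
    intro x
    have hx : x ∈ Subfield.closure (Set.range φ) := by rw [hgen]; trivial
    have hle : Subfield.closure (Set.range φ) ≤
        { φK.toRingHom.range with inv_mem' := fun y hy => hfield y hy } := by
      rw [Subfield.closure_le]
      rintro _ ⟨s, rfl⟩
      exact ⟨algebraMap S F s, hφK_alg s⟩
    obtain ⟨z, hz⟩ := hle hx
    exact ⟨z, hz⟩
  intro x
  obtain ⟨z, rfl⟩ := hφK_surj x
  obtain ⟨a, ha, e, he⟩ := GUEtale.exists_frac_tensor (A := A') (E := S) K z
  refine ⟨e, a, ha, ?_⟩
  rw [← hφK_alg e, ← he, map_mul, hφK_alg, φ.commutes]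

theorem range_eq_and_etale [Algebra.IsIntegral A' S]
    (hinj' : Function.Injective (algebraMap A' L₁)) (φ : S →ₐ[A'] L₁)
    (hgen : Subfield.closure (Set.range φ) = ⊤) :
    φ.range = integralClosure A' L₁ ∧ Algebra.Etale A' (integralClosure A' L₁) := by
  have hsurj := hsurj_of_closure hinj' φ hgen
  obtain ⟨h1, e, he, hker⟩ := main hinj' φ hsurj
  have hrange : φ.range = integralClosure A' L₁ := by
    apply le_antisymm
    · rintro _ ⟨s, rfl⟩
      exact (Algebra.IsIntegral.isIntegral (R := A') s).map φ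
    · intro x hx
      exact h1 x hx
  refine ⟨hrange, ?_⟩
  rw [← hrange]
  -- `S ⧸ (1 - e)` is étale over `A'`
  haveI : IsLocalization.Away e (S ⧸ Ideal.span {1 - e}) :=
    IsLocalization.Away.quotient_of_isIdempotentElem he
  haveI : Algebra.Etale S (S ⧸ Ideal.span {1 - e}) := Algebra.Etale.of_isLocalizationAway e
  haveI : Algebra.Etale A' (S ⧸ Ideal.span {1 - e}) :=
    Algebra.Etale.comp A' S (S ⧸ Ideal.span {1 - e})
  have hker' : Ideal.span {1 - e} = RingHom.ker φ.rangeRestrict := by
    rw [← hker]
    ext s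
    change _ ↔ φ.rangeRestrict s = 0
    rw [RingHom.mem_ker, Subtype.ext_iff]
    rfl
  let ε₁ : (S ⧸ Ideal.span {1 - e}) ≃ₐ[A'] (S ⧸ RingHom.ker φ.rangeRestrict) :=
    Ideal.quotientEquivAlgOfEq A' hker'
  let ε₂ : (S ⧸ RingHom.ker φ.rangeRestrict) ≃ₐ[A'] φ.range :=
    Ideal.quotientKerAlgEquivOfSurjective φ.rangeRestrict_surjective
  exact Algebra.Etale.of_equiv (ε₁.trans ε₂)

end main

end Groth.Agent.Lib.Helper7.EtNormal
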