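import Mathlib
import Groth.Agent.Lib.Helper7.FibBr3
import Groth.Agent.Lib.Helper7.BrCount4

/-!
# Counting minimal primes over an ideal through a flat map; étale models (helper7)
-/

set_option autoImplicit false
set_option maxHeartbeats 400000
universe u

namespace Groth.Agent.Lib.Helper7.FibBr

open IsLocalRing
open Groth.Agent.Lib.Helper4 Groth.Agent.Lib.Helper37.Hz

/-- Contraction of a minimal prime over `J T` along a flat map `D → T` is a minimal prime over
`J`. -/
theorem comap_mem_minimalPrimes_of_flat {D T : Type*} [CommRing D] [CommRing T] (γ : D →+* T)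
    (hγ : γ.Flat) (J : Ideal D) (P : Ideal T) (hP : P ∈ (J.map γ).minimalPrimes) :
    P.comap γ ∈ J.minimalPrimes := by
  letI : Algebra D T := γ.toAlgebra
  haveI : Module.Flat D T := hγ
  haveI : Algebra.HasGoingDown D T := Algebra.HasGoingDown.of_flat
  haveI hPp : P.IsPrime := hP.1.1
  refine ⟨⟨Ideal.comap_isPrime γ P, ?_⟩, ?_⟩
  · exact Ideal.map_le_iff_le_comap.mp hP.1.2
  · intro q ⟨hqp, hJq⟩ hle
    haveI := hqp
    haveI : (P.comap γ).IsPrime := Ideal.comap_isPrime γ P
    haveI : P.LiesOver (P.comap γ) := ⟨rfl⟩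
    obtain ⟨Q, hQP, hQp, hQo⟩ := Ideal.exists_ideal_le_liesOver_of_le (p := q) (q := P.comap γ)
      P hle
    have hJQ : J.map γ ≤ Q := by
      rw [Ideal.map_le_iff_le_comap]
      have : q = Q.comap γ := hQo.over
      rw [← this]
      exact hJq
    have hPQ : P ≤ Q := hP.2 ⟨hQp, hJQ⟩ hQP
    have : q = Q.comap γ := hQo.over
    rw [this]
    exact Ideal.comap_mono hPQ

/-- Lemma K: `n` minimal primes over `J T` separated by elements coming from `D` give `n`
minimal primes over `J`. -/
theorem le_card_minimalPrimes_of_flat {D T : Type u} [CommRing D] [CommRing T] (γ : D →+* T)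
    (hγ : γ.Flat) (J : Ideal D) (n : ℕ) (P : Fin n → Ideal T)
    (hP : ∀ j, P j ∈ (J.map γ).minimalPrimes) (d : Fin n → Fin n → D)
    (hd : ∀ j k, γ (d j k) ∈ P j ∧ (j ≠ k → γ (d j k) ∉ P k)) :
    (n : ℕ∞) ≤ ENat.card J.minimalPrimes := by
  let F : Fin n → J.minimalPrimes := fun j =>
    ⟨(P j).comap γ, comap_mem_minimalPrimes_of_flat γ hγ J (P j) (hP j)⟩
  have hF : Function.Injective F := by
    intro j k hjk
    by_contra hne
    have h1 : (P j).comap γ = (P k).comap γ := congrArg Subtype.val hjk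
    have h2 : d j k ∈ (P j).comap γ := (hd j k).1
    rw [h1] at h2
    exact (hd j k).2 hne h2
  have := ENat.card_le_card_of_injective hF
  rwa [ENat.card_eq_coe_fintype_card, Fintype.card_fin] at this

section Alg

variable (R : Type u) [CommRing R] (S : Type u) [CommRing S] [Algebra R S]

/-- If `S` is an ind-étale `R`-algebra and `K` an ideal of `S` with at least `n` minimal primes
over it, some étale `R`-algebra `E` mapping to `S` contains elements separating `n` of them. -/
theorem exists_etale_separating (hS : HasFactorization (etaleClass R) S) (K : Ideal S) (n : ℕ)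
    (hn : (n : ℕ∞) ≤ ENat.card K.minimalPrimes) :
    ∃ (E : Type u) (_ : CommRing E) (_ : Algebra R E) (_ : Algebra.Etale R E) (β : E →ₐ[R] S)
      (P : Fin n → Ideal S) (e : Fin n → Fin n → E), (∀ j, P j ∈ K.minimalPrimes) ∧
        ∀ j k, β (e j k) ∈ P j ∧ (j ≠ k → β (e j k) ∉ P k) := by
  classical
  obtain ⟨P, hP⟩ := BrCount.exists_injective_of_le_card n hn
  have hprime : ∀ j, (P j).1.IsPrime := fun j => (P j).2.1.1
  have hex : ∀ j k : Fin n, ∃ x : S, x ∈ (P j).1 ∧ (j ≠ k → x ∉ (P k).1) := by
    intro j k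
    by_cases hjk : j = k
    · exact ⟨0, Ideal.zero_mem _, fun h => absurd hjk h⟩
    · have hnle : ¬ (P j).1 ≤ (P k).1 := by
        intro hle
        have hge : (P k).1 ≤ (P j).1 := (P k).2.2 ⟨hprime j, (P j).2.1.2⟩ hle
        exact hjk (hP (Subtype.ext (le_antisymm hle hge)))
      obtain ⟨x, hx1, hx2⟩ := Set.not_subset.mp hnle
      exact ⟨x, hx1, fun _ => hx2⟩
  choose x hx using hex
  let φ : MvPolynomial (Fin n × Fin n) R →ₐ[R] S := MvPolynomial.aeval (fun jk => x jk.1 jk.2)
  obtain ⟨E, _, _, hE, α, β, hαβ⟩ := hS (MvPolynomial (Fin n × Fin n) R) φ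
  have hE' : Algebra.Etale R E := hE
  have hval : ∀ j k, β (α (MvPolynomial.X (j, k))) = x j k := by
    intro j k
    have := congrArg (fun m => m (MvPolynomial.X (j, k))) hαβ
    simpa [φ] using this
  refine ⟨E, inferInstance, inferInstance, hE', β, fun j => (P j).1,
    fun j k => α (MvPolynomial.X (j, k)), fun j => (P j).2, fun j k => ?_⟩
  rw [hval]
  exact hx j k

end Alg

end Groth.Agent.Lib.Helper7.FibBr
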