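import Mathlib
import Groth.Agent.Lib.Helper7.FibBr4
import Groth.Agent.Lib.Helper67.FibreStalk

/-!
# Étale neighbourhoods `Spec E → X`: stalk maps and the map to an ind-étale local algebra (helper7)
-/

set_option autoImplicit false
set_option maxHeartbeats 400000
universe u

namespace Groth.Agent.Lib.Helper7.FibBr

open AlgebraicGeometry CategoryTheory TopologicalSpace IsLocalRing
open Groth.Agent.Lib.Helper4 Groth.Agent.Lib.Helper37.Hz Groth.Agent.Lib.Helper7.BrCount
open Groth.Agent.Lib.Helper67.FibreStalk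

section Sch

variable (X : Scheme.{u}) {V : X.Opens} (hV : IsAffineOpen V)
  (E : Type u) [CommRing E] [Algebra Γ(X, V) E] [Algebra.Etale Γ(X, V) E]
  (q : Ideal E) [q.IsPrime]

theorem nbhdMap_preimage : (nbhdMap X hV E) ⁻¹ᵁ V = ⊤ := by
  unfold nbhdMap
  rw [Scheme.Hom.comp_preimage, hV.fromSpec_preimage_self]
  rfl

theorem nbhdMap_appLE :
    (nbhdMap X hV E).appLE V ⊤ (by rw [nbhdMap_preimage]) =
      CommRingCat.ofHom (algebraMap Γ(X, V) E) ≫ (Scheme.ΓSpecIso (CommRingCat.of E)).inv := by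
  unfold nbhdMap
  rw [Scheme.Hom.comp_appLE, hV.fromSpec_app_self, Category.assoc, Scheme.Hom.map_appLE,
    Scheme.ΓSpecIso_inv_naturality]
  rfl

theorem nbhdMap_mem (p : Spec (CommRingCat.of E)) : nbhdMap X hV E p ∈ V := by
  have h : p ∈ (nbhdMap X hV E) ⁻¹ᵁ V := by rw [nbhdMap_preimage]; trivial
  exact h

/-- The canonical map from `E` to the stalk of `Spec E` at a prime. -/
noncomputable def toStalk :
    E →+* (Spec (CommRingCat.of E)).presheaf.stalk (⟨q, inferInstance⟩ : PrimeSpectrum E) :=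
  ((Scheme.ΓSpecIso (CommRingCat.of E)).inv ≫
    (Spec (CommRingCat.of E)).presheaf.germ ⊤ (⟨q, inferInstance⟩ : PrimeSpectrum E) trivial).hom

theorem stalkMap_germ (r : Γ(X, V)) :
    ((nbhdMap X hV E).stalkMap (⟨q, inferInstance⟩ : PrimeSpectrum E)).hom
      (X.presheaf.germ V _ (nbhdMap_mem X hV E _) r) = toStalk E q (algebraMap Γ(X, V) E r) := by
  have h1 := nbhdMap_appLE X hV E
  have h2 : (Spec (CommRingCat.of E)).presheaf.germ ⊤ (⟨q, inferInstance⟩ : PrimeSpectrum E)
      trivial (((nbhdMap X hV E).appLE V ⊤ (by rw [nbhdMap_preimage])).hom r) =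
      ((nbhdMap X hV E).stalkMap (⟨q, inferInstance⟩ : PrimeSpectrum E)).hom
        (X.presheaf.germ V _ (nbhdMap_mem X hV E _) r) := by
    simp only [Scheme.Hom.germ_stalkMap_apply, Scheme.Hom.appLE, homOfLE_leOfHom,
      CommRingCat.hom_comp, RingHom.coe_comp, Function.comp_apply,
      (Spec (CommRingCat.of E)).presheaf.germ_res_apply]
  rw [← h2, h1]
  rfl

variable (T : Type u) [CommRing T] [IsLocalRing T] (β : E →+* T)

theorem exists_gamma (hq : q = (maximalIdeal T).comap β) :
    ∃ γ : (Spec (CommRingCat.of E)).presheaf.stalk (⟨q, inferInstance⟩ : PrimeSpectrum E) →+* T,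
      (∀ e, γ (toStalk E q e) = β e) ∧ (β.Flat → γ.Flat) := by
  have hunits : ∀ s : q.primeCompl, IsUnit (β s) := by
    intro s
    by_contra hs
    have h1 : (s : E) ∈ (maximalIdeal T).comap β := hs
    rw [← hq] at h1
    exact s.2 h1
  let l : Localization.AtPrime q →+* T := IsLocalization.lift (M := q.primeCompl) hunits
  let σ := Spec.stalkIso (CommRingCat.of E) (⟨q, inferInstance⟩ : PrimeSpectrum E)
  have hσ : ∀ e, σ.hom.hom (toStalk E q e) = algebraMap E (Localization.AtPrime q) e := by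
    intro e
    have h := Spec.germ_stalkMapIso_hom (R := CommRingCat.of E)
      (x := (⟨q, inferInstance⟩ : PrimeSpectrum E))
    have h2 := congrArg (fun m => (Scheme.ΓSpecIso (CommRingCat.of E)).inv ≫ m) h
    simp only [Iso.inv_hom_id_assoc] at h2
    have h3 := congrArg (fun m => m.hom e) h2
    exact h3
  refine ⟨l.comp σ.hom.hom, ?_, ?_⟩
  · intro e
    rw [RingHom.comp_apply, hσ]
    exact IsLocalization.lift_eq _ _
  · intro hβ
    have hl : l.Flat := by
      letI : Algebra E T := β.toAlgebra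
      letI : Algebra (Localization.AtPrime q) T := l.toAlgebra
      haveI : IsScalarTower E (Localization.AtPrime q) T :=
        IsScalarTower.of_algebraMap_eq (fun e => (IsLocalization.lift_eq _ _).symm)
      haveI : Module.Flat E T := hβ
      exact (Module.flat_iff_of_isLocalization (Localization.AtPrime q) q.primeCompl T).mpr
        inferInstance
    have hσf : σ.hom.hom.Flat :=
      RingHom.Flat.of_bijective ((ConcreteCategory.isIso_iff_bijective σ.hom).mp inferInstance)
    exact RingHom.Flat.comp hσf hl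

theorem gamma_comp_stalkMap
    [Algebra (X.presheaf.stalk (nbhdMap X hV E (⟨q, inferInstance⟩ : PrimeSpectrum E))) T]
    (γ : (Spec (CommRingCat.of E)).presheaf.stalk (⟨q, inferInstance⟩ : PrimeSpectrum E) →+* T)
    (hγ : ∀ e, γ (toStalk E q e) = β e)
    (hβ : β.comp (algebraMap Γ(X, V) E) =
      (algebraMap (X.presheaf.stalk (nbhdMap X hV E (⟨q, inferInstance⟩ : PrimeSpectrum E))) T).comp
        (X.presheaf.germ V _ (nbhdMap_mem X hV E _)).hom) :
    γ.comp ((nbhdMap X hV E).stalkMap (⟨q, inferInstance⟩ : PrimeSpectrum E)).hom =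
      algebraMap (X.presheaf.stalk (nbhdMap X hV E (⟨q, inferInstance⟩ : PrimeSpectrum E))) T := by
  let _ : Algebra Γ(X, V)
      (X.presheaf.stalk (nbhdMap X hV E (⟨q, inferInstance⟩ : PrimeSpectrum E))) :=
    X.presheaf.algebra_section_stalk ⟨_, nbhdMap_mem X hV E _⟩
  have hloc : IsLocalization.AtPrime
      (X.presheaf.stalk (nbhdMap X hV E (⟨q, inferInstance⟩ : PrimeSpectrum E)))
      (hV.primeIdealOf ⟨_, nbhdMap_mem X hV E _⟩).asIdeal :=
    hV.isLocalization_stalk ⟨_, nbhdMap_mem X hV E _⟩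
  apply IsLocalization.ringHom_ext
    (hV.primeIdealOf ⟨_, nbhdMap_mem X hV E (⟨q, inferInstance⟩ : PrimeSpectrum E)⟩).asIdeal.primeCompl
  ext r
  change γ (((nbhdMap X hV E).stalkMap (⟨q, inferInstance⟩ : PrimeSpectrum E)).hom
    (X.presheaf.germ V _ (nbhdMap_mem X hV E _) r)) = _
  rw [stalkMap_germ, hγ]
  exact RingHom.congr_fun hβ r

end Sch

end Groth.Agent.Lib.Helper7.FibBr
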