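import Mathlib
import Groth.Agent.Lib.Helper7.FibBr5

/-!
# Components of fibres of étale neighbourhoods through a point (helper7)
-/

set_option autoImplicit false
set_option maxHeartbeats 400000
universe u

namespace Groth.Agent.Lib.Helper7.FibBr

open AlgebraicGeometry CategoryTheory TopologicalSpace IsLocalRing
open Groth.Agent.Lib.Helper4 Groth.Agent.Lib.Helper37.Hz Groth.Agent.Lib.Helper7.BrCount
open Groth.Agent.Lib.Helper67.FibreStalk

/-- The number of irreducible components of the fibre `F⁻¹(s)` through the point above `u` is the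
number of minimal primes over `m_s O_{U,u}`. -/
theorem encard_fibre_components {U S : Scheme.{u}} (F : U ⟶ S) (u : U) (s : S) (hs : F u = s) :
    {Z : Set ↑(F.fiber s) | Z ∈ irreducibleComponents ↑(F.fiber s) ∧
      ∃ u' ∈ Z, F.fiberι s u' = u}.encard = ENat.card ((fibreIdeal F u).minimalPrimes) := by
  subst hs
  have hset : {Z : Set ↑(F.fiber (F u)) | Z ∈ irreducibleComponents ↑(F.fiber (F u)) ∧
      ∃ u' ∈ Z, F.fiberι (F u) u' = u} =
      {Z : Set ↑(F.fiber (F u)) | Z ∈ irreducibleComponents ↑(F.fiber (F u)) ∧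
        F.asFiber u ∈ Z} := by
    ext Z
    constructor
    · rintro ⟨hZ, u', hu', h⟩
      refine ⟨hZ, ?_⟩
      have : u' = F.asFiber u :=
        (F.fiberι (F u)).isEmbedding.injective (by rw [h, F.fiberι_asFiber])
      rwa [← this]
    · rintro ⟨hZ, h⟩
      exact ⟨hZ, _, h, F.fiberι_asFiber u⟩
  rw [hset, BrCount.encard_eq_card_minimalPrimes]
  obtain ⟨e⟩ := nonempty_ringEquiv F u
  rw [← card_minimalPrimes_ringEquiv e, card_minimalPrimes_quotient]

theorem fibreIdeal_comp {U X S : Scheme.{u}} (g : U ⟶ X) (f : X ⟶ S) (u : U) :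
    fibreIdeal (g ≫ f) u = (fibreIdeal f (g u)).map (g.stalkMap u).hom := by
  unfold fibreIdeal
  rw [Ideal.map_map]
  have h : ((g ≫ f).stalkMap u).hom = (g.stalkMap u).hom.comp (f.stalkMap (g u)).hom := by
    rw [Scheme.Hom.stalkMap_comp]
    rfl
  rw [h]
  rfl

theorem exists_etale_algebra_ideal (X : Scheme.{u}) {V : X.Opens} (hV : IsAffineOpen V) (x : X)
    (hx : x ∈ V)
    (T : Type u) [CommRing T] [IsLocalRing T] [Algebra (X.presheaf.stalk x) T]
    [IsLocalHom (algebraMap (X.presheaf.stalk x) T)] [Module.Flat (X.presheaf.stalk x) T]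
    (hS : HasFactorization (etaleClass (X.presheaf.stalk x)) T) (K : Ideal T) (n : ℕ)
    (hn : (n : ℕ∞) ≤ ENat.card K.minimalPrimes) :
    ∃ (E : Type u) (_ : CommRing E) (_ : Algebra Γ(X, V) E) (_ : Algebra.Etale Γ(X, V) E)
      (β : E →+* T) (q : Ideal E) (_ : q.IsPrime),
      β.comp (algebraMap Γ(X, V) E) =
        (algebraMap (X.presheaf.stalk x) T).comp (X.presheaf.germ V x hx).hom ∧
      q = (maximalIdeal T).comap β ∧
      nbhdMap X hV E (⟨q, inferInstance⟩ : PrimeSpectrum E) = x ∧ β.Flat ∧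
      ∃ (P : Fin n → Ideal T) (e : Fin n → Fin n → E), (∀ j, P j ∈ K.minimalPrimes) ∧
        ∀ j k, β (e j k) ∈ P j ∧ (j ≠ k → β (e j k) ∉ P k) := by
  let _ : Algebra Γ(X, V) (X.presheaf.stalk x) := X.presheaf.algebra_section_stalk ⟨x, hx⟩
  have hloc : IsLocalization.AtPrime (X.presheaf.stalk x) (hV.primeIdealOf ⟨x, hx⟩).asIdeal :=
    hV.isLocalization_stalk ⟨x, hx⟩
  let _ : Algebra Γ(X, V) T :=
    ((algebraMap (X.presheaf.stalk x) T).comp
      (algebraMap Γ(X, V) (X.presheaf.stalk x))).toAlgebra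
  have : IsScalarTower Γ(X, V) (X.presheaf.stalk x) T :=
    IsScalarTower.of_algebraMap_eq (fun _ => rfl)
  have hflatRA : Module.Flat Γ(X, V) (X.presheaf.stalk x) :=
    IsLocalization.flat _ (hV.primeIdealOf ⟨x, hx⟩).asIdeal.primeCompl
  have hflat : Module.Flat Γ(X, V) T := Module.Flat.trans Γ(X, V) (X.presheaf.stalk x) T
  have hRA : EtPBC.IsIndEtale Γ(X, V) (X.presheaf.stalk x) :=
    (isIndEtale_iff_hasFactorization _).mpr
      (hasFactorization_of_isLocalization Γ(X, V)
        (hV.primeIdealOf ⟨x, hx⟩).asIdeal.primeCompl _)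
  have hRS : HasFactorization (etaleClass Γ(X, V)) T :=
    hasFactorization_trans Γ(X, V) (X.presheaf.stalk x) T hRA hS
  obtain ⟨E, _, _, hE, β, P, e, hP, he⟩ := exists_etale_separating Γ(X, V) T hRS K n hn
  have hq : ((maximalIdeal T).comap β.toRingHom).IsPrime := Ideal.comap_isPrime _ _
  have hβflat : β.toRingHom.Flat := by
    letI : Algebra E T := β.toRingHom.toAlgebra
    haveI : IsScalarTower Γ(X, V) E T :=
      IsScalarTower.of_algebraMap_eq (fun r => (β.commutes r).symm)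
    exact Compare.flat_of_weaklyEtale Γ(X, V) E T
  refine ⟨E, inferInstance, inferInstance, hE, β.toRingHom, (maximalIdeal T).comap β.toRingHom, hq,
    ?_, rfl, ?_, hβflat, P, e, hP, he⟩
  · ext r
    exact β.commutes r
  · apply nbhdMap_apply X hV x hx E
    rw [Ideal.comap_comap]
    have h1 : β.toRingHom.comp (algebraMap Γ(X, V) E) = algebraMap Γ(X, V) T := by
      ext r
      exact β.commutes r
    rw [h1, IsScalarTower.algebraMap_eq Γ(X, V) (X.presheaf.stalk x) T, ← Ideal.comap_comap,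
      maximalIdeal_comap (algebraMap (X.presheaf.stalk x) T)]
    exact IsLocalization.AtPrime.comap_maximalIdeal (X.presheaf.stalk x)
      (hV.primeIdealOf ⟨x, hx⟩).asIdeal

theorem le_encard_fibre_of_separating {X S : Scheme.{u}} (f : X ⟶ S) (x : X) {V : X.Opens}
    (hV : IsAffineOpen V) (hxV : x ∈ V) (E : Type u) [CommRing E] [Algebra Γ(X, V) E]
    [Algebra.Etale Γ(X, V) E] (q : Ideal E) [q.IsPrime]
    (hqx : nbhdMap X hV E (⟨q, inferInstance⟩ : PrimeSpectrum E) = x)
    (T : Type u) [CommRing T] [IsLocalRing T] [Algebra (X.presheaf.stalk x) T]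
    (β : E →+* T)
    (hβ : β.comp (algebraMap Γ(X, V) E) =
        (algebraMap (X.presheaf.stalk x) T).comp (X.presheaf.germ V x hxV).hom)
    (hqdef : q = (maximalIdeal T).comap β) (hflat : β.Flat) (n : ℕ)
    (P : Fin n → Ideal T) (e : Fin n → Fin n → E)
    (hP : ∀ j, P j ∈ ((fibreIdeal f x).map (algebraMap (X.presheaf.stalk x) T)).minimalPrimes)
    (he : ∀ j k, β (e j k) ∈ P j ∧ (j ≠ k → β (e j k) ∉ P k)) :
    (n : ℕ∞) ≤ {Z : Set ↑((nbhdMap X hV E ≫ f).fiber (f x)) |
      Z ∈ irreducibleComponents ↑((nbhdMap X hV E ≫ f).fiber (f x)) ∧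
        ∃ u' ∈ Z, (nbhdMap X hV E ≫ f).fiberι (f x) u' =
          (⟨q, inferInstance⟩ : PrimeSpectrum E)}.encard := by
  subst hqx
  have hcount := encard_fibre_components (nbhdMap X hV E ≫ f)
    (⟨q, inferInstance⟩ : PrimeSpectrum E)
    (f (nbhdMap X hV E (⟨q, inferInstance⟩ : PrimeSpectrum E))) rfl
  rw [hcount]
  obtain ⟨γ, hγ1, hγ2⟩ := exists_gamma E q T β hqdef
  have hcomp := gamma_comp_stalkMap X hV E q T β γ hγ1 hβ
  rw [fibreIdeal_comp]
  refine le_card_minimalPrimes_of_flat γ (hγ2 hflat) _ n P ?_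
    (fun j k => toStalk E q (e j k)) ?_
  · intro j
    rw [Ideal.map_map, hcomp]
    exact hP j
  · intro j k
    rw [hγ1]
    exact he j k

end Groth.Agent.Lib.Helper7.FibBr
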