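import Mathlib
import Groth.Agent.Lib.Helper7.FibBr6
import Groth.Agent.Lib.Helper37.Hz53
import Groth.Agent.Lib.Helper98.WERed

/-!
# Branch numbers of fibres are bounded below by component counts on étale neighbourhoods (helper7)
-/

set_option autoImplicit false
set_option maxHeartbeats 400000
universe u

namespace Groth.Agent.Lib.Helper7.FibBr

open AlgebraicGeometry CategoryTheory TopologicalSpace IsLocalRing
open Groth.Agent.Lib.Helper4 Groth.Agent.Lib.Helper37.Hz Groth.Agent.Lib.Helper7.BrCount
open Groth.Agent.Lib.Helper67.FibreStalk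

theorem card_le_numGeomBranchesAt_fibre {U X S : Scheme.{u}} (g : U ⟶ X) [Etale g] (f : X ⟶ S)
    (u : U) :
    ENat.card ((fibreIdeal (g ≫ f) u).minimalPrimes) ≤
      Brnch.numGeomBranchesAt (f.fiber (f (g u))) (f.asFiber (g u)) := by
  let _ : Algebra (X.presheaf.stalk (g u)) (U.presheaf.stalk u) := (g.stalkMap u).hom.toAlgebra
  have hwe : Algebra.WeaklyEtale (X.presheaf.stalk (g u)) (U.presheaf.stalk u) :=
    Groth.Agent.Lib.Helper98.WERed.weaklyEtale_stalkMap g u
  have hloc1 : IsLocalHom (algebraMap (X.presheaf.stalk (g u)) (U.presheaf.stalk u)) := by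
    change IsLocalHom (g.stalkMap u).hom
    infer_instance
  let _ : Algebra (X.presheaf.stalk (g u)) (SHens (U.presheaf.stalk u)) :=
    ((algebraMap (U.presheaf.stalk u) (SHens (U.presheaf.stalk u))).comp
      (g.stalkMap u).hom).toAlgebra
  have htow : IsScalarTower (X.presheaf.stalk (g u)) (U.presheaf.stalk u)
      (SHens (U.presheaf.stalk u)) := IsScalarTower.of_algebraMap_eq (fun _ => rfl)
  have hloc2 : IsLocalHom (algebraMap (X.presheaf.stalk (g u)) (SHens (U.presheaf.stalk u))) := by
    change IsLocalHom ((algebraMap (U.presheaf.stalk u) (SHens (U.presheaf.stalk u))).comp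
      (g.stalkMap u).hom)
    infer_instance
  have hsh : Hensel.IsStrictHenselization (X.presheaf.stalk (g u)) (SHens (U.presheaf.stalk u)) :=
    Groth.Agent.Lib.Helper98.WEStrictHens.isStrictHenselization_of_weaklyEtale
      (X.presheaf.stalk (g u)) (U.presheaf.stalk u) (SHens (U.presheaf.stalk u))
  obtain ⟨e0⟩ := nonempty_ringEquiv f (g u)
  have h1 := numGeomBranches_eq_card' (X.presheaf.stalk (g u)) (fibreIdeal f (g u)) _
    (SHens (U.presheaf.stalk u)) (fibreIdeal_le f (g u)) e0
  have hJ : fibreIdeal (g ≫ f) u ≤ maximalIdeal (U.presheaf.stalk u) := fibreIdeal_le (g ≫ f) u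
  have h2 := numGeomBranches_eq_card (U.presheaf.stalk u) (fibreIdeal (g ≫ f) u)
    (U.presheaf.stalk u ⧸ fibreIdeal (g ≫ f) u) hJ (RingEquiv.refl _)
  have h3 := card_minimalPrimes_le_numGeomBranches (U.presheaf.stalk u ⧸ fibreIdeal (g ≫ f) u)
  rw [card_minimalPrimes_quotient, h2] at h3
  unfold Brnch.numGeomBranchesAt
  rw [h1]
  have hideal : (fibreIdeal (g ≫ f) u).map
      (algebraMap (U.presheaf.stalk u) (SHens (U.presheaf.stalk u))) =
      (fibreIdeal f (g u)).map
        (algebraMap (X.presheaf.stalk (g u)) (SHens (U.presheaf.stalk u))) := by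
    rw [fibreIdeal_comp, Ideal.map_map]
    rfl
  rw [← hideal]
  exact h3

theorem card_le_numBranchesAt_fibre {U X S : Scheme.{u}} (g : U ⟶ X) [Etale g] (f : X ⟶ S)
    (u : U) (hres : Function.Bijective (g.residueFieldMap u)) :
    ENat.card ((fibreIdeal (g ≫ f) u).minimalPrimes) ≤
      Brnch.numBranchesAt (f.fiber (f (g u))) (f.asFiber (g u)) := by
  let _ : Algebra (X.presheaf.stalk (g u)) (U.presheaf.stalk u) := (g.stalkMap u).hom.toAlgebra
  have hloc1 : IsLocalHom (algebraMap (X.presheaf.stalk (g u)) (U.presheaf.stalk u)) := by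
    change IsLocalHom (g.stalkMap u).hom
    infer_instance
  have hAB : HasFactorization (etaleClass (X.presheaf.stalk (g u))) (U.presheaf.stalk u) :=
    hasFactorization_stalkMap g u rfl
  let _ : Algebra (X.presheaf.stalk (g u)) (Hens (U.presheaf.stalk u)) :=
    ((algebraMap (U.presheaf.stalk u) (Hens (U.presheaf.stalk u))).comp
      (g.stalkMap u).hom).toAlgebra
  have htow : IsScalarTower (X.presheaf.stalk (g u)) (U.presheaf.stalk u)
      (Hens (U.presheaf.stalk u)) := IsScalarTower.of_algebraMap_eq (fun _ => rfl)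
  have hloc2 : IsLocalHom (algebraMap (X.presheaf.stalk (g u)) (Hens (U.presheaf.stalk u))) := by
    change IsLocalHom ((algebraMap (U.presheaf.stalk u) (Hens (U.presheaf.stalk u))).comp
      (g.stalkMap u).hom)
    infer_instance
  have hD : HasFactorization (etaleClass (X.presheaf.stalk (g u))) (Hens (U.presheaf.stalk u)) :=
    hasFactorization_trans (X.presheaf.stalk (g u)) (U.presheaf.stalk u)
      (Hens (U.presheaf.stalk u)) ((isIndEtale_iff_hasFactorization _).mpr hAB)
      (hasFactorization_H (U.presheaf.stalk u) _)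
  have hunr : Algebra.FormallyUnramified (X.presheaf.stalk (g u)) (U.presheaf.stalk u) := by
    rw [← RingHom.formallyUnramified_algebraMap, RingHom.algebraMap_toAlgebra]
    exact FormallyUnramified.stalkMap g u
  have heft : Algebra.EssFiniteType (X.presheaf.stalk (g u)) (U.presheaf.stalk u) := by
    rw [← RingHom.essFiniteType_algebraMap, RingHom.algebraMap_toAlgebra]
    exact LocallyOfFiniteType.stalkMap g u
  have hmax : (maximalIdeal (X.presheaf.stalk (g u))).map
      (algebraMap (X.presheaf.stalk (g u)) (Hens (U.presheaf.stalk u))) =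
      maximalIdeal (Hens (U.presheaf.stalk u)) := by
    rw [IsScalarTower.algebraMap_eq (X.presheaf.stalk (g u)) (U.presheaf.stalk u)
      (Hens (U.presheaf.stalk u)), ← Ideal.map_map, Algebra.FormallyUnramified.map_maximalIdeal]
    exact map_maximalIdeal_of_isHenselization (U.presheaf.stalk u) (Hens (U.presheaf.stalk u))
  have hressurj : Function.Surjective (ResidueField.map
      (algebraMap (X.presheaf.stalk (g u)) (Hens (U.presheaf.stalk u)))) := by
    have h1 : ResidueField.map (algebraMap (X.presheaf.stalk (g u)) (Hens (U.presheaf.stalk u))) =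
        (ResidueField.map (algebraMap (U.presheaf.stalk u) (Hens (U.presheaf.stalk u)))).comp
          (ResidueField.map (g.stalkMap u).hom) := by
      rw [← ResidueField.map_comp]
      rfl
    rw [h1]
    exact (residueField_map_bijective_of_isHenselization (U.presheaf.stalk u)
      (Hens (U.presheaf.stalk u))).2.comp hres.2
  have hH : Hensel.IsHenselization (X.presheaf.stalk (g u)) (Hens (U.presheaf.stalk u)) :=
    isHenselization_of_hasFactorization (X.presheaf.stalk (g u)) (Hens (U.presheaf.stalk u)) hD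
      inferInstance hmax hressurj
  obtain ⟨e0⟩ := nonempty_ringEquiv f (g u)
  have h1 := numBranches_eq_card' (X.presheaf.stalk (g u)) (fibreIdeal f (g u)) _
    (Hens (U.presheaf.stalk u)) (fibreIdeal_le f (g u)) e0
  have hJ : fibreIdeal (g ≫ f) u ≤ maximalIdeal (U.presheaf.stalk u) := fibreIdeal_le (g ≫ f) u
  have h2 := numBranches_eq_card (U.presheaf.stalk u) (fibreIdeal (g ≫ f) u)
    (U.presheaf.stalk u ⧸ fibreIdeal (g ≫ f) u) hJ (RingEquiv.refl _)
  have h3 := card_minimalPrimes_le_numBranches (U.presheaf.stalk u ⧸ fibreIdeal (g ≫ f) u)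
  rw [card_minimalPrimes_quotient, h2] at h3
  unfold Brnch.numBranchesAt
  rw [h1]
  have hideal : (fibreIdeal (g ≫ f) u).map
      (algebraMap (U.presheaf.stalk u) (Hens (U.presheaf.stalk u))) =
      (fibreIdeal f (g u)).map
        (algebraMap (X.presheaf.stalk (g u)) (Hens (U.presheaf.stalk u))) := by
    rw [fibreIdeal_comp, Ideal.map_map]
    rfl
  rw [← hideal]
  exact h3

/-- The étale neighbourhood built from a map to the henselization has trivial residue field
extension. -/
theorem residueFieldMap_bijective_of_hens (X : Scheme.{u}) {V : X.Opens} (hV : IsAffineOpen V)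
    (x : X) (hxV : x ∈ V) (E : Type u) [CommRing E] [Algebra Γ(X, V) E]
    [Algebra.Etale Γ(X, V) E] (q : Ideal E) [q.IsPrime]
    (β : E →+* Hens (X.presheaf.stalk x))
    (hβ : β.comp (algebraMap Γ(X, V) E) =
      (algebraMap (X.presheaf.stalk x) (Hens (X.presheaf.stalk x))).comp
        (X.presheaf.germ V x hxV).hom)
    (hqdef : q = (maximalIdeal (Hens (X.presheaf.stalk x))).comap β) :
    Function.Bijective
      ((nbhdMap X hV E).residueFieldMap (⟨q, inferInstance⟩ : PrimeSpectrum E)) := by
  apply residueFieldMap_nbhdMap_bijective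
  intro a
  let _ : Algebra Γ(X, V) (X.presheaf.stalk x) := X.presheaf.algebra_section_stalk ⟨x, hxV⟩
  have hloc : IsLocalization.AtPrime (X.presheaf.stalk x) (hV.primeIdealOf ⟨x, hxV⟩).asIdeal :=
    hV.isLocalization_stalk ⟨x, hxV⟩
  have hβ' : ∀ r : Γ(X, V), β (algebraMap Γ(X, V) E r) =
      algebraMap (X.presheaf.stalk x) (Hens (X.presheaf.stalk x))
        (algebraMap Γ(X, V) (X.presheaf.stalk x) r) := fun r => RingHom.congr_fun hβ r
  obtain ⟨y, hy⟩ := exists_sub_mem_maximalIdeal_of_isHenselization (X.presheaf.stalk x)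
    (Hens (X.presheaf.stalk x)) (β a)
  obtain ⟨⟨r, s⟩, hrs⟩ := IsLocalization.surj (hV.primeIdealOf ⟨x, hxV⟩).asIdeal.primeCompl y
  have hsu : IsUnit (algebraMap Γ(X, V) (X.presheaf.stalk x) (s : Γ(X, V))) :=
    IsLocalization.map_units (X.presheaf.stalk x) s
  refine ⟨r, s, ?_, ?_⟩
  · intro hmem
    rw [hqdef] at hmem
    have h2 : β (algebraMap Γ(X, V) E (s : Γ(X, V))) ∈ maximalIdeal (Hens (X.presheaf.stalk x)) :=
      hmem
    rw [hβ'] at h2
    exact h2 (hsu.map _)
  · rw [hqdef]
    change β (algebraMap Γ(X, V) E (s : Γ(X, V)) * a - algebraMap Γ(X, V) E r) ∈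
      maximalIdeal (Hens (X.presheaf.stalk x))
    rw [map_sub, map_mul, hβ', hβ']
    have h3 : algebraMap (X.presheaf.stalk x) (Hens (X.presheaf.stalk x))
          (algebraMap Γ(X, V) (X.presheaf.stalk x) (s : Γ(X, V))) * β a -
        algebraMap (X.presheaf.stalk x) (Hens (X.presheaf.stalk x))
          (algebraMap Γ(X, V) (X.presheaf.stalk x) r) =
        algebraMap (X.presheaf.stalk x) (Hens (X.presheaf.stalk x))
          (algebraMap Γ(X, V) (X.presheaf.stalk x) (s : Γ(X, V))) *
          (β a - algebraMap (X.presheaf.stalk x) (Hens (X.presheaf.stalk x)) y) := by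
      rw [← hrs, map_mul]
      ring
    rw [h3]
    exact Ideal.mul_mem_left _ _ hy

end Groth.Agent.Lib.Helper7.FibBr
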