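import Mathlib

/-!
# Points closed in their fibre have finite residue field extensions (helper7)

* `finite_residueFieldMap_of_isClosed_asFiber`: if `f.asFiber x` is a closed point of the fibre
  `f.fiber (f x)` of a morphism locally of finite type, then `κ(x)` is finite over `κ(f x)`.
* `exists_mem_isClosed_asFiber`: every nonempty closed subset of the source contains such a point.
* `exists_mem_formallyUnramified`: in characteristic zero the extension is formally unramified.
-/

set_option autoImplicit false
set_option maxHeartbeats 800000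
universe u

open AlgebraicGeometry CategoryTheory Limits

namespace Groth.Agent.Lib.Helper7.FibClosedPt

variable {Z S : Scheme.{u}} (f : Z ⟶ S)

theorem finite_residueFieldMap_of_isClosed_asFiber [LocallyOfFiniteType f] (x : Z)
    (hx : IsClosed ({f.asFiber x} : Set ↥(f.fiber (f x)))) :
    (f.residueFieldMap x).hom.Finite := by
  haveI : IsPreimmersion (f.asFiberHom x ≫ f.fiberι (f x)) := by
    rw [f.asFiberHom_fiberι]; infer_instance
  haveI : IsPreimmersion (f.asFiberHom x) :=
    IsPreimmersion.of_comp (f.asFiberHom x) (f.fiberι (f x))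
  have hrange : Set.range (f.asFiberHom x) = {f.asFiber x} := by
    ext w
    constructor
    · rintro ⟨p, rfl⟩
      exact f.asFiberHom_apply x p
    · rintro rfl
      exact ⟨IsLocalRing.closedPoint _, f.asFiberHom_apply x _⟩
  haveI : IsClosedImmersion (f.asFiberHom x) :=
    IsClosedImmersion.of_isPreimmersion _ (hrange ▸ hx)
  haveI : LocallyOfFiniteType (f.fiberToSpecResidueField (f x)) :=
    MorphismProperty.pullback_snd _ _ inferInstance
  haveI : LocallyOfFiniteType (f.asFiberHom x ≫ f.fiberToSpecResidueField (f x)) := inferInstance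
  have hfin : IsFinite (f.asFiberHom x ≫ f.fiberToSpecResidueField (f x)) :=
    isFinite_iff_locallyOfFiniteType_of_jacobsonSpace.mpr inferInstance
  rw [f.asFiberHom_fiberToSpecResidueField, IsFinite.SpecMap_iff] at hfin
  exact hfin

theorem exists_mem_isClosed_asFiber [LocallyOfFiniteType f] (C : Set Z) (hC : IsClosed C)
    (hne : C.Nonempty) :
    ∃ x ∈ C, IsClosed ({f.asFiber x} : Set ↥(f.fiber (f x))) := by
  obtain ⟨z, hz⟩ := hne
  have hCF : IsClosed ((f.fiberι (f z)) ⁻¹' C) := hC.preimage (f.fiberι (f z)).continuous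
  have hCFne : ((f.fiberι (f z)) ⁻¹' C).Nonempty :=
    ⟨f.asFiber z, by rw [Set.mem_preimage, f.fiberι_asFiber]; exact hz⟩
  obtain ⟨y, hyC, hy⟩ := nonempty_inter_closedPoints hCFne hCF.isLocallyClosed
  have hy' : IsClosed ({y} : Set ↥(f.fiber (f z))) := hy
  obtain ⟨D, hD, hDy⟩ := (f.fiberι (f z)).isEmbedding.isInducing.isClosed_iff.mp hy'
  refine ⟨f.fiberι (f z) y, hyC, ?_⟩
  set x := f.fiberι (f z) y with hxdef
  have hfx : f x = f z := by
    have : x ∈ Set.range (f.fiberι (f z)) := ⟨y, rfl⟩
    rw [f.range_fiberι] at this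
    exact this
  have hDx : ∀ w : Z, w ∈ D → f w = f z → w = x := by
    intro w hwD hw
    have : w ∈ Set.range (f.fiberι (f z)) := by rw [f.range_fiberι]; exact hw
    obtain ⟨y', rfl⟩ := this
    have : y' ∈ (f.fiberι (f z)) ⁻¹' D := hwD
    rw [hDy] at this
    rw [Set.mem_singleton_iff.mp this]
  have hxD : x ∈ D := by
    have : y ∈ (f.fiberι (f z)) ⁻¹' D := by rw [hDy]; rfl
    exact this
  have : ({f.asFiber x} : Set ↥(f.fiber (f x))) = (f.fiberι (f x)) ⁻¹' D := by
    ext w
    simp only [Set.mem_singleton_iff, Set.mem_preimage]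
    constructor
    · rintro rfl
      rw [f.fiberι_asFiber]; exact hxD
    · intro hw
      apply (f.fiberι (f x)).isEmbedding.injective
      rw [f.fiberι_asFiber]
      apply hDx _ hw
      have : f.fiberι (f x) w ∈ Set.range (f.fiberι (f x)) := ⟨w, rfl⟩
      rw [f.range_fiberι] at this
      exact this.trans hfx
  rw [this]
  exact hD.preimage (f.fiberι (f x)).continuous

theorem exists_mem_formallyUnramified {k : Type u} [Field k] [CharZero k]
    (σ : S ⟶ Spec (CommRingCat.of k)) [LocallyOfFiniteType f] (C : Set Z) (hC : IsClosed C)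
    (hne : C.Nonempty) :
    ∃ x ∈ C, letI := (f.residueFieldMap x).hom.toAlgebra
      Algebra.FormallyUnramified (S.residueField (f x)) (Z.residueField x) := by
  obtain ⟨x, hxC, hx⟩ := exists_mem_isClosed_asFiber f C hC hne
  refine ⟨x, hxC, ?_⟩
  have hfin := finite_residueFieldMap_of_isClosed_asFiber f x hx
  let φ : CommRingCat.of k ⟶ S.residueField (f x) :=
    (Scheme.ΓSpecIso (CommRingCat.of k)).inv ≫ σ.appTop ≫
      S.presheaf.germ ⊤ (f x) trivial ≫ S.residue (f x)
  haveI : CharZero (S.residueField (f x)) :=
    charZero_of_injective_ringHom (f := φ.hom) (RingHom.injective _)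
  algebraize [(f.residueFieldMap x).hom]
  haveI : Module.Finite (S.residueField (f x)) (Z.residueField x) := hfin
  haveI : Algebra.IsSeparable (S.residueField (f x)) (Z.residueField x) :=
    Algebra.IsAlgebraic.isSeparable_of_perfectField
  exact Algebra.FormallyUnramified.of_isSeparable _ _

end Groth.Agent.Lib.Helper7.FibClosedPt
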