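/-
helper7: counting points of geometric fibres of locally quasi-finite morphisms.
-/
import Mathlib.AlgebraicGeometry.Morphisms.QuasiFinite
import Mathlib.AlgebraicGeometry.PullbackCarrier
import Mathlib.RingTheory.ZariskisMainTheorem
import Mathlib.RingTheory.Spectrum.Prime.Noetherian
import Mathlib.Data.Set.Card.Arithmetic

set_option autoImplicit false
universe u

namespace Groth.Agent.Lib.Helper7.GeomFibreCount

open CategoryTheory Limits AlgebraicGeometry TensorProduct

/-! ### Ring level: number of primes of a finite dimensional algebra -/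

theorem card_primeSpectrum_le_finrank (F A : Type*) [Field F] [CommRing A] [Algebra F A]
    [Module.Finite F A] : ENat.card (PrimeSpectrum A) ≤ Module.finrank F A := by
  have : IsArtinianRing A := IsArtinianRing.of_finite F A
  have : Finite (PrimeSpectrum A) := inferInstance
  let _ := Fintype.ofFinite (PrimeSpectrum A)
  rw [IsArtinianRing.finrank_eq_sum_primeSpectrum (R := A) F]
  rw [ENat.card_eq_coe_fintype_card]
  norm_cast
  calc Fintype.card (PrimeSpectrum A) = ∑ _p : PrimeSpectrum A, 1 := by simp
    _ ≤ _ := Finset.sum_le_sum fun p _ => ?_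
  have : Module.Finite F (Localization.AtPrime p.asIdeal) :=
    Module.Finite.of_surjective (Algebra.algHom F A (Localization.AtPrime p.asIdeal)).toLinearMap
      (IsArtinianRing.localization_surjective p.asIdeal.primeCompl (Localization.AtPrime p.asIdeal))
  exact Module.finrank_pos

theorem card_primeSpectrum_baseChange_le (R S K : Type*) [CommRing R] [CommRing S] [Field K]
    [Algebra R S] [Algebra R K] {n : ℕ} (s : Fin n → S)
    (hs : Submodule.span R (Set.range s) = ⊤) :
    ENat.card (PrimeSpectrum (K ⊗[R] S)) ≤ n := by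
  classical
  have : Module.Finite R S := ⟨⟨(Finset.univ.image s), by simpa using hs⟩⟩
  refine (card_primeSpectrum_le_finrank K (K ⊗[R] S)).trans ?_
  have h : Submodule.span K (Set.range fun i => (1 : K) ⊗ₜ[R] s i) = ⊤ := by
    have := Submodule.baseChange_span (R := R) (A := K) (Set.range s)
    rw [hs, Submodule.baseChange_top] at this
    rw [this, ← Set.range_comp]
    rfl
  exact_mod_cast (finrank_le_of_span_eq_top h).trans (by simp)


/-! ### Scheme level: morphisms whose geometric fibres have a bounded number of points -/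

/-- `g : W ⟶ Y` has at most `n` points in every fibre over a field-valued point of `Y`. -/
def GeomBounded {W Y : Scheme.{u}} (g : W ⟶ Y) (n : ℕ) : Prop :=
  ∀ (K : Type u) [Field K] (y : Spec (.of K) ⟶ Y), ENat.card ↥(pullback g y) ≤ n

theorem GeomBounded.card_le {W Y : Scheme.{u}} {g : W ⟶ Y} {n : ℕ} (h : GeomBounded g n)
    {K : Type u} [Field K] {y : Spec (.of K) ⟶ Y} {P : Scheme.{u}} {a : P ⟶ W}
    {b : P ⟶ Spec (.of K)} (hP : IsPullback a b g y) : ENat.card ↥P ≤ n := by
  have e : P ≅ pullback g y := hP.isoPullback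
  rw [ENat.card_congr (Scheme.homeoOfIso e).toEquiv]
  exact h K y

/-- A finite ring map with `n` module generators gives a `GeomBounded` morphism. -/
theorem geomBounded_Spec_map_of_span (R S : Type u) [CommRing R] [CommRing S] [Algebra R S]
    {n : ℕ} (s : Fin n → S) (hs : Submodule.span R (Set.range s) = ⊤) :
    GeomBounded (Spec.map (CommRingCat.ofHom (algebraMap R S))) n := by
  intro K _ y
  obtain ⟨φ, rfl⟩ := Spec.map_surjective y
  letI : Algebra R K := φ.hom.toAlgebra
  have hφ : φ = CommRingCat.ofHom (algebraMap R K) := rfl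
  rw [hφ]
  have e : pullback (Spec.map (CommRingCat.ofHom (algebraMap R S)))
      (Spec.map (CommRingCat.ofHom (algebraMap R K))) ≅ Spec (.of (K ⊗[R] S)) :=
    pullbackSymmetry _ _ ≪≫ pullbackSpecIso R K S
  rw [ENat.card_congr (Scheme.homeoOfIso e).toEquiv]
  exact card_primeSpectrum_baseChange_le R S K s hs


/-- Precomposing with an open immersion preserves `GeomBounded`. -/
theorem GeomBounded.comp_of_isOpenImmersion {W' W Y : Scheme.{u}} (j : W' ⟶ W)
    [IsOpenImmersion j] {g : W ⟶ Y} {n : ℕ} (h : GeomBounded g n) : GeomBounded (j ≫ g) n := by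
  intro K _ y
  have h1 : IsPullback (pullback.fst j (pullback.fst g y)) (pullback.snd j (pullback.fst g y))
      j (pullback.fst g y) := IsPullback.of_hasPullback _ _
  have h2 : IsPullback (pullback.fst g y) (pullback.snd g y) g y := IsPullback.of_hasPullback _ _
  have h3 := h1.paste_vert h2
  have e : pullback j (pullback.fst g y) ≅ pullback (j ≫ g) y := h3.isoPullback
  rw [← ENat.card_congr (Scheme.homeoOfIso e).toEquiv]
  refine le_trans ?_ (h K y)
  exact ENat.card_le_card_of_injective
    (pullback.snd j (pullback.fst g y)).isOpenEmbedding.injective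

theorem isPullback_of_comp_mono {C : Type*} [Category C] {P W V Y S : C} {a : P ⟶ W}
    {b : P ⟶ S} {g : W ⟶ V} {y' : S ⟶ V} (i : V ⟶ Y) [Mono i]
    (h : IsPullback a b (g ≫ i) (y' ≫ i)) : IsPullback a b g y' := by
  refine ⟨⟨by rw [← cancel_mono i, Category.assoc, Category.assoc, h.w]⟩, ⟨?_⟩⟩
  refine PullbackCone.IsLimit.mk _ (fun s => h.lift s.fst s.snd (by
      rw [← Category.assoc, s.condition, Category.assoc])) (fun s => h.lift_fst _ _ _)
    (fun s => h.lift_snd _ _ _) (fun s m h1 h2 => ?_)
  apply h.hom_ext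
  · rw [h1, h.lift_fst]
  · rw [h2, h.lift_snd]

/-- Postcomposing with an open immersion preserves `GeomBounded`. -/
theorem GeomBounded.comp_isOpenImmersion {W V Y : Scheme.{u}} {g : W ⟶ V} {n : ℕ}
    (h : GeomBounded g n) (i : V ⟶ Y) [IsOpenImmersion i] : GeomBounded (g ≫ i) n := by
  intro K _ y
  by_cases hP : IsEmpty ↥(pullback (g ≫ i) y)
  · rw [(ENat.card_eq_zero_iff_empty _).mpr hP]
    exact zero_le
  rw [not_isEmpty_iff] at hP
  obtain ⟨z⟩ := hP
  have hz : (y ((pullback.snd (g ≫ i) y) z)) = i (g ((pullback.fst (g ≫ i) y) z)) := by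
    rw [← Scheme.Hom.comp_apply, ← Scheme.Hom.comp_apply, ← Scheme.Hom.comp_apply,
      pullback.condition]
  have hr : Set.range y ⊆ Set.range i := by
    rintro _ ⟨t, rfl⟩
    have : t = (pullback.snd (g ≫ i) y) z := Subsingleton.elim _ _
    rw [this, hz]
    exact ⟨_, rfl⟩
  have hy : IsOpenImmersion.lift i y hr ≫ i = y := IsOpenImmersion.lift_fac _ _ _
  have h2 : IsPullback (pullback.fst (g ≫ i) y) (pullback.snd (g ≫ i) y) (g ≫ i)
      (IsOpenImmersion.lift i y hr ≫ i) := by
    rw [hy]
    exact IsPullback.of_hasPullback _ _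
  exact h.card_le (isPullback_of_comp_mono i h2)

/-- Assembling `GeomBounded` along a finite jointly surjective family. -/
theorem card_le_sum_of_cover {X Y : Scheme.{u}} (f : X ⟶ Y) {ι : Type*} (t : Finset ι)
    (W : ι → Scheme.{u}) (j : ∀ i, W i ⟶ X) (n : ι → ℕ)
    (hcov : ∀ x : X, ∃ i ∈ t, x ∈ Set.range (j i))
    (hb : ∀ i ∈ t, GeomBounded (j i ≫ f) (n i))
    {K : Type u} [Field K] {y : Spec (.of K) ⟶ Y} {Z : Scheme.{u}} {p : Z ⟶ X}
    {q : Z ⟶ Spec (.of K)} (hZ : IsPullback p q f y) :
    ENat.card ↥Z ≤ (∑ i ∈ t, n i : ℕ) := by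
  classical
  have hcovZ : (Set.univ : Set Z) ⊆ ⋃ i ∈ t, Set.range (pullback.snd (j i) p) := by
    intro z _
    obtain ⟨i, hi, hx⟩ := hcov (p z)
    simp only [Set.mem_iUnion]
    refine ⟨i, hi, ?_⟩
    rw [Scheme.Pullback.range_snd]
    exact hx
  have hcard : ∀ i ∈ t, (Set.range (pullback.snd (j i) p)).encard ≤ n i := by
    intro i hi
    have h1 : IsPullback (pullback.fst (j i) p) (pullback.snd (j i) p) (j i) p :=
      IsPullback.of_hasPullback _ _
    have h3 := h1.paste_vert hZ
    have := (hb i hi).card_le h3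
    refine le_trans ?_ this
    rw [← Set.image_univ]
    refine (Set.encard_image_le _ _).trans ?_
    rw [Set.encard_univ]
  rw [← Set.encard_univ]
  refine (Set.encard_le_encard hcovZ).trans ?_
  refine (Finset.set_encard_biUnion_le t _).trans ?_
  push_cast
  exact Finset.sum_le_sum hcard


/-! ### Local structure of quasi-finite ring maps (from the ring-level Zariski main theorem) -/

theorem exists_finite_factorization (R S : Type u) [CommRing R] [CommRing S] [Algebra R S]
    [Algebra.FiniteType R S] [Algebra.QuasiFinite R S] (q : Ideal S) [q.IsPrime] :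
    ∃ r : S, r ∉ q ∧ ∀ (T : Type u) [CommRing T] [Algebra S T] [IsLocalization.Away r T],
      ∃ (S' : Type u) (_ : CommRing S') (_ : Algebra R S') (n : ℕ) (s : Fin n → S')
        (_ : Submodule.span R (Set.range s) = ⊤) (ψ : S' →+* T),
        IsOpenImmersion (Spec.map (CommRingCat.ofHom ψ)) ∧
          ψ.comp (algebraMap R S') = (algebraMap S T).comp (algebraMap R S) := by
  have : Algebra.QuasiFiniteAt R q := inferInstance
  obtain ⟨S', hS', r, hrq, hbij⟩ :=
    Algebra.QuasiFiniteAt.exists_fg_and_exists_notMem_and_awayMap_bijective (R := R) q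
  refine ⟨r.1, hrq, fun T _ _ _ => ?_⟩
  have hfin : Module.Finite R S' := ⟨(Submodule.fg_top _).mpr hS'⟩
  obtain ⟨n, s, hs⟩ := Module.Finite.exists_fin (R := R) (M := S')
  let e1 : Localization.Away r ≃+* Localization.Away (S'.val.toRingHom r) :=
    RingEquiv.ofBijective _ hbij
  have hloc : IsLocalization (Submonoid.powers (S'.val.toRingHom r)) T :=
    ‹IsLocalization.Away r.1 T›
  let e2 : Localization.Away (S'.val.toRingHom r) ≃ₐ[S] T :=
    IsLocalization.algEquiv (.powers (S'.val.toRingHom r)) _ _
  let e : Localization.Away r ≃+* T := e1.trans e2.toRingEquiv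
  refine ⟨S', inferInstance, inferInstance, n, s, hs,
    e.toRingHom.comp (algebraMap S' (Localization.Away r)), ?_, ?_⟩
  · have : CommRingCat.ofHom (e.toRingHom.comp (algebraMap S' (Localization.Away r))) =
        CommRingCat.ofHom (algebraMap S' (Localization.Away r)) ≫ e.toCommRingCatIso.hom := rfl
    rw [this, Spec.map_comp]
    infer_instance
  · ext a
    simp only [RingHom.coe_comp, Function.comp_apply, RingEquiv.toRingHom_eq_coe, RingHom.coe_coe]
    have h1 : e1 (algebraMap S' (Localization.Away r) (algebraMap R S' a)) =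
        algebraMap S (Localization.Away (S'.val.toRingHom r)) (algebraMap R S a) := by
      change Localization.awayMap S'.val.toRingHom r _ = _
      rw [Localization.awayMap, IsLocalization.Away.map, IsLocalization.map_eq]
      rfl
    change e2 (e1 _) = _
    rw [h1, AlgEquiv.commutes]


/-- Every point of the source of a locally quasi-finite morphism locally of finite type has an
affine open neighbourhood on which the geometric fibres have a bounded number of points. -/
theorem exists_geomBounded_nhd {X Y : Scheme.{u}} (f : X ⟶ Y) [LocallyQuasiFinite f]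
    [LocallyOfFiniteType f] (x : X) :
    ∃ (W : X.Opens) (hW : IsAffineOpen W) (n : ℕ),
      x ∈ W ∧ GeomBounded (hW.fromSpec ≫ f) n := by
  obtain ⟨V, hV, hxV, -⟩ := (TopologicalSpace.Opens.isBasis_iff_nbhd.mp Y.isBasis_affineOpens)
    (show f x ∈ (⊤ : Y.Opens) from trivial)
  obtain ⟨U, hU, hxU, hUV⟩ := (TopologicalSpace.Opens.isBasis_iff_nbhd.mp X.isBasis_affineOpens)
    (show x ∈ f ⁻¹ᵁ V from hxV)
  have hft : (f.appLE V U hUV).hom.FiniteType := f.finiteType_appLE hV hU hUV
  have hqf : (f.appLE V U hUV).hom.QuasiFinite := LocallyQuasiFinite.quasiFinite_appLE hV hU hUV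
  algebraize [(f.appLE V U hUV).hom]
  let q := hU.primeIdealOf ⟨x, hxU⟩
  obtain ⟨r, hrq, H⟩ := exists_finite_factorization Γ(Y, V) Γ(X, U) q.asIdeal
  have hW : IsAffineOpen (X.basicOpen r) := hU.basicOpen r
  have hle : X.basicOpen r ≤ U := X.basicOpen_le r
  letI : Algebra Γ(X, U) Γ(X, X.basicOpen r) := (X.presheaf.map (homOfLE hle).op).hom.toAlgebra
  have hloc : IsLocalization.Away r Γ(X, X.basicOpen r) := hU.isLocalization_basicOpen r
  obtain ⟨S', _, _, n, s, hs, ψ, hψ1, hψ2⟩ := H Γ(X, X.basicOpen r)
  refine ⟨X.basicOpen r, hW, n, ?_, ?_⟩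
  · have h1 : hU.fromSpec q = x := hU.fromSpec_primeIdealOf ⟨x, hxU⟩
    have h2 : q ∈ hU.fromSpec ⁻¹ᵁ X.basicOpen r := by
      rw [hU.fromSpec_preimage_basicOpen]
      exact hrq
    rw [← h1]
    exact h2
  · have hfac : hW.fromSpec ≫ f = (Spec.map (CommRingCat.ofHom ψ) ≫
        Spec.map (CommRingCat.ofHom (algebraMap Γ(Y, V) S'))) ≫ hV.fromSpec := by
      rw [← IsAffineOpen.SpecMap_appLE_fromSpec f hV hW (hle.trans hUV), ← Spec.map_comp]
      congr 2
      rw [← f.appLE_map hUV (homOfLE hle).op]
      ext a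
      exact (congrFun (congrArg DFunLike.coe hψ2) a).symm
    rw [hfac]
    exact ((geomBounded_Spec_map_of_span Γ(Y, V) S' s hs).comp_of_isOpenImmersion
      (Spec.map (CommRingCat.ofHom ψ))).comp_isOpenImmersion hV.fromSpec


/-- Global bound on the number of points of the geometric fibres, for quasi-compact source. -/
theorem exists_bound {X Y : Scheme.{u}} (f : X ⟶ Y) [LocallyQuasiFinite f]
    [LocallyOfFiniteType f] [CompactSpace X] :
    ∃ d : ℕ, ∀ (K : Type u) [Field K] (y : Spec (.of K) ⟶ Y) (Z : Scheme.{u}) (p : Z ⟶ X)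
      (q : Z ⟶ Spec (.of K)), IsPullback p q f y → ENat.card ↥Z ≤ d := by
  choose W hW n hxW hb using exists_geomBounded_nhd f
  obtain ⟨t, ht⟩ := isCompact_univ.elim_finite_subcover (fun x => ((W x : X.Opens) : Set X))
    (fun x => (W x).isOpen) (fun x _ => Set.mem_iUnion.mpr ⟨x, hxW x⟩)
  refine ⟨∑ i ∈ t, n i, fun K _ y Z p q hZ => ?_⟩
  refine card_le_sum_of_cover f t (fun i => Spec Γ(X, W i)) (fun i => (hW i).fromSpec) n ?_
    (fun i _ => hb i) hZ
  intro x
  have := ht (Set.mem_univ x)
  simp only [Set.mem_iUnion] at this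
  obtain ⟨i, hi, hx⟩ := this
  exact ⟨i, hi, by rw [(hW i).range_fromSpec]; exact hx⟩

/-! ### Discrete spaces -/

theorem encard_irreducibleComponents_of_discrete (α : Type*) [TopologicalSpace α]
    [DiscreteTopology α] : (irreducibleComponents α).encard = ENat.card α := by
  have h : irreducibleComponents α = Set.range (fun x : α => ({x} : Set α)) := by
    ext s
    constructor
    · intro hs
      obtain ⟨x, rfl⟩ := isIrreducible_iff_singleton.mp hs.1
      exact ⟨x, rfl⟩
    · rintro ⟨x, rfl⟩
      refine ⟨isIrreducible_singleton, fun t ht hxt => ?_⟩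
      obtain ⟨y, rfl⟩ := isIrreducible_iff_singleton.mp ht
      have hxy : x = y := hxt rfl
      subst hxy
      exact le_rfl
  rw [h, ← Set.image_univ, Set.singleton_injective.encard_image, Set.encard_univ]

theorem card_connectedComponents_of_discrete (α : Type*) [TopologicalSpace α]
    [DiscreteTopology α] : ENat.card (ConnectedComponents α) = ENat.card α := by
  refine (ENat.card_congr (Equiv.ofBijective (ConnectedComponents.mk (α := α)) ⟨?_, ?_⟩)).symm
  · intro x y hxy
    have := ConnectedComponents.coe_eq_coe'.mp hxy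
    rw [connectedComponent_eq_singleton] at this
    exact this
  · exact ConnectedComponents.surjective_coe

end Groth.Agent.Lib.Helper7.GeomFibreCount
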