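import Mathlib
import Groth.Agent.Lib.Helper70.GeomCount2

/-!
# The geometric number of points of a finite étale morphism is locally constant (helper7)

Induction on the number of geometric points, splitting off the diagonal of `X ×_Y X → X`.
-/

set_option autoImplicit false
set_option maxHeartbeats 800000

open CategoryTheory CategoryTheory.Limits AlgebraicGeometry Opposite IsLocalRing Topology

universe u

namespace Groth.Agent.Lib.Helper7.FinEtCount

open Groth.Agent.Lib.Helper70.GeomPts Groth.Agent.Lib.Helper70.Weighting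
  Groth.Agent.Lib.Helper70.WeightingLSC Groth.Agent.Lib.Helper70.UniquePoint
  Groth.Agent.Lib.Helper70.WeightingBC Groth.Agent.Lib.Helper70.WeightingBC2
  Groth.Agent.Lib.Helper70.WeightingFinite

set_option backward.isDefEq.respectTransparency.types false in
/-- the fibre integral of one along an isomorphism is one -/
lemma fibreIntegral_one_of_isIso {P T : Scheme.{u}} (φ : P ⟶ T) [IsIso φ] (v : T) :
    MoreMor.fibreIntegral φ (fun _ => 1) v = 1 := by
  obtain ⟨Ω, _, _, vb, rfl⟩ := exists_geometric_point v
  have hfin : (φ ⁻¹' {vb (closedPoint Ω)}).Finite := φ.finite_preimage_singleton _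
  rw [← card_gpts_eq_fibreIntegral_one Ω φ vb hfin]
  have : Nat.card (GPts Ω φ vb) = 1 := by
    rw [Nat.card_eq_one_iff_unique]
    refine ⟨⟨fun a b => ?_⟩, ⟨⟨vb ≫ inv φ, by simp⟩⟩⟩
    apply Subtype.ext
    rw [← cancel_mono φ, a.2, b.2]
  rw [this]
  rfl

set_option backward.isDefEq.respectTransparency.types false in
theorem const_aux (n : ℕ) : ∀ {X Y : Scheme.{u}} (f : X ⟶ Y) [IsFinite f] [Etale f] (y : Y),
    MoreMor.fibreIntegral f (fun _ => 1) y = n →
    ∃ V : Y.Opens, y ∈ V ∧ ∀ z ∈ V, MoreMor.fibreIntegral f (fun _ => 1) z = n := by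
  induction n with
  | zero =>
    intro X Y f _ _ y hy
    have hyr : y ∉ Set.range f := by
      rintro ⟨x, rfl⟩
      have := le_fibreIntegral f (fun _ => 1) (fun _ => zero_le_one) x
        (f.finite_preimage_singleton _)
      rw [hy] at this
      simp at this
    have hcl : IsClosed (Set.range f) := f.isClosedMap.isClosed_range
    refine ⟨⟨(Set.range f)ᶜ, hcl.isOpen_compl⟩, hyr, fun z hz => ?_⟩
    rw [fibreIntegral_eq_zero_of_not_mem_range f _ z hz]
    rfl
  | succ n ih =>
    intro X Y f _ _ y hy
    have hfin : ∀ v : Y, (f ⁻¹' {v}).Finite := fun v => f.finite_preimage_singleton v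
    obtain ⟨x, rfl⟩ : y ∈ Set.range f := by
      by_contra h
      rw [fibreIntegral_eq_zero_of_not_mem_range f _ y h] at hy
      have : (0 : ℤ) = (n : ℤ) + 1 := by exact_mod_cast hy
      omega
    obtain ⟨π, hπ⟩ : ∃ π : pullback f f ⟶ X, π = pullback.snd f f := ⟨_, rfl⟩
    haveI : IsFinite π := by rw [hπ]; infer_instance
    haveI : Etale π := by rw [hπ]; infer_instance
    have hbc : ∀ x' : X, MoreMor.fibreIntegral π (fun _ => 1) x' =
        MoreMor.fibreIntegral f (fun _ => 1) (f x') := fun x' => by
      rw [hπ]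
      exact fibreIntegral_base_change f hfin (pullback.snd f f) (pullback.fst f f) f
        (IsPullback.of_hasPullback f f) (fun _ => 1) x'
    haveI : IsOpenImmersion (pullback.diagonal f) := inferInstance
    haveI : IsClosedImmersion (pullback.diagonal f) := inferInstance
    obtain ⟨A, hA⟩ : ∃ A : (pullback f f).Opens, A = (pullback.diagonal f).opensRange := ⟨_, rfl⟩
    have hAcl : IsClosed (A : Set ↥(pullback f f)) := by
      rw [hA]
      exact (pullback.diagonal f).isClosedEmbedding.isClosed_range
    obtain ⟨B, hB⟩ : ∃ B : (pullback f f).Opens, (B : Set ↥(pullback f f)) = (A : Set _)ᶜ :=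
      ⟨⟨(A : Set _)ᶜ, hAcl.isOpen_compl⟩, rfl⟩
    have hAB : IsCompl A B := by
      rw [isCompl_iff, disjoint_iff, codisjoint_iff]
      constructor
      · apply SetLike.coe_injective
        rw [TopologicalSpace.Opens.coe_inf, hB]
        simp
      · apply SetLike.coe_injective
        rw [TopologicalSpace.Opens.coe_sup, hB]
        simp
    have hBcl : IsClosed (B : Set ↥(pullback f f)) := by
      rw [hB]; exact A.isOpen.isClosed_compl
    haveI : IsClosedImmersion B.ι :=
      IsClosedImmersion.of_isPreimmersion B.ι (by rw [Scheme.Opens.range_ι]; exact hBcl)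
    haveI : IsFinite (B.ι ≫ π) := inferInstance
    haveI : Etale (B.ι ≫ π) := inferInstance
    have hfinπ : ∀ v, (π ⁻¹' {v}).Finite := fun v => π.finite_preimage_singleton v
    have hadd : ∀ v : X, MoreMor.fibreIntegral π (fun _ => 1) v =
        MoreMor.fibreIntegral (A.ι ≫ π) (fun _ => 1) v +
        MoreMor.fibreIntegral (B.ι ≫ π) (fun _ => 1) v :=
      fun v => fibreIntegral_add_of_isCompl π A B hAB _ v (hfinπ v)
    have hA1 : ∀ v : X, MoreMor.fibreIntegral (A.ι ≫ π) (fun _ => 1) v = 1 := by
      intro v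
      subst hA
      have h1 : (Scheme.Hom.isoOpensRange (pullback.diagonal f)).hom ≫
          (pullback.diagonal f).opensRange.ι ≫ π = 𝟙 X := by
        rw [← Category.assoc, Scheme.Hom.isoOpensRange_hom_ι, hπ]
        exact pullback.diagonal_snd f
      have h2 : (pullback.diagonal f).opensRange.ι ≫ π =
          (Scheme.Hom.isoOpensRange (pullback.diagonal f)).inv := by
        rw [← cancel_epi (Scheme.Hom.isoOpensRange (pullback.diagonal f)).hom, h1,
          Iso.hom_inv_id]
      haveI : IsIso ((pullback.diagonal f).opensRange.ι ≫ π) := by rw [h2]; infer_instance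
      exact fibreIntegral_one_of_isIso _ v
    have hBn : MoreMor.fibreIntegral (B.ι ≫ π) (fun _ => 1) x = n := by
      have h1 := hadd x
      rw [hbc, hy, hA1] at h1
      push_cast at h1
      omega
    obtain ⟨V', hxV', hV'⟩ := ih (B.ι ≫ π) x hBn
    refine ⟨⟨f '' (V' : Set X), f.isOpenMap _ V'.isOpen⟩, ⟨x, hxV', rfl⟩, ?_⟩
    rintro _ ⟨x', hx', rfl⟩
    rw [← hbc, hadd, hA1, hV' x' hx']
    push_cast
    ring

/-- the geometric number of points of a finite étale morphism is locally constant -/
theorem exists_nhd_const {X Y : Scheme.{u}} (f : X ⟶ Y) [IsFinite f] [Etale f] (y : Y) :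
    ∃ V : Y.Opens, y ∈ V ∧ ∀ z ∈ V, MoreMor.fibreIntegral f (fun _ => 1) z =
      MoreMor.fibreIntegral f (fun _ => 1) y := by
  have h0 := fibreIntegral_nonneg f (fun _ => 1) (fun _ => zero_le_one) y
  obtain ⟨n, hn⟩ := Int.eq_ofNat_of_zero_le h0
  obtain ⟨V, hyV, hV⟩ := const_aux n f y hn
  exact ⟨V, hyV, fun z hz => by rw [hV z hz, hn]⟩

end Groth.Agent.Lib.Helper7.FinEtCount
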