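import Mathlib
import Groth.Agent.Lib.Helper7.FinEtCount1

/-!
# Étale separated morphisms of finite type: constant geometric count versus finiteness (helper7)
-/

set_option autoImplicit false
set_option maxHeartbeats 800000

open CategoryTheory CategoryTheory.Limits AlgebraicGeometry Opposite IsLocalRing Topology

universe u

namespace Groth.Agent.Lib.Helper7.FinEtCount

open Groth.Agent.Lib.Helper70.GeomPts Groth.Agent.Lib.Helper70.Weighting
  Groth.Agent.Lib.Helper70.WeightingLSC Groth.Agent.Lib.Helper70.UniquePoint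
  Groth.Agent.Lib.Helper70.WeightingBC Groth.Agent.Lib.Helper70.WeightingBC2
  Groth.Agent.Lib.Helper70.WeightingFinite Groth.Agent.Lib.Helper70.GeomCount2

variable {X Y : Scheme.{u}} (f : X ⟶ Y) [Etale f] [IsSeparated f] [LocallyOfFiniteType f]
  [QuasiCompact f]

/-- dictionary between the two counts -/
theorem card_eq_iff (y z : Y) :
    haveI : LocallyQuasiFinite f := locallyQuasiFinite_of_etale f
    ENat.card ↥(MoreMor.geomFiber f z) = ENat.card ↥(MoreMor.geomFiber f y) ↔
      MoreMor.fibreIntegral f (fun _ => 1) z = MoreMor.fibreIntegral f (fun _ => 1) y := by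
  haveI : LocallyQuasiFinite f := locallyQuasiFinite_of_etale f
  obtain ⟨n, hn1, hn2⟩ := card_geomFiber_eq_fibreIntegral f y
  obtain ⟨m, hm1, hm2⟩ := card_geomFiber_eq_fibreIntegral f z
  rw [hn1, hm1, hn2, hm2]
  constructor
  · intro h
    have : m = n := by exact_mod_cast h
    rw [this]
  · intro h
    have : m = n := by exact_mod_cast h
    rw [this]

set_option backward.isDefEq.respectTransparency.types false in
theorem finite_nhd_of_const (y : Y)
    (hc : ∃ U : Y.Opens, y ∈ U ∧ ∀ y' : Y, y' ∈ U →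
      ENat.card ↥(MoreMor.geomFiber f y') = ENat.card ↥(MoreMor.geomFiber f y)) :
    ∃ U : Y.Opens, y ∈ U ∧ IsFinite (f ∣_ U) := by
  haveI : LocallyQuasiFinite f := locallyQuasiFinite_of_etale f
  obtain ⟨U, hyU, hU⟩ := hc
  refine Groth.Agent.Lib.Helper70.CountLSC.exists_isFinite_restrict f y
    (fun x _ => Groth.Agent.Lib.Helper70.UnivOpenAt.isUnivOpenAt_of_universallyOpen f x)
    ⟨(U : Set Y), U.isOpen.mem_nhds hyU, fun z hz => ?_⟩
  exact (card_eq_iff f y z).mp (hU z hz)

set_option backward.isDefEq.respectTransparency.types false in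
theorem const_nhd_of_finite (y : Y) (U : Y.Opens) (hyU : y ∈ U) (hfinU : IsFinite (f ∣_ U)) :
    ∃ V : Y.Opens, y ∈ V ∧ ∀ y' : Y, y' ∈ V →
      ENat.card ↥(MoreMor.geomFiber f y') = ENat.card ↥(MoreMor.geomFiber f y) := by
  haveI : LocallyQuasiFinite f := locallyQuasiFinite_of_etale f
  have hfin : ∀ v : Y, (f ⁻¹' {v}).Finite := fun v => f.finite_preimage_singleton v
  haveI := hfinU
  haveI : Etale (f ∣_ U) := inferInstance
  have hbc : ∀ z : ↥U.toScheme, MoreMor.fibreIntegral (f ∣_ U) (fun _ => 1) z =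
      MoreMor.fibreIntegral f (fun _ => 1) (U.ι z) := fun z =>
    fibreIntegral_base_change f hfin (f ∣_ U) (f ⁻¹ᵁ U).ι U.ι (isPullback_morphismRestrict f U).flip
      (fun _ => 1) z
  obtain ⟨yU, hyUdef⟩ : ∃ yU : ↥U.toScheme, U.ι yU = y := ⟨⟨y, hyU⟩, rfl⟩
  obtain ⟨V', hyV', hV'⟩ := exists_nhd_const (f ∣_ U) yU
  refine ⟨⟨U.ι '' (V' : Set ↥U.toScheme), U.ι.isOpenMap _ V'.isOpen⟩, ⟨yU, hyV', hyUdef⟩, ?_⟩
  rintro _ ⟨z, hz, rfl⟩
  rw [card_eq_iff f y (U.ι z), ← hbc, hV' z hz, hbc, hyUdef]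

end Groth.Agent.Lib.Helper7.FinEtCount
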