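import Mathlib
import Groth.Agent.Lib.Helper69.GUBirat

/-!
# The normalization of a reduced Noetherian ring, ring-level facts (helper7)

`D` a reduced Noetherian ring, `K` its total ring of fractions, `T` the integral closure of `D` in `K`.
* `mem_minimalPrimes_of_disjoint`: a prime of `D` consisting of zero divisors is a minimal prime;
* `exists_idempotent`: for a minimal prime `P` of `D` the prime `P K` is generated by an idempotent `1 - e`;
* `map_isMaximal`: `P K` is a maximal ideal of `K`;
* `birR_reduced`: `D → T` is birational in the sense of `GUBirat.BirR`;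
* `minimalPrime_unique_le`: a prime of `T` contains exactly one minimal prime;
* `isIntegrallyClosed_quotient`: `T / Q₀` is an integrally closed domain for each minimal prime `Q₀` of `T`.
-/

set_option autoImplicit false
set_option maxHeartbeats 400000
set_option linter.style.haveILetI false
set_option linter.unusedSectionVars false
universe u

namespace Groth.Agent.Lib.Helper7.GUCons

open Groth.Agent.Lib.Helper69.GUBirat

section reduced

variable {D : Type u} [CommRing D] [IsReduced D] [IsNoetherianRing D]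

theorem exists_annihilator_ne_zero (I : Ideal D)
    (h : Disjoint (I : Set D) (nonZeroDivisors D)) :
    ∃ x : D, x ≠ 0 ∧ ∀ y ∈ I, x * y = 0 := by
  have h1 := Ideal.bot_lt_annihilator_of_disjoint_nonZeroDivisors h
  obtain ⟨x, hx, hxn⟩ := SetLike.exists_of_lt h1
  refine ⟨x, fun h0 => hxn (h0 ▸ Ideal.zero_mem _), fun y hy => ?_⟩
  have := Module.mem_annihilator.mp hx ⟨y, hy⟩
  exact congrArg Subtype.val this

theorem exists_minimalPrimes_notMem (x : D) (hx : x ≠ 0) : ∃ P₀ ∈ minimalPrimes D, x ∉ P₀ := by
  by_contra hcon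
  push_neg at hcon
  apply hx
  have h1 : x ∈ sInf (minimalPrimes D) := by
    rw [Ideal.mem_sInf]
    exact fun {I} hI => hcon I hI
  rw [minimalPrimes, Ideal.sInf_minimalPrimes] at h1
  have h2 : x ∈ nilradical D := h1
  rw [nilradical_eq_zero] at h2
  exact h2

/-- A prime of a reduced Noetherian ring consisting of zero divisors is a minimal prime. -/
theorem mem_minimalPrimes_of_disjoint (P : Ideal D) [hPprime : P.IsPrime]
    (h : Disjoint (P : Set D) (nonZeroDivisors D)) : P ∈ minimalPrimes D := by
  obtain ⟨x, hx0, hx⟩ := exists_annihilator_ne_zero P h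
  obtain ⟨P₀, hP₀, hxP₀⟩ := exists_minimalPrimes_notMem x hx0
  have hle : P ≤ P₀ := by
    intro y hy
    have h3 : x * y ∈ P₀ := by rw [hx y hy]; exact P₀.zero_mem
    exact (hP₀.1.1.mem_or_mem h3).resolve_left hxP₀
  have hge := hP₀.2 ⟨hPprime, bot_le⟩ hle
  rw [le_antisymm hle hge]
  exact hP₀

/-- For a prime `P` and `b ∉ P`, the ideal `(b) + P` contains a nonzerodivisor. -/
theorem exists_add_mem_nonZeroDivisors (P : Ideal D) [hPprime : P.IsPrime] (b : D) (hb : b ∉ P) :
    ∃ c : D, ∃ g ∈ P, c * b + g ∈ nonZeroDivisors D := by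
  by_contra hcon
  push_neg at hcon
  have hdisj : Disjoint ((Ideal.span {b} ⊔ P : Ideal D) : Set D) (nonZeroDivisors D) := by
    rw [Set.disjoint_left]
    intro y hy hyM
    obtain ⟨y1, hy1, g, hg, rfl⟩ := Submodule.mem_sup.mp hy
    obtain ⟨c, rfl⟩ := Ideal.mem_span_singleton'.mp hy1
    exact hcon c g hg hyM
  obtain ⟨x, hx0, hx⟩ := exists_annihilator_ne_zero _ hdisj
  have hxb : x * b = 0 := hx b (Ideal.mem_sup_left (Ideal.mem_span_singleton_self b))
  have hxP : x ∈ P := (hPprime.mem_or_mem (hxb ▸ P.zero_mem : x * b ∈ P)).resolve_right hb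
  have hxx : x * x = 0 := hx x (Ideal.mem_sup_right hxP)
  exact hx0 (IsReduced.eq_zero x ⟨2, by rw [sq]; exact hxx⟩)

variable (K : Type u) [CommRing K] [Algebra D K] [IsFractionRing D K]

theorem disjoint_of_mem_minimalPrimes {P : Ideal D} (hP : P ∈ minimalPrimes D) :
    Disjoint ((nonZeroDivisors D : Submonoid D) : Set D) (P : Set D) :=
  (Ideal.disjoint_nonZeroDivisors_of_mem_minimalPrimes hP).symm

/-- The prime `P K` of the total ring of fractions is generated by an idempotent. -/
theorem exists_idempotent (P : Ideal D) (hP : P ∈ minimalPrimes D) :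
    ∃ e : K, e * e = e ∧ 1 - e ∈ P.map (algebraMap D K) ∧
      ∀ y ∈ P.map (algebraMap D K), e * y = 0 := by
  haveI hPprime : P.IsPrime := hP.1.1
  obtain ⟨x, hx0, hx⟩ := exists_annihilator_ne_zero P
    (Ideal.disjoint_nonZeroDivisors_of_mem_minimalPrimes hP)
  have hxP : x ∉ P := by
    intro hxP
    exact hx0 (IsReduced.eq_zero x ⟨2, by rw [sq]; exact hx x hxP⟩)
  obtain ⟨c, g, hg, hm⟩ := exists_add_mem_nonZeroDivisors P x hxP
  obtain ⟨v, hv⟩ := (IsLocalization.map_units K ⟨c * x + g, hm⟩).exists_right_inv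
  have hv' : algebraMap D K (c * x) * v + algebraMap D K g * v = 1 := by
    rw [← add_mul, ← map_add]
    exact hv
  have hey : ∀ y ∈ P.map (algebraMap D K), algebraMap D K (c * x) * v * y = 0 := by
    intro y hy
    refine Submodule.span_induction (p := fun y _ => algebraMap D K (c * x) * v * y = 0)
      ?_ ?_ ?_ ?_ hy
    · rintro _ ⟨a, ha, rfl⟩
      have : algebraMap D K (c * x) * algebraMap D K a = 0 := by
        rw [← map_mul, mul_assoc, hx a ha, mul_zero, map_zero]
      rw [mul_right_comm, this, zero_mul]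
    · rw [mul_zero]
    · intro a b _ _ ha hb
      rw [mul_add, ha, hb, add_zero]
    · intro r a _ ha
      rw [smul_eq_mul, mul_left_comm, ha, mul_zero]
  have h1e : 1 - algebraMap D K (c * x) * v = algebraMap D K g * v := by
    rw [← hv']; ring
  have h1mem : 1 - algebraMap D K (c * x) * v ∈ P.map (algebraMap D K) := by
    rw [h1e]
    exact Ideal.mul_mem_right _ _ (Ideal.mem_map_of_mem _ hg)
  refine ⟨algebraMap D K (c * x) * v, ?_, h1mem, hey⟩
  have := hey _ h1mem
  rw [mul_sub, mul_one, sub_eq_zero] at this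
  exact this.symm

theorem map_isPrime (P : Ideal D) (hP : P ∈ minimalPrimes D) :
    (P.map (algebraMap D K)).IsPrime :=
  IsLocalization.isPrime_of_isPrime_disjoint (nonZeroDivisors D) K P hP.1.1
    (disjoint_of_mem_minimalPrimes hP)

theorem comap_map (P : Ideal D) (hP : P ∈ minimalPrimes D) :
    (P.map (algebraMap D K)).comap (algebraMap D K) = P :=
  IsLocalization.comap_map_of_isPrime_disjoint (nonZeroDivisors D) K hP.1.1
    (disjoint_of_mem_minimalPrimes hP)

/-- `P K` is a maximal ideal of the total ring of fractions. -/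
theorem map_isMaximal (P : Ideal D) (hP : P ∈ minimalPrimes D) :
    (P.map (algebraMap D K)).IsMaximal := by
  haveI hPprime : P.IsPrime := hP.1.1
  haveI := map_isPrime K P hP
  rw [Ideal.isMaximal_iff]
  refine ⟨fun h1 => ‹(P.map (algebraMap D K)).IsPrime›.ne_top ((Ideal.eq_top_iff_one _).mpr h1),
    fun J x hJ hxP hxJ => ?_⟩
  obtain ⟨⟨β, m⟩, hβ⟩ := IsLocalization.surj (nonZeroDivisors D) x
  have hβ' : x * algebraMap D K m = algebraMap D K β := hβ
  obtain ⟨w, hw⟩ := (IsLocalization.map_units K m).exists_right_inv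
  have hβP : β ∉ P := by
    intro hβP
    apply hxP
    have : x = algebraMap D K β * w := by
      rw [← hβ', mul_assoc, hw, mul_one]
    rw [this]
    exact Ideal.mul_mem_right _ _ (Ideal.mem_map_of_mem _ hβP)
  obtain ⟨c, g, hg, hm⟩ := exists_add_mem_nonZeroDivisors P β hβP
  have hunit := IsLocalization.map_units K ⟨c * β + g, hm⟩
  have hmem : algebraMap D K (c * β + g) ∈ J := by
    rw [map_add, map_mul, ← hβ']
    refine J.add_mem ?_ (hJ (Ideal.mem_map_of_mem _ hg))
    rw [← mul_assoc]
    exact Ideal.mul_mem_right _ _ (Ideal.mul_mem_left _ _ hxJ)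
  exact (Ideal.eq_top_iff_one _).mp (Ideal.eq_top_of_isUnit_mem _ hmem hunit)

end reduced

end Groth.Agent.Lib.Helper7.GUCons
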