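import Groth.Agent.Lib.Helper7.GUCons1

/-!
# The normalization of a reduced Noetherian ring, II (helper7)

`D` a reduced Noetherian ring, `K` its total ring of fractions, `T` the integral closure of `D` in `K`.
* `birR_reduced`: `D → T` is birational in the sense of `GUBirat.BirR`;
* `minimalPrime_unique_le`: a prime of `T` contains exactly one minimal prime;
* `isIntegrallyClosed_quotient`: `T / Q₀` is an integrally closed domain for each minimal prime `Q₀` of `T`.
-/

set_option autoImplicit false
set_option maxHeartbeats 400000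
set_option linter.style.haveILetI false
set_option linter.unusedSectionVars false
universe u

namespace Groth.Agent.Lib.Helper7.GUCons

open Groth.Agent.Lib.Helper69.GUBirat

section reduced

variable {D : Type u} [CommRing D] [IsReduced D] [IsNoetherianRing D]
variable (K : Type u) [CommRing K] [Algebra D K] [IsFractionRing D K]

local notation "T" => integralClosure D K

theorem algebraMap_mem_nonZeroDivisors (m : D) (hm : m ∈ nonZeroDivisors D) :
    algebraMap D T m ∈ nonZeroDivisors T := by
  rw [mem_nonZeroDivisors_iff_right]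
  intro t ht
  have h1 : algebraMap T K t * algebraMap D K m = 0 := by
    rw [IsScalarTower.algebraMap_apply D T K, ← map_mul, ht, map_zero]
  have h2 := (IsLocalization.map_units K ⟨m, hm⟩).mul_left_eq_zero.mp h1
  exact (FaithfulSMul.algebraMap_injective T K) (by rw [h2, map_zero])

/-- A prime of `T` lying over a prime of `D` disjoint from the nonzerodivisors is the contraction of the
extension to `K`. -/
theorem eq_comap_map (P : Ideal D) (hdisj : Disjoint ((nonZeroDivisors D : Submonoid D) : Set D) (P : Set D))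
    (Q' : Ideal T) [hQ' : Q'.IsPrime] (hQ'P : Q'.comap (algebraMap D T) = P) :
    Q' = (P.map (algebraMap D K)).comap (algebraMap T K) := by
  ext t
  rw [Ideal.mem_comap]
  obtain ⟨⟨a, m⟩, ham⟩ := IsLocalization.surj (nonZeroDivisors D) (algebraMap T K t)
  have ham' : t * algebraMap D T m = algebraMap D T a := by
    apply FaithfulSMul.algebraMap_injective T K
    rw [map_mul, ← IsScalarTower.algebraMap_apply, ← IsScalarTower.algebraMap_apply]
    exact ham
  have hmP : (m : D) ∉ P := fun h => Set.disjoint_left.mp hdisj m.2 h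
  have hmQ' : algebraMap D T m ∉ Q' := by
    intro h
    apply hmP
    rw [← hQ'P]
    exact h
  constructor
  · intro ht
    have haP : a ∈ P := by
      rw [← hQ'P, Ideal.mem_comap, ← ham']
      exact Ideal.mul_mem_right _ _ ht
    rw [IsLocalization.mem_map_algebraMap_iff (nonZeroDivisors D) K]
    exact ⟨⟨⟨a, haP⟩, m⟩, ham⟩
  · intro ht
    rw [IsLocalization.mem_map_algebraMap_iff (nonZeroDivisors D) K] at ht
    obtain ⟨⟨⟨a', ha'⟩, m'⟩, h'⟩ := ht
    have h'' : t * algebraMap D T m' = algebraMap D T a' := by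
      apply FaithfulSMul.algebraMap_injective T K
      rw [map_mul, ← IsScalarTower.algebraMap_apply, ← IsScalarTower.algebraMap_apply]
      exact h'
    have hm'Q' : algebraMap D T m' ∉ Q' := by
      intro h
      apply Set.disjoint_left.mp hdisj m'.2
      rw [← hQ'P]
      exact h
    have : t * algebraMap D T m' ∈ Q' := by
      rw [h'']
      have : a' ∈ Q'.comap (algebraMap D T) := hQ'P ▸ ha'
      exact this
    exact (hQ'.mem_or_mem this).resolve_right hm'Q'

theorem comap_mem_minimalPrimes (Q : Ideal T) (hQ : Q ∈ minimalPrimes T) :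
    Q.comap (algebraMap D T) ∈ minimalPrimes D := by
  haveI := hQ.1.1
  apply mem_minimalPrimes_of_disjoint
  rw [Set.disjoint_left]
  intro y hy hyM
  exact Set.disjoint_left.mp (Ideal.disjoint_nonZeroDivisors_of_mem_minimalPrimes hQ) hy
    (algebraMap_mem_nonZeroDivisors K y hyM)

theorem comap_comap_map (P : Ideal D) (hP : P ∈ minimalPrimes D) :
    ((P.map (algebraMap D K)).comap (algebraMap T K)).comap (algebraMap D T) = P := by
  rw [Ideal.comap_comap, ← IsScalarTower.algebraMap_eq]
  exact comap_map K P hP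

theorem comap_map_mem_minimalPrimes (P : Ideal D) (hP : P ∈ minimalPrimes D) :
    (P.map (algebraMap D K)).comap (algebraMap T K) ∈ minimalPrimes T := by
  haveI := map_isPrime K P hP
  refine ⟨⟨Ideal.comap_isPrime _ _, bot_le⟩, fun Q₀ hQ₀ hQ₀Q => ?_⟩
  haveI := hQ₀.1
  have h1 : Q₀.comap (algebraMap D T) ≤ P := by
    rw [← comap_comap_map K P hP]
    exact Ideal.comap_mono hQ₀Q
  have h2 : P ≤ Q₀.comap (algebraMap D T) := hP.2 ⟨Ideal.comap_isPrime _ _, bot_le⟩ h1
  rw [eq_comap_map K P (disjoint_of_mem_minimalPrimes hP) Q₀ (le_antisymm h1 h2)]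

/-- `D → T` is birational. -/
theorem birR_reduced : BirR D T := by
  constructor
  · exact comap_mem_minimalPrimes K
  · intro P hP
    refine ⟨_, comap_map_mem_minimalPrimes K P hP, comap_comap_map K P hP,
      fun Q' hQ' hQ'P => eq_comap_map K P (disjoint_of_mem_minimalPrimes hP) Q' hQ'P, fun s => ?_⟩
    obtain ⟨⟨a, m⟩, ham⟩ := IsLocalization.surj (nonZeroDivisors D) (algebraMap T K s)
    refine ⟨a, m, fun h => Set.disjoint_left.mp (disjoint_of_mem_minimalPrimes hP) m.2 h, ?_⟩
    have : algebraMap D T m * s - algebraMap D T a = 0 := by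
      apply FaithfulSMul.algebraMap_injective T K
      rw [map_sub, map_mul, ← IsScalarTower.algebraMap_apply, ← IsScalarTower.algebraMap_apply,
        map_zero, sub_eq_zero, mul_comm]
      exact ham
    rw [this]
    exact Ideal.zero_mem _

theorem isIntegral_of_idempotent (e : K) (he : e * e = e) : IsIntegral D e := by
  refine ⟨Polynomial.X ^ 2 - Polynomial.X, ?_, ?_⟩
  · exact Polynomial.monic_X_pow_sub (lt_of_le_of_lt Polynomial.degree_X_le (by exact_mod_cast one_lt_two))
  · simp [sq, he]

/-- A prime of `T` contains exactly one minimal prime. -/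
theorem minimalPrime_unique_le (q : Ideal T) [hq : q.IsPrime] (Q₁ Q₂ : Ideal T)
    (hQ₁ : Q₁ ∈ minimalPrimes T) (hQ₂ : Q₂ ∈ minimalPrimes T) (h₁ : Q₁ ≤ q) (h₂ : Q₂ ≤ q) :
    Q₁ = Q₂ := by
  haveI := hQ₁.1.1
  haveI := hQ₂.1.1
  have hP₁ := comap_mem_minimalPrimes K Q₁ hQ₁
  have hP₂ := comap_mem_minimalPrimes K Q₂ hQ₂
  have e₁ := eq_comap_map K _ (disjoint_of_mem_minimalPrimes hP₁) Q₁ rfl
  have e₂ := eq_comap_map K _ (disjoint_of_mem_minimalPrimes hP₂) Q₂ rfl
  by_contra hne
  have hPne : Q₁.comap (algebraMap D T) ≠ Q₂.comap (algebraMap D T) := by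
    intro h
    apply hne
    rw [e₁, e₂, h]
  obtain ⟨e, hee, h1e, hey⟩ := exists_idempotent K _ hP₁
  let e' : T := ⟨e, isIntegral_of_idempotent K e hee⟩
  have h1 : 1 - e' ∈ Q₁ := by
    rw [e₁, Ideal.mem_comap]
    exact h1e
  haveI hprime₂ := map_isPrime K _ hP₂
  have h2 : e' ∈ Q₂ := by
    rw [e₂, Ideal.mem_comap]
    change e ∈ _
    by_contra hemem
    apply hPne
    have hle : (Q₁.comap (algebraMap D T)).map (algebraMap D K) ≤
        (Q₂.comap (algebraMap D T)).map (algebraMap D K) := by
      intro y hy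
      have : e * y ∈ (Q₂.comap (algebraMap D T)).map (algebraMap D K) := by
        rw [hey y hy]
        exact Ideal.zero_mem _
      exact (hprime₂.mem_or_mem this).resolve_left hemem
    have hle' : Q₁.comap (algebraMap D T) ≤ Q₂.comap (algebraMap D T) := by
      have := Ideal.comap_mono (f := algebraMap D K) hle
      rwa [comap_map K _ hP₁, comap_map K _ hP₂] at this
    exact le_antisymm hle' (hP₂.2 hP₁.1 hle')
  apply hq.ne_top
  rw [Ideal.eq_top_iff_one]
  have : (1 : T) = (1 - e') + e' := by ring
  rw [this]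
  exact q.add_mem (h₁ h1) (h₂ h2)

end reduced

end Groth.Agent.Lib.Helper7.GUCons
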