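import Groth.Agent.Lib.Helper7.GUCons2

/-!
# The normalization of a reduced Noetherian ring, III (helper7)

`isIntegrallyClosed_quotient`: `T / Q₀` is an integrally closed domain for each minimal prime `Q₀` of the
normalization `T` of a reduced Noetherian ring; `isGeomUnibranch_localization`: all local rings of `T` are
geometrically unibranch.
-/

set_option autoImplicit false
set_option maxHeartbeats 400000
set_option linter.style.haveILetI false
set_option linter.unusedSectionVars false
universe u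

namespace Groth.Agent.Lib.Helper7.GUCons

open Groth.Agent.Lib.Helper69.GUBirat

section reduced

variable {D : Type u} [CommRing D] [IsReduced D] [IsNoetherianRing D]
variable (K : Type u) [CommRing K] [Algebra D K] [IsFractionRing D K]

local notation "T" => integralClosure D K

theorem isIntegrallyClosed_quotient_aux (P : Ideal D) (hP : P ∈ minimalPrimes D) :
    IsIntegrallyClosed (T ⧸ (P.map (algebraMap D K)).comap (algebraMap T K)) := by
  set 𝔓 := P.map (algebraMap D K) with h𝔓
  haveI hmax : 𝔓.IsMaximal := map_isMaximal K P hP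
  letI : Field (K ⧸ 𝔓) := Ideal.Quotient.field 𝔓
  have hinj : Function.Injective (algebraMap (T ⧸ 𝔓.comap (algebraMap T K)) (K ⧸ 𝔓)) :=
    Ideal.algebraMap_quotient_injective
  haveI : FaithfulSMul (T ⧸ 𝔓.comap (algebraMap T K)) (K ⧸ 𝔓) :=
    (faithfulSMul_iff_algebraMap_injective _ _).mpr hinj
  have hmk : ∀ t : T, algebraMap (T ⧸ 𝔓.comap (algebraMap T K)) (K ⧸ 𝔓) (Ideal.Quotient.mk _ t) =
      Ideal.Quotient.mk 𝔓 (algebraMap T K t) := fun t => rfl
  haveI : IsFractionRing (T ⧸ 𝔓.comap (algebraMap T K)) (K ⧸ 𝔓) := by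
    apply IsFractionRing.of_field
    intro z
    obtain ⟨w, rfl⟩ := Ideal.Quotient.mk_surjective z
    obtain ⟨⟨a, m⟩, ham⟩ := IsLocalization.surj (nonZeroDivisors D) w
    refine ⟨Ideal.Quotient.mk _ (algebraMap D T a), Ideal.Quotient.mk _ (algebraMap D T m), ?_⟩
    have hm : algebraMap (T ⧸ 𝔓.comap (algebraMap T K)) (K ⧸ 𝔓)
        (Ideal.Quotient.mk _ (algebraMap D T m)) ≠ 0 := by
      rw [hmk, ← IsScalarTower.algebraMap_apply, Ne, Ideal.Quotient.eq_zero_iff_mem]
      intro hmem
      exact hmax.ne_top (Ideal.eq_top_of_isUnit_mem _ hmem (IsLocalization.map_units K m))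
    rw [eq_div_iff hm, hmk, hmk, ← IsScalarTower.algebraMap_apply, ← IsScalarTower.algebraMap_apply,
      ← map_mul]
    exact congrArg _ ham
  rw [isIntegrallyClosed_iff (K ⧸ 𝔓)]
  intro z hz
  obtain ⟨G, hGmonic, hG⟩ := hz
  obtain ⟨F, hFmap, -, hFmonic⟩ := Polynomial.lifts_and_natDegree_eq_and_monic
    (Polynomial.mem_lifts_of_surjective (f := Ideal.Quotient.mk (𝔓.comap (algebraMap T K)))
      Ideal.Quotient.mk_surjective G) hGmonic
  obtain ⟨w₀, rfl⟩ := Ideal.Quotient.mk_surjective z
  obtain ⟨e, hee, h1e, hey⟩ := exists_idempotent K P hP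
  have hcomp : (algebraMap (T ⧸ 𝔓.comap (algebraMap T K)) (K ⧸ 𝔓)).comp
      (Ideal.Quotient.mk (𝔓.comap (algebraMap T K))) =
      (Ideal.Quotient.mk 𝔓).comp (algebraMap T K) := RingHom.ext hmk
  have hy₀mem : Polynomial.eval₂ (algebraMap T K) w₀ F ∈ 𝔓 := by
    rw [← Ideal.Quotient.eq_zero_iff_mem, Polynomial.hom_eval₂, ← hcomp, ← Polynomial.eval₂_map,
      hFmap]
    exact hG
  have hsub : e * (Polynomial.eval₂ (algebraMap T K) (e * w₀) F -
      Polynomial.eval₂ (algebraMap T K) w₀ F) = 0 := by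
    obtain ⟨k, hk⟩ : e * w₀ - w₀ ∣ Polynomial.eval₂ (algebraMap T K) (e * w₀) F -
        Polynomial.eval₂ (algebraMap T K) w₀ F := by
      rw [Polynomial.eval₂_eq_eval_map, Polynomial.eval₂_eq_eval_map]
      exact Polynomial.sub_dvd_eval_sub _ _ _
    rw [hk, ← mul_assoc]
    have : e * (e * w₀ - w₀) = 0 := by
      rw [mul_sub, ← mul_assoc, hee, sub_self]
    rw [this, zero_mul]
  have hey₁ : e * Polynomial.eval₂ (algebraMap T K) (e * w₀) F = 0 := by
    have h2 := hey _ hy₀mem
    have h3 : e * Polynomial.eval₂ (algebraMap T K) (e * w₀) F =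
        e * (Polynomial.eval₂ (algebraMap T K) (e * w₀) F -
          Polynomial.eval₂ (algebraMap T K) w₀ F) + e * Polynomial.eval₂ (algebraMap T K) w₀ F := by
      ring
    rw [h3, hsub, h2, add_zero]
  have hw : IsIntegral T (e * w₀) := by
    refine ⟨Polynomial.X * F, Polynomial.monic_X.mul hFmonic, ?_⟩
    rw [Polynomial.eval₂_mul, Polynomial.eval₂_X, mul_right_comm, hey₁, zero_mul]
  have hwD : IsIntegral D (e * w₀) := isIntegral_trans (A := T) _ hw
  refine ⟨Ideal.Quotient.mk _ (⟨e * w₀, hwD⟩ : T), ?_⟩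
  rw [hmk]
  change Ideal.Quotient.mk 𝔓 (e * w₀) = Ideal.Quotient.mk 𝔓 w₀
  rw [Ideal.Quotient.eq]
  have : e * w₀ - w₀ = -((1 - e) * w₀) := by ring
  rw [this]
  exact neg_mem (Ideal.mul_mem_right _ _ h1e)

/-- `T / Q₀` is integrally closed for each minimal prime `Q₀` of the normalization `T`. -/
theorem isIntegrallyClosed_quotient (Q₀ : Ideal T) (hQ₀ : Q₀ ∈ minimalPrimes T) :
    IsIntegrallyClosed (T ⧸ Q₀) := by
  haveI := hQ₀.1.1
  have hP := comap_mem_minimalPrimes K Q₀ hQ₀
  have e₁ := eq_comap_map K _ (disjoint_of_mem_minimalPrimes hP) Q₀ rfl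
  have := isIntegrallyClosed_quotient_aux K _ hP
  rw [← e₁] at this
  exact this

end reduced

end Groth.Agent.Lib.Helper7.GUCons

namespace Groth.Agent.Lib.Helper7.GUCons

open Groth.Agent.Lib.Helper69

/-- The local rings of an integrally closed domain are geometrically unibranch. -/
theorem isGeomUnibranch_of_isIntegrallyClosed (E : Type u) [CommRing E] [IsDomain E]
    [IsIntegrallyClosed E] (q' : Ideal E) [hq' : q'.IsPrime] :
    CAlg2.IsGeomUnibranch (Localization.AtPrime q') := by
  haveI : Algebra.IsIntegral E E :=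
    ⟨fun x => (isIntegral_algebraMap : IsIntegral E (algebraMap E E x))⟩
  rw [GURad.isGeomUnibranch_iff_isRadicialAt (D := E) (T := E)
    Function.injective_id (fun s => ⟨s, 1, one_ne_zero, by simp⟩) q',
    RadComp.isRadicialAt_specMap_iff]
  intro K _ α β hαβ _
  simpa using hαβ

section reduced

variable {D : Type u} [CommRing D] [IsReduced D] [IsNoetherianRing D]
variable (K : Type u) [CommRing K] [Algebra D K] [IsFractionRing D K]

local notation "T" => integralClosure D K

/-- All local rings of the normalization of a reduced Noetherian ring are geometrically unibranch. -/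
theorem isGeomUnibranch_localization (q : Ideal T) [hq : q.IsPrime] :
    CAlg2.IsGeomUnibranch (Localization.AtPrime q) := by
  obtain ⟨Q₀, hQ₀, hQ₀q⟩ := Ideal.exists_minimalPrimes_le (I := (⊥ : Ideal T)) (J := q) bot_le
  haveI := hQ₀.1.1
  haveI := isIntegrallyClosed_quotient K Q₀ hQ₀
  let q' : Ideal (T ⧸ Q₀) := q.map (Ideal.Quotient.mk Q₀)
  haveI hq'prime : q'.IsPrime := Ideal.map_isPrime_of_surjective Ideal.Quotient.mk_surjective
    (by rw [Ideal.mk_ker]; exact hQ₀q)
  have hq' : q'.comap (Ideal.Quotient.mk Q₀) = q := by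
    rw [Ideal.comap_map_of_surjective _ Ideal.Quotient.mk_surjective, ← RingHom.ker_eq_comap_bot,
      Ideal.mk_ker]
    exact sup_eq_left.mpr hQ₀q
  rw [GULoc.isGeomUnibranch_iff_quotient q (Localization.AtPrime q) Q₀ q' hq'
    (fun Q hQ hQq => minimalPrime_unique_le K q Q Q₀ hQ hQ₀ hQq hQ₀q)]
  exact isGeomUnibranch_of_isIntegrallyClosed _ q'

end reduced

end Groth.Agent.Lib.Helper7.GUCons
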