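import Groth.Agent.Lib.Helper7.GUCons3

/-!
# The geometrically unibranch locus of a Noetherian ring is the radicial locus of its normalization (helper7)

`nu R : R →+* CAlg2.normRed R` is the canonical map to the normalization of `R_red`.
`isGeomUnibranch_iff_isRadicialAt`: for Noetherian `R` and a prime `p`, `R_p` is geometrically unibranch iff
`Spec (normRed R) → Spec R` is radicial at `p`.
-/

set_option autoImplicit false
set_option maxHeartbeats 400000
set_option linter.style.haveILetI false
set_option linter.unusedSectionVars false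
universe u

namespace Groth.Agent.Lib.Helper7.GUCons

open Groth.Agent.Lib.Helper69 Groth.Agent.Lib.Helper69.GUBirat AlgebraicGeometry CategoryTheory

theorem minimalPrimes_eq_comap_red (R : Type u) [CommRing R] :
    minimalPrimes R = Ideal.comap (Ideal.Quotient.mk (nilradical R)) ''
      minimalPrimes (R ⧸ nilradical R) := by
  rw [← Ideal.minimalPrimes_eq_comap]
  change (⊥ : Ideal R).minimalPrimes = ((⊥ : Ideal R).radical).minimalPrimes
  rw [Ideal.radical_minimalPrimes]

/-- Birationality passes from `R_red → S` to `R → S`. -/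
theorem birR_of_red {R S : Type u} [CommRing R] [CommRing S] [Algebra R S]
    [Algebra (R ⧸ nilradical R) S] [IsScalarTower R (R ⧸ nilradical R) S]
    (h : BirR (R ⧸ nilradical R) S) : BirR R S := by
  have hcomap : ∀ Q : Ideal S, Q.comap (algebraMap R S) =
      (Q.comap (algebraMap (R ⧸ nilradical R) S)).comap (Ideal.Quotient.mk (nilradical R)) := by
    intro Q
    rw [Ideal.comap_comap, IsScalarTower.algebraMap_eq R (R ⧸ nilradical R) S]
    rfl
  constructor
  · intro Q hQ
    rw [hcomap, minimalPrimes_eq_comap_red]
    exact ⟨_, h.comap_mem Q hQ, rfl⟩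
  · intro P hP
    rw [minimalPrimes_eq_comap_red] at hP
    obtain ⟨P', hP', rfl⟩ := hP
    obtain ⟨Q, hQ, hQP', huniq, hfrac⟩ := h.exists_over P' hP'
    refine ⟨Q, hQ, by rw [hcomap, hQP'], fun Q' hQ' hQ'P => ?_, fun s => ?_⟩
    · apply huniq Q' hQ'
      apply Ideal.comap_injective_of_surjective _ Ideal.Quotient.mk_surjective
      rw [← hcomap]
      exact hQ'P
    · obtain ⟨a', b', hb', hab⟩ := hfrac s
      obtain ⟨a, rfl⟩ := Ideal.Quotient.mk_surjective a'
      obtain ⟨b, rfl⟩ := Ideal.Quotient.mk_surjective b'
      refine ⟨a, b, hb', ?_⟩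
      rw [IsScalarTower.algebraMap_apply R (R ⧸ nilradical R) S,
        IsScalarTower.algebraMap_apply R (R ⧸ nilradical R) S]
      exact hab

variable (R : Type u) [CommRing R]

/-- The canonical map from `R` to the normalization of `R_red`. -/
noncomputable def nu : R →+* CAlg2.normRed R :=
  (algebraMap (CAlg2.red R) (CAlg2.normRed R)).comp (Ideal.Quotient.mk (nilradical R))

instance : IsReduced (CAlg2.red R) :=
  (Ideal.isRadical_iff_quotient_reduced _).mp (Ideal.radical_isRadical (0 : Ideal R))

variable [IsNoetherianRing R]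

/-- For a Noetherian ring `R` and a prime `p`, `R_p` is geometrically unibranch iff the normalization
`Spec (normRed R) → Spec R` is radicial at `p`. -/
theorem isGeomUnibranch_iff_isRadicialAt (p : PrimeSpectrum R) :
    CAlg2.IsGeomUnibranch (Localization.AtPrime p.asIdeal) ↔
      RadPt.IsRadicialAt (Spec.map (CommRingCat.ofHom (nu R))) p := by
  letI : Algebra R (CAlg2.normRed R) := (nu R).toAlgebra
  haveI : IsScalarTower R (CAlg2.red R) (CAlg2.normRed R) := .of_algebraMap_eq (fun _ => rfl)
  haveI : Algebra.IsIntegral R (CAlg2.red R) :=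
    Algebra.isIntegral_of_surjective Ideal.Quotient.mk_surjective
  haveI : Algebra.IsIntegral R (CAlg2.normRed R) := Algebra.IsIntegral.trans (R := R) (CAlg2.red R)
  have hbir : BirR R (CAlg2.normRed R) :=
    birR_of_red (birR_reduced (D := CAlg2.red R) (FractionRing (CAlg2.red R)))
  have := GUBirat.main hbir p
  rw [this]
  refine and_iff_left ?_
  intro q hq _
  exact isGeomUnibranch_localization (D := CAlg2.red R) (FractionRing (CAlg2.red R)) q

end Groth.Agent.Lib.Helper7.GUCons
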