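import Groth.Agent.Lib.Helper7.GUCons4
import Groth.Agent.Lib.Helper24.FibreLocus
import Groth.Agent.S5863

/-!
# Constructibility of the radicial locus and of the geometrically unibranch locus (helper7)

* `isLocallyConstructible_setOf_isRadicialAt`: for `f : X ⟶ S` of finite presentation, the set of points of `S`
  at which `f` is radicial is locally constructible.
* `isLocallyConstructible_geomUnibranch_spec`: for a Noetherian ring `R` with finite normalization, the set of
  primes `p` with `R_p` geometrically unibranch is locally constructible.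
* `isLocallyConstructible_of_affineOpens`: local constructibility can be checked on affine opens.
-/

set_option autoImplicit false
set_option maxHeartbeats 400000
set_option linter.style.haveILetI false
set_option linter.unusedSectionVars false
universe u

namespace Groth.Agent.Lib.Helper7.GUCons

open Groth.Agent.Lib.Helper24 AlgebraicGeometry CategoryTheory CategoryTheory.Limits

theorem isRadicialAt_iff_fibreMap {X S : Scheme.{u}} (f : X ⟶ S) (s : S) :
    RadPt.IsRadicialAt f s ↔ UniversallyInjective (FibreLocus.fibreMap f (𝟙 S) s) := by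
  have sq := FibreLocus.isPullback_fibreMap f (𝟙 S) s
  haveI : Subsingleton ↥(Spec (S.residueField s)) :=
    (inferInstance : Subsingleton (PrimeSpectrum (S.residueField s)))
  have hinj : Function.Injective (pullback.snd (𝟙 S) (S.fromSpecResidueField s)) :=
    (pullback.snd (𝟙 S) (S.fromSpecResidueField s)).isOpenEmbedding.injective
  let z₀ : ↥(pullback (𝟙 S) (S.fromSpecResidueField s)) :=
    (inv (pullback.snd (𝟙 S) (S.fromSpecResidueField s))) (IsLocalRing.closedPoint _)
  have hsub : ∀ z : ↥(pullback (𝟙 S) (S.fromSpecResidueField s)), z = z₀ :=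
    fun z => hinj (Subsingleton.elim _ _)
  have hz₀ : (pullback.fst (𝟙 S) (S.fromSpecResidueField s)) z₀ = s := by
    have h1 : pullback.fst (𝟙 S) (S.fromSpecResidueField s) =
        pullback.snd (𝟙 S) (S.fromSpecResidueField s) ≫ S.fromSpecResidueField s := by
      have := pullback.condition (f := 𝟙 S) (g := S.fromSpecResidueField s)
      rwa [CategoryTheory.Category.comp_id] at this
    rw [h1, Scheme.Hom.comp_apply, Scheme.fromSpecResidueField_apply]
  have h2 := Groth.Agent.S5863.result sq z₀
  rw [hz₀] at h2
  have h5 : UniversallyInjective (FibreLocus.fibreMap f (𝟙 S) s) ↔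
      Function.Injective (FibreLocus.fibreMap f (𝟙 S) s) ∧
        ∀ x, ((FibreLocus.fibreMap f (𝟙 S) s).residueFieldMap x).hom.IsPurelyInseparable :=
    (tfae_universallyInjective (FibreLocus.fibreMap f (𝟙 S) s)).out 0 2
  rw [h2, h5]
  unfold RadPt.IsRadicialAt
  constructor
  · rintro ⟨h3, h4⟩
    exact ⟨fun x x' _ => h3 x x' (hsub _) (hsub _), fun x => h4 x (hsub _)⟩
  · rintro ⟨h3, h4⟩
    exact ⟨fun x x' hx hx' => h3 (hx.trans hx'.symm), fun x _ => h4 x⟩

/-- The radicial locus of a morphism of finite presentation is locally constructible. -/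
theorem isLocallyConstructible_setOf_isRadicialAt {X S : Scheme.{u}} (f : X ⟶ S)
    [LocallyOfFinitePresentation f] [QuasiCompact f] [QuasiSeparated f] :
    Topology.IsLocallyConstructible {s : S | RadPt.IsRadicialAt f s} := by
  have h := FibreLocus.isLocallyConstructible_setOf_universallyInjective f (𝟙 S)
  convert h using 2
  ext s
  rw [← FibreLocus.fibreMap_iff (P := @UniversallyInjective) f (𝟙 S) s]
  exact isRadicialAt_iff_fibreMap f s

/-- For a Noetherian ring with finite normalization the geometrically unibranch locus is locally
constructible. -/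
theorem isLocallyConstructible_geomUnibranch_spec (R : Type u) [CommRing R] [IsNoetherianRing R]
    (hfin : Module.Finite (CAlg2.red R) (CAlg2.normRed R)) :
    Topology.IsLocallyConstructible
      {p : ↥(Spec (CommRingCat.of R)) |
        CAlg2.IsGeomUnibranch (Localization.AtPrime (p : PrimeSpectrum R).asIdeal)} := by
  have hfp : (nu R).FinitePresentation := by
    letI : Algebra R (CAlg2.normRed R) := (nu R).toAlgebra
    haveI : IsScalarTower R (CAlg2.red R) (CAlg2.normRed R) := .of_algebraMap_eq (fun _ => rfl)
    haveI : Module.Finite R (CAlg2.normRed R) := Module.Finite.trans (CAlg2.red R) (CAlg2.normRed R)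
    have h1 : Algebra.FiniteType R (CAlg2.normRed R) := inferInstance
    exact Algebra.FinitePresentation.of_finiteType.mp h1
  haveI : LocallyOfFinitePresentation (Spec.map (CommRingCat.ofHom (nu R))) :=
    (HasRingHomProperty.Spec_iff (P := @LocallyOfFinitePresentation)).mpr hfp
  have h := isLocallyConstructible_setOf_isRadicialAt (Spec.map (CommRingCat.ofHom (nu R)))
  refine (congrArg Topology.IsLocallyConstructible (Set.ext fun p => ?_)).mpr h
  exact isGeomUnibranch_iff_isRadicialAt R p

/-- Local constructibility can be checked on the spectra of the affine opens. -/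
theorem isLocallyConstructible_of_affineOpens {X : Scheme.{u}} (s : Set X)
    (H : ∀ U : X.affineOpens, Topology.IsLocallyConstructible (U.2.fromSpec ⁻¹' s)) :
    Topology.IsLocallyConstructible s := by
  have hcover : TopologicalSpace.IsOpenCover (fun U : X.affineOpens => (U : X.Opens)) :=
    iSup_affineOpens_eq_top X
  refine Topology.IsLocallyConstructible.of_isOpenCover hcover (fun U => ?_)
  let φ : ↥((U : X.Opens) : Set X) → ↥(Spec Γ(X, (U : X.Opens))) := fun x => U.2.isoSpec.hom x
  have hφ : Topology.IsOpenEmbedding φ := U.2.isoSpec.hom.isOpenEmbedding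
  have h1 := (H U).preimage_of_isOpenEmbedding hφ
  refine (congrArg Topology.IsLocallyConstructible (Set.ext fun x => ?_)).mpr h1
  have h2 : U.2.fromSpec (φ x) = x.1 := by
    change U.2.fromSpec (U.2.isoSpec.hom x) = x.1
    rw [← Scheme.Hom.comp_apply, IsAffineOpen.isoSpec_hom_fromSpec]
    rfl
  change x.1 ∈ s ↔ U.2.fromSpec (φ x) ∈ s
  rw [h2]

end Groth.Agent.Lib.Helper7.GUCons
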