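import Mathlib

/-!
# Integral closure of a localization at a prime with a unique prime above it (helper7)

Setting: `E → F` rings, `q` a prime of `E`, `D = E_q`, `L = F_q` (localization of `F` at the image
of `E ∖ q`), `C` the integral closure of `E` in `F` and `T` the integral closure of `D` in `L`.
If `C` has a unique prime over `q` then `T` is local; a `p`-power description of `C` modulo that
prime passes to `T` modulo its maximal ideal.
-/

set_option autoImplicit false
universe u

namespace Groth.Agent.Lib.Helper7.GUCore

open IsLocalRing

variable {E : Type u} [CommRing E] (q : Ideal E) [q.IsPrime]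
  {F : Type u} [CommRing F] [Algebra E F]
  (D : Type u) [CommRing D] [Algebra E D] [IsLocalization.AtPrime D q]
  (L : Type u) [CommRing L] [Algebra F L]
  [IsLocalization (Algebra.algebraMapSubmonoid F q.primeCompl) L]
  [Algebra D L] [Algebra E L] [IsScalarTower E D L] [IsScalarTower E F L]

/-- Every element of `L` integral over `D` is, up to a unit coming from `E ∖ q`, the image of an
element of `F` integral over `E`. -/
theorem exists_mul_eq_of_isIntegral (t : L) (ht : IsIntegral D t) :
    ∃ s ∈ q.primeCompl, ∃ c : integralClosure E F,
      algebraMap E L s * t = algebraMap F L (c : F) := by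
  obtain ⟨m, hm⟩ := IsIntegral.exists_multiple_integral_of_isLocalization q.primeCompl
    (Rₘ := D) t ht
  obtain ⟨⟨f, ⟨_, s₂, hs₂, rfl⟩⟩, hf⟩ :=
    IsLocalization.surj (Algebra.algebraMapSubmonoid F q.primeCompl) (m • t : L)
  have hs₂L : algebraMap F L (algebraMap E F s₂) = algebraMap E L s₂ :=
    (IsScalarTower.algebraMap_apply E F L s₂).symm
  replace hf : m • t * algebraMap E L s₂ = algebraMap F L f := by rw [← hs₂L]; exact hf
  have hmt : (m • t : L) = algebraMap E L m * t := by
    rw [Submonoid.smul_def, Algebra.smul_def]
  have hf' : algebraMap F L f = algebraMap E L (s₂ * m) * t := by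
    rw [← hf, hmt, map_mul]
    ring
  have hint : IsIntegral E (algebraMap F L f) := by
    rw [← hf]
    exact hm.mul isIntegral_algebraMap
  obtain ⟨m', hm', hm'f⟩ := IsLocalization.exists_isIntegral_smul_of_isIntegral_map
    (R := E) (S := F) (Sₘ := L) q.primeCompl hint
  refine ⟨m' * (s₂ * m), q.primeCompl.mul_mem hm' (q.primeCompl.mul_mem hs₂ m.2),
    ⟨m' • f, hm'f⟩, ?_⟩
  change _ = algebraMap F L (m' • f)
  rw [Algebra.smul_def, map_mul (algebraMap F L), ← IsScalarTower.algebraMap_apply E F L, hf',
    map_mul (algebraMap E L) m', mul_assoc]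

/-- The canonical map from the integral closure of `E` in `F` to the integral closure of `D`
in `L`. -/
noncomputable def icMap : integralClosure E F →+* integralClosure D L where
  toFun c := ⟨algebraMap F L (c : F), by
    have h1 : IsIntegral E (algebraMap F L (c : F)) := c.2.map (IsScalarTower.toAlgHom E F L)
    exact h1.tower_top⟩
  map_one' := Subtype.ext (by simp)
  map_mul' _ _ := Subtype.ext (by simp)
  map_zero' := Subtype.ext (by simp)
  map_add' _ _ := Subtype.ext (by simp)

@[simp] theorem icMap_coe (c : integralClosure E F) :
    ((icMap D L c : integralClosure D L) : L) = algebraMap F L (c : F) := rfl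

theorem icMap_algebraMap (e : E) :
    icMap D L (algebraMap E (integralClosure E F) e) =
      algebraMap D (integralClosure D L) (algebraMap E D e) := by
  apply Subtype.ext
  change algebraMap F L (algebraMap E F e) = algebraMap D L (algebraMap E D e)
  rw [← IsScalarTower.algebraMap_apply E F L, ← IsScalarTower.algebraMap_apply E D L]

/-- The contraction to `E` of a maximal ideal of the integral closure of `D` in `L`, through
the integral closure of `E` in `F`, is `q`. -/
theorem comap_icMap_comap (M : Ideal (integralClosure D L)) [M.IsMaximal] :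
    (M.comap (icMap D L)).comap (algebraMap E (integralClosure E F)) = q := by
  haveI : IsLocalRing D := IsLocalization.AtPrime.isLocalRing D q
  have h1 : M.comap (algebraMap D (integralClosure D L)) = maximalIdeal D :=
    IsLocalRing.eq_maximalIdeal (Ideal.isMaximal_comap_of_isIntegral_of_isMaximal M)
  have h2 : (maximalIdeal D).comap (algebraMap E D) = q :=
    IsLocalization.AtPrime.comap_maximalIdeal D q
  rw [← h2, ← h1, Ideal.comap_comap, Ideal.comap_comap]
  congr 1
  exact RingHom.ext (fun e => icMap_algebraMap (F := F) D L e)

variable (hU : ∀ (Q₁ Q₂ : Ideal (integralClosure E F)) [Q₁.IsPrime] [Q₂.IsPrime],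
    Q₁.comap (algebraMap E (integralClosure E F)) = q →
    Q₂.comap (algebraMap E (integralClosure E F)) = q → Q₁ = Q₂)

include hU in
/-- If the integral closure of `E` in `F` has at most one prime over `q`, the integral closure
of `D = E_q` in `L = F_q` is a local ring. -/
theorem isLocalRing_integralClosure [Nontrivial L] : IsLocalRing (integralClosure D L) := by
  haveI : Nontrivial (integralClosure D L) :=
    ⟨⟨0, 1, fun h => zero_ne_one (α := L) (congrArg Subtype.val h)⟩⟩
  obtain ⟨M₀, hM₀⟩ := Ideal.exists_maximal (integralClosure D L)
  refine IsLocalRing.of_unique_max_ideal ⟨M₀, hM₀, fun M hM => ?_⟩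
  have key : ∀ (M₁ M₂ : Ideal (integralClosure D L)) [M₁.IsMaximal] [M₂.IsMaximal],
      M₁ ≤ M₂ := by
    intro M₁ M₂ _ _ t ht
    obtain ⟨s, hs, c, hc⟩ := exists_mul_eq_of_isIntegral (F := F) q D L (t : L) t.2
    have hQ : M₁.comap (icMap (E := E) (F := F) D L) = M₂.comap (icMap (E := E) (F := F) D L) :=
      hU _ _ (comap_icMap_comap q D L M₁) (comap_icMap_comap q D L M₂)
    -- `s • t = icMap c`
    have hst : algebraMap D (integralClosure D L) (algebraMap E D s) * t =
        icMap (E := E) (F := F) D L c := by
      apply Subtype.ext
      change algebraMap D L (algebraMap E D s) * (t : L) = algebraMap F L (c : F)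
      rw [← IsScalarTower.algebraMap_apply E D L, hc]
    have h1 : c ∈ M₁.comap (icMap (E := E) (F := F) D L) := by
      change icMap D L c ∈ M₁
      rw [← hst]
      exact M₁.mul_mem_left _ ht
    rw [hQ] at h1
    have h2 : icMap (E := E) (F := F) D L c ∈ M₂ := h1
    rw [← hst] at h2
    have hu : IsUnit (algebraMap D (integralClosure D L) (algebraMap E D s)) :=
      (IsLocalization.map_units D (⟨s, hs⟩ : q.primeCompl)).map _
    exact (Ideal.unit_mul_mem_iff_mem M₂ hu).mp h2
  exact le_antisymm (key M M₀) (key M₀ M)

end Groth.Agent.Lib.Helper7.GUCore
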