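import Groth.Agent.Lib.Helper7.GUCoreA

/-!
# Integral closure of a localization at a prime with a unique prime above it, II (helper7)

Continuation of `GUCoreA`: the `p`-power description of residues, and the fact that `L = F_q` is
a field when `F` is Artinian and reduced.
-/

set_option autoImplicit false
universe u

namespace Groth.Agent.Lib.Helper7.GUCore

open IsLocalRing

variable {E : Type u} [CommRing E] (q : Ideal E) [q.IsPrime]
  {F : Type u} [CommRing F] [Algebra E F]
  (D : Type u) [CommRing D] [Algebra E D] [IsLocalization.AtPrime D q]
  (L : Type u) [CommRing L] [Algebra F L]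
  [IsLocalization (Algebra.algebraMapSubmonoid F q.primeCompl) L]
  [Algebra D L] [Algebra E L] [IsScalarTower E D L] [IsScalarTower E F L]

section pow

variable (p : ℕ) (hP : ∀ (Q : Ideal (integralClosure E F)) [Q.IsPrime],
    Q.comap (algebraMap E (integralClosure E F)) = q →
    ∀ c : integralClosure E F, ∃ (n : ℕ) (e : E),
      c ^ p ^ n - algebraMap E (integralClosure E F) e ∈ Q)

include hP in
theorem exists_pow_sub_mem_maximalIdeal [IsLocalRing (integralClosure D L)]
    (t : integralClosure D L) :
    ∃ (n : ℕ) (d : D),
      t ^ p ^ n - algebraMap D (integralClosure D L) d ∈ maximalIdeal (integralClosure D L) := by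
  obtain ⟨s, hs, c, hc⟩ := exists_mul_eq_of_isIntegral (F := F) q D L (t : L) t.2
  have hst : algebraMap D (integralClosure D L) (algebraMap E D s) * t =
      icMap (E := E) (F := F) D L c := by
    apply Subtype.ext
    change algebraMap D L (algebraMap E D s) * (t : L) = algebraMap F L (c : F)
    rw [← IsScalarTower.algebraMap_apply E D L, hc]
  obtain ⟨n, e, hne⟩ := hP ((maximalIdeal (integralClosure D L)).comap
    (icMap (E := E) (F := F) D L)) (comap_icMap_comap q D L _) c
  have h1 : icMap (E := E) (F := F) D L c ^ p ^ n -
      algebraMap D (integralClosure D L) (algebraMap E D e) ∈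
        maximalIdeal (integralClosure D L) := by
    have : icMap (E := E) (F := F) D L (c ^ p ^ n - algebraMap E (integralClosure E F) e) ∈
        maximalIdeal (integralClosure D L) := hne
    rwa [map_sub, map_pow, icMap_algebraMap] at this
  obtain ⟨v, hv⟩ := (IsLocalization.map_units D (⟨s, hs⟩ : q.primeCompl)).exists_left_inv
  refine ⟨n, v ^ p ^ n * algebraMap E D e, ?_⟩
  have hv' : algebraMap D (integralClosure D L) v *
      algebraMap D (integralClosure D L) (algebraMap E D s) = 1 := by
    rw [← map_mul]
    change algebraMap D (integralClosure D L) (v * algebraMap E D s) = 1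
    have : v * algebraMap E D s = 1 := hv
    rw [this, map_one]
  have key : t ^ p ^ n - algebraMap D (integralClosure D L) (v ^ p ^ n * algebraMap E D e) =
      algebraMap D (integralClosure D L) v ^ p ^ n *
        (icMap (E := E) (F := F) D L c ^ p ^ n -
          algebraMap D (integralClosure D L) (algebraMap E D e)) := by
    rw [← hst, mul_pow, mul_sub, ← mul_assoc, ← mul_pow, hv', one_pow, one_mul, map_mul, map_pow]
  rw [key]
  exact Ideal.mul_mem_left _ _ h1

end pow

section field

/-- If the integral closure of `D` in the Artinian reduced ring `L` is local, `L` is a field. -/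
theorem isField_of_isLocalRing_integralClosure [IsArtinianRing L] [IsReduced L] [Nontrivial L]
    [IsLocalRing (integralClosure D L)] : IsField L := by
  haveI : Nontrivial D := (algebraMap D L).domain_nontrivial
  -- idempotents of `L` are trivial
  have hidem : ∀ e : L, IsIdempotentElem e → e = 0 ∨ e = 1 := by
    intro e he
    have hint : IsIntegral D e := by
      refine ⟨Polynomial.X ^ 2 - Polynomial.X, ?_, ?_⟩
      · exact Polynomial.monic_X_pow_sub (by rw [Polynomial.degree_X]; norm_num)
      · simp [pow_two, he.eq]
    let e' : integralClosure D L := ⟨e, hint⟩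
    have he' : e' * (1 - e') = 0 := by
      apply Subtype.ext
      change e * (1 - e) = 0
      rw [mul_sub, mul_one, he.eq, sub_self]
    rcases IsLocalRing.isUnit_or_isUnit_one_sub_self e' with hu | hu
    · right
      have : 1 - e' = 0 := hu.mul_right_eq_zero.mp he'
      have h2 : e' = 1 := (sub_eq_zero.mp this).symm
      exact congrArg Subtype.val h2
    · left
      have : e' = 0 := hu.mul_left_eq_zero.mp he'
      exact congrArg Subtype.val this
  -- hence the spectrum is a single point
  have hsub : ∀ x y : PrimeSpectrum L, x = y := by
    intro x y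
    have hcl : IsClopen ({x} : Set (PrimeSpectrum L)) := isClopen_discrete _
    obtain ⟨e, he, hxe⟩ := PrimeSpectrum.isClopen_iff.mp hcl
    rcases hidem e he with rfl | rfl
    · have : x ∈ ({x} : Set (PrimeSpectrum L)) := rfl
      rw [hxe] at this
      simp at this
    · have : y ∈ ({x} : Set (PrimeSpectrum L)) := by
        rw [hxe]
        simp
      exact this.symm
  haveI : IsLocalRing L := by
    obtain ⟨M₀, hM₀⟩ := Ideal.exists_maximal L
    refine IsLocalRing.of_unique_max_ideal ⟨M₀, hM₀, fun M hM => ?_⟩
    exact congrArg PrimeSpectrum.asIdeal (hsub ⟨M, hM.isPrime⟩ ⟨M₀, hM₀.isPrime⟩)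
  exact IsArtinianRing.isField_of_isReduced_of_isLocalRing L

end field

end Groth.Agent.Lib.Helper7.GUCore
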