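import Groth.Agent.Lib.Helper7.GUCoreB

/-!
# Integral closure of a localization at a prime with a unique prime above it, III (helper7)

`L = F_q` as a fraction ring of `D = E_q` when `L` is a field and `F` is a "generic fibre" of `E`
over a domain `A` (every element of `F` is a fraction `e / a`).
-/

set_option autoImplicit false
universe u

namespace Groth.Agent.Lib.Helper7.GUCore

open IsLocalRing

variable {A : Type u} [CommRing A]
  {E : Type u} [CommRing E] [Algebra A E] (q : Ideal E) [q.IsPrime]
  {F : Type u} [CommRing F] [Algebra E F]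
  (D : Type u) [CommRing D] [Algebra E D] [IsLocalization.AtPrime D q]
  (L : Type u) [CommRing L] [Algebra F L]
  [IsLocalization (Algebra.algebraMapSubmonoid F q.primeCompl) L]
  [Algebra D L] [Algebra E L] [IsScalarTower E D L] [IsScalarTower E F L]
  (hinjF : Function.Injective (algebraMap E F))

include q hinjF in
omit [Algebra A E] in
theorem nontrivial_L : Nontrivial L := by
  by_contra h
  rw [not_nontrivial_iff_subsingleton] at h
  have h0 : algebraMap F L 1 = 0 := Subsingleton.elim _ _
  rw [IsLocalization.map_eq_zero_iff (Algebra.algebraMapSubmonoid F q.primeCompl)] at h0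
  obtain ⟨⟨_, s, hs, rfl⟩, h1⟩ := h0
  rw [mul_one] at h1
  have : s = 0 := hinjF (by rw [map_zero]; exact h1)
  exact hs (this ▸ q.zero_mem)

include q hinjF in
omit [Algebra A E] in
theorem injective_algebraMap_D_L : Function.Injective (algebraMap D L) := by
  rw [injective_iff_map_eq_zero]
  intro d hd
  obtain ⟨e, s, rfl⟩ := IsLocalization.exists_mk'_eq q.primeCompl d
  have h1 : algebraMap D L (algebraMap E D e) = 0 := by
    have : algebraMap E D e = IsLocalization.mk' D e s * algebraMap E D s := by
      rw [IsLocalization.mk'_spec]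
    rw [this, map_mul, hd, zero_mul]
  rw [← IsScalarTower.algebraMap_apply E D L, IsScalarTower.algebraMap_apply E F L,
    IsLocalization.map_eq_zero_iff (Algebra.algebraMapSubmonoid F q.primeCompl)] at h1
  obtain ⟨⟨_, s₂, hs₂, rfl⟩, h2⟩ := h1
  have h3 : s₂ * e = 0 := hinjF (by rw [map_mul, map_zero]; exact h2)
  rw [IsLocalization.mk'_eq_zero_iff]
  exact ⟨⟨s₂, hs₂⟩, h3⟩

variable (hfracF : ∀ f : F, ∃ a : A, a ≠ 0 ∧ ∃ e : E,
    algebraMap E F (algebraMap A E a) * f = algebraMap E F e)
  (hunitF : ∀ a : A, a ≠ 0 → IsUnit (algebraMap E F (algebraMap A E a)))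

include q hinjF hunitF in
theorem algebraMap_ne_zero (hL : IsField L) {a : A} (ha : a ≠ 0) :
    algebraMap E D (algebraMap A E a) ≠ 0 := by
  haveI := nontrivial_L q L hinjF
  intro h
  have h1 : IsUnit (algebraMap E L (algebraMap A E a)) := by
    rw [IsScalarTower.algebraMap_apply E F L]
    exact (hunitF a ha).map _
  rw [IsScalarTower.algebraMap_apply E D L, h, map_zero] at h1
  exact not_isUnit_zero h1

include hinjF hfracF hunitF in
/-- Every element of the field `L` is a fraction `e / (a s)` with `e : E`, `0 ≠ a : A`,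
`s ∈ E ∖ q`. -/
theorem exists_frac (z : L) : ∃ (e : E) (a : A) (s : E), a ≠ 0 ∧ s ∈ q.primeCompl ∧
    z * algebraMap E L (algebraMap A E a * s) = algebraMap E L e := by
  obtain ⟨⟨f, ⟨_, s, hs, rfl⟩⟩, hf⟩ :=
    IsLocalization.surj (Algebra.algebraMapSubmonoid F q.primeCompl) z
  obtain ⟨a, ha, e, he⟩ := hfracF f
  refine ⟨e, a, s, ha, hs, ?_⟩
  have hs' : algebraMap F L (algebraMap E F s) = algebraMap E L s :=
    (IsScalarTower.algebraMap_apply E F L s).symm
  replace hf : z * algebraMap E L s = algebraMap F L f := by rw [← hs']; exact hf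
  rw [map_mul, mul_comm (algebraMap E L (algebraMap A E a)), ← mul_assoc, hf,
    IsScalarTower.algebraMap_apply E F L, ← map_mul, mul_comm, he,
    ← IsScalarTower.algebraMap_apply E F L]

include q hinjF hfracF hunitF in
theorem isFractionRing_D_L (hL : IsField L) : IsFractionRing D L := by
  haveI := nontrivial_L q L hinjF
  have hinj := injective_algebraMap_D_L q D L hinjF
  refine ⟨⟨?_, ?_, ?_⟩⟩
  · rintro ⟨y, hy⟩
    have hy0 : algebraMap D L y ≠ 0 := by
      intro h
      have : y = 0 := hinj (by rw [h, map_zero])
      subst this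
      haveI : Nontrivial D := (algebraMap D L).domain_nontrivial
      exact zero_notMem_nonZeroDivisors hy
    obtain ⟨w, hw⟩ := hL.mul_inv_cancel hy0
    exact IsUnit.of_mul_eq_one _ hw
  · intro z
    obtain ⟨e, a, s, ha, hs, h⟩ := exists_frac q L hinjF hfracF hunitF z
    have hne : algebraMap E D (algebraMap A E a * s) ≠ 0 := by
      rw [map_mul]
      intro h0
      have hu : IsUnit (algebraMap E D s) := IsLocalization.map_units D (⟨s, hs⟩ : q.primeCompl)
      rw [hu.mul_left_eq_zero] at h0
      exact algebraMap_ne_zero q D L hinjF hunitF hL ha h0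
    have hdom : NoZeroDivisors D := by
      refine ⟨fun {x y} hxy => ?_⟩
      have h1 : algebraMap D L x * algebraMap D L y = 0 := by rw [← map_mul, hxy, map_zero]
      by_contra hcon
      push_neg at hcon
      have hx : algebraMap D L x ≠ 0 := fun h => hcon.1 (hinj (by rw [h, map_zero]))
      have hy : algebraMap D L y ≠ 0 := fun h => hcon.2 (hinj (by rw [h, map_zero]))
      obtain ⟨w, hw⟩ := hL.mul_inv_cancel hx
      have : algebraMap D L y = 0 := by
        calc algebraMap D L y = (w * algebraMap D L x) * algebraMap D L y := by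
              rw [mul_comm w, hw, one_mul]
          _ = 0 := by rw [mul_assoc, h1, mul_zero]
      exact hy this
    refine ⟨(algebraMap E D e, ⟨algebraMap E D (algebraMap A E a * s), ?_⟩), ?_⟩
    · exact mem_nonZeroDivisors_of_ne_zero hne
    · change z * algebraMap D L (algebraMap E D (algebraMap A E a * s)) =
        algebraMap D L (algebraMap E D e)
      rw [← IsScalarTower.algebraMap_apply E D L, ← IsScalarTower.algebraMap_apply E D L]
      exact h
  · intro x y hxy
    exact ⟨1, by rw [hinj hxy]⟩

include q hinjF hfracF hunitF in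
/-- Every nonzero element of `D` divides a nonzero element of `A`. -/
theorem exists_mul_eq_algebraMap (hL : IsField L) (x : D) (hx : x ≠ 0) :
    ∃ a : A, a ≠ 0 ∧ ∃ y : D, x * y = algebraMap E D (algebraMap A E a) := by
  have hinj := injective_algebraMap_D_L q D L hinjF
  have hx' : algebraMap D L x ≠ 0 := fun h => hx (hinj (by rw [h, map_zero]))
  obtain ⟨w, hw⟩ := hL.mul_inv_cancel hx'
  obtain ⟨e, a, s, ha, hs, h⟩ := exists_frac q L hinjF hfracF hunitF w
  obtain ⟨v, hv⟩ := (IsLocalization.map_units D (⟨s, hs⟩ : q.primeCompl)).exists_left_inv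
  have hv' : v * algebraMap E D s = 1 := hv
  refine ⟨a, ha, algebraMap E D e * v, ?_⟩
  apply hinj
  have h2 : algebraMap D L x * algebraMap E L e = algebraMap E L (algebraMap A E a * s) := by
    rw [← h, ← mul_assoc, hw, one_mul]
  rw [IsScalarTower.algebraMap_apply E D L, IsScalarTower.algebraMap_apply E D L,
    ← map_mul] at h2
  have h3 := hinj h2
  calc algebraMap D L (x * (algebraMap E D e * v))
      = algebraMap D L ((x * algebraMap E D e) * v) := by rw [mul_assoc]
    _ = algebraMap D L (algebraMap E D (algebraMap A E a * s) * v) := by rw [h3]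
    _ = algebraMap D L (algebraMap E D (algebraMap A E a)) := by
        rw [map_mul (algebraMap E D), mul_assoc, mul_comm (algebraMap E D s), hv', mul_one]

end Groth.Agent.Lib.Helper7.GUCore
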