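import Groth.Agent.Lib.Helper7.GUUnram

/-!
# Local dichotomy for unramified algebras over a geometrically unibranch domain (helper7)

* `eq_bot_of_comap_eq_bot`: in a domain `E` étale over a domain `R`, the only prime over `(0)` is
  `(0)`.
* `exists_isDomain_away`: `E` étale over a domain `R`, `qE` a prime over `p` with `R_p`
  geometrically unibranch: `E_h` is a domain for some `h ∉ qE`.
* `dichotomy`: `B` of finite type over a domain `R`, unramified at `q` over `p`, `R_p`
  geometrically unibranch.  Then for some `g ∉ q` either `B_g` is an étale domain over `R`, or no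
  prime of `D(g)` lies over `(0)`.
-/

set_option autoImplicit false
set_option maxHeartbeats 400000
universe u

namespace Groth.Agent.Lib.Helper7.GUUnram

open IsLocalRing TensorProduct

theorem eq_bot_of_comap_eq_bot {R E : Type u} [CommRing R] [IsDomain R] [CommRing E] [IsDomain E]
    [Algebra R E] [Algebra.Etale R E] (Q : Ideal E) [Q.IsPrime]
    (hQ : Q.comap (algebraMap R E) = ⊥) : Q = ⊥ := by
  rw [eq_bot_iff]
  intro y hy
  rw [Ideal.mem_bot]
  by_contra hy0
  let K := FractionRing R
  let F := E ⊗[R] K
  have hinj : Function.Injective (algebraMap E F) :=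
    GUEtale.injective_algebraMap_tensor (A := R) (E := E) K
  -- `F` is a localization of the domain `E`, hence a domain; being Artinian it is a field
  haveI : IsLocalization (Algebra.algebraMapSubmonoid E (nonZeroDivisors R)) F :=
    inferInstanceAs (IsLocalization (Algebra.algebraMapSubmonoid E (nonZeroDivisors R))
      (E ⊗[R] K))
  haveI : Nontrivial F := hinj.nontrivial
  have hle : Algebra.algebraMapSubmonoid E (nonZeroDivisors R) ≤ nonZeroDivisors E := by
    rintro _ ⟨a, ha, rfl⟩
    apply mem_nonZeroDivisors_of_ne_zero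
    intro h0
    have h1 : algebraMap E F (algebraMap R E a) = 0 := by rw [h0, map_zero]
    exact (GUEtale.isUnit_algebraMap_tensor (A := R) (E := E) K a
      (nonZeroDivisors.ne_zero ha)).ne_zero h1
  haveI : IsDomain F := IsLocalization.isDomain_of_le_nonZeroDivisors (R := E) (S := F) hle
  have hfield : IsField F := IsArtinianRing.isField_of_isDomain F
  obtain ⟨z, hz⟩ := hfield.mul_inv_cancel (a := algebraMap E F y)
    (fun h => hy0 (hinj (by rw [h, map_zero])))
  obtain ⟨a, ha, e, he⟩ := GUEtale.exists_frac_tensor (A := R) (E := E) K z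
  have h2 : y * e = algebraMap R E a := by
    apply hinj
    rw [map_mul, ← he, mul_left_comm, hz, mul_one]
  have h3 : a ∈ Q.comap (algebraMap R E) := by
    change algebraMap R E a ∈ Q
    rw [← h2]
    exact Q.mul_mem_right e hy
  rw [hQ] at h3
  exact ha h3

/-- `E` étale over `R`, `qE` over `p`, `A = R_p` a geometrically unibranch local domain: the local
ring `E_{qE}` is a domain. -/
theorem isDomain_atPrime_of_etale {R E : Type u} [CommRing R] [CommRing E] [Algebra R E]
    [Algebra.Etale R E] (qE : Ideal E) [qE.IsPrime] (p : Ideal R) [p.IsPrime]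
    (hqEp : qE.comap (algebraMap R E) = p)
    (A : Type u) [CommRing A] [IsDomain A] [IsLocalRing A] [Algebra R A]
    [IsLocalization.AtPrime A p] (hA : CAlg2.IsGeomUnibranch A)
    (D : Type u) [CommRing D] [Algebra E D] [IsLocalization.AtPrime D qE] : IsDomain D := by
  haveI : IsLocalRing D := IsLocalization.AtPrime.isLocalRing D qE
  letI : Algebra R D := ((algebraMap E D).comp (algebraMap R E)).toAlgebra
  haveI : IsScalarTower R E D := .of_algebraMap_eq' rfl
  have hunits : ∀ y : p.primeCompl, IsUnit (algebraMap R D y) := by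
    intro y
    change IsUnit (algebraMap E D (algebraMap R E y))
    have hy : algebraMap R E y ∈ qE.primeCompl := by
      intro hy
      have hy' : (y : R) ∈ qE.comap (algebraMap R E) := hy
      rw [hqEp] at hy'
      exact y.2 hy'
    exact IsLocalization.map_units D (⟨_, hy⟩ : qE.primeCompl)
  letI : Algebra A D := (IsLocalization.lift (M := p.primeCompl) (S := A) hunits).toAlgebra
  haveI : IsScalarTower R A D := .of_algebraMap_eq' (by
    refine RingHom.ext fun r => ?_
    exact (IsLocalization.lift_eq hunits r).symm)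
  exact (GUEtale.core' (R := R) (B := E) p qE hqEp A D hA).1

theorem exists_isDomain_away {R E : Type u} [CommRing R] [IsDomain R] [CommRing E] [Algebra R E]
    [Algebra.Etale R E] (qE : Ideal E) [qE.IsPrime] (p : Ideal R) [p.IsPrime]
    (hqEp : qE.comap (algebraMap R E) = p)
    (A : Type u) [CommRing A] [IsDomain A] [IsLocalRing A] [Algebra R A]
    [IsLocalization.AtPrime A p] (hA : CAlg2.IsGeomUnibranch A) :
    ∃ h : E, h ∉ qE ∧ IsDomain (Localization.Away h) := by
  obtain ⟨D, _, _, hD⟩ := GUCore.exists_localization E qE.primeCompl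
  haveI : IsLocalization.AtPrime D qE := hD
  haveI : IsDomain D := isDomain_atPrime_of_etale qE p hqEp A hA D
  have hI : ∀ x ∈ RingHom.ker (algebraMap E D), ∃ s ∈ qE.primeCompl, s * x = 0 := by
    intro x hx
    have h0 : algebraMap E D x = 0 := hx
    rw [IsLocalization.map_eq_zero_iff qE.primeCompl] at h0
    obtain ⟨m, hm⟩ := h0
    exact ⟨m.1, m.2, hm⟩
  obtain ⟨h, hh, hkill⟩ := exists_mul_ker_eq_zero qE (RingHom.ker (algebraMap E D)) hI
    (Or.inr (inferInstance : IsDomain R))
  refine ⟨h, hh, ?_⟩
  have hunit : IsUnit (algebraMap E D h) := IsLocalization.map_units D (⟨h, hh⟩ : qE.primeCompl)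
  let ι : Localization.Away h →+* D := IsLocalization.Away.lift h hunit
  refine Function.Injective.isDomain ι ?_
  rw [injective_iff_map_eq_zero]
  intro z hz
  obtain ⟨x, ⟨_, n, rfl⟩, rfl⟩ := IsLocalization.exists_mk'_eq (Submonoid.powers h) z
  have h1 : ι (algebraMap E (Localization.Away h) x) = 0 := by
    have : algebraMap E (Localization.Away h) x =
        IsLocalization.mk' (Localization.Away h) x (⟨h ^ n, n, rfl⟩ : Submonoid.powers h) *
          algebraMap E (Localization.Away h) (h ^ n) := by
      rw [IsLocalization.mk'_spec]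
    rw [this, map_mul, hz, zero_mul]
  have h2 : algebraMap E D x = 0 := by
    rw [← h1]
    exact (IsLocalization.Away.lift_eq h hunit x).symm
  have h3 : h * x = 0 := hkill x h2
  rw [IsLocalization.mk'_eq_zero_iff]
  exact ⟨⟨h, 1, pow_one h⟩, h3⟩

theorem exists_surj_away {R B E : Type u} [CommRing R] [CommRing B] [CommRing E] [Algebra R B]
    [Algebra R E] (q : Ideal B) [q.IsPrime] (f : B) (hf : f ∉ q)
    (φ : E →ₐ[R] Localization.Away f) (hφ : Function.Surjective φ) (h : E)
    (hhq : φ h ∉ q.map (algebraMap B (Localization.Away f))) :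
    ∃ g : B, g ∉ q ∧ ∃ ψ : Localization.Away h →ₐ[R] Localization.Away g,
      Function.Surjective ψ := by
  set u := φ h with hu
  let ψ₀ : Localization.Away h →ₐ[R] Localization.Away u := Localization.awayMapₐ φ h
  have hψs : Function.Surjective ψ₀ := IsLocalization.Away.mapₐ_surjective_of_surjective h hφ
  obtain ⟨b, ⟨_, n, rfl⟩, hb⟩ := IsLocalization.exists_mk'_eq (Submonoid.powers f) u
  have hunit : IsUnit (algebraMap B (Localization.Away f) (f ^ n)) :=
    IsLocalization.map_units (Localization.Away f) (⟨f ^ n, n, rfl⟩ : Submonoid.powers f)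
  have hbu : algebraMap B (Localization.Away f) b =
      u * algebraMap B (Localization.Away f) (f ^ n) := by
    rw [← hb, IsLocalization.mk'_spec]
  have hassoc : Associated u (algebraMap B (Localization.Away f) b) :=
    ⟨hunit.unit, by rw [hbu]; rfl⟩
  haveI : IsLocalization.Away (algebraMap B (Localization.Away f) b) (Localization.Away u) :=
    IsLocalization.Away.of_associated hassoc
  haveI : IsLocalization.Away (f * b) (Localization.Away u) :=
    IsLocalization.Away.mul' (Localization.Away f) (Localization.Away u) f b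
  have hbq : b ∉ q := by
    intro hbq
    apply hhq
    have : algebraMap B (Localization.Away f) b ∈ q.map (algebraMap B (Localization.Away f)) :=
      Ideal.mem_map_of_mem _ hbq
    rw [hbu] at this
    exact (Ideal.mul_unit_mem_iff_mem _ hunit).mp this
  refine ⟨f * b, (inferInstance : q.IsPrime).mul_notMem hf hbq, ?_⟩
  let e : Localization.Away (f * b) ≃ₐ[B] Localization.Away u :=
    IsLocalization.algEquiv (Submonoid.powers (f * b)) _ _
  refine ⟨((e.restrictScalars R).symm : Localization.Away u →ₐ[R] Localization.Away (f * b)).comp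
    ψ₀, ?_⟩
  rw [AlgHom.coe_comp]
  exact (e.restrictScalars R).symm.surjective.comp hψs

theorem dichotomy_of_surj {R B E : Type u} [CommRing R] [IsDomain R] [CommRing B] [CommRing E]
    [IsDomain E] [Algebra R B] [Algebra R E] [Algebra.Etale R E] (g : B)
    (ψ : E →ₐ[R] Localization.Away g) (hψ : Function.Surjective ψ) :
    (Algebra.Etale R (Localization.Away g) ∧ IsDomain (Localization.Away g)) ∨
      ∀ Q : Ideal B, Q.IsPrime → g ∉ Q → Q.comap (algebraMap R B) ≠ ⊥ := by
  by_cases hinj : Function.Injective ψ
  · left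
    let e : E ≃ₐ[R] Localization.Away g := AlgEquiv.ofBijective ψ ⟨hinj, hψ⟩
    exact ⟨Algebra.Etale.of_equiv e, e.symm.injective.isDomain e.symm.toRingHom⟩
  · right
    intro Q hQ hgQ hbot
    apply hinj
    have hdisj : Disjoint (Submonoid.powers g : Set B) (Q : Set B) := by
      rw [Set.disjoint_left]
      rintro _ ⟨n, rfl⟩ hn
      exact hgQ (hQ.mem_of_pow_mem n hn)
    let Qg : Ideal (Localization.Away g) := Q.map (algebraMap B (Localization.Away g))
    haveI hQg : Qg.IsPrime :=
      IsLocalization.isPrime_of_isPrime_disjoint (Submonoid.powers g) _ _ hQ hdisj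
    have hQgc : Qg.comap (algebraMap B (Localization.Away g)) = Q :=
      IsLocalization.under_map_of_isPrime_disjoint (Submonoid.powers g) _ hQ hdisj
    let Q' : Ideal E := Qg.comap ψ.toRingHom
    haveI : Q'.IsPrime := Ideal.comap_isPrime _ _
    have hQ' : Q'.comap (algebraMap R E) = ⊥ := by
      change (Qg.comap ψ.toRingHom).comap (algebraMap R E) = ⊥
      rw [Ideal.comap_comap]
      have : (ψ.toRingHom).comp (algebraMap R E) =
          (algebraMap B (Localization.Away g)).comp (algebraMap R B) := by
        refine RingHom.ext fun r => ?_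
        change ψ (algebraMap R E r) = _
        rw [ψ.commutes]
        exact IsScalarTower.algebraMap_apply R B (Localization.Away g) r
      rw [this, ← Ideal.comap_comap, hQgc, hbot]
    have hQ'bot : Q' = ⊥ := eq_bot_of_comap_eq_bot Q' hQ'
    rw [injective_iff_map_eq_zero]
    intro z hz
    have hzQ : z ∈ Q' := by
      change ψ z ∈ Qg
      rw [hz]
      exact Qg.zero_mem
    rw [hQ'bot] at hzQ
    exact hzQ

theorem dichotomy_aux {R B E : Type u} [CommRing R] [IsDomain R] [CommRing B] [CommRing E]
    [Algebra R B] [Algebra R E] [Algebra.Etale R E] (q : Ideal B) [q.IsPrime]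
    (f : B) (hf : f ∉ q) (φ : E →ₐ[R] Localization.Away f) (hφ : Function.Surjective φ)
    (p : Ideal R) [p.IsPrime] (hqp : q.comap (algebraMap R B) = p)
    (A : Type u) [CommRing A] [IsDomain A] [IsLocalRing A] [Algebra R A]
    [IsLocalization.AtPrime A p] (hA : CAlg2.IsGeomUnibranch A) :
    ∃ g : B, g ∉ q ∧ ((Algebra.Etale R (Localization.Away g) ∧ IsDomain (Localization.Away g)) ∨
      ∀ Q : Ideal B, Q.IsPrime → g ∉ Q → Q.comap (algebraMap R B) ≠ ⊥) := by
  have hdisj : Disjoint (Submonoid.powers f : Set B) (q : Set B) := by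
    rw [Set.disjoint_left]
    rintro _ ⟨n, rfl⟩ hn
    exact hf ((inferInstance : q.IsPrime).mem_of_pow_mem n hn)
  let qf : Ideal (Localization.Away f) := q.map (algebraMap B (Localization.Away f))
  haveI hqf : qf.IsPrime :=
    IsLocalization.isPrime_of_isPrime_disjoint (Submonoid.powers f) _ _ inferInstance hdisj
  have hqfc : qf.comap (algebraMap B (Localization.Away f)) = q :=
    IsLocalization.under_map_of_isPrime_disjoint (Submonoid.powers f) _ inferInstance hdisj
  let qE : Ideal E := qf.comap φ.toRingHom
  haveI hqE : qE.IsPrime := Ideal.comap_isPrime _ _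
  have hqEp : qE.comap (algebraMap R E) = p := by
    change (qf.comap φ.toRingHom).comap (algebraMap R E) = p
    rw [Ideal.comap_comap]
    have : (φ.toRingHom).comp (algebraMap R E) =
        (algebraMap B (Localization.Away f)).comp (algebraMap R B) := by
      refine RingHom.ext fun r => ?_
      change φ (algebraMap R E r) = _
      rw [φ.commutes]
      exact IsScalarTower.algebraMap_apply R B (Localization.Away f) r
    rw [this, ← Ideal.comap_comap, hqfc, hqp]
  obtain ⟨h, hh, hdom⟩ := exists_isDomain_away qE p hqEp A hA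
  haveI : Algebra.Etale E (Localization.Away h) := Algebra.Etale.of_isLocalizationAway h
  haveI : Algebra.Etale R (Localization.Away h) := Algebra.Etale.comp R E (Localization.Away h)
  obtain ⟨g, hg, ψ, hψ⟩ := exists_surj_away q f hf φ hφ h hh
  exact ⟨g, hg, dichotomy_of_surj g ψ hψ⟩

theorem dichotomy {R B : Type u} [CommRing R] [IsDomain R] [CommRing B] [Algebra R B]
    [Algebra.FiniteType R B] (q : Ideal B) [q.IsPrime] [Algebra.IsUnramifiedAt R q]
    (p : Ideal R) [p.IsPrime] (hqp : q.comap (algebraMap R B) = p)
    (A : Type u) [CommRing A] [IsDomain A] [IsLocalRing A] [Algebra R A]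
    [IsLocalization.AtPrime A p] (hA : CAlg2.IsGeomUnibranch A) :
    ∃ g : B, g ∉ q ∧ ((Algebra.Etale R (Localization.Away g) ∧ IsDomain (Localization.Away g)) ∨
      ∀ Q : Ideal B, Q.IsPrime → g ∉ Q → Q.comap (algebraMap R B) ≠ ⊥) := by
  obtain ⟨f, hf, P, φ, hφ⟩ :=
    Algebra.IsUnramifiedAt.exists_hasStandardEtaleSurjectionOn (R := R) q
  exact dichotomy_aux q f hf φ hφ p hqp A hA

end Groth.Agent.Lib.Helper7.GUUnram
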