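import Mathlib

/-!
# `p`-power descent along a radicial residue extension (helper7)

Abstract setting: ring maps `α : A → Aν`, `β : A → E`, `φ : E → C`, `ψ : Aν → C` forming a
commutative square, with `C` generated as a ring by the images of `E` and `Aν` (e.g.
`C = E ⊗_A Aν`).  `m` is a maximal ideal of `Aν` such that every element of `Aν` has a `p^n`-th
power congruent mod `m` to an element of `A` (`p` the characteristic exponent of `Aν/m`).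

* `exists_pow_sub_mem`: for every proper ideal `Q ⊇ ψ(m)` of `C` and every `c : C` some
  `c^(p^n) - φ e` lies in `Q`.
* `eq_of_comap_eq`: two primes of `C` containing `ψ(m)` with the same contraction to `E` coincide.
-/

set_option autoImplicit false
universe u

namespace Groth.Agent.Lib.Helper7.GUPow

variable {A Aν E C : Type*} [CommRing A] [CommRing Aν] [CommRing E] [CommRing C]
  (α : A →+* Aν) (β : A →+* E) (φ : E →+* C) (ψ : Aν →+* C)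
  (hsq : φ.comp β = ψ.comp α)
  (hgen : Subring.closure (Set.range φ ∪ Set.range ψ) = ⊤)
  (m : Ideal Aν) [m.IsMaximal] (p : ℕ) [ExpChar (Aν ⧸ m) p]
  (hpi : ∀ a : Aν, ∃ (n : ℕ) (b : A), a ^ p ^ n - α b ∈ m)

include hsq hgen hpi in
theorem exists_pow_sub_mem (Q : Ideal C) (hQ : Q ≠ ⊤) (hm : m ≤ Q.comap ψ) (c : C) :
    ∃ (n : ℕ) (e : E), c ^ p ^ n - φ e ∈ Q := by
  haveI : Nontrivial (C ⧸ Q) := Ideal.Quotient.nontrivial_iff.mpr hQ
  -- the residue field of `Aν` embeds into `C ⧸ Q`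
  let ι : Aν ⧸ m →+* C ⧸ Q := Ideal.quotientMap Q ψ hm
  letI : Field (Aν ⧸ m) := Ideal.Quotient.field m
  haveI : ExpChar (C ⧸ Q) p := expChar_of_injective_ringHom ι.injective p
  let π := Ideal.Quotient.mk Q
  suffices h : ∃ (n : ℕ) (e : E), π c ^ p ^ n = π (φ e) by
    obtain ⟨n, e, h⟩ := h
    refine ⟨n, e, ?_⟩
    rw [← Ideal.Quotient.eq_zero_iff_mem, map_sub, map_pow, h, sub_self]
  have hc : c ∈ Subring.closure (Set.range φ ∪ Set.range ψ) := by rw [hgen]; trivial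
  induction hc using Subring.closure_induction with
  | mem x hx =>
    rcases hx with ⟨e, rfl⟩ | ⟨a, rfl⟩
    · exact ⟨0, e, by simp⟩
    · obtain ⟨n, b, hb⟩ := hpi a
      refine ⟨n, β b, ?_⟩
      have h1 : ψ (a ^ p ^ n - α b) ∈ Q := hm hb
      have h2 : π (ψ (a ^ p ^ n - α b)) = 0 := Ideal.Quotient.eq_zero_iff_mem.mpr h1
      rw [map_sub, map_sub, sub_eq_zero, map_pow, map_pow] at h2
      rw [h2]
      have : φ (β b) = ψ (α b) := congr($hsq b)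
      rw [this]
  | zero => exact ⟨0, 0, by simp⟩
  | one => exact ⟨0, 1, by simp⟩
  | add x y _ _ hx hy =>
    obtain ⟨n₁, e₁, h₁⟩ := hx
    obtain ⟨n₂, e₂, h₂⟩ := hy
    refine ⟨n₁ + n₂, e₁ ^ p ^ n₂ + e₂ ^ p ^ n₁, ?_⟩
    have hx' : π x ^ p ^ (n₁ + n₂) = π (φ e₁) ^ p ^ n₂ := by rw [pow_add, pow_mul, h₁]
    have hy' : π y ^ p ^ (n₁ + n₂) = π (φ e₂) ^ p ^ n₁ := by
      rw [add_comm, pow_add, pow_mul, h₂]
    rw [map_add, add_pow_expChar_pow, hx', hy']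
    simp only [map_add, map_pow]
  | neg x _ hx =>
    obtain ⟨n, e, h⟩ := hx
    refine ⟨n, (-1) ^ p ^ n * e, ?_⟩
    rw [map_neg, neg_pow, h]
    simp only [map_mul, map_pow, map_neg, map_one]
  | mul x y _ _ hx hy =>
    obtain ⟨n₁, e₁, h₁⟩ := hx
    obtain ⟨n₂, e₂, h₂⟩ := hy
    refine ⟨n₁ + n₂, e₁ ^ p ^ n₂ * e₂ ^ p ^ n₁, ?_⟩
    have hx' : π x ^ p ^ (n₁ + n₂) = π (φ e₁) ^ p ^ n₂ := by rw [pow_add, pow_mul, h₁]
    have hy' : π y ^ p ^ (n₁ + n₂) = π (φ e₂) ^ p ^ n₁ := by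
      rw [add_comm, pow_add, pow_mul, h₂]
    rw [map_mul, mul_pow, hx', hy']
    simp only [map_mul, map_pow]

include hsq hgen hpi in
theorem le_of_comap_le (Q₁ Q₂ : Ideal C) [Q₁.IsPrime] [Q₂.IsPrime]
    (h₁ : m ≤ Q₁.comap ψ) (h₂ : m ≤ Q₂.comap ψ) (h : Q₁.comap φ ≤ Q₂.comap φ) : Q₁ ≤ Q₂ := by
  intro c hc
  have hne : Q₁ ⊓ Q₂ ≠ ⊤ := fun h' =>
    (inferInstance : Q₁.IsPrime).ne_top (top_le_iff.mp (h' ▸ inf_le_left))
  obtain ⟨n, e, he⟩ := exists_pow_sub_mem α β φ ψ hsq hgen m p hpi (Q₁ ⊓ Q₂) hne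
    (fun x hx => ⟨h₁ hx, h₂ hx⟩) c
  have he₁ : φ e ∈ Q₁ := by
    have := Q₁.sub_mem (Q₁.pow_mem_of_mem hc (p ^ n) (pow_pos (expChar_pos (Aν ⧸ m) p) n)) he.1
    simpa using this
  have he₂ : φ e ∈ Q₂ := h he₁
  have : c ^ p ^ n ∈ Q₂ := by
    have := Q₂.add_mem he.2 he₂
    simpa using this
  exact (inferInstance : Q₂.IsPrime).mem_of_pow_mem _ this

include hsq hgen hpi in
theorem eq_of_comap_eq (Q₁ Q₂ : Ideal C) [Q₁.IsPrime] [Q₂.IsPrime]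
    (h₁ : m ≤ Q₁.comap ψ) (h₂ : m ≤ Q₂.comap ψ) (h : Q₁.comap φ = Q₂.comap φ) : Q₁ = Q₂ :=
  le_antisymm (le_of_comap_le α β φ ψ hsq hgen m p hpi Q₁ Q₂ h₁ h₂ h.le)
    (le_of_comap_le α β φ ψ hsq hgen m p hpi Q₂ Q₁ h₂ h₁ h.ge)

end Groth.Agent.Lib.Helper7.GUPow
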