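import Groth.Agent.Lib.Helper7.GUCoreD
import Groth.Agent.Lib.Helper7.GUPow

/-!
# Étale algebras over geometrically unibranch local domains (helper7)

`core`: let `A` be a geometrically unibranch local domain, `E` an étale `A`-algebra and `q` a prime
of `E` over the maximal ideal of `A`.  Then `E_q` is a domain, is geometrically unibranch, and
every nonzero element of `E_q` divides a nonzero element of `A` (EGA IV 18.10 / 17.5.7 type
statement).  Proof: base change of the integral closure (`Mathlib`'s
`TensorProduct.toIntegralClosure_bijective_of_smooth`) + `GUPow` + `GUCore`.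
-/

set_option autoImplicit false
set_option maxHeartbeats 400000
universe u

namespace Groth.Agent.Lib.Helper7.GUEtale

open TensorProduct IsLocalRing

section generic

variable {A : Type u} [CommRing A] [IsDomain A]
  {E : Type u} [CommRing E] [Algebra A E] [Algebra.Etale A E]
  (K : Type u) [Field K] [Algebra A K] [IsFractionRing A K]

instance isArtinianRing_tensor : IsArtinianRing (E ⊗[A] K) := by
  haveI : Module.Finite K (K ⊗[A] E) := Algebra.FormallyUnramified.finite_of_free K (K ⊗[A] E)
  haveI : IsArtinianRing (K ⊗[A] E) := IsArtinianRing.of_finite K (K ⊗[A] E)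
  exact (Algebra.TensorProduct.comm A K E).toRingEquiv.surjective.isArtinianRing

instance isReduced_tensor : IsReduced (E ⊗[A] K) := by
  haveI : IsReduced (K ⊗[A] E) := Algebra.FormallyUnramified.isReduced_of_field K (K ⊗[A] E)
  exact isReduced_of_injective (Algebra.TensorProduct.comm A E K).toRingEquiv.toRingHom
    (Algebra.TensorProduct.comm A E K).injective

theorem injective_algebraMap_tensor : Function.Injective (algebraMap E (E ⊗[A] K)) :=
  Algebra.TensorProduct.includeLeft_injective (S := E) (IsFractionRing.injective A K)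

theorem exists_frac_tensor (f : E ⊗[A] K) : ∃ a : A, a ≠ 0 ∧ ∃ e : E,
    algebraMap E (E ⊗[A] K) (algebraMap A E a) * f = algebraMap E (E ⊗[A] K) e := by
  obtain ⟨⟨e, ⟨_, a, ha, rfl⟩⟩, h⟩ :=
    IsLocalization.surj (Algebra.algebraMapSubmonoid E (nonZeroDivisors A)) f
  exact ⟨a, nonZeroDivisors.ne_zero ha, e, by rw [mul_comm]; exact h⟩

theorem isUnit_algebraMap_tensor (a : A) (ha : a ≠ 0) :
    IsUnit (algebraMap E (E ⊗[A] K) (algebraMap A E a)) :=
  IsLocalization.map_units (M := Algebra.algebraMapSubmonoid E (nonZeroDivisors A)) (E ⊗[A] K)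
    ⟨algebraMap A E a, a, mem_nonZeroDivisors_of_ne_zero ha, rfl⟩

end generic

section maps

variable {A : Type u} [CommRing A] [IsDomain A]
  {E : Type u} [CommRing E] [Algebra A E] [Algebra.Etale A E]
  (K : Type u) [Field K] [Algebra A K] [IsFractionRing A K]

/-- The map from the integral closure of `A` in `K` to the integral closure of `E` in
`E ⊗ K`. -/
noncomputable def psi : integralClosure A K →+* integralClosure E (E ⊗[A] K) :=
  (TensorProduct.toIntegralClosure A E K).toRingHom.comp
    (Algebra.TensorProduct.includeRight (R := A) (A := E) (B := integralClosure A K)).toRingHom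

theorem psi_apply (a : integralClosure A K) :
    psi (E := E) K a = TensorProduct.toIntegralClosure A E K (1 ⊗ₜ a) := rfl

theorem algebraMap_eq_toIC (e : E) :
    algebraMap E (integralClosure E (E ⊗[A] K)) e =
      TensorProduct.toIntegralClosure A E K (e ⊗ₜ 1) := by
  rw [← (TensorProduct.toIntegralClosure A E K).commutes e,
    Algebra.TensorProduct.algebraMap_apply, Algebra.algebraMap_self, RingHom.id_apply]

theorem hsq : (algebraMap E (integralClosure E (E ⊗[A] K))).comp (algebraMap A E) =
    (psi (E := E) K).comp (algebraMap A (integralClosure A K)) := by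
  refine RingHom.ext fun a => ?_
  rw [RingHom.comp_apply, RingHom.comp_apply, algebraMap_eq_toIC, psi_apply]
  congr 1
  rw [Algebra.algebraMap_eq_smul_one, Algebra.algebraMap_eq_smul_one, TensorProduct.smul_tmul]

theorem hgen : Subring.closure (Set.range (algebraMap E (integralClosure E (E ⊗[A] K))) ∪
    Set.range (psi (E := E) K)) = ⊤ := by
  rw [eq_top_iff]
  rintro c -
  obtain ⟨t, rfl⟩ := (TensorProduct.toIntegralClosure_bijective_of_smooth (R := A) (S := E)
    (B := K)).2 c
  induction t using TensorProduct.induction_on with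
  | zero => rw [map_zero]; exact zero_mem _
  | tmul e a =>
    have : (e ⊗ₜ[A] a : E ⊗[A] integralClosure A K) = (e ⊗ₜ 1) * (1 ⊗ₜ a) := by
      rw [Algebra.TensorProduct.tmul_mul_tmul, mul_one, one_mul]
    rw [this, map_mul, ← algebraMap_eq_toIC, ← psi_apply]
    exact mul_mem (Subring.subset_closure (Or.inl ⟨e, rfl⟩))
      (Subring.subset_closure (Or.inr ⟨a, rfl⟩))
  | add x y hx hy => rw [map_add]; exact add_mem hx hy

end maps

section main

variable {A : Type u} [CommRing A] [IsDomain A] [IsLocalRing A]
  {E : Type u} [CommRing E] [Algebra A E] [Algebra.Etale A E]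
  (K : Type u) [Field K] [Algebra A K] [IsFractionRing A K]

/-- Primes of the integral closure of `E` in `E ⊗ K` lying over a prime `q` over the maximal
ideal of `A` contain the image of the maximal ideal of the integral closure of `A`. -/
theorem le_comap_psi [IsLocalRing (integralClosure A K)] (q : Ideal E)
    (hq : q.comap (algebraMap A E) = maximalIdeal A)
    (Q : Ideal (integralClosure E (E ⊗[A] K))) [Q.IsPrime]
    (hQ : Q.comap (algebraMap E (integralClosure E (E ⊗[A] K))) = q) :
    maximalIdeal (integralClosure A K) ≤ Q.comap (psi (E := E) K) := by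
  have h1 : (Q.comap (psi (E := E) K)).comap (algebraMap A (integralClosure A K)) =
      maximalIdeal A := by
    rw [Ideal.comap_comap, ← hsq, ← Ideal.comap_comap, hQ, hq]
  haveI : ((Q.comap (psi (E := E) K)).comap (algebraMap A (integralClosure A K))).IsMaximal := by
    rw [h1]; infer_instance
  have h2 : (Q.comap (psi (E := E) K)).IsMaximal :=
    Ideal.isMaximal_of_isIntegral_of_isMaximal_comap (R := A) _ inferInstance
  exact le_of_eq (IsLocalRing.eq_maximalIdeal h2).symm

include K in
theorem core_aux (hA : CAlg2.IsGeomUnibranch A) (q : Ideal E) [q.IsPrime]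
    (hq : q.comap (algebraMap A E) = maximalIdeal A)
    (D : Type u) [CommRing D] [IsLocalRing D] [Algebra E D] [IsLocalization.AtPrime D q] :
    IsDomain D ∧ CAlg2.IsGeomUnibranch D ∧
      ∀ x : D, x ≠ 0 → ∃ a : A, a ≠ 0 ∧ ∃ y : D, x * y = algebraMap E D (algebraMap A E a) := by
  haveI : IsLocalRing (integralClosure A K) := GUModel.isLocalRing_of_isGeomUnibranch A K hA
  set m := maximalIdeal (integralClosure A K) with hm
  set p := ringExpChar (integralClosure A K ⧸ m) with hp
  have hpi : ∀ a : integralClosure A K, ∃ (n : ℕ) (b : A),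
      a ^ p ^ n - algebraMap A (integralClosure A K) b ∈ m :=
    GUModel.exists_pow_sub_mem_of_isGeomUnibranch A K hA p
  -- the localization `L` of `E ⊗ K`
  obtain ⟨L, _, _, _, _, hloc, htow₁, htow₂⟩ := GUCore.exists_L_data (F := E ⊗[A] K) q (D := D)
  -- characteristic exponents
  have hcomap : m.comap (algebraMap A (integralClosure A K)) = maximalIdeal A :=
    IsLocalRing.eq_maximalIdeal (Ideal.isMaximal_comap_of_isIntegral_of_isMaximal m)
  let ι₁ : A ⧸ maximalIdeal A →+* integralClosure A K ⧸ m :=
    Ideal.quotientMap _ (algebraMap A (integralClosure A K)) (le_of_eq hcomap.symm)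
  have hι₁ : Function.Injective ι₁ := Ideal.quotientMap_injective' (le_of_eq hcomap)
  haveI : ExpChar (A ⧸ maximalIdeal A) p := ι₁.expChar hι₁ p
  let ι₂ : A ⧸ maximalIdeal A →+* E ⧸ q :=
    Ideal.quotientMap _ (algebraMap A E) (le_of_eq hq.symm)
  have hι₂ : Function.Injective ι₂ := Ideal.quotientMap_injective' (le_of_eq hq)
  haveI : ExpChar (E ⧸ q) p := expChar_of_injective_ringHom hι₂ p
  refine GUCore.core_abstract (A := A) q (F := E ⊗[A] K) D L (injective_algebraMap_tensor K)
    (exists_frac_tensor K) (isUnit_algebraMap_tensor K) ?_ p ?_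
  · intro Q₁ Q₂ _ _ h₁ h₂
    exact GUPow.eq_of_comap_eq (algebraMap A (integralClosure A K)) (algebraMap A E)
      (algebraMap E (integralClosure E (E ⊗[A] K))) (psi (E := E) K) (hsq K) (hgen K) m p hpi
      Q₁ Q₂ (le_comap_psi K q hq Q₁ h₁) (le_comap_psi K q hq Q₂ h₂) (h₁.trans h₂.symm)
  · intro Q _ hQ c
    exact GUPow.exists_pow_sub_mem (algebraMap A (integralClosure A K)) (algebraMap A E)
      (algebraMap E (integralClosure E (E ⊗[A] K))) (psi (E := E) K) (hsq K) (hgen K) m p hpi
      Q (Ideal.IsPrime.ne_top inferInstance) (le_comap_psi K q hq Q hQ) c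

/-- **Étale ascent of "geometrically unibranch"**: `A` a geometrically unibranch local domain,
`E` étale over `A`, `q` a prime of `E` over the maximal ideal, `D = E_q`.  Then `D` is a domain,
geometrically unibranch, and every nonzero element of `D` divides a nonzero element of `A`. -/
theorem core (hA : CAlg2.IsGeomUnibranch A) (q : Ideal E) [q.IsPrime]
    (hq : q.comap (algebraMap A E) = maximalIdeal A)
    (D : Type u) [CommRing D] [IsLocalRing D] [Algebra E D] [IsLocalization.AtPrime D q] :
    IsDomain D ∧ CAlg2.IsGeomUnibranch D ∧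
      ∀ x : D, x ≠ 0 → ∃ a : A, a ≠ 0 ∧ ∃ y : D, x * y = algebraMap E D (algebraMap A E a) :=
  core_aux (FractionRing A) hA q hq D

end main

end Groth.Agent.Lib.Helper7.GUEtale
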