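import Mathlib

/-!
# A localization at a prime is a localization of any intermediate localization (helper7)

`isLocalization_atPrime_of_tower`: `B → S₀ → D` with `S₀ = M⁻¹B`, `D = B_q` (so `M ∩ q = ∅`).
Then `D` is the localization of `S₀` at the contraction of the maximal ideal of `D`.
-/

set_option autoImplicit false
universe u

namespace Groth.Agent.Lib.Helper7.LocLoc

open IsLocalRing

variable {B : Type*} [CommRing B] (q : Ideal B) [q.IsPrime] (M : Submonoid B)
  (S₀ : Type*) [CommRing S₀] [Algebra B S₀] [IsLocalization M S₀]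
  (D : Type*) [CommRing D] [IsLocalRing D] [Algebra B D] [IsLocalization.AtPrime D q]
  [Algebra S₀ D] [IsScalarTower B S₀ D]

instance isPrime_comap_maximalIdeal : ((maximalIdeal D).comap (algebraMap S₀ D)).IsPrime :=
  Ideal.comap_isPrime _ _

include q M in
theorem isLocalization_atPrime_of_tower :
    IsLocalization.AtPrime D ((maximalIdeal D).comap (algebraMap S₀ D)) := by
  refine ⟨⟨?_, ?_, ?_⟩⟩
  · rintro ⟨s, hs⟩
    have : algebraMap S₀ D s ∉ maximalIdeal D := hs
    rwa [mem_maximalIdeal, mem_nonunits_iff, not_not] at this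
  · intro d
    obtain ⟨⟨b, t⟩, h⟩ := IsLocalization.surj q.primeCompl d
    have ht : algebraMap B S₀ t ∈ ((maximalIdeal D).comap (algebraMap S₀ D)).primeCompl := by
      change ¬ (algebraMap S₀ D (algebraMap B S₀ t) ∈ maximalIdeal D)
      rw [← IsScalarTower.algebraMap_apply, mem_maximalIdeal, mem_nonunits_iff, not_not]
      exact IsLocalization.map_units D t
    refine ⟨(algebraMap B S₀ b, ⟨algebraMap B S₀ t, ht⟩), ?_⟩
    change d * algebraMap S₀ D (algebraMap B S₀ t) = algebraMap S₀ D (algebraMap B S₀ b)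
    rw [← IsScalarTower.algebraMap_apply, ← IsScalarTower.algebraMap_apply]
    exact h
  · intro x y hxy
    obtain ⟨b₁, m₁, rfl⟩ := IsLocalization.exists_mk'_eq M x
    obtain ⟨b₂, m₂, rfl⟩ := IsLocalization.exists_mk'_eq M y
    -- clear denominators
    have h1 : algebraMap B D (b₁ * m₂) = algebraMap B D (b₂ * m₁) := by
      have e₁ : algebraMap B S₀ (b₁ * m₂) =
          IsLocalization.mk' S₀ b₁ m₁ * algebraMap B S₀ (m₁ * m₂) := by
        rw [map_mul, map_mul, ← mul_assoc, IsLocalization.mk'_spec]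
      have e₂ : algebraMap B S₀ (b₂ * m₁) =
          IsLocalization.mk' S₀ b₂ m₂ * algebraMap B S₀ (m₁ * m₂) := by
        rw [map_mul, map_mul (algebraMap B S₀) (m₁ : B), mul_comm (algebraMap B S₀ m₁),
          ← mul_assoc, IsLocalization.mk'_spec]
      rw [IsScalarTower.algebraMap_apply B S₀ D, IsScalarTower.algebraMap_apply B S₀ D, e₁, e₂,
        map_mul (algebraMap S₀ D), map_mul (algebraMap S₀ D), hxy]
    obtain ⟨t, ht⟩ := (IsLocalization.eq_iff_exists q.primeCompl D).mp h1
    have htq : algebraMap B S₀ t ∈ ((maximalIdeal D).comap (algebraMap S₀ D)).primeCompl := by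
      change ¬ (algebraMap S₀ D (algebraMap B S₀ t) ∈ maximalIdeal D)
      rw [← IsScalarTower.algebraMap_apply, mem_maximalIdeal, mem_nonunits_iff, not_not]
      exact IsLocalization.map_units D t
    refine ⟨⟨algebraMap B S₀ t, htq⟩, ?_⟩
    change algebraMap B S₀ t * IsLocalization.mk' S₀ b₁ m₁ =
      algebraMap B S₀ t * IsLocalization.mk' S₀ b₂ m₂
    have hu : IsUnit (algebraMap B S₀ (m₁ * m₂)) := by
      rw [map_mul]
      exact (IsLocalization.map_units S₀ m₁).mul (IsLocalization.map_units S₀ m₂)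
    apply hu.mul_right_cancel
    have e₁ : IsLocalization.mk' S₀ b₁ m₁ * algebraMap B S₀ (m₁ * m₂) =
        algebraMap B S₀ (b₁ * m₂) := by
      rw [map_mul, map_mul, ← mul_assoc, IsLocalization.mk'_spec]
    have e₂ : IsLocalization.mk' S₀ b₂ m₂ * algebraMap B S₀ (m₁ * m₂) =
        algebraMap B S₀ (b₂ * m₁) := by
      rw [map_mul, map_mul (algebraMap B S₀) b₂, mul_comm (algebraMap B S₀ m₁),
        ← mul_assoc, IsLocalization.mk'_spec]
    rw [mul_assoc, mul_assoc, e₁, e₂, ← map_mul, ← map_mul, ht]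

end Groth.Agent.Lib.Helper7.LocLoc
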