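import Groth.Agent.Lib.Helper7.GUEtale
import Groth.Agent.Lib.Helper7.LocLoc

/-!
# Étale ascent of "geometrically unibranch", localized form (helper7)

`core'`: `R → B` étale, `q` a prime of `B` over `p`, `A = R_p` a geometrically unibranch local
domain, `D = B_q`.  Then `D` is a domain, geometrically unibranch, and every nonzero element of
`D` divides the image of an element of `R` which is nonzero in `A`.
-/

set_option autoImplicit false
set_option maxHeartbeats 400000
universe u

namespace Groth.Agent.Lib.Helper7.GUEtale

open TensorProduct IsLocalRing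

section

variable {R B : Type u} [CommRing R] [CommRing B] [Algebra R B]
  (p : Ideal R) [p.IsPrime] (q : Ideal B) [q.IsPrime] (hqp : q.comap (algebraMap R B) = p)
  (A : Type u) [CommRing A] [Algebra R A] [IsLocalization.AtPrime A p]
  (D : Type u) [CommRing D] [IsLocalRing D] [Algebra B D] [IsLocalization.AtPrime D q]
  [Algebra R D] [IsScalarTower R B D] [Algebra A D] [IsScalarTower R A D]

/-- The canonical map `A ⊗[R] B → D`. -/
noncomputable def tensorToD : A ⊗[R] B →ₐ[R] D :=
  Algebra.TensorProduct.productMap (IsScalarTower.toAlgHom R A D) (IsScalarTower.toAlgHom R B D)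

theorem tensorToD_left (a : A) : tensorToD A D (a ⊗ₜ[R] (1 : B)) = algebraMap A D a := by
  simp [tensorToD]

theorem tensorToD_right (b : B) : tensorToD A D ((1 : A) ⊗ₜ[R] b) = algebraMap B D b := by
  simp [tensorToD]

include hqp in
/-- `D` is the localization of `A ⊗[R] B` at the contraction of its maximal ideal. -/
theorem isLocalization_atPrime_tensor :
    letI : Algebra (A ⊗[R] B) D := (tensorToD (R := R) (B := B) A D).toRingHom.toAlgebra
    IsLocalization.AtPrime D ((maximalIdeal D).comap (algebraMap (A ⊗[R] B) D)) := by
  letI : Algebra (A ⊗[R] B) D := (tensorToD (R := R) (B := B) A D).toRingHom.toAlgebra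
  letI : Algebra B (A ⊗[R] B) := Algebra.TensorProduct.rightAlgebra
  haveI : IsLocalization (Algebra.algebraMapSubmonoid B p.primeCompl) (A ⊗[R] B) :=
    IsLocalization.tensorRight (S := B) A p.primeCompl
  haveI : IsScalarTower B (A ⊗[R] B) D := .of_algebraMap_eq' (by
    refine RingHom.ext fun b => ?_
    exact (tensorToD_right A D b).symm)
  exact LocLoc.isLocalization_atPrime_of_tower q (Algebra.algebraMapSubmonoid B p.primeCompl)
    (A ⊗[R] B) D

end

section

variable {R B : Type u} [CommRing R] [CommRing B] [Algebra R B] [Algebra.Etale R B]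
  (p : Ideal R) [p.IsPrime] (q : Ideal B) [q.IsPrime] (hqp : q.comap (algebraMap R B) = p)
  (A : Type u) [CommRing A] [IsDomain A] [IsLocalRing A] [Algebra R A] [IsLocalization.AtPrime A p]
  (D : Type u) [CommRing D] [IsLocalRing D] [Algebra B D] [IsLocalization.AtPrime D q]
  [Algebra R D] [IsScalarTower R B D] [Algebra A D] [IsScalarTower R A D]

include hqp in
theorem core' (hA : CAlg2.IsGeomUnibranch A) :
    IsDomain D ∧ CAlg2.IsGeomUnibranch D ∧
      ∀ x : D, x ≠ 0 → ∃ a : A, a ≠ 0 ∧ ∃ y : D, x * y = algebraMap A D a := by
  letI : Algebra (A ⊗[R] B) D := (tensorToD (R := R) (B := B) A D).toRingHom.toAlgebra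
  haveI := isLocalization_atPrime_tensor p q hqp A D
  have hmax : ((maximalIdeal D).comap (algebraMap (A ⊗[R] B) D)).comap
      (algebraMap A (A ⊗[R] B)) = maximalIdeal A := by
    have h1 : ((maximalIdeal D).comap (algebraMap (A ⊗[R] B) D)).comap
        (algebraMap A (A ⊗[R] B)) = (maximalIdeal D).comap (algebraMap A D) := by
      rw [Ideal.comap_comap]
      congr 1
      refine RingHom.ext fun a => ?_
      rw [RingHom.comp_apply, Algebra.TensorProduct.algebraMap_apply, Algebra.algebraMap_self,
        RingHom.id_apply]
      exact tensorToD_left A D a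
    rw [h1]
    -- a prime of `A = R_p` contracting to `p` is the maximal ideal
    have e1 : (maximalIdeal D).comap (algebraMap B D) = q :=
      IsLocalization.AtPrime.comap_maximalIdeal D q
    have h2 : ((maximalIdeal D).comap (algebraMap A D)).comap (algebraMap R A) = p := by
      rw [Ideal.comap_comap, ← IsScalarTower.algebraMap_eq, IsScalarTower.algebraMap_eq R B D,
        ← Ideal.comap_comap, e1, hqp]
    have h3 : (maximalIdeal A).comap (algebraMap R A) = p :=
      IsLocalization.AtPrime.comap_maximalIdeal A p
    calc (maximalIdeal D).comap (algebraMap A D)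
        = Ideal.map (algebraMap R A)
            (((maximalIdeal D).comap (algebraMap A D)).comap (algebraMap R A)) :=
          (IsLocalization.map_comap p.primeCompl A _).symm
      _ = Ideal.map (algebraMap R A) p := by rw [h2]
      _ = Ideal.map (algebraMap R A) ((maximalIdeal A).comap (algebraMap R A)) := by rw [h3]
      _ = maximalIdeal A := IsLocalization.map_comap p.primeCompl A _
  obtain ⟨h1, h2, h3⟩ := core (A := A) (E := A ⊗[R] B) hA
    ((maximalIdeal D).comap (algebraMap (A ⊗[R] B) D)) hmax D
  refine ⟨h1, h2, fun x hx => ?_⟩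
  obtain ⟨a, ha, y, hy⟩ := h3 x hx
  refine ⟨a, ha, y, ?_⟩
  rw [hy, Algebra.TensorProduct.algebraMap_apply, Algebra.algebraMap_self, RingHom.id_apply]
  exact tensorToD_left A D a

end

end Groth.Agent.Lib.Helper7.GUEtale
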