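import Groth.Agent.Lib.Helper7.GUModel

/-!
# The reduction of a geometrically unibranch local ring is geometrically unibranch (helper7)
-/

set_option autoImplicit false
set_option maxHeartbeats 400000
universe u

namespace Groth.Agent.Lib.Helper7.GURed

open IsLocalRing

theorem isLocalRing_red (A : Type u) [CommRing A] [IsLocalRing A] : IsLocalRing (CAlg2.red A) :=
  haveI : Nontrivial (CAlg2.red A) :=
    Ideal.Quotient.nontrivial_iff.mpr (fun h => by
      have h1 : (1 : A) ∈ nilradical A := h ▸ Submodule.mem_top
      have h2 : IsNilpotent (1 : A) := h1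
      obtain ⟨n, hn⟩ := h2
      rw [one_pow] at hn
      exact one_ne_zero hn)
  IsLocalRing.of_surjective' (Ideal.Quotient.mk (nilradical A)) Ideal.Quotient.mk_surjective

theorem isGeomUnibranch_red (A : Type u) [CommRing A] [IsLocalRing A]
    [IsLocalRing (CAlg2.red A)] (hA : CAlg2.IsGeomUnibranch A) :
    CAlg2.IsGeomUnibranch (CAlg2.red A) := by
  haveI : IsDomain (CAlg2.red A) := hA.1.1
  haveI hloc : IsLocalRing (integralClosure (CAlg2.red A) (FractionRing (CAlg2.red A))) := hA.1.2
  refine GUModel.isGeomUnibranch_of_model (CAlg2.red A) (FractionRing (CAlg2.red A))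
    (ringExpChar (integralClosure (CAlg2.red A) (FractionRing (CAlg2.red A)) ⧸
      maximalIdeal (integralClosure (CAlg2.red A) (FractionRing (CAlg2.red A))))) ?_
  intro t
  obtain ⟨n, hn⟩ := hA.2
    (maximalIdeal (integralClosure (CAlg2.red A) (FractionRing (CAlg2.red A))))
    (Ideal.Quotient.mk _ t)
  obtain ⟨a, ha⟩ := hn
  refine ⟨n, Ideal.Quotient.mk (nilradical A) a, ?_⟩
  have h1 : Ideal.Quotient.mk
      (maximalIdeal (integralClosure (CAlg2.red A) (FractionRing (CAlg2.red A))))
      (algebraMap (CAlg2.red A) (integralClosure (CAlg2.red A) (FractionRing (CAlg2.red A)))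
        (Ideal.Quotient.mk (nilradical A) a)) = _ := ha
  rw [← map_pow, Ideal.Quotient.eq] at h1
  have := (maximalIdeal (integralClosure (CAlg2.red A) (FractionRing (CAlg2.red A)))).neg_mem h1
  rwa [neg_sub] at this

end Groth.Agent.Lib.Helper7.GURed
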