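import Groth.Agent.Lib.Helper7.GUDich
import Groth.Agent.Lib.Helper7.GURed

/-!
# Local irreducibility of étale algebras over an irreducible geometrically unibranch base (helper7)

`exists_isPrime_nilradical_away`: `R` with prime nilradical, `E` étale over `R`, `qE` a prime of
`E` over `p` with `R_p` geometrically unibranch (not necessarily reduced).  Then for some
`h ∉ qE` the nilradical of `E_h` is prime, i.e. `Spec E_h` is irreducible.
-/

set_option autoImplicit false
set_option maxHeartbeats 400000
universe u

namespace Groth.Agent.Lib.Helper7.GUUnram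

open IsLocalRing

theorem nilradical_le_map_atPrime {R : Type u} [CommRing R] (p : Ideal R) [p.IsPrime]
    (A : Type u) [CommRing A] [Algebra R A] [IsLocalization.AtPrime A p] :
    nilradical A ≤ (nilradical R).map (algebraMap R A) := by
  intro a ha
  obtain ⟨r, s, rfl⟩ := IsLocalization.exists_mk'_eq p.primeCompl a
  obtain ⟨k, hk⟩ := ha
  have h1 : algebraMap R A (r ^ k) = 0 := by
    have : algebraMap R A r = IsLocalization.mk' A r s * algebraMap R A s :=
      (IsLocalization.mk'_spec A r s).symm
    rw [map_pow, this, mul_pow, hk, zero_mul]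
  rw [IsLocalization.map_eq_zero_iff p.primeCompl] at h1
  obtain ⟨t, ht⟩ := h1
  have h2 : (t : R) * r ∈ nilradical R := by
    refine ⟨k + 1, ?_⟩
    calc ((t : R) * r) ^ (k + 1) = (t : R) ^ k * r * ((t : R) * r ^ k) := by ring
      _ = 0 := by rw [ht, mul_zero]
  exact (IsLocalization.mk'_mem_map_algebraMap_iff p.primeCompl A _ r s).mpr ⟨t, t.2, h2⟩

theorem exists_isPrime_nilradical_away {R E : Type u} [CommRing R] [CommRing E] [Algebra R E]
    [Algebra.Etale R E] (hR : (nilradical R).IsPrime)
    (qE : Ideal E) [qE.IsPrime] (p : Ideal R) [p.IsPrime]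
    (hqEp : qE.comap (algebraMap R E) = p)
    (A : Type u) [CommRing A] [IsLocalRing A] [Algebra R A]
    [IsLocalization.AtPrime A p] (hA : CAlg2.IsGeomUnibranch A) :
    ∃ h : E, h ∉ qE ∧ (nilradical (Localization.Away h)).IsPrime := by
  set n := nilradical R with hn
  haveI := hR
  haveI : IsDomain (R ⧸ n) := Ideal.Quotient.isDomain n
  set nE := n.map (algebraMap R E) with hnE
  haveI : Algebra.Etale (R ⧸ n) (E ⧸ nE) :=
    Algebra.Etale.of_equiv (Algebra.TensorProduct.quotIdealMapEquivQuotTensor E n).symm
  have hnp : n ≤ p := nilradical_le_prime p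
  have hnEq : nE ≤ qE := by
    rw [hnE, Ideal.map_le_iff_le_comap, hqEp]
    exact hnp
  set p' : Ideal (R ⧸ n) := p.map (Ideal.Quotient.mk n) with hp'
  haveI : p'.IsPrime := Ideal.map_isPrime_of_surjective Ideal.Quotient.mk_surjective
    (by rw [Ideal.mk_ker]; exact hnp)
  set q' : Ideal (E ⧸ nE) := qE.map (Ideal.Quotient.mk nE) with hq'
  haveI : q'.IsPrime := Ideal.map_isPrime_of_surjective Ideal.Quotient.mk_surjective
    (by rw [Ideal.mk_ker]; exact hnEq)
  have hp'mem : ∀ r : R, Ideal.Quotient.mk n r ∈ p' ↔ r ∈ p := by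
    intro r
    have h1 : p'.comap (Ideal.Quotient.mk n) = p := by
      rw [hp', Ideal.comap_map_of_surjective _ Ideal.Quotient.mk_surjective,
        ← RingHom.ker_eq_comap_bot, Ideal.mk_ker]
      exact sup_eq_left.mpr hnp
    rw [← Ideal.mem_comap, h1]
  have hq'mem : ∀ e : E, Ideal.Quotient.mk nE e ∈ q' ↔ e ∈ qE := by
    intro e
    have h1 : q'.comap (Ideal.Quotient.mk nE) = qE := by
      rw [hq', Ideal.comap_map_of_surjective _ Ideal.Quotient.mk_surjective,
        ← RingHom.ker_eq_comap_bot, Ideal.mk_ker]
      exact sup_eq_left.mpr hnEq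
    rw [← Ideal.mem_comap, h1]
  have hq'p' : q'.comap (algebraMap (R ⧸ n) (E ⧸ nE)) = p' := by
    ext x
    obtain ⟨r, rfl⟩ := Ideal.Quotient.mk_surjective x
    rw [Ideal.mem_comap, hp'mem]
    have : algebraMap (R ⧸ n) (E ⧸ nE) (Ideal.Quotient.mk n r) =
        Ideal.Quotient.mk nE (algebraMap R E r) := rfl
    rw [this, hq'mem, ← hqEp]
    rfl
  -- the reduction of `A`
  haveI : IsDomain (CAlg2.red A) := hA.1.1
  haveI : IsLocalRing (CAlg2.red A) := GURed.isLocalRing_red A
  have hA' := GURed.isGeomUnibranch_red A hA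
  let g₀ : R →+* CAlg2.red A := (Ideal.Quotient.mk (nilradical A)).comp (algebraMap R A)
  have hg₀ : ∀ r ∈ n, g₀ r = 0 := by
    intro r hr
    change Ideal.Quotient.mk _ (algebraMap R A r) = 0
    rw [Ideal.Quotient.eq_zero_iff_mem]
    exact (show IsNilpotent r from hr).map (algebraMap R A)
  letI : Algebra (R ⧸ n) (CAlg2.red A) := (Ideal.Quotient.lift n g₀ hg₀).toAlgebra
  haveI : IsLocalization.AtPrime (CAlg2.red A) p' := by
    have h1 : IsLocalization (p.primeCompl.map (Ideal.Quotient.mk n)) (CAlg2.red A) :=
      IsLocalization.of_surjective p.primeCompl A (Ideal.Quotient.mk n)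
        Ideal.Quotient.mk_surjective (Ideal.Quotient.mk (nilradical A))
        Ideal.Quotient.mk_surjective (by ext r; rfl)
        (by rw [Ideal.mk_ker, Ideal.mk_ker]; exact nilradical_le_map_atPrime p A)
    have h2 : p.primeCompl.map (Ideal.Quotient.mk n) = p'.primeCompl := by
      ext x
      obtain ⟨r, rfl⟩ := Ideal.Quotient.mk_surjective x
      constructor
      · rintro ⟨r', hr', hrr'⟩ hx
        have hrr'' : Ideal.Quotient.mk n r' = Ideal.Quotient.mk n r := hrr'
        have hx' : Ideal.Quotient.mk n r ∈ p' := hx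
        rw [← hrr'', hp'mem] at hx'
        exact hr' hx'
      · intro hx
        exact ⟨r, fun hr => hx ((hp'mem r).mpr hr), rfl⟩
    rw [h2] at h1
    exact h1
  obtain ⟨h', hh', hdom⟩ := exists_isDomain_away (R := R ⧸ n) (E := E ⧸ nE) q' p' hq'p'
    (CAlg2.red A) hA'
  obtain ⟨h, rfl⟩ := Ideal.Quotient.mk_surjective h'
  have hh : h ∉ qE := fun hh => hh' ((hq'mem h).mpr hh)
  refine ⟨h, hh, ?_⟩
  haveI := hdom
  let ψ : Localization.Away h →+* Localization.Away (Ideal.Quotient.mk nE h) :=
    IsLocalization.Away.map _ _ (Ideal.Quotient.mk nE) h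
  have hψ : ∀ e : E, ψ (algebraMap E (Localization.Away h) e) =
      algebraMap (E ⧸ nE) (Localization.Away (Ideal.Quotient.mk nE h))
        (Ideal.Quotient.mk nE e) := fun e => IsLocalization.map_eq _ e
  have hnil : nE ≤ nilradical E := by
    rw [hnE, Ideal.map_le_iff_le_comap]
    intro r hr
    exact (show IsNilpotent r from hr).map (algebraMap R E)
  have hker : nilradical (Localization.Away h) = RingHom.ker ψ := by
    ext z
    constructor
    · intro hz
      exact ((show IsNilpotent z from hz).map ψ).eq_zero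
    · intro hz
      have hz0 : ψ z = 0 := hz
      obtain ⟨e, ⟨_, k, rfl⟩, rfl⟩ := IsLocalization.exists_mk'_eq (Submonoid.powers h) z
      set z := IsLocalization.mk' (Localization.Away h) e (⟨h ^ k, k, rfl⟩ : Submonoid.powers h)
        with hzdef
      have hze : z * algebraMap E (Localization.Away h) (h ^ k) =
          algebraMap E (Localization.Away h) e := IsLocalization.mk'_spec _ _ _
      have h1 : algebraMap (E ⧸ nE) (Localization.Away (Ideal.Quotient.mk nE h))
          (Ideal.Quotient.mk nE e) = 0 := by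
        rw [← hψ, ← hze, map_mul, hz0, zero_mul]
      rw [IsLocalization.map_eq_zero_iff (Submonoid.powers (Ideal.Quotient.mk nE h))] at h1
      obtain ⟨⟨_, m, rfl⟩, hm⟩ := h1
      have h2 : h ^ m * e ∈ nE := by
        rw [← Ideal.Quotient.eq_zero_iff_mem, map_mul, map_pow]
        exact hm
      have h3 : IsNilpotent (algebraMap E (Localization.Away h) (h ^ m * e)) :=
        (show IsNilpotent (h ^ m * e) from hnil h2).map _
      have hunit : IsUnit (algebraMap E (Localization.Away h) (h ^ m) *
          algebraMap E (Localization.Away h) (h ^ k)) :=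
        (IsLocalization.map_units (Localization.Away h)
          (⟨h ^ m, m, rfl⟩ : Submonoid.powers h)).mul
        (IsLocalization.map_units (Localization.Away h) (⟨h ^ k, k, rfl⟩ : Submonoid.powers h))
      have h4 : z * (algebraMap E (Localization.Away h) (h ^ m) *
          algebraMap E (Localization.Away h) (h ^ k)) ∈ nilradical (Localization.Away h) := by
        have : z * (algebraMap E (Localization.Away h) (h ^ m) *
            algebraMap E (Localization.Away h) (h ^ k)) =
            algebraMap E (Localization.Away h) (h ^ m * e) := by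
          rw [map_mul, ← hze]; ring
        rw [this]
        exact h3
      exact (Ideal.mul_unit_mem_iff_mem _ hunit).mp h4
  rw [hker]
  exact RingHom.ker_isPrime ψ

end Groth.Agent.Lib.Helper7.GUUnram
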