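import Mathlib

/-!
# A topological connectedness argument (helper7)

`TopDich.main`: `X` a connected T0 space, `S ⊆ X` nonempty; each point `z` has an open
neighbourhood `N z` which either (a) satisfies `P z` and has a generic point lying in `S`, or
(b) misses `S`.  Then (a) holds for all `z` and `X` has a generic point in `S`.
-/

set_option autoImplicit false

namespace Groth.Agent.Lib.Helper7.TopDich

open TopologicalSpace

theorem main {X : Type*} [TopologicalSpace X] [T0Space X] [PreconnectedSpace X]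
    (S : Set X) (hS : S.Nonempty) (P : X → Prop) (N : X → Set X)
    (hNo : ∀ z, IsOpen (N z)) (hN : ∀ z, z ∈ N z)
    (h : ∀ z, (P z ∧ ∃ ξ ∈ N z, ξ ∈ S ∧ ∀ w ∈ N z, ξ ⤳ w) ∨ (∀ w ∈ N z, w ∉ S)) :
    (∀ z, P z) ∧ ∃ ξ ∈ S, ∀ w : X, ξ ⤳ w := by
  obtain ⟨x₀, hx₀⟩ := hS
  -- `x₀` is of type (a)
  have ha₀ : P x₀ ∧ ∃ ξ ∈ N x₀, ξ ∈ S ∧ ∀ w ∈ N x₀, ξ ⤳ w := by
    rcases h x₀ with ha | hb
    · exact ha
    · exact absurd hx₀ (hb x₀ (hN x₀))
  obtain ⟨-, ξ, hξN, hξS, hξgen⟩ := ha₀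
  -- key: every specialization `z` of `ξ` is of type (a) with generic point `ξ`
  have key : ∀ z, ξ ⤳ z → P z ∧ ∀ w ∈ N z, ξ ⤳ w := by
    intro z hz
    have hξz : ξ ∈ N z := hz.mem_open (hNo z) (hN z)
    rcases h z with ⟨hP, ξz, hξzN, -, hgen⟩ | hb
    · refine ⟨hP, ?_⟩
      have h1 : ξz ⤳ ξ := hgen ξ hξz
      have h2 : ξz ∈ N x₀ := h1.mem_open (hNo x₀) hξN
      have h3 : ξ ⤳ ξz := hξgen ξz h2
      have h4 : ξz = ξ := (h1.antisymm h3).eq
      intro w hw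
      rw [← h4]
      exact hgen w hw
    · exact absurd hξS (hb ξ hξz)
  -- the closure of `ξ` is clopen
  have hopen : IsOpen (closure {ξ}) := by
    rw [isOpen_iff_forall_mem_open]
    intro z hz
    have hz' : ξ ⤳ z := specializes_iff_mem_closure.mpr hz
    refine ⟨N z, fun w hw => ?_, hNo z, hN z⟩
    exact specializes_iff_mem_closure.mp ((key z hz').2 w hw)
  have hclopen : IsClopen (closure {ξ}) := ⟨isClosed_closure, hopen⟩
  have huniv : closure {ξ} = Set.univ :=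
    hclopen.eq_univ ⟨ξ, subset_closure rfl⟩
  have hall : ∀ w : X, ξ ⤳ w := fun w =>
    specializes_iff_mem_closure.mpr (huniv ▸ Set.mem_univ w)
  exact ⟨fun z => (key z (hall z)).1, ξ, hξS, hall⟩

/-- A T0 space in which every point `z` has an open neighbourhood `N z` with a generic point
`ξ z` lying in `S`, where `S` has no nontrivial specializations: the irreducible components are
open, pairwise disjoint, and each contains exactly one point of `S`. -/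
theorem components {X : Type*} [TopologicalSpace X] [T0Space X]
    (S : Set X) (N : X → Set X) (ξ : X → X)
    (hNo : ∀ z, IsOpen (N z)) (hN : ∀ z, z ∈ N z)
    (hξN : ∀ z, ξ z ∈ N z) (hξS : ∀ z, ξ z ∈ S) (hgen : ∀ z, ∀ w ∈ N z, ξ z ⤳ w)
    (hdisc : ∀ a b, a ⤳ b → a ∈ S → b ∈ S → a = b) :
    (∀ x : X, ∃! Z, Z ∈ irreducibleComponents X ∧ x ∈ Z) ∧
    (∀ Z ∈ irreducibleComponents X, IsOpen Z ∧ ∃! x : X, x ∈ Z ∧ x ∈ S) := by
  have key1 : ∀ z t w, w ∈ N z → w ∈ N t → ξ z = ξ t := by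
    intro z t w hwz hwt
    have h1 : ξ t ⤳ ξ z := hgen t _ ((hgen z w hwz).mem_open (hNo t) hwt)
    have h2 : ξ z ⤳ ξ t := hgen z _ ((hgen t w hwt).mem_open (hNo z) hwz)
    exact (h2.antisymm h1).eq
  have hNZ : ∀ z, N z ⊆ closure {ξ z} := fun z w hw =>
    specializes_iff_mem_closure.mp (hgen z w hw)
  have key2 : ∀ T : Set X, IsPreirreducible T → ∀ z ∈ T, ∀ t ∈ T, ξ t = ξ z := by
    intro T hT z hz t ht
    obtain ⟨w, -, hwt, hwz⟩ := hT (N t) (N z) (hNo t) (hNo z) ⟨t, ht, hN t⟩ ⟨z, hz, hN z⟩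
    exact key1 t z w hwt hwz
  have hirr : ∀ z, IsIrreducible (closure {ξ z}) := fun z => isIrreducible_singleton.closure
  have hzZ : ∀ z, z ∈ closure {ξ z} := fun z => hNZ z (hN z)
  have hcomp : ∀ z, closure {ξ z} ∈ irreducibleComponents X := by
    intro z
    refine ⟨hirr z, fun T hT hle t ht => ?_⟩
    have h1 : ξ t = ξ z := key2 T hT.isPreirreducible z (hle (hzZ z)) t ht
    rw [← h1]
    exact hzZ t
  have huniq : ∀ Z₀ ∈ irreducibleComponents X, ∀ x ∈ Z₀, Z₀ = closure {ξ x} := by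
    intro Z₀ hZ₀ x hx
    have hle : Z₀ ≤ closure {ξ x} := by
      intro t ht
      have h1 : ξ t = ξ x := key2 Z₀ hZ₀.1.isPreirreducible x hx t ht
      rw [← h1]
      exact hzZ t
    exact le_antisymm hle (hZ₀.2 (hirr x) hle)
  refine ⟨fun x => ⟨closure {ξ x}, ⟨hcomp x, hzZ x⟩, fun Z' hZ' => huniq Z' hZ'.1 x hZ'.2⟩,
    fun Z₀ hZ₀ => ?_⟩
  obtain ⟨x₀, hx₀⟩ := hZ₀.1.nonempty
  have hZeq := huniq Z₀ hZ₀ x₀ hx₀
  refine ⟨?_, ξ x₀, ⟨hZeq ▸ subset_closure rfl, hξS x₀⟩, fun y hy => ?_⟩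
  · rw [hZeq, isOpen_iff_forall_mem_open]
    intro t ht
    have h1 : ξ x₀ ⤳ t := specializes_iff_mem_closure.mpr ht
    have h2 : ξ x₀ ∈ N t := h1.mem_open (hNo t) (hN t)
    have h3 : ξ x₀ = ξ t := key1 x₀ t (ξ x₀) (hξN x₀) h2
    refine ⟨N t, ?_, hNo t, hN t⟩
    rw [h3]
    exact hNZ t
  · have h1 : ξ x₀ ⤳ y := specializes_iff_mem_closure.mpr (hZeq ▸ hy.1)
    exact (hdisc _ _ h1 (hξS x₀) hy.2).symm

end Groth.Agent.Lib.Helper7.TopDich
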