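import Groth.Agent.Lib.Helper7.GUSchUnram
import Groth.Agent.Lib.Helper7.GUDich
import Groth.Agent.Lib.Helper7.TopDich

/-!
# Unramified morphisms to an integral geometrically unibranch scheme (helper7)

* `local_dichotomy`: every point of `X` has an open neighbourhood `N` on which `f` is étale and
  which is irreducible with generic point over the generic point of `Y`, or which misses the
  generic fibre.
* `global`: if `X` is connected and the generic fibre is nonempty then `f` is étale and `X` has a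
  generic point.
-/

set_option autoImplicit false
set_option maxHeartbeats 400000
universe u

namespace Groth.Agent.Lib.Helper7.GUSch

open AlgebraicGeometry CategoryTheory TopologicalSpace

variable {X Y : Scheme.{u}} (f : X ⟶ Y)

/-- The generic point of an open subscheme on which `f` is flat maps to the generic point. -/
theorem exists_generic_of_isDomain [IsIntegral Y] (N : X.Opens) (hN : IsAffineOpen N)
    (hne : (N : Set X).Nonempty) (hdom : IsDomain Γ(X, N)) [Flat (N.ι ≫ f)] :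
    ∃ ξ ∈ N, f ξ = genericPoint Y ∧ ∀ w ∈ N, ξ ⤳ w := by
  haveI : IsAffine N.toScheme := hN
  haveI : Nonempty N.toScheme := by
    obtain ⟨z, hz⟩ := hne
    exact ⟨⟨z, hz⟩⟩
  haveI : IsDomain Γ(N.toScheme, ⊤) :=
    MulEquiv.isDomain Γ(X, N) N.topIso.commRingCatIsoToRingEquiv.toMulEquiv
  haveI : IsIntegral N.toScheme := isIntegral_of_isAffine_of_isDomain _
  set ξ₀ := genericPoint N.toScheme with hξ₀
  have hgen : ∀ w : N.toScheme, ξ₀ ⤳ w := fun w => (genericPoint_spec N.toScheme).specializes trivial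
  have hη : genericPoint Y ⤳ (N.ι ≫ f) ξ₀ := (genericPoint_spec Y).specializes trivial
  obtain ⟨ξ', hξ', hfξ'⟩ := Flat.generalizingMap (N.ι ≫ f) hη
  have heq : ξ' = ξ₀ := (hξ'.antisymm (hgen ξ')).eq
  refine ⟨ξ₀.1, ξ₀.2, ?_, fun w hw => ?_⟩
  · rw [← hfξ', heq]
    rfl
  · exact (hgen ⟨w, hw⟩).map N.ι.continuous

theorem local_dichotomy [IsIntegral Y]
    (hY : ∀ y : Y, CAlg2.IsGeomUnibranch (Y.presheaf.stalk y))
    [FormallyUnramified f] [LocallyOfFiniteType f] (z : X) :
    ∃ N : X.Opens, z ∈ N ∧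
      ((Etale (N.ι ≫ f) ∧ ∃ ξ ∈ N, f ξ = genericPoint Y ∧ ∀ w ∈ N, ξ ⤳ w) ∨
        ∀ w ∈ N, f w ≠ genericPoint Y) := by
  obtain ⟨V, W, hzW, -, e, hQ⟩ := LocalAt.exists_appLE_of_open
    (P := @FormallyUnramified) f z formallyUnramified_stable ⊤ trivial
    (MorphismProperty.comp_mem _ _ _ (inferInstance : FormallyUnramified (⊤ : X.Opens).ι)
      (inferInstance : FormallyUnramified f))
  have hft : (f.appLE V.1 W.1 e).hom.FiniteType :=
    HasRingHomProperty.appLE (P := @LocallyOfFiniteType) f inferInstance V W e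
  haveI : Nonempty V.1 := ⟨⟨f z, e hzW⟩⟩
  haveI hdomV : IsDomain Γ(Y, V.1) := inferInstance
  letI algRB : Algebra Γ(Y, V.1) Γ(X, W.1) := (f.appLE V.1 W.1 e).hom.toAlgebra
  haveI : Algebra.FiniteType Γ(Y, V.1) Γ(X, W.1) := hft
  haveI : Algebra.FormallyUnramified Γ(Y, V.1) Γ(X, W.1) := hQ
  set p := (V.2.primeIdealOf ⟨f z, e hzW⟩).asIdeal with hp
  set q := (W.2.primeIdealOf ⟨z, hzW⟩).asIdeal with hq
  have hqp : q.comap (algebraMap Γ(Y, V.1) Γ(X, W.1)) = p :=
    congrArg PrimeSpectrum.asIdeal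
      (IsAffineOpen.comap_primeIdealOf_appLE V.1 V.2 W.1 W.2 e hzW)
  letI algRA : Algebra Γ(Y, V.1) (Y.presheaf.stalk (f z)) :=
    Y.presheaf.algebra_section_stalk ⟨f z, e hzW⟩
  haveI : IsLocalization.AtPrime (Y.presheaf.stalk (f z)) p :=
    V.2.isLocalization_stalk ⟨f z, e hzW⟩
  haveI : Algebra.IsUnramifiedAt Γ(Y, V.1) q :=
    Algebra.formallyUnramified_iff_forall.mp inferInstance ⟨q, inferInstance⟩
  obtain ⟨g, hg, hdich⟩ := GUUnram.dichotomy (R := Γ(Y, V.1)) (B := Γ(X, W.1)) q p hqp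
    (Y.presheaf.stalk (f z)) (hY (f z))
  have hzg : z ∈ X.basicOpen g := by
    rw [X.mem_basicOpen g z hzW, ← notMem_primeIdealOf_iff z W.2 hzW]
    exact hg
  have hle : X.basicOpen g ≤ W.1 := X.basicOpen_le g
  refine ⟨X.basicOpen g, hzg, ?_⟩
  rcases hdich with ⟨het, hdom⟩ | hb
  · left
    have hE : Etale ((X.basicOpen g).ι ≫ f) := etale_basicOpen_of_etale_away f V W e g het
    refine ⟨hE, ?_⟩
    haveI : IsLocalization.Away g Γ(X, X.basicOpen g) := W.2.isLocalization_basicOpen g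
    let eq : Localization.Away g ≃ₐ[Γ(X, W.1)] Γ(X, X.basicOpen g) :=
      IsLocalization.algEquiv (Submonoid.powers g) _ _
    have hdom' : IsDomain Γ(X, X.basicOpen g) :=
      MulEquiv.isDomain (Localization.Away g) eq.symm.toMulEquiv
    exact exists_generic_of_isDomain f (X.basicOpen g) (W.2.basicOpen g) ⟨z, hzg⟩ hdom'
  · right
    intro w hw hfw
    have hwW : w ∈ W.1 := hle hw
    refine hb (W.2.primeIdealOf ⟨w, hwW⟩).asIdeal inferInstance ?_ ?_
    · rw [notMem_primeIdealOf_iff w W.2 hwW, ← X.mem_basicOpen g w hwW]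
      exact hw
    · have hcomap := IsAffineOpen.comap_primeIdealOf_appLE V.1 V.2 W.1 W.2 e hwW
      have hgen : V.2.primeIdealOf ⟨f w, e hwW⟩ = (⊥ : PrimeSpectrum Γ(Y, V.1)) := by
        have h2 := V.2.primeIdealOf_genericPoint
        rw [genericPoint_eq_bot_of_affine] at h2
        rw [← h2]
        congr 1
        exact Subtype.ext hfw
      rw [hgen] at hcomap
      exact congrArg PrimeSpectrum.asIdeal hcomap

theorem global [IsIntegral Y]
    (hY : ∀ y : Y, CAlg2.IsGeomUnibranch (Y.presheaf.stalk y))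
    [ConnectedSpace X] [FormallyUnramified f] [LocallyOfFiniteType f]
    (hη : ∃ x : X, f x = genericPoint Y) :
    Etale f ∧ ∃ ξ : X, f ξ = genericPoint Y ∧ ∀ w : X, ξ ⤳ w := by
  choose N hzN hN using local_dichotomy f hY
  obtain ⟨hP, ξ, hξ, hgen⟩ := TopDich.main (X := X) {x | f x = genericPoint Y} hη
    (fun z => Etale ((N z).ι ≫ f)) (fun z => (N z : Set X)) (fun z => (N z).isOpen) hzN
    (fun z => by
      rcases hN z with ⟨h1, ξ, h2, h3, h4⟩ | h
      · exact Or.inl ⟨h1, ξ, h2, h3, h4⟩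
      · exact Or.inr h)
  refine ⟨?_, ξ, hξ, hgen⟩
  refine IsZariskiLocalAtSource.of_iSup_eq_top (P := @Etale) N ?_ hP
  rw [eq_top_iff]
  intro z _
  exact Opens.mem_iSup.mpr ⟨z, hzN z⟩

end Groth.Agent.Lib.Helper7.GUSch
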