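/-
helper7: over a separably closed field, connected / irreducible components are geometrically
connected / irreducible; consequently the numbers of components of `X_K` and `X` agree.
Built on helper21's `FieldTower`.
-/
import Groth.Agent.Lib.Helper21.FieldTower
import Groth.Agent.Lib.Helper7.CompCountTop

set_option autoImplicit false
universe u

namespace Groth.Agent.Lib.Helper7.SepClosedComp

open CategoryTheory Limits AlgebraicGeometry Groth.Agent.Lib.Helper21

section A

variable {k : Type u} [Field k] [IsSepClosed k] {X : Scheme.{u}}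
  (f : X ⟶ Spec (CommRingCat.of k))

theorem isHomeomorph_bcπ_algebraicClosure : IsHomeomorph (bcπ' f (AlgebraicClosure k)) :=
  isHomeomorph_of_isPullback_of_isPurelyInseparable (IsPullback.of_hasPullback f _)

theorem isConnected_preimage_bcπ (C : Set X) (hCcl : IsClosed C) (hC : _root_.IsConnected C)
    (K : Type u) [Field K] [Algebra k K] : _root_.IsConnected ((bcπ' f K) ⁻¹' C) := by
  refine isConnected_preimage_of_isAlgClosed f (AlgebraicClosure k) C hCcl ?_ K
  exact ((isHomeomorph_bcπ_algebraicClosure f).homeomorph _).isConnected_preimage.2 hC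

theorem isIrreducible_preimage_bcπ (C : Set X) (hC : IsIrreducible C)
    (K : Type u) [Field K] [Algebra k K] : IsIrreducible ((bcπ' f K) ⁻¹' C) := by
  refine isIrreducible_preimage_of_isAlgClosed f (AlgebraicClosure k) C ?_ K
  have hh := isHomeomorph_bcπ_algebraicClosure f
  refine hC.preimage (hh.homeomorph _).isOpenEmbedding ?_
  obtain ⟨c, hc⟩ := hC.1
  exact ⟨c, hc, hh.surjective c⟩

end A

section B

variable {k K : Type u} [Field k] [IsSepClosed k] [Field K] (φ : k →+* K)
  {T W : Scheme.{u}} {t : T ⟶ Spec (CommRingCat.of k)} {p : W ⟶ T}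
  {w : W ⟶ Spec (CommRingCat.of K)}
  (h : IsPullback p w t (Spec.map (CommRingCat.ofHom φ)))

include h

theorem isConnected_preimage_of_isPullback (C : Set T) (hCcl : IsClosed C) (hC : _root_.IsConnected C) :
    _root_.IsConnected (p ⁻¹' C) := by
  letI : Algebra k K := φ.toAlgebra
  have h1 := isConnected_preimage_bcπ t C hCcl hC K
  have he : h.isoPullback.hom ≫ pullback.fst _ _ = p := h.isoPullback_hom_fst
  have h2 : p ⁻¹' C = (Scheme.homeoOfIso h.isoPullback) ⁻¹' ((bcπ' t K) ⁻¹' C) := by
    ext x
    show p x ∈ C ↔ (pullback.fst t _) (h.isoPullback.hom x) ∈ C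
    rw [← Scheme.Hom.comp_apply, he]
  rw [h2]
  exact (Scheme.homeoOfIso h.isoPullback).isConnected_preimage.2 h1

theorem isIrreducible_preimage_of_isPullback (C : Set T) (hC : IsIrreducible C) :
    IsIrreducible (p ⁻¹' C) := by
  letI : Algebra k K := φ.toAlgebra
  have h1 := isIrreducible_preimage_bcπ t C hC K
  have he : h.isoPullback.hom ≫ pullback.fst _ _ = p := h.isoPullback_hom_fst
  have h2 : p ⁻¹' C = (Scheme.homeoOfIso h.isoPullback) ⁻¹' ((bcπ' t K) ⁻¹' C) := by
    ext x
    show p x ∈ C ↔ (pullback.fst t _) (h.isoPullback.hom x) ∈ C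
    rw [← Scheme.Hom.comp_apply, he]
  rw [h2]
  refine h1.preimage (Scheme.homeoOfIso h.isoPullback).isOpenEmbedding ?_
  obtain ⟨c, hc⟩ := h1.1
  exact ⟨c, hc, (Scheme.homeoOfIso h.isoPullback).surjective c⟩

theorem surjective_of_isPullback : Function.Surjective p := by
  have : Surjective (Spec.map (CommRingCat.ofHom φ)) :=
    ⟨fun _ ↦ ⟨Nonempty.some inferInstance, Subsingleton.elim _ _⟩⟩
  have : Surjective p := MorphismProperty.of_isPullback (P := @Surjective) h.flip inferInstance
  exact p.surjective

theorem card_connectedComponents_eq :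
    ENat.card (_root_.ConnectedComponents W) = ENat.card (_root_.ConnectedComponents T) :=
  CompCountTop.card_connectedComponents_eq p.continuous (surjective_of_isPullback φ h)
    (fun b => (isConnected_preimage_of_isPullback φ h _ isClosed_connectedComponent
      isConnected_connectedComponent).isPreconnected)

theorem encard_irreducibleComponents_eq :
    (irreducibleComponents W).encard = (irreducibleComponents T).encard :=
  CompCountTop.encard_irreducibleComponents_eq p.continuous (surjective_of_isPullback φ h)
    (fun Z hZ => isIrreducible_preimage_of_isPullback φ h Z hZ.1)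

end B

end Groth.Agent.Lib.Helper7.SepClosedComp
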