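/-
helper7: the geometric fibre `MoreMor.geomFiber` of a base change is a base change of the
geometric fibre along an extension of separably closed fields.
-/
import Groth.Agent.Lib.Helper7.SepClosedComp
import Groth.Prelude.Def_MoreMor
import Mathlib.AlgebraicGeometry.Fiber

set_option autoImplicit false
universe u

namespace Groth.Agent.Lib.Helper7.GeomFibreBC

open CategoryTheory Limits AlgebraicGeometry

variable {X Y X' Y' : Scheme.{u}} {f : X ⟶ Y} {f' : X' ⟶ Y'} {g' : X' ⟶ X} {g : Y' ⟶ Y}

/-- A compatible embedding of separable closures of residue fields. -/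
theorem exists_sepClosure_map (g : Y' ⟶ Y) (y' : Y') :
    ∃ ψ : SeparableClosure (Y.residueField (g y')) →+* SeparableClosure (Y'.residueField y'),
      ψ.comp (algebraMap (Y.residueField (g y')) (SeparableClosure (Y.residueField (g y')))) =
        (algebraMap (Y'.residueField y') (SeparableClosure (Y'.residueField y'))).comp
          (g.residueFieldMap y').hom := by
  letI : Algebra (Y.residueField (g y')) (SeparableClosure (Y'.residueField y')) :=
    ((algebraMap (Y'.residueField y') (SeparableClosure (Y'.residueField y'))).comp
      (g.residueFieldMap y').hom).toAlgebra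
  let ψ : SeparableClosure (Y.residueField (g y')) →ₐ[Y.residueField (g y')]
      SeparableClosure (Y'.residueField y') := IsSepClosed.lift
  exact ⟨ψ.toRingHom, RingHom.ext fun a => ψ.commutes a⟩

theorem exists_isPullback_geomFiber (hc : IsPullback g' f' f g) (y' : Y') :
    ∃ (ψ : SeparableClosure (Y.residueField (g y')) →+* SeparableClosure (Y'.residueField y'))
      (q : MoreMor.geomFiber f' y' ⟶ MoreMor.geomFiber f (g y'))
      (w : MoreMor.geomFiber f' y' ⟶
        Spec (CommRingCat.of (SeparableClosure (Y'.residueField y'))))
      (t : MoreMor.geomFiber f (g y') ⟶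
        Spec (CommRingCat.of (SeparableClosure (Y.residueField (g y'))))),
      IsPullback q w t (Spec.map (CommRingCat.ofHom ψ)) := by
  obtain ⟨ψ, hψ⟩ := exists_sepClosure_map g y'
  have hp := isPullback_fiberToSpecResidueField_of_isPullback hc y'
  have hZ' := IsPullback.of_hasPullback (f'.fiberToSpecResidueField y')
    (Spec.map (CommRingCat.ofHom (algebraMap (Y'.residueField y')
      (SeparableClosure (Y'.residueField y')))))
  have hZ := IsPullback.of_hasPullback (f.fiberToSpecResidueField (g y'))
    (Spec.map (CommRingCat.ofHom (algebraMap (Y.residueField (g y'))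
      (SeparableClosure (Y.residueField (g y'))))))
  have hcomp : Spec.map (CommRingCat.ofHom (algebraMap (Y'.residueField y')
      (SeparableClosure (Y'.residueField y')))) ≫ Spec.map (g.residueFieldMap y') =
      Spec.map (CommRingCat.ofHom ψ) ≫ Spec.map (CommRingCat.ofHom
        (algebraMap (Y.residueField (g y')) (SeparableClosure (Y.residueField (g y'))))) := by
    rw [← Spec.map_comp, ← Spec.map_comp]
    congr 1
    exact CommRingCat.hom_ext hψ.symm
  have s := hZ'.paste_horiz hp
  have key : ∀ {A B C D : Scheme.{u}} {a : A ⟶ B} {b : A ⟶ C} {c : B ⟶ D} {d d' : C ⟶ D},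
      IsPullback a b c d → d = d' → IsPullback a b c d' := by
    intro A B C D a b c d d' h e
    subst e
    exact h
  have s' := key s hcomp
  exact ⟨ψ, _, _, _, IsPullback.of_right' s' hZ⟩

end Groth.Agent.Lib.Helper7.GeomFibreBC
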