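/-
helper7: on a locally Noetherian scheme, a point with reduced local ring has a reduced open
neighbourhood.
-/
import Mathlib.AlgebraicGeometry.Noetherian
import Mathlib.AlgebraicGeometry.Properties

set_option autoImplicit false
universe u

namespace Groth.Agent.Lib.Helper7.ReducedNhd

open CategoryTheory AlgebraicGeometry

/-- Ring level: Noetherian `A`, `A_p` reduced ⇒ `A_s` reduced for some `s ∉ p`. -/
theorem exists_away_isReduced (A : Type*) [CommRing A] [IsNoetherianRing A] (p : Ideal A)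
    [p.IsPrime] (Ap : Type*) [CommRing Ap] [Algebra A Ap] [IsLocalization.AtPrime Ap p]
    [IsReduced Ap] :
    ∃ s : A, s ∉ p ∧ ∀ (As : Type*) [CommRing As] [Algebra A As] [IsLocalization.Away s As],
      IsReduced As := by
  classical
  -- the nilradical is finitely generated and killed by some `s ∉ p`
  obtain ⟨t, ht⟩ := (isNoetherianRing_iff_ideal_fg A).mp inferInstance (nilradical A)
  have h1 : ∀ n ∈ nilradical A, ∃ s : A, s ∉ p ∧ s * n = 0 := by
    intro n hn
    have hn' : IsNilpotent (algebraMap A Ap n) := (mem_nilradical.mp hn).map _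
    have h0 : algebraMap A Ap n = 0 := hn'.eq_zero
    rw [IsLocalization.map_eq_zero_iff p.primeCompl] at h0
    obtain ⟨⟨s, hs⟩, hsn⟩ := h0
    exact ⟨s, hs, hsn⟩
  have h2 : ∃ s : A, s ∉ p ∧ ∀ n ∈ nilradical A, s * n = 0 := by
    have h3 : ∀ n ∈ (t : Set A), ∃ s : A, s ∉ p ∧ s * n = 0 := fun n hn =>
      h1 n (ht ▸ Ideal.subset_span hn)
    choose! σ hσ1 hσ2 using h3
    refine ⟨∏ n ∈ t, σ n, ?_, ?_⟩
    · intro h
      obtain ⟨n, hn, hmem⟩ := (Ideal.IsPrime.prod_mem_iff).mp h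
      exact hσ1 n hn hmem
    · intro n hn
      rw [← ht] at hn
      refine Submodule.span_induction (p := fun x _ => (∏ n ∈ t, σ n) * x = 0) ?_ ?_ ?_ ?_ hn
      · intro x hx
        obtain ⟨c, hc⟩ := Finset.dvd_prod_of_mem σ hx
        rw [hc, mul_comm (σ x) c, mul_assoc, hσ2 x hx, mul_zero]
      · simp
      · intro x y _ _ hx hy; rw [mul_add, hx, hy, add_zero]
      · intro a x _ hx; rw [smul_eq_mul, mul_left_comm, hx, mul_zero]
  obtain ⟨s, hsp, hs⟩ := h2
  refine ⟨s, hsp, fun As _ _ _ => ⟨fun y hy => ?_⟩⟩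
  obtain ⟨n, hn⟩ := hy
  obtain ⟨x, d, rfl⟩ := IsLocalization.exists_mk'_eq (Submonoid.powers s) y
  have h4 : algebraMap A As (x ^ n) = 0 := by
    have : (IsLocalization.mk' As x d) ^ n = 0 := hn
    rw [← IsLocalization.mk'_pow] at this
    rw [IsLocalization.mk'_eq_zero_iff] at this
    obtain ⟨⟨_, m, rfl⟩, hm⟩ := this
    rw [IsLocalization.map_eq_zero_iff (Submonoid.powers s)]
    exact ⟨⟨_, m, rfl⟩, hm⟩
  rw [IsLocalization.map_eq_zero_iff (Submonoid.powers s)] at h4
  obtain ⟨⟨_, m, rfl⟩, hm⟩ := h4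
  -- `s^m * x^n = 0` so `s * x` is nilpotent
  have h5 : IsNilpotent (s * x) := by
    refine ⟨m + n, ?_⟩
    rw [mul_pow, pow_add, pow_add]
    calc s ^ m * s ^ n * (x ^ m * x ^ n) = (s ^ m * x ^ n) * (s ^ n * x ^ m) := by ring
      _ = 0 := by rw [show s ^ m * x ^ n = 0 from hm, zero_mul]
  have h6 : s * (s * x) = 0 := hs _ (mem_nilradical.mpr h5)
  rw [IsLocalization.mk'_eq_zero_iff]
  exact ⟨⟨s ^ 2, 2, rfl⟩, by rw [← h6]; ring⟩


/-- On a locally Noetherian scheme, a point with reduced local ring has a reduced open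
neighbourhood. -/
theorem exists_isReduced_nhd {X : Scheme.{u}} [IsLocallyNoetherian X] (x : X)
    [_root_.IsReduced (X.presheaf.stalk x)] :
    ∃ W : X.Opens, x ∈ W ∧ IsReduced (W : Scheme.{u}) := by
  obtain ⟨U, hU, hxU, -⟩ := (TopologicalSpace.Opens.isBasis_iff_nbhd.mp X.isBasis_affineOpens)
    (show x ∈ (⊤ : X.Opens) from trivial)
  have hN : IsNoetherianRing Γ(X, U) := IsLocallyNoetherian.component_noetherian ⟨U, hU⟩
  letI : Algebra Γ(X, U) (X.presheaf.stalk x) :=
    TopCat.Presheaf.algebra_section_stalk X.presheaf ⟨x, hxU⟩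
  have hloc : IsLocalization.AtPrime (X.presheaf.stalk x) (hU.primeIdealOf ⟨x, hxU⟩).asIdeal :=
    hU.isLocalization_stalk ⟨x, hxU⟩
  obtain ⟨s, hsp, H⟩ := exists_away_isReduced Γ(X, U) (hU.primeIdealOf ⟨x, hxU⟩).asIdeal
    (X.presheaf.stalk x)
  have hW : IsAffineOpen (X.basicOpen s) := hU.basicOpen s
  have hle : X.basicOpen s ≤ U := X.basicOpen_le s
  letI : Algebra Γ(X, U) Γ(X, X.basicOpen s) := (X.presheaf.map (homOfLE hle).op).hom.toAlgebra
  have hloc2 : IsLocalization.Away s Γ(X, X.basicOpen s) := hU.isLocalization_basicOpen s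
  have hred : _root_.IsReduced Γ(X, X.basicOpen s) := H _
  refine ⟨X.basicOpen s, ?_, ?_⟩
  · have h1 : hU.fromSpec (hU.primeIdealOf ⟨x, hxU⟩) = x := hU.fromSpec_primeIdealOf ⟨x, hxU⟩
    have h2 : hU.primeIdealOf ⟨x, hxU⟩ ∈ hU.fromSpec ⁻¹ᵁ X.basicOpen s := by
      rw [hU.fromSpec_preimage_basicOpen]
      exact hsp
    rw [← h1]
    exact h2
  · have : IsAffine (X.basicOpen s : Scheme.{u}) := hW
    have : _root_.IsReduced Γ((X.basicOpen s : Scheme.{u}), ⊤) :=
      isReduced_of_injective (X.basicOpen s).topIso.hom.hom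
        ((ConcreteCategory.bijective_of_isIso (X.basicOpen s).topIso.hom).injective)
    exact isReduced_of_isAffine_isReduced _

end Groth.Agent.Lib.Helper7.ReducedNhd
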