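import Mathlib.AlgebraicGeometry.Group.Smooth
import Groth.Agent.Lib.Helper7.ReducedNhd

set_option autoImplicit false
universe u

namespace Groth.Agent.Lib.Helper7.GrpSmooth

open CategoryTheory AlgebraicGeometry

variable {K : Type u} [Field K] {G : Scheme.{u}} (f : G ⟶ Spec (.of K))
    [LocallyOfFiniteType f] [GrpObj (Over.mk f)]

set_option backward.defeqAttrib.useBackward true in
set_option backward.isDefEq.respectTransparency false in
open MonObj MonoidalCategory CartesianMonoidalCategory in
/-- Homogeneity: a group scheme locally of finite type over an algebraically closed field whose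
smooth locus is nonempty is smooth. -/
theorem smooth_of_nonempty_smoothLocus [IsAlgClosed K]
    (hne : (f.smoothLocus : Set G).Nonempty) : Smooth f := by
  have := LocallyOfFiniteType.jacobsonSpace f
  rw [← Scheme.Hom.smoothLocus_eq_top_iff, ← TopologicalSpace.Opens.coe_eq_univ,
    ← not_ne_iff, ← Set.nonempty_compl]
  intro H
  obtain ⟨x, hx, hxc⟩ :=
    nonempty_inter_closedPoints H f.smoothLocus.2.isClosed_compl.isLocallyClosed
  obtain ⟨y, hy : y ∈ f.smoothLocus, hyc⟩ := nonempty_inter_closedPoints
    hne f.smoothLocus.2.isLocallyClosed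
  let x' : 𝟙_ _ ⟶ Over.mk f := Over.homMk _ ((pointEquivClosedPoint f).symm ⟨x, hxc⟩).2
  let y' : 𝟙_ _ ⟶ Over.mk f := Over.homMk _ ((pointEquivClosedPoint f).symm ⟨y, hyc⟩).2
  let α := (GrpObj.mulRight (A := Over.mk f) x').symm ≪≫
    (GrpObj.mulRight (A := Over.mk f) y')
  have hα : x' ≫ α.hom = y' := by
    dsimp only [Iso.trans_hom, Iso.symm_hom, α]
    rw [← Category.assoc, ← Iso.eq_comp_inv]
    simp [comp_lift_assoc]
  have hα' : α.hom.left x = y := by
    simpa [x', y', pointEquivClosedPoint] using congr(($hα).left (IsLocalRing.closedPoint K))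
  rw! [← hα', ← α.hom.left.mem_preimage, Scheme.Hom.preimage_smoothLocus_eq,
    show α.hom.left ≫ f = f from α.hom.w] at hy
  exact hx hy


open Limits in
/-- A reduced group scheme locally of finite type over a perfect field is smooth. -/
theorem smooth_of_isReduced_of_perfectField [PerfectField K] [IsReduced G] : Smooth f := by
  let Ω : Type u := AlgebraicClosure K
  let g : Spec (.of Ω) ⟶ Spec (.of K) := Spec.map (CommRingCat.ofHom <| algebraMap K Ω)
  apply MorphismProperty.of_pullback_snd_of_descendsAlong
    (Q := @Surjective ⊓ @Flat ⊓ @QuasiCompact) (g := g)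
  · exact ⟨⟨inferInstance, inferInstance⟩, inferInstance⟩
  · let : GrpObj (Over.mk (Limits.pullback.snd f g)) := Over.grpObjMkPullbackSnd
    apply smooth_of_nonempty_smoothLocus
    -- the smooth locus of `f` is dense, hence nonempty
    have hdense : Dense (f.smoothLocus : Set G) := f.dense_smoothLocus_of_perfectField
    have hGne : Nonempty G := ⟨(MonObj.one (X := Over.mk f)).left (IsLocalRing.closedPoint K)⟩
    obtain ⟨x, hx⟩ := hdense.nonempty
    -- `U.ι ≫ f` is smooth
    let U := f.smoothLocus
    have hU : Smooth (U.ι ≫ f) := by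
      rw [← Scheme.Hom.smoothLocus_eq_top_iff, ← Scheme.Hom.preimage_smoothLocus_eq]
      exact U.ι_preimage_self
    let V : (pullback f g).Opens := pullback.fst f g ⁻¹ᵁ U
    have h1 : IsPullback (pullback.fst f g ∣_ U) V.ι U.ι (pullback.fst f g) :=
      isPullback_morphismRestrict _ _
    have h2 : IsPullback (pullback.fst f g) (pullback.snd f g) f g := IsPullback.of_hasPullback _ _
    have h3 := h1.paste_vert h2
    have hV : Smooth (V.ι ≫ pullback.snd f g) :=
      MorphismProperty.of_isPullback (P := @Smooth) h3 hU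
    have hV' : V ≤ (pullback.snd f g).smoothLocus := by
      have : V.ι ⁻¹ᵁ (pullback.snd f g).smoothLocus = ⊤ := by
        rw [Scheme.Hom.preimage_smoothLocus_eq, Scheme.Hom.smoothLocus_eq_top_iff]
        exact hV
      intro z hz
      have hz' : (⟨z, hz⟩ : V) ∈ V.ι ⁻¹ᵁ (pullback.snd f g).smoothLocus := by
        rw [this]; trivial
      exact hz'
    obtain ⟨z, hz⟩ := (pullback.fst f g).surjective x
    exact ⟨z, hV' (show z ∈ V from by rw [Scheme.Hom.mem_preimage, hz]; exact hx)⟩


/-- A group scheme locally of finite type over an algebraically closed field one of whose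
local rings is reduced is smooth. -/
theorem smooth_of_isReduced_stalk [IsAlgClosed K] (e : G)
    [_root_.IsReduced (G.presheaf.stalk e)] : Smooth f := by
  have : IsLocallyNoetherian G := LocallyOfFiniteType.isLocallyNoetherian f
  obtain ⟨W, heW, hW⟩ := Groth.Agent.Lib.Helper7.ReducedNhd.exists_isReduced_nhd e
  apply smooth_of_nonempty_smoothLocus
  have hdense : Dense ((W.ι ≫ f).smoothLocus : Set W) :=
    (W.ι ≫ f).dense_smoothLocus_of_perfectField
  have : Nonempty W := ⟨⟨e, heW⟩⟩
  obtain ⟨w, hw⟩ := hdense.nonempty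
  rw [SetLike.mem_coe, ← Scheme.Hom.preimage_smoothLocus_eq] at hw
  exact ⟨W.ι w, hw⟩

open Limits in
/-- Homogeneity over an arbitrary field: a group scheme locally of finite type over a field whose
smooth locus is nonempty is smooth. -/
theorem smooth_of_nonempty_smoothLocus_field
    (hne : (f.smoothLocus : Set G).Nonempty) : Smooth f := by
  let Ω : Type u := AlgebraicClosure K
  let g : Spec (.of Ω) ⟶ Spec (.of K) := Spec.map (CommRingCat.ofHom <| algebraMap K Ω)
  apply MorphismProperty.of_pullback_snd_of_descendsAlong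
    (Q := @Surjective ⊓ @Flat ⊓ @QuasiCompact) (g := g)
  · exact ⟨⟨inferInstance, inferInstance⟩, inferInstance⟩
  · let : GrpObj (Over.mk (Limits.pullback.snd f g)) := Over.grpObjMkPullbackSnd
    apply smooth_of_nonempty_smoothLocus
    obtain ⟨x, hx⟩ := hne
    let U := f.smoothLocus
    have hU : Smooth (U.ι ≫ f) := by
      rw [← Scheme.Hom.smoothLocus_eq_top_iff, ← Scheme.Hom.preimage_smoothLocus_eq]
      exact U.ι_preimage_self
    let V : (pullback f g).Opens := pullback.fst f g ⁻¹ᵁ U
    have h1 : IsPullback (pullback.fst f g ∣_ U) V.ι U.ι (pullback.fst f g) :=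
      isPullback_morphismRestrict _ _
    have h2 : IsPullback (pullback.fst f g) (pullback.snd f g) f g := IsPullback.of_hasPullback _ _
    have h3 := h1.paste_vert h2
    have hV : Smooth (V.ι ≫ pullback.snd f g) :=
      MorphismProperty.of_isPullback (P := @Smooth) h3 hU
    have hV' : V ≤ (pullback.snd f g).smoothLocus := by
      have : V.ι ⁻¹ᵁ (pullback.snd f g).smoothLocus = ⊤ := by
        rw [Scheme.Hom.preimage_smoothLocus_eq, Scheme.Hom.smoothLocus_eq_top_iff]
        exact hV
      intro z hz
      have hz' : (⟨z, hz⟩ : V) ∈ V.ι ⁻¹ᵁ (pullback.snd f g).smoothLocus := by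
        rw [this]; trivial
      exact hz'
    obtain ⟨z, hz⟩ := (pullback.fst f g).surjective x
    exact ⟨z, hV' (show z ∈ V from by rw [Scheme.Hom.mem_preimage, hz]; exact hx)⟩

/-- A group scheme locally of finite type over a perfect field one of whose local rings is
reduced is smooth. -/
theorem smooth_of_isReduced_stalk_of_perfectField [PerfectField K] (e : G)
    [_root_.IsReduced (G.presheaf.stalk e)] : Smooth f := by
  have : IsLocallyNoetherian G := LocallyOfFiniteType.isLocallyNoetherian f
  obtain ⟨W, heW, hW⟩ := Groth.Agent.Lib.Helper7.ReducedNhd.exists_isReduced_nhd e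
  apply smooth_of_nonempty_smoothLocus_field
  have hdense : Dense ((W.ι ≫ f).smoothLocus : Set W) :=
    (W.ι ≫ f).dense_smoothLocus_of_perfectField
  have : Nonempty W := ⟨⟨e, heW⟩⟩
  obtain ⟨w, hw⟩ := hdense.nonempty
  rw [SetLike.mem_coe, ← Scheme.Hom.preimage_smoothLocus_eq] at hw
  exact ⟨W.ι w, hw⟩

end Groth.Agent.Lib.Helper7.GrpSmooth
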