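import Mathlib

set_option autoImplicit false
universe u

namespace Groth.Agent.Lib.Helper7.HilbZetaLib

open PowerSeries

/-- Division in `k⟦X⟧` controlled by orders. -/
theorem exists_mul_eq_of_order_le {k : Type u} [Field k] (f g : PowerSeries k) (l c : ℕ)
    (hf : f.order = ((l : ℕ) : ℕ∞)) (hg : ((l + c : ℕ) : ℕ∞) ≤ g.order) :
    ∃ q : PowerSeries k, ((c : ℕ) : ℕ∞) ≤ q.order ∧ q * f = g := by
  have hf0 : f ≠ 0 := by
    intro h
    rw [h, order_zero] at hf
    exact ENat.top_ne_natCast _ hf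
  obtain ⟨v, hv⟩ := (isUnit_divided_by_X_pow_order hf0).exists_left_inv
  have hfl : f.order.toNat = l := by rw [hf]; rfl
  have hfeq : X ^ l * divXPowOrder f = f := by
    rw [← hfl]; exact X_pow_order_mul_divXPowOrder
  have hdvd : X ^ (l + c) ∣ g := by
    rw [X_pow_dvd_iff]
    intro m hm
    apply coeff_of_lt_order
    exact lt_of_lt_of_le (by exact_mod_cast hm) hg
  obtain ⟨w, hw⟩ := hdvd
  refine ⟨X ^ c * (w * v), ?_, ?_⟩
  · rw [order_mul, order_X_pow]
    exact le_self_add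
  · rw [hw]
    calc X ^ c * (w * v) * f = X ^ c * (w * v) * (X ^ l * divXPowOrder f) := by rw [hfeq]
      _ = X ^ (l + c) * w * (v * divXPowOrder f) := by ring
      _ = X ^ (l + c) * w := by rw [hv, mul_one]

/-- Conductor elements lie in `R`. -/
theorem mem_of_conductor {k : Type u} [Field k] {s : ℕ}
    (R : Subalgebra k (Fin s → PowerSeries k))
    (c : Fin s → ℕ)
    (hc : ∀ f : Fin s → PowerSeries k,
      (∀ g : Fin s → PowerSeries k, g * f ∈ R) ↔ ∀ i, ((c i : ℕ) : ℕ∞) ≤ (f i).order)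
    (f : Fin s → PowerSeries k) (hf : ∀ i, ((c i : ℕ) : ℕ∞) ≤ (f i).order) : f ∈ R := by
  have := (hc f).2 hf 1
  simpa using this

/-- The main lemma: `F^{l+c} ⊆ J` whenever `J` contains elements of order exactly `l i` in
each branch. -/
theorem mem_ideal_of_order_ge {k : Type u} [Field k] {s : ℕ}
    (R : Subalgebra k (Fin s → PowerSeries k))
    (c : Fin s → ℕ)
    (hc : ∀ f : Fin s → PowerSeries k,
      (∀ g : Fin s → PowerSeries k, g * f ∈ R) ↔ ∀ i, ((c i : ℕ) : ℕ∞) ≤ (f i).order)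
    (J : Ideal ↥R)
    (l : Fin s → ℕ) (hl : ∀ i : Fin s, ∃ f ∈ J, ((f : Fin s → PowerSeries k) i).order = ((l i : ℕ) : ℕ∞))
    (g : Fin s → PowerSeries k) (hg : ∀ i : Fin s, ((l i + c i : ℕ) : ℕ∞) ≤ (g i).order) :
    ∃ hgR : g ∈ R, (⟨g, hgR⟩ : ↥R) ∈ J := by
  classical
  have key : ∀ i : Fin s, ∃ x : ↥R, x ∈ J ∧ (x : Fin s → PowerSeries k) = Pi.single i (g i) := by
    intro i
    obtain ⟨f, hfJ, hfo⟩ := hl i
    obtain ⟨q, hqo, hq⟩ := exists_mul_eq_of_order_le _ _ _ _ hfo (hg i)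
    have hmem : (Pi.single i q : Fin s → PowerSeries k) ∈ R := by
      apply mem_of_conductor R c hc
      intro j
      by_cases hji : j = i
      · subst hji; simpa using hqo
      · rw [Pi.single_eq_of_ne hji, order_zero]; exact le_top
    refine ⟨⟨Pi.single i q, hmem⟩ * f, J.mul_mem_left _ hfJ, ?_⟩
    rw [← hq]
    ext1 j
    by_cases hji : j = i
    · subst hji; simp
    · simp [Pi.single_eq_of_ne hji]
  choose x hxJ hx using key
  have hsum : ((∑ i, x i : ↥R) : Fin s → PowerSeries k) = g := by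
    rw [AddSubmonoidClass.coe_finsetSum]
    simp_rw [hx]
    exact Finset.univ_sum_single g
  have hgR : g ∈ R := by rw [← hsum]; exact (∑ i, x i).2
  refine ⟨hgR, ?_⟩
  have : (⟨g, hgR⟩ : ↥R) = ∑ i, x i := Subtype.ext hsum.symm
  rw [this]
  exact J.sum_mem (fun i _ => hxJ i)

end Groth.Agent.Lib.Helper7.HilbZetaLib

namespace Groth.Agent.Lib.Helper7.HilbZetaLib

open PowerSeries

theorem le_order_of_X_pow_dvd {k : Type u} [Field k] (f : PowerSeries k) (n : ℕ)
    (h : X ^ n ∣ f) : ((n : ℕ) : ℕ∞) ≤ f.order := by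
  obtain ⟨w, rfl⟩ := h
  rw [order_mul, order_X_pow]
  exact le_self_add

theorem X_pow_dvd_of_le_order {k : Type u} [Field k] (f : PowerSeries k) (n : ℕ)
    (h : ((n : ℕ) : ℕ∞) ≤ f.order) : X ^ n ∣ f := by
  rw [X_pow_dvd_iff]
  intro m hm
  apply coeff_of_lt_order
  exact lt_of_lt_of_le (by exact_mod_cast hm) h

/-- Branch lengths: every element of `I` has order `≥ a i`, and some element has order
exactly `a i`. -/
theorem branchLength_facts {k : Type u} [Field k] {s : ℕ}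
    (R : Subalgebra k (Fin s → PowerSeries k))
    (I : Ideal ↥R) (a : Fin s → ℕ)
    (ha : (∀ i : Fin s, Ideal.map ((Pi.evalAlgHom k (fun _ : Fin s => PowerSeries k) i).comp R.val) I = Ideal.span {PowerSeries.X ^ (a i)})) :
    (∀ f ∈ I, ∀ i : Fin s, ((a i : ℕ) : ℕ∞) ≤ ((f : Fin s → PowerSeries k) i).order) ∧
    (∀ i : Fin s, ∃ f ∈ I, ((f : Fin s → PowerSeries k) i).order = ((a i : ℕ) : ℕ∞)) := by
  have hb : ∀ f ∈ I, ∀ i : Fin s, ((a i : ℕ) : ℕ∞) ≤ ((f : Fin s → PowerSeries k) i).order := by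
    intro f hf i
    have h1 : ((Pi.evalAlgHom k (fun _ : Fin s => PowerSeries k) i).comp R.val) f ∈
        Ideal.span {(PowerSeries.X : PowerSeries k) ^ (a i)} := by
      rw [← ha i]; exact Ideal.mem_map_of_mem _ hf
    rw [Ideal.mem_span_singleton] at h1
    exact le_order_of_X_pow_dvd _ _ h1
  refine ⟨hb, ?_⟩
  intro i
  by_contra hcon
  push Not at hcon
  have hall : ∀ f ∈ I, ((a i + 1 : ℕ) : ℕ∞) ≤ ((f : Fin s → PowerSeries k) i).order := by
    intro f hf
    have h1 := hb f hf i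
    have h2 := hcon f hf
    have h3 : ((a i : ℕ) : ℕ∞) < ((f : Fin s → PowerSeries k) i).order := lt_of_le_of_ne h1 (Ne.symm h2)
    rw [Nat.cast_add, Nat.cast_one]
    exact Order.add_one_le_of_lt h3
  have hle : Ideal.map ((Pi.evalAlgHom k (fun _ : Fin s => PowerSeries k) i).comp R.val) I ≤
      Ideal.span {(PowerSeries.X : PowerSeries k) ^ (a i + 1)} := by
    rw [Ideal.map_le_iff_le_comap]
    intro f hf
    rw [Ideal.mem_comap, Ideal.mem_span_singleton]
    exact X_pow_dvd_of_le_order _ _ (hall f hf)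
  rw [ha i, Ideal.span_singleton_le_iff_mem, Ideal.mem_span_singleton] at hle
  have h4 := le_order_of_X_pow_dvd _ _ hle
  rw [order_X_pow] at h4
  have : a i + 1 ≤ a i := by exact_mod_cast h4
  omega

end Groth.Agent.Lib.Helper7.HilbZetaLib
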