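import Groth.Agent.Lib.Helper7.IrrDisj1

/-!
# Directedness of generizations for quasi-finite universally open morphisms with constant count
(helper7)
-/

set_option autoImplicit false
set_option maxHeartbeats 800000

open CategoryTheory CategoryTheory.Limits AlgebraicGeometry Opposite IsLocalRing Topology

universe u

namespace Groth.Agent.Lib.Helper7.IrrDisj

open Groth.Agent.Lib.Helper70.GeomPts Groth.Agent.Lib.Helper70.Weighting
  Groth.Agent.Lib.Helper70.WeightingLSC Groth.Agent.Lib.Helper70.UniquePoint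
  Groth.Agent.Lib.Helper70.WeightingBC Groth.Agent.Lib.Helper70.WeightingBC2
  Groth.Agent.Lib.Helper70.WeightingFinite Groth.Agent.Lib.Helper70.UnivOpenAt
  Groth.Agent.Lib.Helper70.CountLSC

set_option backward.isDefEq.respectTransparency.types false in
theorem dir_aux (n : ℕ) : ∀ {X Y : Scheme.{u}} (f : X ⟶ Y) [LocallyQuasiFinite f]
    [LocallyOfFiniteType f] [IsSeparated f] (_ : ∀ y : Y, (f ⁻¹' {y}).Finite)
    (_ : ∀ y : Y, CAlg2.IsGeomUnibranch (Y.presheaf.stalk y))
    (Ω : Type u) [Field Ω] [IsAlgClosed Ω] (yb : Spec (.of Ω) ⟶ Y)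
    (_ : ∀ x : X, f x = yb (closedPoint Ω) → EGA43.IsUnivOpenAt f x),
    MoreMor.fibreIntegral f (fun _ => 1) (yb (closedPoint Ω)) = n →
    (∀ᶠ z in 𝓝 (yb (closedPoint Ω)), MoreMor.fibreIntegral f (fun _ => 1) z = n) →
    ∀ x : X, f x = yb (closedPoint Ω) → Dir x := by
  induction n with
  | zero =>
    intro X Y f _ _ _ hfin hY Ω _ _ yb hopen hn hconst x hx
    exfalso
    have h2 := le_fibreIntegral f (fun _ => 1) (fun u => zero_le_one) x (hfin _)
    rw [hx, hn] at h2
    simp at h2
  | succ n ih =>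
    intro X Y f _ _ _ hfin hY Ω _ _ yb hopen hn hconst x hx
    haveI : Finite (GPts Ω f yb) := finite_gpts Ω f yb (hfin _)
    have hcard := card_gpts_eq_fibreIntegral_one Ω f yb (hfin _)
    rw [hn] at hcard
    obtain ⟨t⟩ : Nonempty (GPts Ω f yb) := by
      rw [← Finite.card_pos_iff]
      have : (0 : ℤ) < Nat.card (GPts Ω f yb) := by rw [hcard]; positivity
      exact_mod_cast this
    obtain ⟨V, g, hg, A, B, vb, hAB, hfinA, hvbg, hA1, hAnhds⟩ :=
      exists_etale_split f Ω yb hopen t
    haveI : LocallyQuasiFinite g := locallyQuasiFinite_of_etale g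
    have hgv₀ : g (vb (closedPoint Ω)) = yb (closedPoint Ω) := by rw [← hvbg]; rfl
    have hfinπ : ∀ v : V, ((pullback.snd f g) ⁻¹' {v}).Finite :=
      finite_fibre_of_isPullback f hfin (pullback.snd f g) (pullback.fst f g) g
        (IsPullback.of_hasPullback f g)
    have hbc : ∀ v : V, MoreMor.fibreIntegral (pullback.snd f g) (fun _ => 1) v =
        MoreMor.fibreIntegral f (fun _ => 1) (g v) := fun v =>
      fibreIntegral_base_change f hfin (pullback.snd f g) (pullback.fst f g) g
        (IsPullback.of_hasPullback f g) (fun _ => 1) v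
    have hadd : ∀ v : V, MoreMor.fibreIntegral (pullback.snd f g) (fun _ => 1) v =
        MoreMor.fibreIntegral (A.ι ≫ pullback.snd f g) (fun _ => 1) v +
        MoreMor.fibreIntegral (B.ι ≫ pullback.snd f g) (fun _ => 1) v :=
      fun v => fibreIntegral_add_of_isCompl (pullback.snd f g) A B hAB _ v (hfinπ v)
    have hfinB : ∀ v : V, ((B.ι ≫ pullback.snd f g) ⁻¹' {v}).Finite := fun v =>
      finite_fibre_open_comp (pullback.snd f g) B v (hfinπ v)
    have hB : MoreMor.fibreIntegral (B.ι ≫ pullback.snd f g) (fun _ => 1) (vb (closedPoint Ω)) =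
        n := by
      have h1 := hadd (vb (closedPoint Ω))
      rw [hbc, hgv₀, hn, hA1] at h1
      push_cast at h1
      omega
    have hopenB : ∀ b : ↥B.toScheme, (B.ι ≫ pullback.snd f g) b = vb (closedPoint Ω) →
        EGA43.IsUnivOpenAt (B.ι ≫ pullback.snd f g) b :=
      fun b hb => isUnivOpenAt_piece f g B _ hopen _ hgv₀ b hb
    have hlscB := lsc1_aux n (B.ι ≫ pullback.snd f g) hfinB Ω vb hopenB hB
    -- the counts near `v`
    have hev1 : ∀ᶠ v' in 𝓝 (vb (closedPoint Ω)),
        MoreMor.fibreIntegral f (fun _ => 1) (g v') = (n + 1 : ℕ) := by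
      have h0 : ∀ᶠ z in 𝓝 (g (vb (closedPoint Ω))),
          MoreMor.fibreIntegral f (fun _ => 1) z = (n + 1 : ℕ) := by rw [hgv₀]; exact hconst
      exact (g.continuous.tendsto _).eventually h0
    have hev2 : ∀ᶠ v' in 𝓝 (vb (closedPoint Ω)),
        1 ≤ MoreMor.fibreIntegral (A.ι ≫ pullback.snd f g) (fun _ => 1) v' :=
      Filter.eventually_of_mem hAnhds
        (fun v' hv' => one_le_fibreIntegral_of_mem_image _ A hfinA v' hv')
    have hev3 : ∀ᶠ v' in 𝓝 (vb (closedPoint Ω)),
        ((n : ℤ) - 1) < MoreMor.fibreIntegral (B.ι ≫ pullback.snd f g) (fun _ => 1) v' :=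
      hlscB ((n : ℤ) - 1) (by
        change ((n : ℤ) - 1) <
          MoreMor.fibreIntegral (B.ι ≫ pullback.snd f g) (fun _ => 1) (vb (closedPoint Ω))
        rw [hB]; omega)
    have hevA : ∀ᶠ v' in 𝓝 (vb (closedPoint Ω)),
        MoreMor.fibreIntegral (A.ι ≫ pullback.snd f g) (fun _ => 1) v' = 1 := by
      filter_upwards [hev1, hev2, hev3] with v' h1 h2 h3
      have h4 := hadd v'
      rw [hbc, h1] at h4
      push_cast at h4
      omega
    have hevB : ∀ᶠ v' in 𝓝 (vb (closedPoint Ω)),
        MoreMor.fibreIntegral (B.ι ≫ pullback.snd f g) (fun _ => 1) v' = n := by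
      filter_upwards [hev1, hev2, hev3] with v' h1 h2 h3
      have h4 := hadd v'
      rw [hbc, h1] at h4
      push_cast at h4
      omega
    have hYV : ∀ v : V, CAlg2.IsGeomUnibranch (V.presheaf.stalk v) :=
      isGeomUnibranch_of_etale g hY
    have ihB := ih (B.ι ≫ pullback.snd f g) hfinB hYV Ω vb hopenB hB hevB
    -- the point of the pullback over `x`
    obtain ⟨x', hx'1, hx'2⟩ := Scheme.Pullback.exists_preimage_pullback x (vb (closedPoint Ω))
      (by rw [hx, hgv₀])
    have hdir' : Dir x' := by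
      have hmem : x' ∈ A ⊔ B := by rw [hAB.sup_eq_top]; trivial
      rcases hmem with hxA | hxB
      · -- the finite piece
        haveI := hfinA
        have hd : Dir (⟨x', hxA⟩ : ↥A.toScheme) := by
          apply dir_of_count_one (A.ι ≫ pullback.snd f g) ⟨x', hxA⟩
            {v' | MoreMor.fibreIntegral (A.ι ≫ pullback.snd f g) (fun _ => 1) v' = 1}
          · have hq : (A.ι ≫ pullback.snd f g) ⟨x', hxA⟩ = vb (closedPoint Ω) := hx'2
            rw [hq]
            exact hevA
          · intro w hw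
            exact hw
          · apply dir_of_hasUniqueMinimalPrime
            exact Groth.Agent.Lib.Helper7.AlgSpBr.hasUniqueMinimalPrime_of_isGeomUnibranch _
              (hYV _)
        exact dir_of_generalizing A.ι A.ι.continuous (Flat.generalizingMap A.ι) ⟨x', hxA⟩ hd
      · have hd : Dir (⟨x', hxB⟩ : ↥B.toScheme) := ihB ⟨x', hxB⟩ hx'2
        exact dir_of_generalizing B.ι B.ι.continuous (Flat.generalizingMap B.ι) ⟨x', hxB⟩ hd
    have := dir_of_generalizing (pullback.fst f g) (pullback.fst f g).continuous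
      (Flat.generalizingMap (pullback.fst f g)) x' hdir'
    rw [hx'1] at this
    exact this

end Groth.Agent.Lib.Helper7.IrrDisj
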