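import Groth.Agent.Lib.Helper2.LocalCriterion
import Mathlib

/-!
# Local criterion of flatness for a nilpotent ideal (no finiteness hypotheses)

Built on helper2's Tor-free toolkit (`Groth.Agent.Lib.Helper2`).
-/

set_option autoImplicit false
universe u v w

namespace Groth.Agent.Lib.Helper7.NilFlat

open TensorProduct Function Groth.Agent.Lib.Helper2

variable {R : Type u} {M : Type v} [CommRing R] [AddCommGroup M] [Module R M]

theorem flat_of_presentation_of_isNilpotent {K F : Type w} [AddCommGroup K] [Module R K]
    [AddCommGroup F] [Module R F] [Module.Flat R F] (ι : K →ₗ[R] F) (π : F →ₗ[R] M)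
    (hι : Injective ι) (hex : Exact ι π) (hπ : Surjective π)
    (I : Ideal R) (hI : IsNilpotent I)
    (h1 : Injective (LinearMap.rTensor M I.subtype))
    (h2 : Module.Flat (R ⧸ I) ((R ⧸ I) ⊗[R] M)) : Module.Flat R M := by
  have hexI : Exact I.subtype (Ideal.Quotient.mkₐ R I).toLinearMap := by
    intro x
    constructor
    · intro hx
      exact ⟨⟨x, Ideal.Quotient.eq_zero_iff_mem.mp hx⟩, rfl⟩
    · rintro ⟨y, rfl⟩
      exact Ideal.Quotient.eq_zero_iff_mem.mpr y.2
  have hR : Injective (ι.rTensor R) := Module.Flat.rTensor_preserves_injective_linearMap ι hι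
  have hτ : Injective (ι.rTensor (R ⧸ I)) :=
    tau_of_injective hex hπ hexI (Ideal.Quotient.mkₐ_surjective R I) h1 hR
  have hpow := rTensor_injective_of_pow_torsion.{u} ι I
    (fun T _ _ hT => tau_of_torsion hex hπ I hτ h2 T hT)
  obtain ⟨n, hn⟩ := hI
  have hall : ∀ (T : Type u) [AddCommGroup T] [Module R T], Injective (ι.rTensor T) := by
    intro T _ _
    refine hpow n T ?_
    intro a ha t
    rw [hn] at ha
    have : a = 0 := ha
    rw [this, zero_smul]
  rw [Module.Flat.iff_lTensor_injective']
  intro J
  exact injective_of_tau hex hπ J.subtype_injective (LinearMap.exact_subtype_mkQ J)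
    (Submodule.mkQ_surjective J) (hall (R ⧸ J))

/-- **Local criterion of flatness, nilpotent case.** `I` a nilpotent ideal of `R`, `M` an
`R`-module with `I ⊗ M → M` injective and `M/IM` flat over `R/I`. Then `M` is flat. -/
theorem flat_of_isNilpotent (I : Ideal R) (hI : IsNilpotent I)
    (h1 : Injective (LinearMap.rTensor M I.subtype))
    (h2 : Module.Flat (R ⧸ I) ((R ⧸ I) ⊗[R] M)) : Module.Flat R M := by
  let π : (M →₀ R) →ₗ[R] M := Finsupp.linearCombination R (id : M → M)
  exact flat_of_presentation_of_isNilpotent.{u, v, max u v} (K := LinearMap.ker π) (F := M →₀ R)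
    (LinearMap.ker π).subtype π (Submodule.subtype_injective _)
    (LinearMap.exact_subtype_ker_map π) (Finsupp.linearCombination_id_surjective R M) I hI h1 h2

section fibre

variable {R : Type w} {S : Type u} {M : Type v} [CommRing R] [CommRing S] [Algebra R S]
  [AddCommGroup M] [Module S M] [Module R M] [IsScalarTower R S M]

/-- The comparison map `I ⊗_R M → IS ⊗_S M`, as an additive map. -/
noncomputable def extMap (I : Ideal R) :
    (I ⊗[R] M) →+ ((I.map (algebraMap R S) : Ideal S) ⊗[S] M) :=
  TensorProduct.liftAddHom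
    { toFun := fun a => ((TensorProduct.mk S (I.map (algebraMap R S) : Ideal S) M)
        ⟨algebraMap R S a, Ideal.mem_map_of_mem _ a.2⟩).toAddMonoidHom
      map_zero' := by
        ext m
        simp only [LinearMap.toAddMonoidHom_coe, TensorProduct.mk_apply, AddMonoidHom.zero_apply]
        have : (⟨algebraMap R S (0 : I), Ideal.mem_map_of_mem _ (0 : I).2⟩ :
            (I.map (algebraMap R S) : Ideal S)) = 0 := Subtype.ext (by simp)
        rw [this, TensorProduct.zero_tmul]
      map_add' := by
        intro a b
        ext m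
        simp only [LinearMap.toAddMonoidHom_coe, TensorProduct.mk_apply, AddMonoidHom.add_apply]
        have : (⟨algebraMap R S (a + b : I), Ideal.mem_map_of_mem _ (a + b : I).2⟩ :
            (I.map (algebraMap R S) : Ideal S)) =
            ⟨algebraMap R S a, Ideal.mem_map_of_mem _ a.2⟩ +
            ⟨algebraMap R S b, Ideal.mem_map_of_mem _ b.2⟩ := Subtype.ext (by simp)
        rw [this, TensorProduct.add_tmul] }
    (by
      intro r a m
      simp only [AddMonoidHom.coe_mk, ZeroHom.coe_mk, LinearMap.toAddMonoidHom_coe,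
        TensorProduct.mk_apply]
      have : (⟨algebraMap R S (r • a : I), Ideal.mem_map_of_mem _ (r • a : I).2⟩ :
          (I.map (algebraMap R S) : Ideal S)) =
          (algebraMap R S r) • ⟨algebraMap R S a, Ideal.mem_map_of_mem _ a.2⟩ :=
        Subtype.ext (by simp [Algebra.smul_def])
      rw [this, TensorProduct.smul_tmul, algebraMap_smul])

theorem extMap_tmul (I : Ideal R) (a : I) (m : M) :
    extMap (S := S) I (a ⊗ₜ[R] m) =
      (⟨algebraMap R S a, Ideal.mem_map_of_mem _ a.2⟩ : (I.map (algebraMap R S) : Ideal S)) ⊗ₜ[S] m :=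
  rfl

theorem extMap_surjective (I : Ideal R) : Surjective (extMap (S := S) (M := M) I) := by
  intro y
  induction y using TensorProduct.induction_on with
  | zero => exact ⟨0, map_zero _⟩
  | add x y hx hy =>
    obtain ⟨x', rfl⟩ := hx
    obtain ⟨y', rfl⟩ := hy
    exact ⟨x' + y', map_add _ _ _⟩
  | tmul x m =>
    obtain ⟨x, hx⟩ := x
    have key : ∀ (x : S) (hx : x ∈ Ideal.map (algebraMap R S) I) (m : M),
        ∃ z, extMap (S := S) (M := M) I z =
          (⟨x, hx⟩ : (I.map (algebraMap R S) : Ideal S)) ⊗ₜ[S] m := by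
      intro x hx
      refine Submodule.span_induction
        (p := fun x hx => ∀ m : M, ∃ z, extMap (S := S) (M := M) I z =
          (⟨x, hx⟩ : (I.map (algebraMap R S) : Ideal S)) ⊗ₜ[S] m) ?_ ?_ ?_ ?_ hx
      · rintro _ ⟨a, ha, rfl⟩ m
        exact ⟨(⟨a, ha⟩ : I) ⊗ₜ[R] m, rfl⟩
      · intro m
        refine ⟨0, ?_⟩
        rw [map_zero]
        have : (⟨0, Submodule.zero_mem _⟩ : (I.map (algebraMap R S) : Ideal S)) = 0 := rfl
        rw [this, TensorProduct.zero_tmul]
      · intro x y hx hy ihx ihy m
        obtain ⟨z1, h1⟩ := ihx m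
        obtain ⟨z2, h2⟩ := ihy m
        refine ⟨z1 + z2, ?_⟩
        rw [map_add, h1, h2, ← TensorProduct.add_tmul]
        rfl
      · intro s x hx ih m
        obtain ⟨z, hz⟩ := ih (s • m)
        refine ⟨z, ?_⟩
        rw [hz, ← TensorProduct.smul_tmul]
        rfl
    exact key x hx m

/-- **Fibrewise criterion of flatness, nilpotent form** (Stacks 051C): `R → S`, `I ⊆ R`
nilpotent, `M` an `S`-module flat over `R` with `M/IM` flat over `S/IS`. Then `M` is flat
over `S`. -/
theorem flat_of_flat_of_isNilpotent_fibre (I : Ideal R) (hI : IsNilpotent I) [Module.Flat R M]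
    (h : Module.Flat (S ⧸ I.map (algebraMap R S)) ((S ⧸ I.map (algebraMap R S)) ⊗[S] M)) :
    Module.Flat S M := by
  have hnil : IsNilpotent (I.map (algebraMap R S)) := by
    obtain ⟨n, hn⟩ := hI
    refine ⟨n, ?_⟩
    rw [← Ideal.map_pow, hn]
    exact Ideal.map_bot
  refine flat_of_isNilpotent (I.map (algebraMap R S)) hnil ?_ h
  have hR : Injective (LinearMap.rTensor M I.subtype) :=
    Module.Flat.rTensor_preserves_injective_linearMap I.subtype Subtype.val_injective
  have hcomm : ∀ z : I ⊗[R] M,
      TensorProduct.lid S M (LinearMap.rTensor M (I.map (algebraMap R S)).subtype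
        (extMap (S := S) I z)) =
      TensorProduct.lid R M (LinearMap.rTensor M I.subtype z) := by
    intro z
    induction z using TensorProduct.induction_on with
    | zero => simp
    | add x y hx hy => simp only [map_add, hx, hy]
    | tmul a m =>
      rw [extMap_tmul]
      simp only [LinearMap.rTensor_tmul, Submodule.subtype_apply, TensorProduct.lid_tmul,
        algebraMap_smul]
  rw [injective_iff_map_eq_zero]
  intro y hy
  obtain ⟨z, rfl⟩ := extMap_surjective (S := S) (M := M) I y
  have h1 := hcomm z
  rw [hy, map_zero] at h1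
  have h2 : LinearMap.rTensor M I.subtype z = 0 :=
    (TensorProduct.lid R M).injective (by rw [← h1, map_zero])
  have h3 : z = 0 := hR (by rw [h2, map_zero])
  rw [h3, map_zero]

end fibre

end Groth.Agent.Lib.Helper7.NilFlat
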