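import Mathlib
import Groth.Prelude.Def_Pi1
import Groth.Agent.Lib.Helper7.BiratIso

/-!
# Universal property of the normalization of an integral scheme for normal schemes

`NormFactor.existsUnique_lift`: for `X` integral, `γ = X.fromSpecStalk ξ`, every morphism
`g : Z ⟶ X` from a normal scheme `Z` such that every point of `Z` has a generization mapping to
the generic point of `X` factors uniquely through `γ.fromNormalization`.
-/

set_option autoImplicit false
set_option linter.style.haveILetI false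
universe u

open CategoryTheory CategoryTheory.Limits AlgebraicGeometry Polynomial

namespace Groth.Agent.Lib.Helper7.NormFactor

section RingLemma
variable {A B : Type*} {C : Type u} [CommRing A] [CommRing B] [CommRing C] [Algebra A B]
  (φ : A →+* C)

theorem exists_mul_eq_of_integral
    (hinj : Function.Injective (algebraMap A B))
    (hnzd : ∀ s : A, s ≠ 0 → ∀ c : C, φ s * c = 0 → c = 0)
    (hloc : ∀ (m : Ideal C) [m.IsMaximal], ∃ (L : Type u) (_ : CommRing L) (_ : Algebra C L),
      IsLocalization.AtPrime L m ∧ IsDomain L ∧ IsIntegrallyClosed L)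
    (b : B) (hb : IsIntegral A b) (s a : A) (hs : s ≠ 0) (hsb : s • b = algebraMap A B a) :
    ∃ c : C, φ s * c = φ a := by
  obtain ⟨p, hpm, hp⟩ := hb
  have h1 : eval a (scaleRoots p s) = 0 := by
    apply hinj
    rw [map_zero, ← eval₂_at_apply, ← hsb, Algebra.smul_def, scaleRoots_eval₂_mul, hp, mul_zero]
  let I : Ideal C :=
    { carrier := {x | ∃ c, x * φ a = φ s * c}
      zero_mem' := ⟨0, by simp⟩
      add_mem' := by
        rintro x y ⟨c, hc⟩ ⟨c', hc'⟩
        exact ⟨c + c', by rw [add_mul, hc, hc', mul_add]⟩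
      smul_mem' := by
        rintro r x ⟨c, hc⟩
        exact ⟨r * c, by rw [smul_eq_mul, mul_assoc, hc]; ring⟩ }
  have hI : I = ⊤ := by
    by_contra hI
    obtain ⟨m, hm, hIm⟩ := Ideal.exists_le_maximal I hI
    haveI := hm
    obtain ⟨L, _, _, hL, hLd, hLc⟩ := hloc m
    have hσ : algebraMap C L (φ s) ≠ 0 := by
      intro h0
      obtain ⟨t, ht⟩ := (IsLocalization.map_eq_zero_iff m.primeCompl L _).mp h0
      have := hnzd s hs t (by rw [mul_comm]; exact ht)
      exact t.2 (this ▸ m.zero_mem)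
    let F := FractionRing L
    let f' : A →+* F := (algebraMap L F).comp ((algebraMap C L).comp φ)
    have hf's : f' s ≠ 0 := by
      intro h0
      exact hσ ((IsFractionRing.injective L F) (by rw [map_zero]; exact h0))
    let y : F := f' a / f' s
    have hy0 : eval₂ f' y p = 0 := by
      have h2 := scaleRoots_eval₂_mul (p := p) f' y s
      have h3 : f' s * y = f' a := by
        simp only [y]; rw [mul_comm]; exact div_mul_cancel₀ _ hf's
      rw [h3, eval₂_at_apply, h1, map_zero] at h2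
      rcases mul_eq_zero.mp h2.symm with h | h
      · exact absurd (pow_eq_zero_iff (M₀ := F) (by
          intro hn; rw [hn] at h; simp at h) |>.mp h) hf's
      · exact h
    have hy : IsIntegral L y := by
      refine ⟨p.map ((algebraMap C L).comp φ), hpm.map _, ?_⟩
      rw [eval₂_map]
      exact hy0
    obtain ⟨ℓ, hℓ⟩ := IsIntegrallyClosed.algebraMap_eq_of_integral hy
    have hσℓ : algebraMap C L (φ s) * ℓ = algebraMap C L (φ a) := by
      apply IsFractionRing.injective L F
      rw [map_mul, hℓ]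
      show f' s * y = f' a
      simp only [y]; rw [mul_comm]; exact div_mul_cancel₀ _ hf's
    obtain ⟨c₀, t, rfl⟩ := IsLocalization.exists_mk'_eq m.primeCompl ℓ
    have h4 : algebraMap C L (φ s * c₀) = algebraMap C L (φ a * t) := by
      rw [map_mul, map_mul, ← hσℓ, mul_assoc, IsLocalization.mk'_spec]
    obtain ⟨t', ht'⟩ := (IsLocalization.eq_iff_exists m.primeCompl L).mp h4
    have h5 : (t' : C) * t ∈ I := ⟨t' * c₀, by
      have : (t' : C) * (φ s * c₀) = t' * (φ a * t) := ht'
      calc (t' : C) * t * φ a = t' * (φ a * t) := by ring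
        _ = t' * (φ s * c₀) := this.symm
        _ = φ s * (t' * c₀) := by ring⟩
    have h6 : (t' : C) * t ∈ m := hIm h5
    rcases hm.isPrime.mem_or_mem h6 with h | h
    · exact t'.2 h
    · exact t.2 h
  have h1I : (1 : C) ∈ I := hI ▸ Submodule.mem_top
  obtain ⟨c, hc⟩ := h1I
  exact ⟨c, by rw [← hc, one_mul]⟩

theorem existsUnique_ringHom_extension [IsDomain A]
    (hinj : Function.Injective (algebraMap A B))
    (hint : ∀ b : B, IsIntegral A b)
    (hfrac : ∀ b : B, ∃ s a : A, s ≠ 0 ∧ s • b = algebraMap A B a)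
    (hnzd : ∀ s : A, s ≠ 0 → ∀ c : C, φ s * c = 0 → c = 0)
    (hloc : ∀ (m : Ideal C) [m.IsMaximal], ∃ (L : Type u) (_ : CommRing L) (_ : Algebra C L),
      IsLocalization.AtPrime L m ∧ IsDomain L ∧ IsIntegrallyClosed L) :
    ∃! ψ : B →+* C, ψ.comp (algebraMap A B) = φ := by
  let R : B → C → Prop := fun b c => ∃ s a : A, s ≠ 0 ∧ s • b = algebraMap A B a ∧ φ s * c = φ a
  have hR_ex : ∀ b, ∃ c, R b c := by
    intro b
    obtain ⟨s, a, hs, hsb⟩ := hfrac b
    obtain ⟨c, hc⟩ := exists_mul_eq_of_integral φ hinj hnzd hloc b (hint b) s a hs hsb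
    exact ⟨c, s, a, hs, hsb, hc⟩
  have hR_uniq : ∀ b c c', R b c → R b c' → c = c' := by
    rintro b c c' ⟨s, a, hs, hsb, hc⟩ ⟨s', a', hs', hsb', hc'⟩
    have h1 : s * a' = s' * a := by
      apply hinj
      rw [map_mul, map_mul, ← hsb, ← hsb', ← Algebra.smul_def, ← Algebra.smul_def, smul_comm]
    have h2 : φ s * (φ s' * (c' - c)) = 0 := by
      have e1 : φ s * φ a' = φ s' * φ a := by rw [← map_mul, ← map_mul, h1]
      calc φ s * (φ s' * (c' - c)) = φ s * (φ s' * c') - φ s' * (φ s * c) := by ring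
        _ = φ s * φ a' - φ s' * φ a := by rw [hc, hc']
        _ = 0 := by rw [e1, sub_self]
    have h3 := hnzd s' hs' _ (hnzd s hs _ h2)
    exact (sub_eq_zero.mp h3).symm
  choose ψ hψ using hR_ex
  have hR_mul : ∀ b b' c c', R b c → R b' c' → R (b * b') (c * c') := by
    rintro b b' c c' ⟨s, a, hs, hsb, hc⟩ ⟨s', a', hs', hsb', hc'⟩
    refine ⟨s * s', a * a', mul_ne_zero hs hs', ?_, ?_⟩
    · rw [map_mul, ← hsb, ← hsb', smul_mul_smul_comm]
    · rw [map_mul, map_mul, ← hc, ← hc']; ring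
  have hR_add : ∀ b b' c c', R b c → R b' c' → R (b + b') (c + c') := by
    rintro b b' c c' ⟨s, a, hs, hsb, hc⟩ ⟨s', a', hs', hsb', hc'⟩
    refine ⟨s * s', s' * a + s * a', mul_ne_zero hs hs', ?_, ?_⟩
    · rw [map_add, map_mul, map_mul, ← hsb, ← hsb', smul_add, ← Algebra.smul_def,
        ← Algebra.smul_def, mul_smul, mul_smul, smul_comm s s' b]
    · rw [map_mul, map_add, map_mul, map_mul, ← hc, ← hc']; ring
  have hR_alg : ∀ a₀ : A, R (algebraMap A B a₀) (φ a₀) := fun a₀ =>
    ⟨1, a₀, one_ne_zero, one_smul _ _, by rw [map_one, one_mul]⟩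
  let Ψ : B →+* C :=
    { toFun := ψ
      map_one' := hR_uniq _ _ _ (hψ 1) (by simpa using hR_alg 1)
      map_mul' := fun b b' => hR_uniq _ _ _ (hψ _) (hR_mul _ _ _ _ (hψ b) (hψ b'))
      map_zero' := hR_uniq _ _ _ (hψ 0) (by simpa using hR_alg 0)
      map_add' := fun b b' => hR_uniq _ _ _ (hψ _) (hR_add _ _ _ _ (hψ b) (hψ b')) }
  refine ⟨Ψ, ?_, ?_⟩
  · ext a₀
    exact hR_uniq _ _ _ (hψ _) (hR_alg a₀)
  · intro ψ' hψ'
    ext b
    refine hR_uniq _ _ _ ?_ (hψ b)
    obtain ⟨s, a, hs, hsb⟩ := hfrac b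
    refine ⟨s, a, hs, hsb, ?_⟩
    have e1 : ∀ x, ψ' (algebraMap A B x) = φ x := fun x => congr($hψ' x)
    rw [← e1 s, ← e1 a, ← map_mul, ← hsb, Algebra.smul_def]

end RingLemma

/-- Working hypothesis: every point of `Z` has a generization mapping to the generic point. -/
def Dom {Z X : Scheme.{u}} [IrreducibleSpace X] (g : Z ⟶ X) : Prop :=
  ∀ z : Z, ∃ z' : Z, z' ⤳ z ∧ g z' = genericPoint X

theorem dom_of_irreducibleComponents {Z X : Scheme.{u}} [IrreducibleSpace X] (g : Z ⟶ X)
    (hdom : ∀ z : Z, closure {z} ∈ irreducibleComponents ↥Z → g z = genericPoint ↥X) :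
    Dom g := by
  intro z
  obtain ⟨η, hη⟩ := QuasiSober.sober (isIrreducible_irreducibleComponent (x := z))
    isClosed_irreducibleComponent
  refine ⟨η, ?_, hdom η ?_⟩
  · rw [specializes_iff_mem_closure, hη.def]
    exact mem_irreducibleComponent
  · rw [hη.def]
    exact irreducibleComponent_mem_irreducibleComponents z

theorem Dom.comp_openImmersion {Z' Z X : Scheme.{u}} [IrreducibleSpace X] {g : Z ⟶ X}
    (hg : Dom g) (j : Z' ⟶ Z) [IsOpenImmersion j] : Dom (j ≫ g) := by
  intro z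
  obtain ⟨z'', hsp, hz''⟩ := hg (j z)
  have hmem : z'' ∈ Set.range j := hsp.mem_open j.isOpenEmbedding.isOpen_range ⟨z, rfl⟩
  obtain ⟨z', rfl⟩ := hmem
  refine ⟨z', j.isOpenEmbedding.isInducing.specializes_iff.mp hsp, ?_⟩
  rw [Scheme.Hom.comp_apply]
  exact hz''

/-- (H3): nonzero functions on `X` pull back to nonzerodivisors. -/
theorem nzd_of_dom {Z X : Scheme.{u}} [IsIntegral X] [IsReduced Z] (g : Z ⟶ X) (hg : Dom g)
    (U : X.Opens) (W : Z.Opens) (hWU : W ≤ g ⁻¹ᵁ U)
    (s : Γ(X, U)) (hs : s ≠ 0) (c : Γ(Z, W)) (hc : (g.appLE U W hWU).hom s * c = 0) : c = 0 := by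
  by_contra hc0
  have hne : Z.basicOpen c ≠ ⊥ := fun h => hc0 ((basicOpen_eq_bot_iff c).mp h)
  obtain ⟨z, hz⟩ : ∃ z, z ∈ Z.basicOpen c := by
    by_contra hcon
    push_neg at hcon
    exact hne (by ext x; simpa using hcon x)
  obtain ⟨z', hsp, hz'⟩ := hg z
  have hz'c : z' ∈ Z.basicOpen c := hsp.mem_open (Z.basicOpen c).isOpen hz
  have hz'W : z' ∈ W := Z.basicOpen_le c hz'c
  have hgz'U : g z' ∈ U := hWU hz'W
  have hunit_c : IsUnit (Z.presheaf.germ W z' hz'W c) := (Z.mem_basicOpen c z' hz'W).mp hz'c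
  have hfield : IsField (X.presheaf.stalk (g z')) := BiratIso.isField_stalk_of_eq_genericPoint' _ hz'
  have hgerm_s : X.presheaf.germ U (g z') hgz'U s ≠ 0 := by
    intro h0
    exact hs (germ_injective_of_isIntegral X (g z') hgz'U (by rw [h0, map_zero]))
  have hunit_s : IsUnit (X.presheaf.germ U (g z') hgz'U s) := by
    letI := hfield.toField
    exact IsUnit.mk0 _ hgerm_s
  have hcomm : Z.presheaf.germ W z' hz'W ((g.appLE U W hWU).hom s) =
      (g.stalkMap z').hom (X.presheaf.germ U (g z') hgz'U s) := by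
    have h1 := Scheme.Hom.germ_stalkMap_apply g U z' hgz'U s
    rw [h1, Scheme.Hom.appLE]
    simp only [CommRingCat.hom_comp, RingHom.coe_comp, Function.comp_apply]
    exact (Z.presheaf.germ_res_apply (homOfLE hWU) z' hz'W _)
  have hunit_prod : IsUnit (Z.presheaf.germ W z' hz'W ((g.appLE U W hWU).hom s * c)) := by
    rw [map_mul, hcomm]
    exact (hunit_s.map _).mul hunit_c
  rw [hc, map_zero] at hunit_prod
  exact not_isUnit_zero hunit_prod

/-- (H4): local rings of a normal scheme at maximal ideals of an affine open. -/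
theorem hloc_of_isNormalScheme {Z : Scheme.{u}} (hZ : Pi1.IsNormalScheme Z)
    (W : Z.Opens) (hW : IsAffineOpen W) (m : Ideal Γ(Z, W)) [m.IsMaximal] :
    ∃ (L : Type u) (_ : CommRing L) (_ : Algebra Γ(Z, W) L),
      IsLocalization.AtPrime L m ∧ IsDomain L ∧ IsIntegrallyClosed L := by
  let y : PrimeSpectrum Γ(Z, W) := ⟨m, inferInstance⟩
  have hy : hW.fromSpec y ∈ W := by
    have : hW.fromSpec y ∈ Set.range hW.fromSpec := ⟨y, rfl⟩
    rwa [hW.range_fromSpec] at this
  letI : Algebra Γ(Z, W) (Z.presheaf.stalk (hW.fromSpec y)) :=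
    TopCat.Presheaf.algebra_section_stalk Z.presheaf ⟨hW.fromSpec y, hy⟩
  have hloc : IsLocalization.AtPrime (Z.presheaf.stalk (hW.fromSpec y)) m :=
    hW.isLocalization_stalk' y hy
  exact ⟨Z.presheaf.stalk (hW.fromSpec y), inferInstance, inferInstance, hloc,
    (hZ _).1, (hZ _).2⟩


section Normalization

variable (X : Scheme.{u}) [IsIntegral X]
  [QuasiCompact (X.fromSpecStalk (genericPoint X))]
  [QuasiSeparated (X.fromSpecStalk (genericPoint X))]

/-- The canonical morphism from the generic point is dominant. -/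
theorem isDominant_fromSpecStalk_genericPoint :
    IsDominant (X.fromSpecStalk (genericPoint X)) := by
  refine ⟨?_⟩
  have h : Dense ({genericPoint X} : Set X) := by
    rw [dense_iff_closure_eq]
    exact (genericPoint_spec X)
  refine h.mono ?_
  rintro _ rfl
  exact ⟨_, Scheme.fromSpecStalk_closedPoint⟩

/-- The stalk map of the normalization morphism at the generic point is bijective. -/
theorem bijective_stalkMap_fromNormalization
    (z : (X.fromSpecStalk (genericPoint X)).normalization)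
    (hz : z = genericPoint (X.fromSpecStalk (genericPoint X)).normalization) :
    Function.Bijective ((X.fromSpecStalk (genericPoint X)).fromNormalization.stalkMap z).hom := by
  set g := X.fromSpecStalk (genericPoint X) with hg
  have hW : IsField (X.presheaf.stalk (genericPoint X)) := Field.toIsField X.functionField
  haveI : IsDomain (X.presheaf.stalk (genericPoint X)) :=
    inferInstanceAs (IsDomain X.functionField)
  let p : Spec (X.presheaf.stalk (genericPoint X)) := IsLocalRing.closedPoint _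
  have hp : g.toNormalization p = genericPoint g.normalization :=
    NormField.toNormalization_eq_genericPoint g hW p
  have h1 : Function.Bijective (g.fromNormalization.stalkMap (g.toNormalization p)).hom := by
    refine BiratIso.bijective_stalkMap_of_comp g.toNormalization g.fromNormalization p hp ?_
    have h3 : Function.Bijective (g.stalkMap p).hom :=
      BiratIso.bijective_stalkMap_fromSpecStalk_closedPoint X (genericPoint X)
    have h4 : IsIso ((g.toNormalization ≫ g.fromNormalization).stalkMap p) := by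
      rw [g.toNormalization_fromNormalization]
      exact (ConcreteCategory.isIso_iff_bijective _).mpr h3
    exact (ConcreteCategory.isIso_iff_bijective _).mp h4
  rw [hz, ← hp]
  exact h1

theorem fromNormalization_genericPoint' :
    (X.fromSpecStalk (genericPoint X)).fromNormalization
      (genericPoint (X.fromSpecStalk (genericPoint X)).normalization) = genericPoint X := by
  haveI : IsDomain (X.presheaf.stalk (genericPoint X)) :=
    inferInstanceAs (IsDomain X.functionField)
  haveI := isDominant_fromSpecStalk_genericPoint X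
  exact NormField.fromNormalization_genericPoint _

/-- The normalization of `X` in its function field. -/
noncomputable abbrev NN : Scheme.{u} := (X.fromSpecStalk (genericPoint X)).normalization
/-- The normalization morphism. -/
noncomputable abbrev nu : NN X ⟶ X := (X.fromSpecStalk (genericPoint X)).fromNormalization

theorem genericPoint_mem_preimage (U : X.Opens) [Nonempty U] :
    (nu X) (genericPoint (NN X)) ∈ U := by
  rw [fromNormalization_genericPoint' X]
  exact ((genericPoint_spec X).mem_open_set_iff U.isOpen).mpr (by simpa using ‹Nonempty U›)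

theorem germ_app_eq (U : X.Opens) [Nonempty U] (t : Γ(X, U)) :
    (NN X).presheaf.germ ((nu X) ⁻¹ᵁ U) (genericPoint (NN X)) (genericPoint_mem_preimage X U)
      (((nu X).app U).hom t) =
    ((nu X).stalkMap (genericPoint (NN X))).hom
      (X.presheaf.germ U ((nu X) (genericPoint (NN X))) (genericPoint_mem_preimage X U) t) :=
  (Scheme.Hom.germ_stalkMap_apply (nu X) U (genericPoint (NN X)) (genericPoint_mem_preimage X U) t).symm

/-- (H1) for the normalization: sections over `(nu X)⁻¹U` are fractions of sections over `U`. -/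
theorem hfrac_normalization (U : X.Opens) (hU : IsAffineOpen U) [Nonempty U]
    (b : Γ((NN X), (nu X) ⁻¹ᵁ U)) :
    ∃ s a : Γ(X, U), s ≠ 0 ∧ ((nu X).app U).hom s * b = ((nu X).app U).hom a := by
  have hnuξ : (nu X) (genericPoint (NN X)) = genericPoint X := fromNormalization_genericPoint' X
  have hξU' := genericPoint_mem_preimage X U
  have hbij := bijective_stalkMap_fromNormalization X (genericPoint (NN X)) rfl
  obtain ⟨y, hy⟩ := hbij.2 ((NN X).presheaf.germ ((nu X) ⁻¹ᵁ U) (genericPoint (NN X)) hξU' b)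
  obtain ⟨a, d, hd, hyd⟩ := NormField.exists_germ_fraction U hU _ hnuξ hξU' y
  refine ⟨d, a, fun h0 => hd (by rw [h0, map_zero]), ?_⟩
  apply germ_injective_of_isIntegral (NN X) (genericPoint (NN X)) hξU'
  rw [map_mul, germ_app_eq, germ_app_eq, ← hy, ← map_mul, mul_comm, hyd]

/-- (H5) for the normalization. -/
theorem hinj_normalization (U : X.Opens) [Nonempty U] :
    Function.Injective ((nu X).app U).hom := by
  have hξU' := genericPoint_mem_preimage X U
  have hbij := bijective_stalkMap_fromNormalization X (genericPoint (NN X)) rfl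
  intro t t' htt'
  apply germ_injective_of_isIntegral X _ hξU'
  apply hbij.1
  rw [← germ_app_eq, ← germ_app_eq, htt']

/-- Affine-local form of the universal property. -/
theorem local_existsUnique {Z : Scheme.{u}} (g : Z ⟶ X) (hZ : Pi1.IsNormalScheme Z) (hdom : Dom g)
    (U : X.Opens) (hU : IsAffineOpen U) [Nonempty U] (W : Z.Opens) (hW : IsAffineOpen W)
    (hWU : W ≤ g ⁻¹ᵁ U) :
    ∃! ψ : Γ((NN X), (nu X) ⁻¹ᵁ U) →+* Γ(Z, W),
      ψ.comp ((nu X).app U).hom = (g.appLE U W hWU).hom := by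
  letI : Algebra Γ(X, U) Γ((NN X), (nu X) ⁻¹ᵁ U) := ((nu X).app U).hom.toAlgebra
  haveI : IsReduced Z := by
    haveI : ∀ z : Z, _root_.IsReduced (Z.presheaf.stalk z) := fun z => by
      haveI := (hZ z).1
      infer_instance
    exact isReduced_of_isReduced_stalk Z
  refine existsUnique_ringHom_extension (A := Γ(X, U))
    (B := Γ((NN X), (nu X) ⁻¹ᵁ U)) (g.appLE U W hWU).hom
    (hinj_normalization X U) ?_ ?_ ?_ ?_
  · intro b
    exact IsIntegralHom.isIntegral_app (nu X) U hU b
  · intro b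
    obtain ⟨s, a, hs, h⟩ := hfrac_normalization X U hU b
    exact ⟨s, a, hs, by rw [Algebra.smul_def]; exact h⟩
  · intro s hs c hc
    exact nzd_of_dom g hdom U W hWU s hs c hc
  · intro m _
    exact hloc_of_isNormalScheme hZ W hW m

theorem app_comp_appLE {Z : Scheme.{u}} (g : Z ⟶ X) (h : Z ⟶ NN X) (e : h ≫ nu X = g)
    (U : X.Opens) (W : Z.Opens) (hWU : W ≤ g ⁻¹ᵁ U) :
    ∃ hle : W ≤ h ⁻¹ᵁ ((nu X) ⁻¹ᵁ U),
      (nu X).app U ≫ h.appLE ((nu X) ⁻¹ᵁ U) W hle = g.appLE U W hWU := by
  subst e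
  exact ⟨hWU, (Scheme.Hom.comp_appLE h (nu X) U W hWU).symm⟩

theorem restrict_eq {Z N : Scheme.{u}} (h : Z ⟶ N) (V : N.Opens) (hV : IsAffineOpen V)
    (W : Z.Opens) (hW : IsAffineOpen W) (hle : W ≤ h ⁻¹ᵁ V) :
    W.ι ≫ h = W.toSpecΓ ≫ Spec.map (h.appLE V W hle) ≫ hV.fromSpec := by
  rw [IsAffineOpen.SpecMap_appLE_fromSpec h hV hW hle, ← Category.assoc, hW.toSpecΓ_fromSpec]

theorem exists_affine_nhds {Z : Scheme.{u}} (g : Z ⟶ X) (z : Z) :
    ∃ (U : X.Opens) (W : Z.Opens), IsAffineOpen U ∧ IsAffineOpen W ∧ z ∈ W ∧ g z ∈ U ∧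
      W ≤ g ⁻¹ᵁ U := by
  obtain ⟨_, ⟨U, hU, rfl⟩, hgzU, -⟩ := X.isBasis_affineOpens.exists_subset_of_mem_open
    (Set.mem_univ (g z)) isOpen_univ
  obtain ⟨_, ⟨W, hW, rfl⟩, hzW, hWU⟩ := Z.isBasis_affineOpens.exists_subset_of_mem_open
    (show z ∈ g ⁻¹ᵁ U from hgzU) (g ⁻¹ᵁ U).2
  exact ⟨U, W, hU, hW, hzW, hgzU, hWU⟩

/-- Uniqueness of lifts to the normalization. -/
theorem lift_unique {Z : Scheme.{u}} (g : Z ⟶ X) (hZ : Pi1.IsNormalScheme Z) (hdom : Dom g)
    (h₁ h₂ : Z ⟶ NN X) (e₁ : h₁ ≫ nu X = g) (e₂ : h₂ ≫ nu X = g) : h₁ = h₂ := by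
  choose U W hU hW hzW hgzU hWU using exists_affine_nhds X g
  have hcov : TopologicalSpace.IsOpenCover W :=
    top_le_iff.mp fun z _ => TopologicalSpace.Opens.mem_iSup.mpr ⟨z, hzW z⟩
  let 𝒰 := Z.openCoverOfIsOpenCover W hcov
  refine 𝒰.hom_ext _ _ fun z => ?_
  show (W z).ι ≫ h₁ = (W z).ι ≫ h₂
  haveI : Nonempty (U z) := ⟨⟨g z, hgzU z⟩⟩
  obtain ⟨hle₁, hc₁⟩ := app_comp_appLE X g h₁ e₁ (U z) (W z) (hWU z)
  obtain ⟨hle₂, hc₂⟩ := app_comp_appLE X g h₂ e₂ (U z) (W z) (hWU z)
  have hV := (hU z).preimage (nu X)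
  rw [restrict_eq h₁ _ hV _ (hW z) hle₁, restrict_eq h₂ _ hV _ (hW z) hle₂]
  congr 1
  congr 1
  have := (local_existsUnique X g hZ hdom (U z) (hU z) (W z) (hW z) (hWU z)).unique
    (y₁ := (h₁.appLE _ (W z) hle₁).hom) (y₂ := (h₂.appLE _ (W z) hle₂).hom)
    (congr(($hc₁).hom)) (congr(($hc₂).hom))
  exact congrArg Spec.map (CommRingCat.hom_ext this)

/-- Existence of lifts to the normalization. -/
theorem lift_exists {Z : Scheme.{u}} (g : Z ⟶ X) (hZ : Pi1.IsNormalScheme Z) (hdom : Dom g) :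
    ∃ h : Z ⟶ NN X, h ≫ nu X = g := by
  choose U W hU hW hzW hgzU hWU using exists_affine_nhds X g
  have hcov : TopologicalSpace.IsOpenCover W :=
    top_le_iff.mp fun z _ => TopologicalSpace.Opens.mem_iSup.mpr ⟨z, hzW z⟩
  let 𝒰 := Z.openCoverOfIsOpenCover W hcov
  have hne : ∀ z, Nonempty (U z) := fun z => ⟨⟨g z, hgzU z⟩⟩
  have hex : ∀ z, ∃ ψ : Γ(NN X, (nu X) ⁻¹ᵁ (U z)) →+* Γ(Z, W z),
      ψ.comp ((nu X).app (U z)).hom = (g.appLE (U z) (W z) (hWU z)).hom := fun z => by
    haveI := hne z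
    exact (local_existsUnique X g hZ hdom (U z) (hU z) (W z) (hW z) (hWU z)).exists
  choose ψ hψ using hex
  let h : ∀ z : Z, (W z : Scheme.{u}) ⟶ NN X := fun z =>
    (W z).toSpecΓ ≫ Spec.map (CommRingCat.ofHom (ψ z)) ≫ ((hU z).preimage (nu X)).fromSpec
  have hh : ∀ z : Z, h z ≫ nu X = (W z).ι ≫ g := by
    intro z
    have h1 : ((hU z).preimage (nu X)).fromSpec ≫ nu X =
        Spec.map ((nu X).app (U z)) ≫ (hU z).fromSpec := by
      rw [Scheme.Hom.app_eq_appLE]
      exact (IsAffineOpen.SpecMap_appLE_fromSpec (nu X) (hU z) ((hU z).preimage (nu X))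
        le_rfl).symm
    have h2 : (nu X).app (U z) ≫ CommRingCat.ofHom (ψ z) = g.appLE (U z) (W z) (hWU z) :=
      CommRingCat.hom_ext (hψ z)
    simp only [h, Category.assoc]
    rw [h1, ← Spec.map_comp_assoc, h2,
      IsAffineOpen.SpecMap_appLE_fromSpec g (hU z) (hW z) (hWU z),
      (hW z).toSpecΓ_fromSpec_assoc]
  have compat : ∀ z z' : Z, pullback.fst (𝒰.f z) (𝒰.f z') ≫ h z = pullback.snd _ _ ≫ h z' := by
    intro z z'
    have hZ' : Pi1.IsNormalScheme (pullback (𝒰.f z) (𝒰.f z')) :=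
      NormField.isNormalScheme_of_isOpenImmersion (pullback.fst (𝒰.f z) (𝒰.f z') ≫ 𝒰.f z) hZ
    have hdom' : Dom ((pullback.fst (𝒰.f z) (𝒰.f z') ≫ 𝒰.f z) ≫ g) :=
      hdom.comp_openImmersion _
    refine lift_unique X ((pullback.fst (𝒰.f z) (𝒰.f z') ≫ 𝒰.f z) ≫ g) hZ' hdom' _ _ ?_ ?_
    · exact (Category.assoc _ _ _).trans
        ((congrArg (pullback.fst (𝒰.f z) (𝒰.f z') ≫ ·) (hh z)).trans (Category.assoc _ _ _).symm)
    · refine (Category.assoc _ _ _).trans
        ((congrArg (pullback.snd (𝒰.f z) (𝒰.f z') ≫ ·) (hh z')).trans ?_)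
      refine (Category.assoc _ _ _).symm.trans ?_
      exact congrArg (· ≫ g) (pullback.condition (f := 𝒰.f z) (g := 𝒰.f z')).symm
  refine ⟨𝒰.glueMorphisms h compat, 𝒰.hom_ext _ _ fun z => ?_⟩
  rw [← Category.assoc, 𝒰.ι_glueMorphisms]
  exact hh z

/-- **Universal property of the normalization for normal schemes.** -/
theorem existsUnique_lift {Z : Scheme.{u}} (g : Z ⟶ X) (hZ : Pi1.IsNormalScheme Z)
    (hdom : Dom g) : ∃! h : Z ⟶ NN X, h ≫ nu X = g := by
  obtain ⟨h, hh⟩ := lift_exists X g hZ hdom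
  exact ⟨h, hh, fun h' hh' => lift_unique X g hZ hdom h' h hh' hh⟩

end Normalization

end Groth.Agent.Lib.Helper7.NormFactor
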