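import Groth.Agent.Lib.Helper7.NormRedRes
import Groth.Agent.Lib.Helper7.NormFactor
import Groth.Agent.Lib.Helper7.BiratIso
import Groth.Agent.Lib.Helper7.ENatCard

/-!
# Fibres of the normalization (helper7)

For an integral scheme `X` with normalization `nu X : NN X ⟶ X` (notation of `NormFactor`) and a
point `x`, `exists_fibre_equiv` gives a bijection between the fibre `ν⁻¹(x)` and the maximal
spectrum of `CAlg2.normRed (O_{X,x})`, together with compatible isomorphisms of residue fields.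
`fibreEquivPrimes`: the fibre of an affine morphism over a point of an affine open, as primes.
-/

set_option autoImplicit false
universe u
open CategoryTheory CategoryTheory.Limits AlgebraicGeometry

namespace Groth.Agent.Lib.Helper7.NormFibre

section Fibre

variable {Y X : Scheme.{u}} (f : Y ⟶ X) {U : X.Opens} (hU : IsAffineOpen U)
  (hV : IsAffineOpen (f ⁻¹ᵁ U)) {x : X} (hx : x ∈ U)

theorem primeIdealOf_fromSpec' {Z : Scheme.{u}} {W : Z.Opens} (hW : IsAffineOpen W)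
    (q : PrimeSpectrum Γ(Z, W)) (h : hW.fromSpec q ∈ W) :
    hW.primeIdealOf ⟨hW.fromSpec q, h⟩ = q := by
  have hinj : Function.Injective hW.fromSpec := hW.fromSpec.isOpenEmbedding.injective
  apply hinj
  exact hW.fromSpec_primeIdealOf ⟨hW.fromSpec q, h⟩

theorem fromSpec_mem {Z : Scheme.{u}} {W : Z.Opens} (hW : IsAffineOpen W)
    (q : PrimeSpectrum Γ(Z, W)) : hW.fromSpec q ∈ W := by
  have : hW.fromSpec q ∈ Set.range hW.fromSpec := ⟨q, rfl⟩
  rwa [hW.range_fromSpec] at this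

theorem comap_primeIdealOf_app (y : Y) (hy : y ∈ f ⁻¹ᵁ U) :
    (hV.primeIdealOf ⟨y, hy⟩).asIdeal.comap (f.app U).hom =
      (hU.primeIdealOf ⟨f y, hy⟩).asIdeal := by
  have h := IsAffineOpen.comap_primeIdealOf_appLE (f := f) U hU (f ⁻¹ᵁ U) hV le_rfl hy
  rw [← Scheme.Hom.app_eq_appLE] at h
  exact congrArg PrimeSpectrum.asIdeal h

theorem map_fromSpec (q : PrimeSpectrum Γ(Y, f ⁻¹ᵁ U)) :
    f (hV.fromSpec q) = hU.fromSpec (PrimeSpectrum.comap (f.app U).hom q) := by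
  have h := IsAffineOpen.SpecMap_appLE_fromSpec f hU hV le_rfl
  rw [← Scheme.Hom.app_eq_appLE] at h
  have := congr($(h) q)
  exact this.symm

include hx in
theorem mem_preimage_of_eq (y : {y : Y // f y = x}) : y.1 ∈ f ⁻¹ᵁ U := by
  change f y.1 ∈ U
  rw [y.2]; exact hx

/-- Points of the fibre of an affine morphism over `x ∈ U` (`U` affine) are the primes of
`Γ(Y, f⁻¹U)` lying over the prime of `x`. -/
noncomputable def fibreEquivPrimes :
    {y : Y // f y = x} ≃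
      {q : PrimeSpectrum Γ(Y, f ⁻¹ᵁ U) //
        q.asIdeal.comap (f.app U).hom = (hU.primeIdealOf ⟨x, hx⟩).asIdeal} where
  toFun y := ⟨hV.primeIdealOf ⟨y.1, mem_preimage_of_eq f hx y⟩, by
    rw [comap_primeIdealOf_app f hU hV]
    congr 2
    exact Subtype.ext y.2⟩
  invFun q := ⟨hV.fromSpec q.1, by
    rw [map_fromSpec f hU hV]
    have : PrimeSpectrum.comap (f.app U).hom q.1 = hU.primeIdealOf ⟨x, hx⟩ :=
      PrimeSpectrum.ext q.2
    rw [this, hU.fromSpec_primeIdealOf]⟩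
  left_inv y := Subtype.ext (hV.fromSpec_primeIdealOf ⟨y.1, _⟩)
  right_inv q := Subtype.ext (primeIdealOf_fromSpec' hV q.1 _)

theorem fibreEquivPrimes_apply (y : {y : Y // f y = x}) :
    (fibreEquivPrimes f hU hV hx y).1 = hV.primeIdealOf ⟨y.1, mem_preimage_of_eq f hx y⟩ := rfl

end Fibre

open NormFactor NormRed

section Norm

variable (X : Scheme.{u}) [IsIntegral X] [QuasiCompact (X.fromSpecStalk (genericPoint X))]
  [QuasiSeparated (X.fromSpecStalk (genericPoint X))]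

theorem isNormalScheme_NN : Pi1.IsNormalScheme (NN X) :=
  NormField.isNormalScheme_normalization (Field.toIsField X.functionField)
    (X.fromSpecStalk (genericPoint X))

instance isIntegral_NN : IsIntegral (NN X) := by
  haveI : IsDomain (X.presheaf.stalk (genericPoint X)) :=
    inferInstanceAs (IsDomain X.functionField)
  infer_instance

/-- Ring-level data attached to an affine open `U ∋ x` for the normalization. -/
theorem exists_beta {U : X.Opens} (hU : IsAffineOpen U) {x : X} (hx : x ∈ U) :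
    letI : Algebra Γ(X, U) Γ(NN X, (nu X) ⁻¹ᵁ U) := ((nu X).app U).hom.toAlgebra
    ∃ β : Γ(NN X, (nu X) ⁻¹ᵁ U) →+* CAlg2.normRed (X.presheaf.stalk x),
      (∀ r : Γ(X, U), β (((nu X).app U).hom r) =
        toNormRed (X.presheaf.stalk x) ((X.presheaf.germ U x hx).hom r)) ∧
      (letI := β.toAlgebra
       IsLocalization (Algebra.algebraMapSubmonoid Γ(NN X, (nu X) ⁻¹ᵁ U)
          (hU.primeIdealOf ⟨x, hx⟩).asIdeal.primeCompl)
         (CAlg2.normRed (X.presheaf.stalk x))) := by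
  letI : Algebra Γ(X, U) Γ(NN X, (nu X) ⁻¹ᵁ U) := ((nu X).app U).hom.toAlgebra
  haveI : Nonempty U := ⟨⟨x, hx⟩⟩
  haveI : Nonempty ((nu X) ⁻¹ᵁ U : (NN X).Opens) := ⟨⟨_, genericPoint_mem_preimage X U⟩⟩
  have hV : IsAffineOpen ((nu X) ⁻¹ᵁ U) := hU.preimage (nu X)
  haveI : IsIntegrallyClosed Γ(NN X, (nu X) ⁻¹ᵁ U) :=
    BiratIso.isIntegrallyClosed_sections_of_isNormalScheme (isNormalScheme_NN X) _ hV
  haveI : Algebra.IsIntegral Γ(X, U) Γ(NN X, (nu X) ⁻¹ᵁ U) :=
    ⟨IsIntegralHom.isIntegral_app (nu X) U hU⟩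
  have hinj : Function.Injective (algebraMap Γ(X, U) Γ(NN X, (nu X) ⁻¹ᵁ U)) :=
    hinj_normalization X U
  have hfrac : ∀ s : Γ(NN X, (nu X) ⁻¹ᵁ U), ∃ a b : Γ(X, U), b ≠ 0 ∧
      algebraMap Γ(X, U) Γ(NN X, (nu X) ⁻¹ᵁ U) b * s =
        algebraMap Γ(X, U) Γ(NN X, (nu X) ⁻¹ᵁ U) a := by
    intro s
    obtain ⟨b, a, hb, h⟩ := hfrac_normalization X U hU s
    exact ⟨a, b, hb, h⟩
  letI : Algebra Γ(X, U) (X.presheaf.stalk x) := X.presheaf.algebra_section_stalk ⟨x, hx⟩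
  haveI : IsLocalization.AtPrime (X.presheaf.stalk x) (hU.primeIdealOf ⟨x, hx⟩).asIdeal :=
    hU.isLocalization_stalk ⟨x, hx⟩
  exact exists_toNormRed_localization hinj hfrac (hU.primeIdealOf ⟨x, hx⟩).asIdeal
    (X.presheaf.stalk x)


theorem ker_residue_germ {Z : Scheme.{u}} {W : Z.Opens} (hW : IsAffineOpen W) (z : Z) (hz : z ∈ W) :
    RingHom.ker ((Z.residue z).hom.comp (Z.presheaf.germ W z hz).hom) =
      (hW.primeIdealOf ⟨z, hz⟩).asIdeal := by
  ext s
  rw [RingHom.mem_ker, RingHom.comp_apply, hW.primeIdealOf_eq_map_closedPoint ⟨z, hz⟩]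
  change _ ↔ (Z.presheaf.germ W z hz).hom s ∈ IsLocalRing.maximalIdeal _
  rw [← IsLocalRing.residue_eq_zero_iff]
  rfl

theorem fractions_residue_germ {Z : Scheme.{u}} {W : Z.Opens} (hW : IsAffineOpen W) (z : Z)
    (hz : z ∈ W) (t : Z.residueField z) :
    ∃ a b : Γ(Z, W), (Z.residue z).hom ((Z.presheaf.germ W z hz).hom b) ≠ 0 ∧
      t * (Z.residue z).hom ((Z.presheaf.germ W z hz).hom b) =
        (Z.residue z).hom ((Z.presheaf.germ W z hz).hom a) := by
  letI : Algebra Γ(Z, W) (Z.presheaf.stalk z) := Z.presheaf.algebra_section_stalk ⟨z, hz⟩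
  haveI : IsLocalization.AtPrime (Z.presheaf.stalk z) (hW.primeIdealOf ⟨z, hz⟩).asIdeal :=
    hW.isLocalization_stalk ⟨z, hz⟩
  obtain ⟨w, rfl⟩ := Z.residue_surjective z t
  obtain ⟨a, b, rfl⟩ := IsLocalization.exists_mk'_eq
    (hW.primeIdealOf ⟨z, hz⟩).asIdeal.primeCompl w
  refine ⟨a, b, ?_, ?_⟩
  · intro h0
    have : (b : Γ(Z, W)) ∈ RingHom.ker ((Z.residue z).hom.comp (Z.presheaf.germ W z hz).hom) := h0
    rw [ker_residue_germ hW z hz] at this
    exact b.2 this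
  · rw [← map_mul]
    congr 1
    exact IsLocalization.mk'_spec _ a b

theorem exists_fibre_equiv {U : X.Opens} (hU : IsAffineOpen U) {x : X} (hx : x ∈ U) :
    ∃ e : {x' : NN X // (nu X) x' = x} ≃ MaximalSpectrum (CAlg2.normRed (X.presheaf.stalk x)),
      ∀ x' : {x' : NN X // (nu X) x' = x},
        ∃ θ : (CAlg2.normRed (X.presheaf.stalk x) ⧸ (e x').asIdeal) ≃+* (NN X).residueField x'.1,
          ∀ r : Γ(X, U),
            θ (Brnch.toResidue (X.presheaf.stalk x) (e x') ((X.presheaf.germ U x hx).hom r)) =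
              ((NN X).residue x'.1).hom (((NN X).presheaf.germ ((nu X) ⁻¹ᵁ U) x'.1
                (mem_preimage_of_eq (nu X) hx x')).hom (((nu X).app U).hom r)) := by
  letI : Algebra Γ(X, U) Γ(NN X, (nu X) ⁻¹ᵁ U) := ((nu X).app U).hom.toAlgebra
  obtain ⟨β, hβ, hloc⟩ := exists_beta X hU hx
  letI : Algebra Γ(NN X, (nu X) ⁻¹ᵁ U) (CAlg2.normRed (X.presheaf.stalk x)) := β.toAlgebra
  haveI := hloc
  have hV : IsAffineOpen ((nu X) ⁻¹ᵁ U) := hU.preimage (nu X)
  haveI : Algebra.IsIntegral Γ(X, U) Γ(NN X, (nu X) ⁻¹ᵁ U) :=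
    ⟨IsIntegralHom.isIntegral_app (nu X) U hU⟩
  set p := (hU.primeIdealOf ⟨x, hx⟩).asIdeal with hp
  let e₁ := fibreEquivPrimes (nu X) hU hV hx
  let e₂ := primesOverEquiv (R := Γ(X, U)) (S := Γ(NN X, (nu X) ⁻¹ᵁ U)) p
    (CAlg2.normRed (X.presheaf.stalk x))
  refine ⟨e₁.trans e₂, fun x' => ?_⟩
  set q := (hV.primeIdealOf ⟨x'.1, mem_preimage_of_eq (nu X) hx x'⟩) with hq
  have hqp : q.asIdeal.comap (algebraMap Γ(X, U) Γ(NN X, (nu X) ⁻¹ᵁ U)) = p := (e₁ x').2
  have hdis := disjoint_of_comap_eq p q.asIdeal hqp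
  haveI : q.asIdeal.IsPrime := q.isPrime
  set m' := (e₁.trans e₂) x' with hm'
  haveI : m'.asIdeal.IsMaximal := m'.isMaximal
  have hm'q : m'.asIdeal = q.asIdeal.map (algebraMap _ _) := rfl
  letI : Field (CAlg2.normRed (X.presheaf.stalk x) ⧸ m'.asIdeal) := Ideal.Quotient.field _
  obtain ⟨hker₁, hfr₁⟩ := fractions_of_isLocalization
    (Algebra.algebraMapSubmonoid Γ(NN X, (nu X) ⁻¹ᵁ U) p.primeCompl) q.asIdeal hdis m'.asIdeal hm'q
  have hker₂ := ker_residue_germ hV x'.1 (mem_preimage_of_eq (nu X) hx x')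
  obtain ⟨θ, hθ⟩ := exists_ringEquiv_of_fractions
    ((Ideal.Quotient.mk m'.asIdeal).comp (algebraMap _ _))
    (((NN X).residue x'.1).hom.comp
      ((NN X).presheaf.germ ((nu X) ⁻¹ᵁ U) x'.1 (mem_preimage_of_eq (nu X) hx x')).hom)
    (hker₁.trans hker₂.symm) hfr₁
    (fractions_residue_germ hV x'.1 (mem_preimage_of_eq (nu X) hx x'))
  refine ⟨θ, fun r => ?_⟩
  refine Eq.trans ?_ (hθ (((nu X).app U).hom r))
  congr 1
  change Ideal.Quotient.mk m'.asIdeal (toNormRed _ _) = Ideal.Quotient.mk m'.asIdeal (β _)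
  rw [hβ]

end Norm

end Groth.Agent.Lib.Helper7.NormFibre
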