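import Mathlib

/-!
# Integral sections extend on a normal integral scheme (helper7)

`X` integral with integrally closed stalks, `W ≤ V` nonempty opens: a section over `W` which is
integral over `Γ(X, V)` is the restriction of a section over `V`.
-/

set_option autoImplicit false
set_option maxHeartbeats 800000

universe u

open AlgebraicGeometry CategoryTheory TopologicalSpace Opposite

namespace Groth.Agent.Lib.Helper7.NormSec

variable {X : Scheme.{u}} [IsIntegral X]

theorem genericPoint_mem (U : X.Opens) (h : (U : Set X).Nonempty) : genericPoint X ∈ U :=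
  ((genericPoint_spec X).mem_open_set_iff U.isOpen).mpr (by simpa using h)

/-- sections over an open containing the generic point inject into the function field -/
theorem germ_gen_injective (U : X.Opens) (h : genericPoint X ∈ U) :
    Function.Injective (X.presheaf.germ U (genericPoint X) h) :=
  germ_injective_of_isIntegral X _ h

theorem germ_gen_res {U V : X.Opens} (h : U ≤ V) (hU : genericPoint X ∈ U) (s : Γ(X, V)) :
    X.presheaf.germ U (genericPoint X) hU ((X.presheaf.map (homOfLE h).op).hom s) =
      X.presheaf.germ V (genericPoint X) (h hU) s :=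
  X.presheaf.germ_res_apply (homOfLE h) (genericPoint X) hU s

/-- the germ at `z` followed by the map to the function field is the germ at the generic point -/
theorem algebraMap_germ (U : X.Opens) (z : X) (hz : z ∈ U) (s : Γ(X, U)) :
    algebraMap (X.presheaf.stalk z) X.functionField (X.presheaf.germ U z hz s) =
      X.presheaf.germ U (genericPoint X) (genericPoint_mem U ⟨z, hz⟩) s := by
  haveI : Nonempty U := ⟨⟨z, hz⟩⟩
  exact Scheme.algebraMap_germ_eq_germToFunctionField X hz s

/-- **Integral sections extend.** -/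
theorem exists_section_of_isIntegralElem
    (hN : ∀ x : X, IsIntegrallyClosed (X.presheaf.stalk x))
    (V W : X.Opens) (hWV : W ≤ V) (hW : (W : Set X).Nonempty) (b : Γ(X, W))
    (hb : (X.presheaf.map (homOfLE hWV).op).hom.IsIntegralElem b) :
    ∃ c : Γ(X, V), (X.presheaf.map (homOfLE hWV).op).hom c = b := by
  have hgW : genericPoint X ∈ W := genericPoint_mem W hW
  have hgV : genericPoint X ∈ V := hWV hgW
  set t : X.functionField := X.presheaf.germ W (genericPoint X) hgW b with ht
  obtain ⟨p, hpm, hp⟩ := hb
  -- `t` is a root of the image of `p`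
  have hroot : Polynomial.eval₂ (X.presheaf.germ V (genericPoint X) hgV).hom t p = 0 := by
    have h1 : (X.presheaf.germ V (genericPoint X) hgV).hom =
        (X.presheaf.germ W (genericPoint X) hgW).hom.comp (X.presheaf.map (homOfLE hWV).op).hom := by
      ext s
      exact (germ_gen_res hWV hgW s).symm
    rw [h1, ← Polynomial.hom_eval₂, hp, map_zero]
  -- pointwise
  have hpt : ∀ z : V, ∃ c : X.presheaf.stalk z.1, algebraMap (X.presheaf.stalk z.1) X.functionField c = t := by
    intro z
    haveI := hN z.1
    have hint : IsIntegral (X.presheaf.stalk z.1) t := by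
      refine ⟨p.map (X.presheaf.germ V z.1 z.2).hom, hpm.map _, ?_⟩
      rw [Polynomial.eval₂_map]
      have h2 : (algebraMap (X.presheaf.stalk z.1) X.functionField).comp (X.presheaf.germ V z.1 z.2).hom =
          (X.presheaf.germ V (genericPoint X) hgV).hom := by
        ext s
        exact algebraMap_germ V z.1 z.2 s
      rw [h2]
      exact hroot
    exact IsIntegrallyClosed.algebraMap_eq_of_integral hint
  choose c hc using hpt
  -- local representatives
  have hloc : ∀ z : V, ∃ (U : X.Opens) (_ : z.1 ∈ U) (hUV : U ≤ V) (s : Γ(X, U)),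
      X.presheaf.germ U (genericPoint X) (genericPoint_mem U ⟨z.1, ‹z.1 ∈ U›⟩) s = t := by
    intro z
    obtain ⟨U₀, hzU₀, s₀, hs₀⟩ := X.presheaf.exists_germ_eq (c z)
    have hzI : z.1 ∈ U₀ ⊓ V := ⟨hzU₀, z.2⟩
    refine ⟨U₀ ⊓ V, hzI, inf_le_right,
      (X.presheaf.map (homOfLE (inf_le_left : U₀ ⊓ V ≤ U₀)).op).hom s₀, ?_⟩
    rw [germ_gen_res, ← algebraMap_germ U₀ z.1 hzU₀ s₀, hs₀, hc]
  choose U hzU hUV s hs using hloc
  have hcover : V ≤ iSup U := by
    intro z hz
    exact Opens.mem_iSup.2 ⟨⟨z, hz⟩, hzU ⟨z, hz⟩⟩
  have hcompat : TopCat.Presheaf.IsCompatible X.presheaf U s := by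
    intro i j
    have hg : genericPoint X ∈ U i ⊓ U j :=
      ⟨genericPoint_mem (U i) ⟨i.1, hzU i⟩, genericPoint_mem (U j) ⟨j.1, hzU j⟩⟩
    apply germ_gen_injective (U i ⊓ U j) hg
    have e1 : X.presheaf.germ (U i ⊓ U j) (genericPoint X) hg
        ((X.presheaf.map (Opens.infLELeft (U i) (U j)).op).hom (s i)) =
        X.presheaf.germ (U i) (genericPoint X) hg.1 (s i) :=
      X.presheaf.germ_res_apply (Opens.infLELeft (U i) (U j)) (genericPoint X) hg (s i)
    have e2 : X.presheaf.germ (U i ⊓ U j) (genericPoint X) hg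
        ((X.presheaf.map (Opens.infLERight (U i) (U j)).op).hom (s j)) =
        X.presheaf.germ (U j) (genericPoint X) hg.2 (s j) :=
      X.presheaf.germ_res_apply (Opens.infLERight (U i) (U j)) (genericPoint X) hg (s j)
    exact e1.trans ((hs i).trans ((hs j).symm.trans e2.symm))
  obtain ⟨T', hT', -⟩ :=
    X.sheaf.existsUnique_gluing' U V (fun i => homOfLE (hUV i)) hcover s hcompat
  let T : Γ(X, V) := T'
  have hT : ∀ i, (X.presheaf.map (homOfLE (hUV i)).op).hom T = s i := hT'
  refine ⟨T, ?_⟩
  apply germ_gen_injective W hgW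
  rw [germ_gen_res]
  -- compute the germ of `T` through `U ⟨gen, _⟩`
  let i0 : V := ⟨genericPoint X, hgV⟩
  have hgU : genericPoint X ∈ U i0 := hzU i0
  have h3 : X.presheaf.germ V (genericPoint X) hgV T =
      X.presheaf.germ (U i0) (genericPoint X) hgU (s i0) := by
    rw [← hT i0, germ_gen_res]
  rw [h3]
  exact hs i0

end Groth.Agent.Lib.Helper7.NormSec
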