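import Mathlib
import Groth.Agent.Lib.Helper7.NormSec

/-!
# `toNormalization` is a local isomorphism for quasi-finite morphisms from a normal integral
scheme (helper7)
-/

set_option autoImplicit false
set_option maxHeartbeats 800000

universe u

open AlgebraicGeometry CategoryTheory TopologicalSpace Opposite

namespace Groth.Agent.Lib.Helper7.NormLocIso

open Groth.Agent.Lib.Helper7

variable {X Y : Scheme.{u}} [IsIntegral X] (f : X ⟶ Y)

theorem exists_isOpenImmersion_toNormalization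
    (hN : ∀ x : X, IsIntegrallyClosed (X.presheaf.stalk x))
    [LocallyQuasiFinite f] [LocallyOfFiniteType f] [QuasiCompact f] [QuasiSeparated f] (x : X) :
    ∃ U : X.Opens, x ∈ U ∧ IsOpenImmersion (U.ι ≫ f.toNormalization) := by
  obtain ⟨V, hV, hyV⟩ : ∃ V : Y.Opens, IsAffineOpen V ∧ f x ∈ V := by
    obtain ⟨_, ⟨V, hV, rfl⟩, hyV, -⟩ := Y.isBasis_affineOpens.exists_subset_of_mem_open
      (Set.mem_univ (f x)) isOpen_univ
    exact ⟨V, hV, hyV⟩
  obtain ⟨W, hW, hxW, hWV⟩ : ∃ W : X.Opens, IsAffineOpen W ∧ x ∈ W ∧ W ≤ f ⁻¹ᵁ V := by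
    obtain ⟨_, ⟨W, hW, rfl⟩, hxW, hWV⟩ := X.isBasis_affineOpens.exists_subset_of_mem_open
      (show x ∈ ((f ⁻¹ᵁ V : X.Opens) : Set X) from hyV) (f ⁻¹ᵁ V).isOpen
    exact ⟨W, hW, hxW, hWV⟩
  letI algAB : Algebra Γ(Y, V) Γ(X, W) := (f.appLE V W hWV).hom.toAlgebra
  letI algAR : Algebra Γ(Y, V) Γ(X, f ⁻¹ᵁ V) := (f.app V).hom.toAlgebra
  haveI : Algebra.FiniteType Γ(Y, V) Γ(X, W) := f.finiteType_appLE hV hW hWV
  have hqf := (f.quasiFiniteAt x).quasiFiniteAt hW hV hWV hxW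
  haveI : Algebra.QuasiFiniteAt Γ(Y, V) (hW.primeIdealOf ⟨x, hxW⟩).asIdeal := hqf
  obtain ⟨r, hrq, hrint, hr⟩ := Algebra.zariskisMainProperty_iff.mp
    (Algebra.ZariskisMainProperty.of_finiteType (R := Γ(Y, V)) (hW.primeIdealOf ⟨x, hxW⟩).asIdeal)
  haveI : Nonempty W := ⟨⟨x, hxW⟩⟩
  set res : Γ(X, f ⁻¹ᵁ V) →+* Γ(X, W) := (X.presheaf.map (homOfLE hWV).op).hom with hres
  have hres_inj : Function.Injective res := map_injective_of_isIntegral X (homOfLE hWV)
  have halg : algebraMap Γ(Y, V) Γ(X, W) = res.comp (f.app V).hom := rfl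
  have hkey : ∀ b : Γ(X, W), IsIntegral Γ(Y, V) b →
      ∃ c : integralClosure Γ(Y, V) Γ(X, f ⁻¹ᵁ V), res c.1 = b := by
    intro b hb
    obtain ⟨p, hpm, hp⟩ := hb
    have hb' : res.IsIntegralElem b := by
      refine ⟨p.map (f.app V).hom, hpm.map _, ?_⟩
      rw [Polynomial.eval₂_map, ← halg]
      exact hp
    obtain ⟨c, hc⟩ := NormSec.exists_section_of_isIntegralElem hN (f ⁻¹ᵁ V) W hWV ⟨x, hxW⟩ b hb'
    refine ⟨⟨c, ?_⟩, hc⟩
    refine ⟨p, hpm, ?_⟩
    apply hres_inj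
    rw [map_zero, Polynomial.hom_eval₂, hc]
    exact hp
  -- the basic open
  have hW' : IsAffineOpen (X.basicOpen r) := hW.basicOpen r
  have hxW' : x ∈ X.basicOpen r := by
    have h1 : hW.primeIdealOf ⟨x, hxW⟩ ∈ hW.fromSpec ⁻¹ᵁ X.basicOpen r := by
      rw [hW.fromSpec_preimage_basicOpen]
      exact hrq
    have h2 := hW.fromSpec_primeIdealOf ⟨x, hxW⟩
    change hW.fromSpec (hW.primeIdealOf ⟨x, hxW⟩) ∈ X.basicOpen r at h1
    rwa [h2] at h1
  haveI : Nonempty (X.basicOpen r) := ⟨⟨x, hxW'⟩⟩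
  have hW'V : X.basicOpen r ≤ f ⁻¹ᵁ V := (X.basicOpen_le r).trans hWV
  set res' : Γ(X, W) →+* Γ(X, X.basicOpen r) :=
    (X.presheaf.map (homOfLE (X.basicOpen_le r)).op).hom with hres'
  have hres'_inj : Function.Injective res' :=
    map_injective_of_isIntegral X (homOfLE (X.basicOpen_le r))
  set φ' : integralClosure Γ(Y, V) Γ(X, f ⁻¹ᵁ V) →+* Γ(X, X.basicOpen r) :=
    (X.presheaf.map (homOfLE hW'V).op).hom.comp
      (integralClosure Γ(Y, V) Γ(X, f ⁻¹ᵁ V)).val.toRingHom with hφ'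
  have hφ'_apply : ∀ c : integralClosure Γ(Y, V) Γ(X, f ⁻¹ᵁ V), φ' c = res' (res c.1) := by
    intro c
    change (X.presheaf.map (homOfLE hW'V).op).hom c.1 =
      (X.presheaf.map (homOfLE (X.basicOpen_le r)).op).hom
        ((X.presheaf.map (homOfLE hWV).op).hom c.1)
    rw [← CommRingCat.comp_apply, ← Functor.map_comp]
    rfl
  have hloc := hW.isLocalization_basicOpen r
  obtain ⟨r₀, hr₀⟩ := hkey r hrint
  letI algIC : Algebra (integralClosure Γ(Y, V) Γ(X, f ⁻¹ᵁ V)) Γ(X, X.basicOpen r) := φ'.toAlgebra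
  have halgIC : ∀ c, algebraMap (integralClosure Γ(Y, V) Γ(X, f ⁻¹ᵁ V)) Γ(X, X.basicOpen r) c =
      res' (res c.1) := hφ'_apply
  have hresr : algebraMap Γ(X, W) Γ(X, X.basicOpen r) = res' := rfl
  haveI hlocIC : IsLocalization.Away r₀ Γ(X, X.basicOpen r) := by
    rw [IsLocalization.Away, isLocalization_iff]
    refine ⟨?_, ?_, ?_⟩
    · rintro ⟨_, n, rfl⟩
      rw [map_pow, halgIC, hr₀]
      exact (hresr ▸ IsLocalization.Away.algebraMap_isUnit r).pow n
    · intro z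
      obtain ⟨n, b, hb⟩ := IsLocalization.Away.surj r z
      obtain ⟨m, hm⟩ := hr b
      obtain ⟨c, hc⟩ := hkey _ hm
      refine ⟨⟨c, ⟨r₀ ^ (n + m), n + m, rfl⟩⟩, ?_⟩
      simp only
      rw [map_pow, halgIC, halgIC, hr₀, hc, map_mul, map_pow, pow_add, ← mul_assoc]
      rw [hresr] at hb
      rw [hb, mul_comm]
    · intro c c' h
      refine ⟨1, ?_⟩
      rw [halgIC, halgIC] at h
      have := hres_inj (hres'_inj h)
      rw [Subtype.ext this]
  -- the factorisation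
  have hfac : (X.basicOpen r).ι ≫ f.toNormalization =
      (X.basicOpen r).toSpecΓ ≫ Spec.map (CommRingCat.ofHom φ') ≫
        f.normalizationOpenCover.f ⟨V, hV⟩ := by
    rw [← X.homOfLE_ι hW'V, Category.assoc, f.ι_toNormalization ⟨V, hV⟩,
      ← Scheme.Opens.toSpecΓ_SpecMap_presheaf_map_assoc, ← Spec.map_comp_assoc]
    rfl
  refine ⟨X.basicOpen r, hxW', ?_⟩
  rw [hfac]
  haveI : IsIso (X.basicOpen r).toSpecΓ := by
    rw [← hW'.isoSpec_hom]
    infer_instance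
  have h0 : IsOpenImmersion (Spec.map (CommRingCat.ofHom φ')) :=
    IsOpenImmersion.of_isLocalization (R := integralClosure Γ(Y, V) Γ(X, f ⁻¹ᵁ V))
      (S := Γ(X, X.basicOpen r)) r₀
  have h1 : IsOpenImmersion (f.normalizationOpenCover.f ⟨V, hV⟩) := inferInstance
  have h2 : IsOpenImmersion (Spec.map (CommRingCat.ofHom φ') ≫
      f.normalizationOpenCover.f ⟨V, hV⟩) :=
    @IsOpenImmersion.comp _ _ _ _ _ h0 h1
  have h3 : IsOpenImmersion (X.basicOpen r).toSpecΓ := inferInstance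
  exact @IsOpenImmersion.comp _ _ _ _ _ h3 h2

theorem isLocalIso_toNormalization
    (hN : ∀ x : X, IsIntegrallyClosed (X.presheaf.stalk x))
    [LocallyQuasiFinite f] [LocallyOfFiniteType f] [QuasiCompact f] [QuasiSeparated f] :
    IsLocalIso f.toNormalization :=
  ⟨fun x => exists_isOpenImmersion_toNormalization f hN x⟩

end Groth.Agent.Lib.Helper7.NormLocIso
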