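import Mathlib
import Groth.Prelude.Def_CAlg2

set_option autoImplicit false
universe u

namespace Groth.Agent.Lib.Helper7.NormRed

open Ideal

section PrimesOver

variable {R S : Type*} [CommRing R] [CommRing S] [Algebra R S] [Algebra.IsIntegral R S]
  (p : Ideal R) [p.IsPrime]
  (Sp : Type*) [CommRing Sp] [Algebra S Sp]
  [IsLocalization (Algebra.algebraMapSubmonoid S p.primeCompl) Sp]

omit [Algebra.IsIntegral R S] in
theorem disjoint_of_comap_eq (q : Ideal S) (hq : q.comap (algebraMap R S) = p) :
    Disjoint (Algebra.algebraMapSubmonoid S p.primeCompl : Set S) (q : Set S) := by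
  rw [Set.disjoint_left]
  rintro _ ⟨r, hr, rfl⟩ hrq
  have : r ∈ q.comap (algebraMap R S) := hrq
  rw [hq] at this
  exact hr this

omit [Algebra.IsIntegral R S] in
theorem comap_le_of_disjoint (q : Ideal S)
    (hq : Disjoint (Algebra.algebraMapSubmonoid S p.primeCompl : Set S) (q : Set S)) :
    q.comap (algebraMap R S) ≤ p := by
  intro r hr
  by_contra hrp
  exact Set.disjoint_left.mp hq ⟨r, hrp, rfl⟩ hr

include p in
theorem isMaximal_map_of_comap_eq (q : Ideal S) [q.IsPrime] (hq : q.comap (algebraMap R S) = p) :
    (q.map (algebraMap S Sp)).IsMaximal := by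
  set M := Algebra.algebraMapSubmonoid S p.primeCompl
  have hdis := disjoint_of_comap_eq p q hq
  have hQprime : (q.map (algebraMap S Sp)).IsPrime :=
    IsLocalization.isPrime_of_isPrime_disjoint M Sp q inferInstance hdis
  obtain ⟨Q', hQ'max, hQQ'⟩ := Ideal.exists_le_maximal _ hQprime.ne_top
  have hQ'prime := hQ'max.isPrime
  set q' := Q'.comap (algebraMap S Sp) with hq'
  have hq'prime : q'.IsPrime := Ideal.comap_isPrime _ _
  have hq'dis : Disjoint (M : Set S) (q' : Set S) :=
    ((IsLocalization.isPrime_iff_isPrime_disjoint M Sp Q').mp hQ'prime).2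
  have hqq' : q ≤ q' := by
    rw [hq', ← Ideal.map_le_iff_le_comap]; exact hQQ'
  have h1 : q'.comap (algebraMap R S) = p := by
    apply le_antisymm (comap_le_of_disjoint p q' hq'dis)
    rw [← hq]; exact Ideal.comap_mono hqq'
  have heq : q = q' := by
    by_contra hne
    have hlt : q < q' := lt_of_le_of_ne hqq' hne
    have := Ideal.IsIntegral.comap_lt_comap (R := R) hlt
    rw [hq, h1] at this
    exact lt_irrefl _ this
  have : q.map (algebraMap S Sp) = Q' := by
    rw [heq, hq', IsLocalization.map_under M Sp Q']
  rw [this]; exact hQ'max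

include p in
theorem comap_comap_eq_of_isMaximal (Q : Ideal Sp) [Q.IsMaximal] :
    (Q.comap (algebraMap S Sp)).comap (algebraMap R S) = p := by
  set M := Algebra.algebraMapSubmonoid S p.primeCompl
  have hQprime : Q.IsPrime := inferInstance
  set q := Q.comap (algebraMap S Sp) with hq
  have hqprime : q.IsPrime := Ideal.comap_isPrime _ _
  have hqdis : Disjoint (M : Set S) (q : Set S) :=
    ((IsLocalization.isPrime_iff_isPrime_disjoint M Sp Q).mp hQprime).2
  have hle := comap_le_of_disjoint p q hqdis
  obtain ⟨q', hqq', hq'prime, hq'p⟩ :=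
    Ideal.exists_ideal_over_prime_of_isIntegral_of_isPrime p q hle
  have hq'dis := disjoint_of_comap_eq p q' hq'p
  have hQ'prime : (q'.map (algebraMap S Sp)).IsPrime :=
    IsLocalization.isPrime_of_isPrime_disjoint M Sp q' hq'prime hq'dis
  have hQle : Q ≤ q'.map (algebraMap S Sp) := by
    rw [← IsLocalization.map_under M Sp Q]
    exact Ideal.map_mono hqq'
  have hQeq : Q = q'.map (algebraMap S Sp) :=
    (‹Q.IsMaximal›).eq_of_le hQ'prime.ne_top hQle
  have : q = q' := by
    rw [hq, hQeq]
    exact IsLocalization.under_map_of_isPrime_disjoint M Sp hq'prime hq'dis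
  rw [this]; exact hq'p

/-- Primes of `S` over `p` correspond to the maximal ideals of the localization of `S` at `p`
(for `S` integral over `R`). -/
noncomputable def primesOverEquiv :
    {q : PrimeSpectrum S // q.asIdeal.comap (algebraMap R S) = p} ≃ MaximalSpectrum Sp where
  toFun q := ⟨q.1.asIdeal.map (algebraMap S Sp),
    haveI := q.1.isPrime
    isMaximal_map_of_comap_eq p Sp q.1.asIdeal q.2⟩
  invFun Q := ⟨⟨Q.asIdeal.comap (algebraMap S Sp), haveI := Q.isMaximal.isPrime; Ideal.comap_isPrime _ _⟩,
    haveI := Q.isMaximal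
    comap_comap_eq_of_isMaximal p Sp Q.asIdeal⟩
  left_inv q := by
    apply Subtype.ext
    apply PrimeSpectrum.ext
    exact IsLocalization.under_map_of_isPrime_disjoint _ Sp q.1.isPrime
      (disjoint_of_comap_eq p q.1.asIdeal q.2)
  right_inv Q := by
    apply MaximalSpectrum.ext
    exact IsLocalization.map_under (Algebra.algebraMapSubmonoid S p.primeCompl) Sp Q.asIdeal

@[simp] theorem primesOverEquiv_apply_asIdeal
    (q : {q : PrimeSpectrum S // q.asIdeal.comap (algebraMap R S) = p}) :
    (primesOverEquiv p Sp q).asIdeal = q.1.asIdeal.map (algebraMap S Sp) := rfl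

@[simp] theorem primesOverEquiv_symm_apply_asIdeal (Q : MaximalSpectrum Sp) :
    ((primesOverEquiv p Sp).symm Q).1.asIdeal = Q.asIdeal.comap (algebraMap S Sp) := rfl

end PrimesOver



section NormRedEquiv

variable (A : Type u) [CommRing A] [IsDomain A]

/-- For a domain, the reduction is the ring itself. -/
noncomputable def redEquiv : CAlg2.red A ≃+* A :=
  (Ideal.quotEquivOfEq (nilradical_eq_zero A)).trans (RingEquiv.quotientBot A)

@[simp] theorem redEquiv_mk (a : A) : redEquiv A (Ideal.Quotient.mk _ a) = a := rfl

theorem redEquiv_symm_apply (a : A) : (redEquiv A).symm a = Ideal.Quotient.mk _ a := by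
  rw [RingEquiv.symm_apply_eq]; rfl

instance isDomain_red : IsDomain (CAlg2.red A) := (redEquiv A).toMulEquiv.isDomain A

/-- The canonical map `A → normRed A`. -/
noncomputable def toNormRed (A : Type u) [CommRing A] : A →+* CAlg2.normRed A :=
  (algebraMap (CAlg2.red A) (CAlg2.normRed A)).comp (Ideal.Quotient.mk (nilradical A))

variable (L : Type u) [Field L] [Algebra A L] [IsFractionRing A L]

theorem redToL_injective :
    Function.Injective ((algebraMap A L).comp (redEquiv A).toRingHom) :=
  (IsFractionRing.injective A L).comp (redEquiv A).injective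

/-- The identification of the fraction field of `A_red` with a fraction field `L` of `A`. -/
noncomputable def fracRedHom : FractionRing (CAlg2.red A) →+* L :=
  IsFractionRing.lift (redToL_injective A L)

theorem fracRedHom_algebraMap (x : CAlg2.red A) :
    fracRedHom A L (algebraMap _ _ x) = algebraMap A L (redEquiv A x) :=
  IsFractionRing.lift_algebraMap _ _

theorem fracRedHom_bijective : Function.Bijective (fracRedHom A L) := by
  refine ⟨RingHom.injective _, fun z => ?_⟩
  obtain ⟨a, b, hb, rfl⟩ := IsFractionRing.div_surjective (A := A) z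
  refine ⟨algebraMap (CAlg2.red A) _ (Ideal.Quotient.mk (nilradical A) a) /
    algebraMap (CAlg2.red A) _ (Ideal.Quotient.mk (nilradical A) b), ?_⟩
  rw [map_div₀, fracRedHom_algebraMap, fracRedHom_algebraMap]
  rfl

noncomputable def fracRedEquiv : FractionRing (CAlg2.red A) ≃+* L :=
  RingEquiv.ofBijective (fracRedHom A L) (fracRedHom_bijective A L)

theorem fracRedEquiv_algebraMap (x : CAlg2.red A) :
    fracRedEquiv A L (algebraMap _ _ x) = algebraMap A L (redEquiv A x) :=
  fracRedHom_algebraMap A L x

theorem isIntegral_fracRedEquiv (z : FractionRing (CAlg2.red A)) (hz : IsIntegral (CAlg2.red A) z) :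
    IsIntegral A (fracRedEquiv A L z) := by
  refine IsIntegral.map_of_comp_eq (redEquiv A).toRingHom (fracRedEquiv A L).toRingHom ?_ hz
  ext x
  exact (fracRedEquiv_algebraMap A L x).symm

theorem isIntegral_fracRedEquiv_symm (w : L) (hw : IsIntegral A w) :
    IsIntegral (CAlg2.red A) ((fracRedEquiv A L).symm w) := by
  refine IsIntegral.map_of_comp_eq (redEquiv A).symm.toRingHom (fracRedEquiv A L).symm.toRingHom
    ?_ hw
  ext a
  change algebraMap _ _ ((redEquiv A).symm a) = (fracRedEquiv A L).symm (algebraMap A L a)
  rw [RingEquiv.eq_symm_apply, fracRedEquiv_algebraMap, RingEquiv.apply_symm_apply]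

/-- `normRed A` is the integral closure of `A` in any fraction field `L` of `A`, for `A` a domain. -/
noncomputable def normRedEquiv : CAlg2.normRed A ≃+* integralClosure A L where
  toFun z := ⟨fracRedEquiv A L z.1, isIntegral_fracRedEquiv A L z.1 z.2⟩
  invFun w := ⟨(fracRedEquiv A L).symm w.1, isIntegral_fracRedEquiv_symm A L w.1 w.2⟩
  left_inv _ := Subtype.ext ((fracRedEquiv A L).symm_apply_apply _)
  right_inv _ := Subtype.ext ((fracRedEquiv A L).apply_symm_apply _)
  map_mul' _ _ := Subtype.ext (map_mul (fracRedEquiv A L) _ _)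
  map_add' _ _ := Subtype.ext (map_add (fracRedEquiv A L) _ _)

theorem normRedEquiv_toNormRed (a : A) :
    normRedEquiv A L (toNormRed A a) = algebraMap A (integralClosure A L) a := by
  apply Subtype.ext
  change fracRedEquiv A L (algebraMap _ _ (Ideal.Quotient.mk _ a)) = algebraMap A L a
  rw [fracRedEquiv_algebraMap, redEquiv_mk]

end NormRedEquiv



section LocIC

variable (R : Type u) {S : Type u} [CommRing R] [CommRing S] [IsDomain S] [Algebra R S]
  [Algebra.IsIntegral R S] [IsIntegrallyClosed S]
  (L : Type u) [Field L] [Algebra S L] [IsFractionRing S L] [Algebra R L] [IsScalarTower R S L]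
  (p : Ideal R) [p.IsPrime] (A : Type u) [CommRing A] [Algebra R A] [IsLocalization.AtPrime A p]
  [Algebra A L] [IsScalarTower R A L]

omit [IsDomain S] [IsIntegrallyClosed S] [IsFractionRing S L] in
include R in
theorem isIntegral_algebraMap_S (s : S) : IsIntegral A (algebraMap S L s) := by
  have h1 : IsIntegral R s := Algebra.IsIntegral.isIntegral s
  have h2 : IsIntegral R (algebraMap S L s) := h1.map (IsScalarTower.toAlgHom R S L)
  exact h2.tower_top

/-- The map from `S` to the integral closure of `A = R_p` in `L = Frac S`. -/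
noncomputable def toIC : S →+* integralClosure A L where
  toFun s := ⟨algebraMap S L s, isIntegral_algebraMap_S R L A s⟩
  map_one' := Subtype.ext (map_one _)
  map_mul' _ _ := Subtype.ext (map_mul _ _ _)
  map_zero' := Subtype.ext (map_zero _)
  map_add' _ _ := Subtype.ext (map_add _ _ _)

omit [IsDomain S] [IsIntegrallyClosed S] [IsFractionRing S L] in
@[simp] theorem toIC_coe (s : S) : ((toIC R L A s : integralClosure A L) : L) = algebraMap S L s := rfl

omit [IsDomain S] [IsIntegrallyClosed S] [IsFractionRing S L] in
theorem toIC_algebraMap (r : R) :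
    toIC R L A (algebraMap R S r) = algebraMap A (integralClosure A L) (algebraMap R A r) := by
  apply Subtype.ext
  change algebraMap S L (algebraMap R S r) = algebraMap A L (algebraMap R A r)
  rw [← IsScalarTower.algebraMap_apply, ← IsScalarTower.algebraMap_apply]

omit [IsDomain S] in
theorem isLocalization_toIC :
    letI := (toIC R (S := S) L A).toAlgebra
    IsLocalization (Algebra.algebraMapSubmonoid S p.primeCompl) (integralClosure A L) := by
  let _ := (toIC R (S := S) L A).toAlgebra
  refine ⟨⟨?_, ?_, ?_⟩⟩
  · rintro ⟨_, r, hr, rfl⟩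
    change IsUnit (toIC R L A (algebraMap R S r))
    rw [toIC_algebraMap]
    exact (IsLocalization.map_units A (⟨r, hr⟩ : p.primeCompl)).map _
  · intro z
    obtain ⟨⟨m, hm⟩, hmz⟩ := IsIntegral.exists_multiple_integral_of_isLocalization
      (R := R) p.primeCompl (Rₘ := A) (z : L) z.2
    have h3 : IsIntegral S ((⟨m, hm⟩ : p.primeCompl) • (z : L)) := hmz.tower_top
    obtain ⟨s, hs⟩ := IsIntegrallyClosed.isIntegral_iff.mp h3
    refine ⟨⟨s, ⟨algebraMap R S m, m, hm, rfl⟩⟩, ?_⟩
    apply Subtype.ext
    change (z : L) * algebraMap S L (algebraMap R S m) = algebraMap S L s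
    rw [hs, Submonoid.smul_def, Algebra.smul_def, ← IsScalarTower.algebraMap_apply, mul_comm]
  · intro a b hab
    have : algebraMap S L a = algebraMap S L b := congrArg Subtype.val hab
    have := IsFractionRing.injective S L this
    exact ⟨1, by rw [this]⟩

end LocIC



section Package

variable {R S : Type u} [CommRing R] [CommRing S] [IsDomain R] [IsDomain S] [Algebra R S]
  [Algebra.IsIntegral R S] [IsIntegrallyClosed S]

omit [IsDomain R] [Algebra.IsIntegral R S] [IsIntegrallyClosed S] in
theorem isFractionRing_of_hfrac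
    (hinj : Function.Injective (algebraMap R S))
    (hfrac : ∀ s : S, ∃ a b : R, b ≠ 0 ∧ algebraMap R S b * s = algebraMap R S a)
    (L : Type u) [Field L] [Algebra S L] [IsFractionRing S L] [Algebra R L] [IsScalarTower R S L] :
    IsFractionRing R L := by
  have hinjL : Function.Injective (algebraMap R L) := by
    rw [IsScalarTower.algebraMap_eq R S L]
    exact (IsFractionRing.injective S L).comp hinj
  haveI : FaithfulSMul R L := (faithfulSMul_iff_algebraMap_injective R L).mpr hinjL
  refine IsFractionRing.of_field (R := R) L fun z => ?_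
  obtain ⟨s, t, ht, rfl⟩ := IsFractionRing.div_surjective (A := S) z
  have ht0 : t ≠ 0 := nonZeroDivisors.ne_zero ht
  obtain ⟨a1, b1, hb1, h1⟩ := hfrac s
  obtain ⟨a2, b2, hb2, h2⟩ := hfrac t
  have ha2 : a2 ≠ 0 := by
    rintro rfl
    rw [map_zero] at h2
    rcases mul_eq_zero.mp h2 with h | h
    · exact hb2 (hinj (by rw [h, map_zero]))
    · exact ht0 h
  refine ⟨a1 * b2, b1 * a2, ?_⟩
  have e1 : algebraMap R L b1 * algebraMap S L s = algebraMap R L a1 := by
    rw [IsScalarTower.algebraMap_apply R S L, IsScalarTower.algebraMap_apply R S L, ← map_mul, h1]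
  have e2 : algebraMap R L b2 * algebraMap S L t = algebraMap R L a2 := by
    rw [IsScalarTower.algebraMap_apply R S L, IsScalarTower.algebraMap_apply R S L, ← map_mul, h2]
  have hb1' : algebraMap R L b1 ≠ 0 := (map_ne_zero_iff _ hinjL).mpr hb1
  have hb2' : algebraMap R L b2 ≠ 0 := (map_ne_zero_iff _ hinjL).mpr hb2
  have ha2' : algebraMap R L a2 ≠ 0 := (map_ne_zero_iff _ hinjL).mpr ha2
  have ht' : algebraMap S L t ≠ 0 := (map_ne_zero_iff _ (IsFractionRing.injective S L)).mpr ht0
  rw [map_mul, map_mul, ← e1, ← e2]
  field_simp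

/-- The ring-level package: for `R ⊆ S` an integral birational extension of domains with `S`
integrally closed, `normRed (R_p)` is the localization of `S` at `R ∖ p`. -/
theorem exists_toNormRed_localization_aux
    (L : Type u) [Field L] [Algebra S L] [IsFractionRing S L] [Algebra R L] [IsScalarTower R S L]
    (hinj : Function.Injective (algebraMap R S))
    (hfrac : ∀ s : S, ∃ a b : R, b ≠ 0 ∧ algebraMap R S b * s = algebraMap R S a)
    (p : Ideal R) [p.IsPrime] (A : Type u) [CommRing A] [IsDomain A] [Algebra R A]
    [IsLocalization.AtPrime A p] :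
    ∃ β : S →+* CAlg2.normRed A,
      (∀ r, β (algebraMap R S r) = toNormRed A (algebraMap R A r)) ∧
      (letI := β.toAlgebra
       IsLocalization (Algebra.algebraMapSubmonoid S p.primeCompl) (CAlg2.normRed A)) := by
  haveI : IsFractionRing R L := isFractionRing_of_hfrac hinj hfrac L
  have hunits : ∀ y : p.primeCompl, IsUnit (algebraMap R L y) := by
    intro y
    have : (y : R) ≠ 0 := by
      rintro h
      exact y.2 (h ▸ p.zero_mem)
    exact IsUnit.mk0 _ ((map_ne_zero_iff _ (IsFractionRing.injective R L)).mpr this)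
  letI : Algebra A L := (IsLocalization.lift (M := p.primeCompl) (S := A) hunits).toAlgebra
  haveI : IsScalarTower R A L := .of_algebraMap_eq' (by
    ext r
    exact (IsLocalization.lift_eq hunits r).symm)
  haveI : IsFractionRing A L :=
    IsFractionRing.isFractionRing_of_isDomain_of_isLocalization p.primeCompl A L
  let e := normRedEquiv A L
  let β : S →+* CAlg2.normRed A := e.symm.toRingHom.comp (toIC R L A)
  refine ⟨β, fun r => ?_, ?_⟩
  · change e.symm (toIC R L A (algebraMap R S r)) = _
    rw [RingEquiv.symm_apply_eq, toIC_algebraMap]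
    exact (normRedEquiv_toNormRed A L _).symm
  · letI := (toIC R (S := S) L A).toAlgebra
    have h := isLocalization_toIC R (S := S) L p A
    letI := β.toAlgebra
    let e' : integralClosure A L ≃ₐ[S] CAlg2.normRed A :=
      { e.symm with commutes' := fun s => rfl }
    exact IsLocalization.isLocalization_of_algEquiv _ e'

theorem exists_toNormRed_localization
    (hinj : Function.Injective (algebraMap R S))
    (hfrac : ∀ s : S, ∃ a b : R, b ≠ 0 ∧ algebraMap R S b * s = algebraMap R S a)
    (p : Ideal R) [p.IsPrime] (A : Type u) [CommRing A] [IsDomain A] [Algebra R A]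
    [IsLocalization.AtPrime A p] :
    ∃ β : S →+* CAlg2.normRed A,
      (∀ r, β (algebraMap R S r) = toNormRed A (algebraMap R A r)) ∧
      (letI := β.toAlgebra
       IsLocalization (Algebra.algebraMapSubmonoid S p.primeCompl) (CAlg2.normRed A)) :=
  exists_toNormRed_localization_aux (FractionRing S) hinj hfrac p A

end Package

end Groth.Agent.Lib.Helper7.NormRed
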