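import Groth.Agent.Lib.Helper7.NormRed
import Groth.Prelude.Def_Brnch

/-!
# Residue fields of `normRed A` (helper7)

* `exists_ringEquiv_of_fractions`: two fields generated by fractions of the same quotient `D/q` are
  uniquely isomorphic.
* `fractions_of_isLocalization`: residue field of a localization at a maximal ideal `qB`.
* `embEquiv`, `card_emb_eq`: `Brnch.Emb A m'` versus `Field.Emb`.
* `isPurelyInseparable_of_theta`.
-/

set_option autoImplicit false
universe u

namespace Groth.Agent.Lib.Helper7.NormRed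

open Ideal

section Residue

/-- Unique isomorphism between two "fraction fields of `D / q`". -/
theorem exists_ringEquiv_of_fractions {D k₁ k₂ : Type*} [CommRing D] [Field k₁] [Field k₂]
    (ι₁ : D →+* k₁) (ι₂ : D →+* k₂) (hker : RingHom.ker ι₁ = RingHom.ker ι₂)
    (h₁ : ∀ z : k₁, ∃ a b : D, ι₁ b ≠ 0 ∧ z * ι₁ b = ι₁ a)
    (h₂ : ∀ z : k₂, ∃ a b : D, ι₂ b ≠ 0 ∧ z * ι₂ b = ι₂ a) :
    ∃ θ : k₁ ≃+* k₂, ∀ d, θ (ι₁ d) = ι₂ d := by
  let q := RingHom.ker ι₁
  let D' := D ⧸ q
  let j₁ : D' →+* k₁ := Ideal.Quotient.lift q ι₁ (fun a ha => ha)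
  let j₂ : D' →+* k₂ := Ideal.Quotient.lift q ι₂ (fun a ha => by
    have : a ∈ RingHom.ker ι₂ := hker ▸ ha
    exact this)
  have hj₁ : Function.Injective j₁ := by
    rw [injective_iff_map_eq_zero]
    intro x hx
    obtain ⟨a, rfl⟩ := Ideal.Quotient.mk_surjective x
    exact Ideal.Quotient.eq_zero_iff_mem.mpr hx
  have hj₂ : Function.Injective j₂ := by
    rw [injective_iff_map_eq_zero]
    intro x hx
    obtain ⟨a, rfl⟩ := Ideal.Quotient.mk_surjective x
    refine Ideal.Quotient.eq_zero_iff_mem.mpr ?_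
    change a ∈ RingHom.ker ι₁
    rw [hker]; exact hx
  letI : Algebra D' k₁ := j₁.toAlgebra
  letI : Algebra D' k₂ := j₂.toAlgebra
  haveI : FaithfulSMul D' k₁ := (faithfulSMul_iff_algebraMap_injective D' k₁).mpr hj₁
  haveI : FaithfulSMul D' k₂ := (faithfulSMul_iff_algebraMap_injective D' k₂).mpr hj₂
  haveI : IsFractionRing D' k₁ := IsFractionRing.of_field (R := D') k₁ fun z => by
    obtain ⟨a, b, hb, h⟩ := h₁ z
    refine ⟨Ideal.Quotient.mk q a, Ideal.Quotient.mk q b, ?_⟩
    change z = ι₁ a / ι₁ b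
    rw [eq_div_iff hb, h]
  haveI : IsFractionRing D' k₂ := IsFractionRing.of_field (R := D') k₂ fun z => by
    obtain ⟨a, b, hb, h⟩ := h₂ z
    refine ⟨Ideal.Quotient.mk q a, Ideal.Quotient.mk q b, ?_⟩
    change z = ι₂ a / ι₂ b
    rw [eq_div_iff hb, h]
  let θ : k₁ ≃ₐ[D'] k₂ := IsLocalization.algEquiv (nonZeroDivisors D') k₁ k₂
  refine ⟨θ.toRingEquiv, fun d => ?_⟩
  exact θ.commutes (Ideal.Quotient.mk q d)

variable {S B : Type*} [CommRing S] [CommRing B] [Algebra S B] (M : Submonoid S) [IsLocalization M B]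

include M in
/-- The residue field of a localization at a maximal ideal `qB` is a fraction field of `S/q`. -/
theorem fractions_of_isLocalization (q : Ideal S) [q.IsPrime] (hdis : Disjoint (M : Set S) (q : Set S))
    (Q : Ideal B) [Q.IsMaximal] (hQ : Q = q.map (algebraMap S B)) :
    RingHom.ker ((Ideal.Quotient.mk Q).comp (algebraMap S B)) = q ∧
    ∀ z : B ⧸ Q, ∃ a b : S, (Ideal.Quotient.mk Q) (algebraMap S B b) ≠ 0 ∧
      z * (Ideal.Quotient.mk Q) (algebraMap S B b) = (Ideal.Quotient.mk Q) (algebraMap S B a) := by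
  have hcomap : Q.comap (algebraMap S B) = q := by
    rw [hQ]; exact IsLocalization.under_map_of_isPrime_disjoint M B inferInstance hdis
  constructor
  · ext s
    rw [RingHom.mem_ker, RingHom.comp_apply, Ideal.Quotient.eq_zero_iff_mem, ← Ideal.mem_comap,
      hcomap]
  · intro z
    obtain ⟨w, rfl⟩ := Ideal.Quotient.mk_surjective z
    obtain ⟨a, m, rfl⟩ := IsLocalization.exists_mk'_eq M w
    refine ⟨a, m, ?_, ?_⟩
    · rw [Ne, Ideal.Quotient.eq_zero_iff_mem]
      intro hm
      have : (m : S) ∈ q := by rw [← hcomap]; exact hm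
      exact Set.disjoint_left.mp hdis m.2 this
    · rw [← map_mul, IsLocalization.mk'_spec]

end Residue

section Emb

variable (A : Type u) [CommRing A] [IsLocalRing A] (m' : MaximalSpectrum (CAlg2.normRed A))
  (E : Type u) [Field E] [Algebra (IsLocalRing.ResidueField A) E]
  (θ : CAlg2.normRed A ⧸ m'.asIdeal ≃+* E)
  (hθ : ∀ a : A, θ (Brnch.toResidue A m' a) =
    algebraMap (IsLocalRing.ResidueField A) E (IsLocalRing.residue A a))

include hθ in
theorem isAlgebraic_of_theta : Algebra.IsAlgebraic (IsLocalRing.ResidueField A) E := by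
  let F := IsLocalRing.ResidueField A
  refine ⟨fun e => ?_⟩
  obtain ⟨z, rfl⟩ := θ.surjective e
  obtain ⟨b, rfl⟩ := Ideal.Quotient.mk_surjective z
  have hb : IsIntegral (CAlg2.red A) b := integralClosure.isIntegral b
  let φ : CAlg2.red A →+* F := Ideal.Quotient.lift (nilradical A) (IsLocalRing.residue A)
    (fun a ha => by
      obtain ⟨n, hn⟩ := (mem_nilradical.mp ha)
      have : (IsLocalRing.residue A a) ^ n = 0 := by rw [← map_pow, hn, map_zero]
      exact eq_zero_of_pow_eq_zero this)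
  let ψ : CAlg2.normRed A →+* E := θ.toRingHom.comp (Ideal.Quotient.mk m'.asIdeal)
  have hcomp : (algebraMap F E).comp φ = ψ.comp (algebraMap (CAlg2.red A) (CAlg2.normRed A)) := by
    apply Ideal.Quotient.ringHom_ext
    ext a
    exact (hθ a).symm
  have := IsIntegral.map_of_comp_eq φ ψ hcomp hb
  exact this.isAlgebraic

include hθ in
/-- Embeddings in the sense of `Brnch.Emb` are the `κ`-algebra maps into the algebraic closure. -/
noncomputable def embEquiv : Brnch.Emb A m' ≃
    (E →ₐ[IsLocalRing.ResidueField A] AlgebraicClosure (IsLocalRing.ResidueField A)) where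
  toFun σ :=
    { toRingHom := σ.1.comp θ.symm.toRingHom
      commutes' := fun f => by
        obtain ⟨a, rfl⟩ := IsLocalRing.residue_surjective f
        change σ.1 (θ.symm (algebraMap _ E (IsLocalRing.residue A a))) = _
        rw [← hθ a, RingEquiv.symm_apply_apply]
        exact congr($(σ.2) a) }
  invFun τ := ⟨τ.toRingHom.comp θ.toRingHom, by
    ext a
    change τ (θ (Brnch.toResidue A m' a)) = _
    rw [hθ a, τ.commutes]
    rfl⟩
  left_inv σ := by
    apply Subtype.ext
    ext z
    change σ.1 (θ.symm (θ z)) = σ.1 z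
    rw [RingEquiv.symm_apply_apply]
  right_inv τ := by
    ext e
    change τ (θ (θ.symm e)) = τ e
    rw [RingEquiv.apply_symm_apply]

include hθ in
theorem card_emb_eq :
    ENat.card (Brnch.Emb A m') = ENat.card (Field.Emb (IsLocalRing.ResidueField A) E) := by
  haveI := isAlgebraic_of_theta A m' E θ hθ
  exact ENat.card_congr ((embEquiv A m' E θ hθ).trans
    (Field.embEquivOfIsAlgClosed (IsLocalRing.ResidueField A) E
      (AlgebraicClosure (IsLocalRing.ResidueField A))).symm)

end Emb

section PI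

variable (A : Type u) [CommRing A] [IsLocalRing A] (m' : MaximalSpectrum (CAlg2.normRed A))
  (E : Type u) [Field E] [Algebra (IsLocalRing.ResidueField A) E]
  (θ : CAlg2.normRed A ⧸ m'.asIdeal ≃+* E)
  (hθ : ∀ a : A, θ (Brnch.toResidue A m' a) =
    algebraMap (IsLocalRing.ResidueField A) E (IsLocalRing.residue A a))

include hθ in
theorem isPurelyInseparable_of_theta
    (hpi : ∀ x : CAlg2.normRed A ⧸ m'.asIdeal,
      ∃ n : ℕ, x ^ (ringExpChar (CAlg2.normRed A ⧸ m'.asIdeal)) ^ n ∈ (Brnch.toResidue A m').range) :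
    IsPurelyInseparable (IsLocalRing.ResidueField A) E := by
  haveI := m'.isMaximal
  letI : Field (CAlg2.normRed A ⧸ m'.asIdeal) := Ideal.Quotient.field _
  set q := ringExpChar (CAlg2.normRed A ⧸ m'.asIdeal) with hq
  haveI : ExpChar (CAlg2.normRed A ⧸ m'.asIdeal) q := ringExpChar.expChar _
  haveI : ExpChar E q := expChar_of_injective_ringHom (f := θ.toRingHom) θ.injective q
  haveI : ExpChar (IsLocalRing.ResidueField A) q :=
    (algebraMap (IsLocalRing.ResidueField A) E).expChar (RingHom.injective _) q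
  rw [isPurelyInseparable_iff_pow_mem (IsLocalRing.ResidueField A) q]
  intro e
  obtain ⟨z, rfl⟩ := θ.surjective e
  obtain ⟨n, a, ha⟩ := hpi z
  refine ⟨n, IsLocalRing.residue A a, ?_⟩
  rw [← hθ a, ha, map_pow]

end PI

end Groth.Agent.Lib.Helper7.NormRed
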