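import Groth.Prelude.Def_PLie
import Mathlib.Algebra.Lie.Engel
import Mathlib.Algebra.Lie.AdjointAction.Basic
import Mathlib.Algebra.Lie.Solvable
import Mathlib.Algebra.Lie.Quotient

/-! Basic lemmas on restricted Lie algebras (helper7). -/

set_option autoImplicit false
universe u v w

namespace Groth.Agent.Lib.Helper7.PLieLib

open _root_.PLie

variable {k : Type u} [Field k] {p : ℕ} [CharP k p] {L : Type v} [LieRing L] [LieAlgebra k L]

/-- `ad (φ^[n] x) = (ad x)^(p^n)`. -/
theorem ad_iterate (φ : PMap k p L) (x : L) (n : ℕ) :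
    LieAlgebra.ad k L (φ.toFun^[n] x) = LieAlgebra.ad k L x ^ (p ^ n) := by
  induction n with
  | zero => simp
  | succ n ih =>
    rw [Function.iterate_succ_apply', φ.ad_map, ih, ← pow_mul, pow_succ]

/-- A `p`-nilpotent element is ad-nilpotent. -/
theorem isNilpotent_ad_of_isPNilpotent (φ : PMap k p L) (x : L) (h : IsPNilpotent φ x) :
    IsNilpotent (LieAlgebra.ad k L x) := by
  obtain ⟨n, hn⟩ := h
  exact ⟨p ^ n, by rw [← ad_iterate, hn, map_zero]⟩

/-- `(ad x)^(n+1) y = ⁅x, (ad x)^n y⁆`. -/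
theorem ad_pow_succ_apply (x y : L) (n : ℕ) :
    (LieAlgebra.ad k L x ^ (n + 1)) y = ⁅x, (LieAlgebra.ad k L x ^ n) y⁆ := by
  rw [pow_succ', Module.End.mul_apply, LieAlgebra.ad_apply]

/-- Kernel of a surjection onto a centreless Lie algebra is stable under the `p`-map. -/
theorem map_pMap_eq_zero [Fact p.Prime] {L' : Type w} [LieRing L'] [LieAlgebra k L']
    (φ : PMap k p L) (f : L →ₗ⁅k⁆ L') (hf : Function.Surjective f)
    (hz : LieAlgebra.center k L' = ⊥) (x : L) (hx : f x = 0) :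
    f (φ x) = 0 := by
  have hp : p = (p - 1) + 1 := (Nat.succ_pred_eq_of_pos (Fact.out : p.Prime).pos).symm
  have hmem : f (φ x) ∈ LieAlgebra.center k L' := by
    rw [LieAlgebra.center, LieModule.mem_maxTrivSubmodule]
    intro y'
    obtain ⟨y, rfl⟩ := hf y'
    have h1 : ⁅φ x, y⁆ = (LieAlgebra.ad k L x ^ p) y := by
      rw [← φ.ad_map x, LieAlgebra.ad_apply]
    rw [← lie_skew, ← LieHom.map_lie, h1, hp, ad_pow_succ_apply, LieHom.map_lie, hx, zero_lie,
      neg_zero]
  rw [hz] at hmem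
  exact (LieSubmodule.mem_bot _).mp hmem

/-- An ideal all of whose elements are ad-nilpotent (on `L`) is nilpotent (Engel). -/
theorem isNilpotent_of_forall_isNilpotent_ad [Module.Finite k L] (I : LieIdeal k L)
    (h : ∀ x ∈ I, IsNilpotent (LieAlgebra.ad k L x)) : LieRing.IsNilpotent I := by
  rw [LieAlgebra.isNilpotent_iff_forall (R := k)]
  intro x
  exact LieSubalgebra.isNilpotent_ad_of_isNilpotent_ad (I : LieSubalgebra k L) (x := x) (h x x.2)


/-- If `⁅J, J⁆ ≤ I` with `I` solvable then `J` is solvable. -/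
theorem isSolvable_of_lie_le {I J : LieIdeal k L} [hI : LieAlgebra.IsSolvable I] (h : ⁅J, J⁆ ≤ I) :
    LieAlgebra.IsSolvable J := by
  obtain ⟨n, hn⟩ := LieAlgebra.IsSolvable.solvable k I
  rw [LieIdeal.derivedSeries_eq_bot_iff] at hn
  apply LieAlgebra.IsSolvable.mk (R := k) (k := n + 1)
  rw [LieIdeal.derivedSeries_eq_bot_iff, LieAlgebra.derivedSeriesOfIdeal_add, eq_bot_iff, ← hn]
  apply LieAlgebra.derivedSeriesOfIdeal_mono
  rw [LieAlgebra.derivedSeriesOfIdeal_succ, LieAlgebra.derivedSeriesOfIdeal_zero]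
  exact h

/-- The ideal of elements `y` with `⁅L, y⁆ ⊆ I`. -/
def colonIdeal (I : LieIdeal k L) : LieIdeal k L where
  carrier := {y | ∀ z : L, ⁅z, y⁆ ∈ I}
  add_mem' := by
    intro a b ha hb z
    rw [lie_add]
    exact add_mem (ha z) (hb z)
  zero_mem' := by
    intro z
    rw [lie_zero]
    exact zero_mem _
  smul_mem' := by
    intro c a ha z
    rw [lie_smul]
    exact I.smul_mem c (ha z)
  lie_mem := by
    intro w y hy z
    exact I.lie_mem (hy w)

theorem mem_colonIdeal (I : LieIdeal k L) (y : L) : y ∈ colonIdeal I ↔ ∀ z : L, ⁅z, y⁆ ∈ I :=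
  Iff.rfl

theorem colonIdeal_lie_le (I : LieIdeal k L) : ⁅colonIdeal I, colonIdeal I⁆ ≤ I := by
  rw [LieSubmodule.lie_le_iff]
  intro x _ y hy
  exact hy x

/-- The radical is stable under the `p`-map. -/
theorem pMap_mem_radical [Fact p.Prime] [Module.Finite k L] (φ : PMap k p L) (x : L)
    (hx : x ∈ LieAlgebra.radical k L) : φ x ∈ LieAlgebra.radical k L := by
  have hp : p = (p - 1) + 1 := (Nat.succ_pred_eq_of_pos (Fact.out : p.Prime).pos).symm
  have hsolv : LieAlgebra.IsSolvable (colonIdeal (LieAlgebra.radical k L)) :=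
    isSolvable_of_lie_le (colonIdeal_lie_le _)
  have hle : colonIdeal (LieAlgebra.radical k L) ≤ LieAlgebra.radical k L :=
    (LieAlgebra.LieIdeal.solvable_iff_le_radical k L _).mp hsolv
  apply hle
  intro z
  have h1 : ⁅φ x, z⁆ = (LieAlgebra.ad k L x ^ p) z := by
    rw [← φ.ad_map x, LieAlgebra.ad_apply]
  rw [← lie_skew, h1, hp, ad_pow_succ_apply, neg_mem_iff, ← lie_skew, neg_mem_iff]
  exact (LieAlgebra.radical k L).lie_mem hx


/-- Elements of a nilpotent (as a Lie ring) ideal are ad-nilpotent on `L`. -/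
theorem isNilpotent_ad_of_mem_of_isNilpotent (N : LieIdeal k L) (hN : LieRing.IsNilpotent N)
    (y : L) (hy : y ∈ N) : IsNilpotent (LieAlgebra.ad k L y) := by
  obtain ⟨m, hm⟩ := LieAlgebra.nilpotent_ad_of_nilpotent_algebra k N
  refine ⟨m + 1, ?_⟩
  ext z
  have hcomm := (N : LieSubalgebra k L).ad_comp_incl_eq ⟨y, hy⟩
  have hpow := Module.End.commute_pow_left_of_commute hcomm m
  rw [pow_succ, Module.End.mul_apply, LieAlgebra.ad_apply, LinearMap.zero_apply]
  have hz : ⁅y, z⁆ ∈ (N : LieSubalgebra k L) := by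
    rw [← lie_skew, neg_mem_iff]
    exact N.lie_mem hy
  have hm' : (LieAlgebra.ad k ↥(LieIdeal.toLieSubalgebra k L N)) ⟨y, hy⟩ ^ m = 0 := hm ⟨y, hy⟩
  have := congrArg (fun f => f ⟨⁅y, z⁆, hz⟩) hpow
  simp only [LinearMap.comp_apply] at this
  rw [hm'] at this
  simpa using this

/-- A nilpotent ideal acts nilpotently on `L`: some term of its lower central series on `L`
vanishes. -/
theorem exists_lcs_eq_bot [Module.Finite k L] (N : LieIdeal k L) (hN : LieRing.IsNilpotent N) :
    ∃ m, N.lcs L m = ⊥ := by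
  have h1 : LieModule.IsNilpotent N L := by
    rw [LieModule.isNilpotent_iff_forall' (R := k)]
    intro x
    exact isNilpotent_ad_of_mem_of_isNilpotent N hN x x.2
  obtain ⟨m, hm⟩ := LieModule.IsNilpotent.nilpotent k N L
  refine ⟨m, ?_⟩
  rw [← LieSubmodule.toSubmodule_inj, LieIdeal.coe_lcs_eq, hm]
  rfl

theorem lcs_succ_le (N : LieIdeal k L) (i : ℕ) : N.lcs L (i + 1) ≤ N.lcs L i := by
  rw [LieIdeal.lcs_succ]
  exact LieSubmodule.lie_le_right _ _

theorem lcs_antitone (N : LieIdeal k L) {i j : ℕ} (h : i ≤ j) : N.lcs L j ≤ N.lcs L i := by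
  induction h with
  | refl => exact le_rfl
  | step _ ih => exact (lcs_succ_le N _).trans ih

/-- The ideal of elements shifting the filtration `N.lcs L`. -/
def filtIdeal (N : LieIdeal k L) : LieIdeal k L where
  carrier := {y | ∀ i : ℕ, ∀ z ∈ N.lcs L i, ⁅y, z⁆ ∈ N.lcs L (i + 1)}
  add_mem' := by
    intro a b ha hb i z hz
    rw [add_lie]
    exact add_mem (ha i z hz) (hb i z hz)
  zero_mem' := by
    intro i z _
    rw [zero_lie]
    exact zero_mem _
  smul_mem' := by
    intro c a ha i z hz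
    rw [smul_lie]
    exact (N.lcs L (i + 1)).smul_mem c (ha i z hz)
  lie_mem := by
    intro w y hy i z hz
    rw [lie_lie]
    refine sub_mem ?_ ?_
    · exact (N.lcs L (i + 1)).lie_mem (hy i z hz)
    · exact hy i _ ((N.lcs L i).lie_mem hz)

theorem mem_filtIdeal (N : LieIdeal k L) (y : L) :
    y ∈ filtIdeal N ↔ ∀ i : ℕ, ∀ z ∈ N.lcs L i, ⁅y, z⁆ ∈ N.lcs L (i + 1) := Iff.rfl

theorem le_filtIdeal (N : LieIdeal k L) : N ≤ filtIdeal N := by
  intro y hy i z hz
  rw [LieIdeal.lcs_succ]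
  exact LieSubmodule.lie_mem_lie hy hz

theorem ad_pow_mem_lcs (N : LieIdeal k L) (y : L) (hy : y ∈ filtIdeal N) (i j : ℕ) (z : L)
    (hz : z ∈ N.lcs L i) : (LieAlgebra.ad k L y ^ j) z ∈ N.lcs L (i + j) := by
  induction j with
  | zero => simpa using hz
  | succ j ih =>
    rw [ad_pow_succ_apply, ← add_assoc]
    exact hy _ _ ih

theorem filtIdeal_isNilpotent [Module.Finite k L] (N : LieIdeal k L) (hN : LieRing.IsNilpotent N) :
    LieRing.IsNilpotent (filtIdeal N) := by
  obtain ⟨m, hm⟩ := exists_lcs_eq_bot N hN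
  apply isNilpotent_of_forall_isNilpotent_ad
  intro y hy
  refine ⟨m, ?_⟩
  ext z
  have := ad_pow_mem_lcs N y hy 0 m z (by simp)
  rw [zero_add, hm] at this
  simpa using this

/-- The nilradical (given by its characterising property) is stable under the `p`-map. -/
theorem pMap_mem_nilradical [Fact p.Prime] [Module.Finite k L] (φ : PMap k p L)
    (N : LieIdeal k L) (hN : LieRing.IsNilpotent N)
    (hmax : ∀ I : LieIdeal k L, LieRing.IsNilpotent I → I ≤ N)
    (x : L) (hx : x ∈ N) : φ x ∈ N := by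
  have hp : 1 ≤ p := (Fact.out : p.Prime).one_le
  apply hmax _ (filtIdeal_isNilpotent N hN)
  intro i z hz
  have h1 : ⁅φ x, z⁆ = (LieAlgebra.ad k L x ^ p) z := by
    rw [← φ.ad_map x, LieAlgebra.ad_apply]
  rw [h1]
  exact lcs_antitone N (by omega) (ad_pow_mem_lcs N x (le_filtIdeal N hx) i p z hz)


theorem mem_center_iff_ad_eq_zero (y : L) : y ∈ LieAlgebra.center k L ↔ LieAlgebra.ad k L y = 0 := by
  rw [LieAlgebra.center, LieModule.mem_maxTrivSubmodule]
  constructor
  · intro h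
    ext z
    rw [LieAlgebra.ad_apply, ← lie_skew, h z, neg_zero, LinearMap.zero_apply]
  · intro h z
    rw [← lie_skew, ← LieAlgebra.ad_apply (R := k), h, LinearMap.zero_apply, neg_zero]

theorem center_isNilpotent [Module.Finite k L] : LieRing.IsNilpotent (LieAlgebra.center k L) := by
  apply isNilpotent_of_forall_isNilpotent_ad
  intro x hx
  rw [(mem_center_iff_ad_eq_zero x).mp hx]
  exact IsNilpotent.zero

/-- An ideal all of whose elements are `p`-nilpotent is nilpotent. -/
theorem isNilpotent_of_forall_isPNilpotent [Module.Finite k L] (φ : PMap k p L) (I : LieIdeal k L)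
    (hnil : ∀ x ∈ I, IsPNilpotent φ x) : LieRing.IsNilpotent I :=
  isNilpotent_of_forall_isNilpotent_ad I fun x hx => isNilpotent_ad_of_isPNilpotent φ x (hnil x hx)

theorem nilradical_eq_pRadical_iff [Fact p.Prime] [Module.Finite k L] (φ : PMap k p L)
    (N : LieIdeal k L) (hN : LieRing.IsNilpotent N)
    (hNmax : ∀ I : LieIdeal k L, LieRing.IsNilpotent I → I ≤ N)
    (P : LieIdeal k L) (hPnil : ∀ x ∈ P, IsPNilpotent φ x)
    (hPmax : ∀ J : LieIdeal k L, (∀ x ∈ J, φ x ∈ J) → (∀ x ∈ J, IsPNilpotent φ x) → J ≤ P) :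
    N = P ↔ LieAlgebra.center k L ≤ P := by
  constructor
  · intro h
    rw [← h]
    exact hNmax _ center_isNilpotent
  · intro hc
    apply le_antisymm
    · apply hPmax N (fun x hx => pMap_mem_nilradical φ N hN hNmax x hx)
      intro x hx
      obtain ⟨m, hm⟩ := isNilpotent_ad_of_mem_of_isNilpotent N hN x hx
      have hpm : m ≤ p ^ m := (Nat.lt_pow_self (Fact.out : p.Prime).one_lt).le
      have h0 : LieAlgebra.ad k L (φ.toFun^[m] x) = 0 := by
        rw [ad_iterate, ← Nat.sub_add_cancel hpm, pow_add, hm, mul_zero]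
      obtain ⟨n, hn⟩ := hPnil _ (hc ((mem_center_iff_ad_eq_zero _).mpr h0))
      exact ⟨n + m, by rw [Function.iterate_add_apply, hn]⟩
    · exact hNmax P (isNilpotent_of_forall_isPNilpotent φ P hPnil)

end Groth.Agent.Lib.Helper7.PLieLib
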