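import Mathlib

/-!
# Auxiliary lemmas for gluing extensions of rational sections
-/

set_option autoImplicit false
set_option maxHeartbeats 400000
universe u

namespace Groth.Agent.Lib.Helper7.RatSection

open AlgebraicGeometry CategoryTheory CategoryTheory.Limits TopologicalSpace

/-- The irreducible components of a locally Noetherian scheme form a locally finite family. -/
theorem locallyFinite_irreducibleComponents (X : Scheme.{u}) [IsLocallyNoetherian X] :
    LocallyFinite (fun Z : ↥(irreducibleComponents ↥X) => (Z : Set ↥X)) := by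
  intro x
  obtain ⟨_, ⟨W, hW, rfl⟩, hxW, -⟩ := X.isBasis_affineOpens.exists_subset_of_mem_open
    (Set.mem_univ x) isOpen_univ
  haveI : IsNoetherianRing Γ(X, W) := IsLocallyNoetherian.component_noetherian ⟨W, hW⟩
  haveI : NoetherianSpace ↥W := noetherianSpace_of_isAffineOpen W hW
  refine ⟨W, W.isOpen.mem_nhds hxW, ?_⟩
  have hfin : (irreducibleComponents ↥W).Finite := NoetherianSpace.finite_irreducibleComponents
  have hemb : Topology.IsOpenEmbedding (Subtype.val : ↥W → X) := W.isOpen.isOpenEmbedding_subtypeVal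
  let φ : {Z : ↥(irreducibleComponents ↥X) | ((Z : Set X) ∩ W).Nonempty} → Set ↥W :=
    fun Z => Subtype.val ⁻¹' (Z.1 : Set X)
  have hφ : ∀ Z, φ Z ∈ irreducibleComponents ↥W := by
    intro Z
    refine preimage_mem_irreducibleComponents Z.1.2 hemb ?_
    rw [Subtype.range_coe]
    exact Z.2
  have hinj : Function.Injective φ := by
    intro Z Z' h
    have key : ∀ Z : {Z : ↥(irreducibleComponents ↥X) | ((Z : Set X) ∩ W).Nonempty},
        (Z.1 : Set X) = closure ((Z.1 : Set X) ∩ W) := by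
      intro Z
      apply le_antisymm
      · exact subset_closure_inter_of_isPreirreducible_of_isOpen Z.1.2.1.isPreirreducible
          W.isOpen Z.2
      · exact (isClosed_of_mem_irreducibleComponents _ Z.1.2).closure_subset_iff.mpr
          Set.inter_subset_left
    have h2 : (Z.1 : Set X) ∩ W = (Z'.1 : Set X) ∩ W := by
      ext w
      constructor
      · rintro ⟨hwZ, hwW⟩
        have : (⟨w, hwW⟩ : ↥W) ∈ φ Z := hwZ
        rw [h] at this
        exact ⟨this, hwW⟩
      · rintro ⟨hwZ, hwW⟩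
        have : (⟨w, hwW⟩ : ↥W) ∈ φ Z' := hwZ
        rw [← h] at this
        exact ⟨this, hwW⟩
    apply Subtype.ext
    apply Subtype.ext
    rw [key Z, key Z', h2]
  have : Finite {Z : ↥(irreducibleComponents ↥X) | ((Z : Set X) ∩ W).Nonempty} := by
    haveI : Finite ↥(irreducibleComponents ↥W) := hfin.to_subtype
    exact Finite.of_injective (fun Z => (⟨φ Z, hφ Z⟩ : ↥(irreducibleComponents ↥W)))
      (fun Z Z' h => hinj (congrArg Subtype.val h))
  exact Set.toFinite _

/-- If specializations lift along `f`, images of irreducible closed sets are closed. -/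
theorem isClosed_image_of_specializingMap {Z S : Scheme.{u}} (f : Z ⟶ S)
    (hf : SpecializingMap f) (T : Set Z) (hT : IsClosed T) (hTi : IsIrreducible T) :
    IsClosed (f '' T) := by
  obtain ⟨ξ, hξ⟩ := QuasiSober.sober hTi hT
  have hTeq : T = closure {ξ} := hξ.symm
  have : f '' T = closure {f ξ} := by
    apply le_antisymm
    · rw [hTeq]
      exact (image_closure_subset_closure_image f.continuous).trans (by rw [Set.image_singleton])
    · intro y hy
      have hspec : f ξ ⤳ y := specializes_iff_mem_closure.mpr hy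
      obtain ⟨x', hx', rfl⟩ := hf hspec
      refine ⟨x', ?_, rfl⟩
      rw [hTeq]
      exact specializes_iff_mem_closure.mp hx'
  rw [this]
  exact isClosed_closure

section Glue

variable {Z S : Scheme.{u}} (f : Z ⟶ S) (U : S.Opens) (v : (U : Scheme.{u}) ⟶ Z)

/-- Two lifts of an open immersion `j : P → S` through a separated `f` which agree over the dense
open `U` are equal. -/
theorem eq_of_agree [IsReduced S] [IsSeparated f] (hU : Dense (U : Set S))
    {P : Scheme.{u}} (j : P ⟶ S) [IsOpenImmersion j] (a b : P ⟶ Z) (ha : a ≫ f = j)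
    (hb : b ≫ f = j) (hab : (j ⁻¹ᵁ U).ι ≫ a = (j ⁻¹ᵁ U).ι ≫ b) : a = b := by
  haveI : IsReduced P := isReduced_of_isOpenImmersion j
  have hdense : Dense ((j ⁻¹ᵁ U : P.Opens) : Set P) := hU.preimage j.isOpenEmbedding.isOpenMap
  haveI : IsDominant (j ⁻¹ᵁ U).ι := Opens.isDominant_ι hdense
  exact ext_of_isDominant_of_isSeparated f (ha.trans hb.symm) (j ⁻¹ᵁ U).ι hab

/-- If `w` agrees with `v` on `U ⊓ V`, then for every `jV : P → V` the composite `jV ≫ w`
restricted to the preimage of `U` factors through `v`. -/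
theorem agree_lift (V : S.Opens) (w : (V : Scheme.{u}) ⟶ Z)
    (hagree : S.homOfLE (inf_le_left : U ⊓ V ≤ U) ≫ v = S.homOfLE (inf_le_right : U ⊓ V ≤ V) ≫ w)
    {P : Scheme.{u}} (jV : P ⟶ V) (O : P.Opens) (hO : O ≤ (jV ≫ V.ι) ⁻¹ᵁ U)
    (q : (O : Scheme.{u}) ⟶ U) (hq : q ≫ U.ι = O.ι ≫ jV ≫ V.ι) :
    O.ι ≫ jV ≫ w = q ≫ v := by
  have hrange : Set.range (O.ι ≫ jV ≫ V.ι) ⊆ Set.range (U ⊓ V).ι := by
    rintro _ ⟨o, rfl⟩
    rw [Scheme.Opens.range_ι]
    refine ⟨hO o.2, ?_⟩
    rw [Scheme.Hom.comp_apply, Scheme.Hom.comp_apply]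
    exact (jV (O.ι o)).2
  let m : (O : Scheme.{u}) ⟶ (U ⊓ V : S.Opens) :=
    IsOpenImmersion.lift (U ⊓ V).ι (O.ι ≫ jV ≫ V.ι) hrange
  have hm : m ≫ (U ⊓ V).ι = O.ι ≫ jV ≫ V.ι := IsOpenImmersion.lift_fac _ _ _
  have hmV : m ≫ S.homOfLE (inf_le_right : U ⊓ V ≤ V) = O.ι ≫ jV := by
    rw [← cancel_mono V.ι, Category.assoc, Scheme.homOfLE_ι, hm, Category.assoc]
  have hmU : m ≫ S.homOfLE (inf_le_left : U ⊓ V ≤ U) = q := by
    rw [← cancel_mono U.ι, Category.assoc, Scheme.homOfLE_ι, hm, hq]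
  calc O.ι ≫ jV ≫ w = (m ≫ S.homOfLE (inf_le_right : U ⊓ V ≤ V)) ≫ w := by
        rw [hmV, Category.assoc]
    _ = m ≫ S.homOfLE (inf_le_left : U ⊓ V ≤ U) ≫ v := by rw [Category.assoc, hagree]
    _ = q ≫ v := by rw [← Category.assoc, hmU]

/-- Variant of `agree_lift` without restricting to an open. -/
theorem agree_lift' (V : S.Opens) (w : (V : Scheme.{u}) ⟶ Z)
    (hagree : S.homOfLE (inf_le_left : U ⊓ V ≤ U) ≫ v = S.homOfLE (inf_le_right : U ⊓ V ≤ V) ≫ w)
    {P : Scheme.{u}} (jV : P ⟶ V) (q : P ⟶ U) (hq : q ≫ U.ι = jV ≫ V.ι) :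
    jV ≫ w = q ≫ v := by
  have hrange : Set.range (jV ≫ V.ι) ⊆ Set.range (U ⊓ V).ι := by
    rintro _ ⟨o, rfl⟩
    rw [Scheme.Opens.range_ι]
    refine ⟨?_, ?_⟩
    · rw [← hq, Scheme.Hom.comp_apply]
      exact (q o).2
    · rw [Scheme.Hom.comp_apply]
      exact (jV o).2
  let m : P ⟶ (U ⊓ V : S.Opens) := IsOpenImmersion.lift (U ⊓ V).ι (jV ≫ V.ι) hrange
  have hm : m ≫ (U ⊓ V).ι = jV ≫ V.ι := IsOpenImmersion.lift_fac _ _ _
  have hmV : m ≫ S.homOfLE (inf_le_right : U ⊓ V ≤ V) = jV := by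
    rw [← cancel_mono V.ι, Category.assoc, Scheme.homOfLE_ι, hm]
  have hmU : m ≫ S.homOfLE (inf_le_left : U ⊓ V ≤ U) = q := by
    rw [← cancel_mono U.ι, Category.assoc, Scheme.homOfLE_ι, hm, hq]
  calc jV ≫ w = (m ≫ S.homOfLE (inf_le_right : U ⊓ V ≤ V)) ≫ w := by rw [hmV]
    _ = m ≫ S.homOfLE (inf_le_left : U ⊓ V ≤ U) ≫ v := by rw [Category.assoc, hagree]
    _ = q ≫ v := by rw [← Category.assoc, hmU]

end Glue

end Groth.Agent.Lib.Helper7.RatSection
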