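import Groth.Agent.Lib.Helper7.SepEtOpen
import Groth.Agent.Lib.Helper7.GUSchIrr
import Groth.Agent.S9812

/-!
# Normal local domains with separably closed fraction field are strictly henselian (helper7)
-/

set_option autoImplicit false
set_option maxHeartbeats 400000
universe u

namespace Groth.Agent.Lib.Helper7.SHNormal

open AlgebraicGeometry CategoryTheory CategoryTheory.Limits TopologicalSpace Polynomial

variable (A : Type u) [CommRing A] [IsDomain A] [IsLocalRing A] [IsIntegrallyClosed A]

section Section

variable [hK : IsSepClosed (FractionRing A)]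

theorem isSepClosed_functionField :
    IsSepClosed (Spec (CommRingCat.of A)).functionField := by
  haveI hdom : IsDomain (CommRingCat.of A) := ‹IsDomain A›
  letI alg : Algebra A (Spec (CommRingCat.of A)).functionField :=
    AlgebraicGeometry.instAlgebraCarrierFunctionFieldSpec (CommRingCat.of A)
  haveI : IsFractionRing A (Spec (CommRingCat.of A)).functionField :=
    functionField_isFractionRing_of_affine (CommRingCat.of A)
  exact SepEtOpen.isSepClosed_of_ringEquiv
    (FractionRing.algEquiv A (Spec (CommRingCat.of A)).functionField).toRingEquiv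

omit [IsLocalRing A] hK in
theorem isIntegrallyClosed_stalk (x : Spec (CommRingCat.of A)) :
    IsIntegrallyClosed ((Spec (CommRingCat.of A)).presheaf.stalk x) := by
  letI : Algebra A ((Spec (CommRingCat.of A)).presheaf.stalk x) :=
    StructureSheaf.stalkAlgebra (R := A) x
  haveI : IsLocalization.AtPrime ((Spec (CommRingCat.of A)).presheaf.stalk x) x.asIdeal :=
    StructureSheaf.IsLocalization.to_stalk A x
  exact isIntegrallyClosed_of_isLocalization (R := A) _ x.asIdeal.primeCompl
    x.asIdeal.primeCompl_le_nonZeroDivisors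

variable (B : Type u) [CommRing B] [Algebra A B] [Algebra.Etale A B] (q : Ideal B) [q.IsPrime]

/-- Every étale algebra over a normal local domain with separably closed fraction field has a
section through any given point over the closed point. -/
theorem exists_section (hq : q.comap (algebraMap A B) = IsLocalRing.maximalIdeal A) :
    ∃ σ : B →ₐ[A] A, (IsLocalRing.maximalIdeal A).comap σ.toRingHom = q := by
  haveI := isSepClosed_functionField A
  set X₀ := Spec (CommRingCat.of A) with hX₀
  set φ : CommRingCat.of A ⟶ CommRingCat.of B := CommRingCat.ofHom (algebraMap A B) with hφ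
  set g : Spec (CommRingCat.of B) ⟶ X₀ := Spec.map φ with hg
  haveI : Etale g := by
    rw [hg, HasRingHomProperty.Spec_iff (P := @Etale)]
    change (algebraMap A B).Etale
    rw [RingHom.etale_algebraMap]
    infer_instance
  haveI : IsSeparated g := inferInstance
  have hY : ∀ x : X₀, CAlg2.IsGeomUnibranch (X₀.presheaf.stalk x) := fun x => by
    haveI := isIntegrallyClosed_stalk A x
    exact Groth.Agent.S9812.result (X₀.presheaf.stalk x)
  obtain ⟨hex, hcomp⟩ := GUSch.components_of_etale g hY
  let qpt : Spec (CommRingCat.of B) := ⟨q, inferInstance⟩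
  have hgq : g qpt = IsLocalRing.closedPoint A := by
    apply PrimeSpectrum.ext
    exact hq
  obtain ⟨Z, ⟨hZ, hqZ⟩, -⟩ := hex qpt
  obtain ⟨hZopen, ξ, ⟨hξZ, hξη⟩, huniq⟩ := hcomp Z hZ
  let Zo : (Spec (CommRingCat.of B)).Opens := ⟨Z, hZopen⟩
  set h : (Zo : Scheme.{u}) ⟶ X₀ := Zo.ι ≫ g with hh
  haveI : IsOpenImmersion h := by
    refine SepEtOpen.isOpenImmersion_of_unique_generic h ⟨ξ, hξZ⟩ hξη ?_
    intro z hz
    exact Subtype.ext (huniq z.1 ⟨z.2, hz⟩)
  have hhq : h ⟨qpt, hqZ⟩ = IsLocalRing.closedPoint A := hgq
  haveI : IsIso h := by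
    apply isIso_of_isOpenImmersion_of_opensRange_eq_top
    rw [eq_top_iff]
    intro x _
    have hsp : x ⤳ IsLocalRing.closedPoint A := IsLocalRing.specializes_closedPoint x
    exact hsp.mem_open h.opensRange.isOpen ⟨⟨qpt, hqZ⟩, hhq⟩
  set s : X₀ ⟶ Spec (CommRingCat.of B) := inv h ≫ Zo.ι with hs
  have hsg : s ≫ g = 𝟙 X₀ := by
    rw [hs, Category.assoc, ← hh, IsIso.inv_hom_id]
  have hsq : s (IsLocalRing.closedPoint A) = qpt := by
    have h1 : (inv h) (IsLocalRing.closedPoint A) = ⟨qpt, hqZ⟩ := by
      rw [← hhq, ← Scheme.Hom.comp_apply, IsIso.hom_inv_id]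
      rfl
    rw [hs, Scheme.Hom.comp_apply, h1]
    rfl
  set σ' : CommRingCat.of B ⟶ CommRingCat.of A := Spec.preimage s with hσ'
  have hσs : Spec.map σ' = s := Spec.map_preimage s
  have hcomp' : φ ≫ σ' = 𝟙 _ := by
    apply Spec.map_injective
    rw [Spec.map_comp, hσs, ← hg, hsg, Spec.map_id]
  let σ : B →ₐ[A] A :=
    { σ'.hom with
      commutes' := fun a => by
        have := congr($(hcomp').hom a)
        exact this }
  refine ⟨σ, ?_⟩
  have := congrArg PrimeSpectrum.asIdeal hsq
  rw [← hσs] at this
  exact this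

end Section

section Main

variable [hK : IsSepClosed (FractionRing A)]

/-- The standard étale pair `(f, f')`. -/
noncomputable def pair (f : A[X]) (hf : f.Monic) : StandardEtalePair A where
  f := f
  monic_f := hf
  g := derivative f
  cond := ⟨1, 0, 1, by simp⟩

theorem henselian : HenselianLocalRing A := by
  apply ((HenselianLocalRing.TFAE A).out 0 1).mpr
  intro f hf a₀ h₁ h₂
  set P := pair A f hf with hP
  have hmap : P.HasMap a₀ := by
    refine ⟨h₁, ?_⟩
    exact isUnit_iff_ne_zero.mpr h₂
  let φ₀ : P.Ring →ₐ[A] IsLocalRing.ResidueField A := P.lift a₀ hmap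
  set q := RingHom.ker φ₀.toRingHom with hq
  haveI : q.IsPrime := RingHom.ker_isPrime _
  have hqm : q.comap (algebraMap A P.Ring) = IsLocalRing.maximalIdeal A := by
    rw [hq, RingHom.comap_ker]
    have : φ₀.toRingHom.comp (algebraMap A P.Ring) = IsLocalRing.residue A := by
      ext a
      exact φ₀.commutes a
    rw [this, IsLocalRing.ker_residue]
  obtain ⟨σ, hσ⟩ := exists_section A P.Ring q hqm
  refine ⟨σ P.X, ?_, ?_⟩
  · have h3 : aeval (σ P.X) f = σ (aeval P.X f) := (Polynomial.aeval_algHom_apply σ P.X f)
    have h4 : aeval P.X f = 0 := P.hasMap_X.1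
    rw [IsRoot.def, ← Polynomial.coe_aeval_eq_eval, h3, h4, map_zero]
  · -- `σ X` and `a₀` agree in the residue field
    obtain ⟨a, rfl⟩ := IsLocalRing.residue_surjective a₀
    have hmem : P.X - algebraMap A P.Ring a ∈ q := by
      rw [hq, RingHom.mem_ker]
      change φ₀ (P.X - algebraMap A P.Ring a) = 0
      rw [map_sub, P.lift_X, φ₀.commutes]
      exact sub_self _
    rw [← hσ, Ideal.mem_comap] at hmem
    have h5 : σ.toRingHom (P.X - algebraMap A P.Ring a) = σ P.X - a := by
      change σ (P.X - algebraMap A P.Ring a) = _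
      rw [map_sub, σ.commutes]
      rfl
    rw [h5] at hmem
    have := (IsLocalRing.residue_eq_zero_iff _).mpr hmem
    rwa [map_sub, sub_eq_zero] at this

theorem isSepClosed_residueField : IsSepClosed (IsLocalRing.ResidueField A) := by
  apply IsSepClosed.of_exists_root
  intro p hpm hpi hps
  obtain ⟨f, hfp, -, hf⟩ := Polynomial.lifts_and_degree_eq_and_monic
    ((Polynomial.mem_lifts p).mpr (Polynomial.map_surjective _ IsLocalRing.residue_surjective p)) hpm
  set P := pair A f hf with hP
  haveI : Fact (Irreducible p) := ⟨hpi⟩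
  let L := AdjoinRoot p
  haveI : IsScalarTower A (IsLocalRing.ResidueField A) L := inferInstance
  have hroot : aeval (AdjoinRoot.root p) f = 0 := by
    have : aeval (AdjoinRoot.root p) f =
        aeval (AdjoinRoot.root p) (f.map (algebraMap A (IsLocalRing.ResidueField A))) := by
      rw [Polynomial.aeval_map_algebraMap]
    rw [this]
    change aeval (AdjoinRoot.root p) (f.map (IsLocalRing.residue A)) = 0
    rw [hfp, AdjoinRoot.aeval_eq, AdjoinRoot.mk_self]
  have hder : IsUnit (aeval (AdjoinRoot.root p) (derivative f)) := by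
    have h1 : aeval (AdjoinRoot.root p) (derivative f) =
        aeval (AdjoinRoot.root p) (derivative p) := by
      have e1 : derivative p = (derivative f).map (algebraMap A (IsLocalRing.ResidueField A)) := by
        rw [← Polynomial.derivative_map]
        exact congrArg _ hfp.symm
      rw [e1, Polynomial.aeval_map_algebraMap]
    rw [h1, isUnit_iff_ne_zero]
    intro h0
    obtain ⟨a, b, hab⟩ := hps
    have := congrArg (aeval (AdjoinRoot.root p)) hab
    rw [map_add, map_mul, map_mul, h0, mul_zero, add_zero, AdjoinRoot.aeval_eq p,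
      AdjoinRoot.mk_self, mul_zero, map_one] at this
    exact zero_ne_one this
  have hmap : P.HasMap (AdjoinRoot.root p) := ⟨hroot, hder⟩
  let φ₀ : P.Ring →ₐ[A] L := P.lift _ hmap
  set q := RingHom.ker φ₀.toRingHom with hq
  haveI : q.IsPrime := RingHom.ker_isPrime _
  have hqm : q.comap (algebraMap A P.Ring) = IsLocalRing.maximalIdeal A := by
    rw [hq, RingHom.comap_ker]
    have : φ₀.toRingHom.comp (algebraMap A P.Ring) = algebraMap A L := by
      ext a
      exact φ₀.commutes a
    rw [this]
    ext a
    rw [RingHom.mem_ker, IsScalarTower.algebraMap_apply A (IsLocalRing.ResidueField A) L,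
      map_eq_zero_iff _ (algebraMap (IsLocalRing.ResidueField A) L).injective]
    exact IsLocalRing.residue_eq_zero_iff a
  obtain ⟨σ, -⟩ := exists_section A P.Ring q hqm
  refine ⟨IsLocalRing.residue A (σ P.X), ?_⟩
  have h3 : aeval (σ P.X) f = σ (aeval P.X f) := (Polynomial.aeval_algHom_apply σ P.X f)
  have h4 : aeval P.X f = 0 := P.hasMap_X.1
  have h5 : Polynomial.eval (σ P.X) f = 0 := by
    rw [← Polynomial.coe_aeval_eq_eval, h3, h4, map_zero]
  rw [← hfp, Polynomial.eval_map, Polynomial.eval₂_at_apply, h5, map_zero]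

end Main

end Groth.Agent.Lib.Helper7.SHNormal
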