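/-
helper7: connected components of fibres through a section and base change
(for S1324, `MoreMor.sectionComponents`).
-/
import Groth.Agent.S4621
import Mathlib.AlgebraicGeometry.Fiber

set_option autoImplicit false
universe u

namespace Groth.Agent.Lib.Helper7.SectionComp

open AlgebraicGeometry CategoryTheory Limits

/-- Connected components inside the range of an embedding. -/
theorem connectedComponentIn_eq_image_of_isEmbedding {F X : Type*} [TopologicalSpace F]
    [TopologicalSpace X] {ι : F → X} (hι : Topology.IsEmbedding ι) (T : Set X)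
    (hT : Set.range ι = T) (σ : F) :
    connectedComponentIn T (ι σ) = ι '' connectedComponent σ := by
  have hσ : ι σ ∈ T := hT ▸ ⟨σ, rfl⟩
  apply Set.Subset.antisymm
  · have hD : connectedComponentIn T (ι σ) ⊆ Set.range ι :=
      hT ▸ connectedComponentIn_subset T (ι σ)
    have hDpre : IsPreconnected (ι ⁻¹' connectedComponentIn T (ι σ)) := by
      rw [← hι.isInducing.isPreconnected_image, Set.image_preimage_eq_of_subset hD]
      exact isPreconnected_connectedComponentIn
    have hmem : σ ∈ ι ⁻¹' connectedComponentIn T (ι σ) := mem_connectedComponentIn hσ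
    have hsub := hDpre.subset_connectedComponent hmem
    intro x hx
    obtain ⟨z, rfl⟩ := hD hx
    exact ⟨z, hsub hx, rfl⟩
  · apply IsPreconnected.subset_connectedComponentIn
    · exact isPreconnected_connectedComponent.image _ hι.continuous.continuousOn
    · exact ⟨σ, mem_connectedComponent, rfl⟩
    · rw [← hT]; exact Set.image_subset_range _ _

instance geometricallyConnected_id_Spec (k : Type u) [Field k] :
    GeometricallyConnected (𝟙 (Spec (CommRingCat.of k))) := by
  constructor
  intro K _ y Z fst snd h
  haveI : IsIso snd := by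
    have := h.flip
    exact MorphismProperty.of_isPullback (P := MorphismProperty.isomorphisms Scheme) h
      (by simp [MorphismProperty.isomorphisms.iff]; infer_instance)
  exact (Scheme.homeoOfIso (asIso snd)).symm.surjective.connectedSpace
    (Scheme.homeoOfIso (asIso snd)).symm.continuous


section Main

variable {X Y X' Y' : Scheme.{u}} (f : X ⟶ Y) (s : Y ⟶ X) (hs : s ≫ f = 𝟙 Y)

/-- The rational point of the fibre over `y` given by a section. -/
noncomputable def secHom (y : Y) : Spec (Y.residueField y) ⟶ f.fiber y :=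
  pullback.lift (Y.fromSpecResidueField y ≫ s) (𝟙 _) (by rw [Category.assoc, hs]; simp)

lemma secHom_fiberι (y : Y) : secHom f s hs y ≫ f.fiberι y = Y.fromSpecResidueField y ≫ s :=
  pullback.lift_fst _ _ _

lemma secHom_snd (y : Y) : secHom f s hs y ≫ f.fiberToSpecResidueField y = 𝟙 _ :=
  pullback.lift_snd _ _ _

/-- The point of the fibre over `y` given by the section. -/
noncomputable def secPt (y : Y) : f.fiber y :=
  secHom f s hs y (IsLocalRing.closedPoint (Y.residueField y))

lemma fiberι_secPt (y : Y) : f.fiberι y (secPt f s hs y) = s y := by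
  unfold secPt
  rw [← Scheme.Hom.comp_apply, secHom_fiberι, Scheme.Hom.comp_apply,
    Scheme.fromSpecResidueField_apply]

lemma connectedComponentIn_fibre (y : Y) :
    connectedComponentIn (f ⁻¹' {y}) (s y) =
      f.fiberι y '' connectedComponent (secPt f s hs y) := by
  rw [← fiberι_secPt f s hs y]
  exact connectedComponentIn_eq_image_of_isEmbedding (f.fiberι y).isEmbedding _
    (f.range_fiberι y) _

end Main


section BC

variable {X Y X' Y' : Scheme.{u}} {f : X ⟶ Y} {s : Y ⟶ X} (hs : s ≫ f = 𝟙 Y)
    {f' : X' ⟶ Y'} {g' : X' ⟶ X} {g : Y' ⟶ Y} (hc : IsPullback g' f' f g)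
    {s' : Y' ⟶ X'} (hs' : s' ≫ f' = 𝟙 Y') (hs'g : s' ≫ g' = g ≫ s)

/-- The induced map on scheme-theoretic fibres. -/
noncomputable def fibMap (y' : Y') : f'.fiber y' ⟶ f.fiber (g y') :=
  pullback.map _ _ _ _ g' (Spec.map (g.residueFieldMap y')) g hc.w.symm (by simp)

lemma fibMap_fiberι (y' : Y') : fibMap hc y' ≫ f.fiberι (g y') = f'.fiberι y' ≫ g' :=
  pullback.lift_fst _ _ _

lemma isPullback_fibMap (y' : Y') :
    IsPullback (fibMap hc y') (f'.fiberToSpecResidueField y')
      (f.fiberToSpecResidueField (g y')) (Spec.map (g.residueFieldMap y')) :=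
  isPullback_fiberToSpecResidueField_of_isPullback hc y'

include hs'g in
lemma fibMap_secPt (y' : Y') :
    fibMap hc y' (secPt f' s' hs' y') = secPt f s hs (g y') := by
  apply (f.fiberι (g y')).isEmbedding.injective
  rw [← Scheme.Hom.comp_apply, fibMap_fiberι, Scheme.Hom.comp_apply, fiberι_secPt, fiberι_secPt,
    ← Scheme.Hom.comp_apply, hs'g, Scheme.Hom.comp_apply]

lemma isConnected_preimage_fibMap (y' : Y') :
    _root_.IsConnected (fibMap hc y' ⁻¹' connectedComponent (secPt f s hs (g y'))) := by
  letI : Algebra (Y.residueField (g y')) (Y'.residueField y') :=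
    (g.residueFieldMap y').hom.toAlgebra
  have h1 := Groth.Agent.S4621.result (k := Y.residueField (g y')) (K := Y'.residueField y')
    (f.fiberToSpecResidueField (g y')) (𝟙 _) (secHom f s hs (g y')) (secHom_snd f s hs (g y'))
    (IsLocalRing.closedPoint _)
  let e := (isPullback_fibMap hc y').isoPullback
  have he : e.hom ≫ pullback.fst _ _ = fibMap hc y' := IsPullback.isoPullback_hom_fst _
  have h2 : fibMap hc y' ⁻¹' connectedComponent (secPt f s hs (g y')) =
      (Scheme.homeoOfIso e) ⁻¹' ((FBase.bcπ (k := Y.residueField (g y')) (f.fiberToSpecResidueField (g y'))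
        (Y'.residueField y')) ⁻¹' connectedComponent (secPt f s hs (g y'))) := by
    rw [← he]; rfl
  rw [h2]
  exact (Scheme.homeoOfIso e).isConnected_preimage.2 h1

include hs'g in
lemma connectedComponent_secPt (y' : Y') :
    connectedComponent (secPt f' s' hs' y') =
      fibMap hc y' ⁻¹' connectedComponent (secPt f s hs (g y')) := by
  apply Set.Subset.antisymm
  · intro z hz
    have := (fibMap hc y').continuous.image_connectedComponent_subset (secPt f' s' hs' y')
      ⟨z, hz, rfl⟩
    rwa [fibMap_secPt hs hc hs' hs'g] at this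
  · apply (isConnected_preimage_fibMap hs hc y').isPreconnected.subset_connectedComponent
    rw [Set.mem_preimage, fibMap_secPt hs hc hs' hs'g]
    exact mem_connectedComponent

include hs hc hs' hs'g in
theorem mem_iff (x' : X') :
    x' ∈ connectedComponentIn (f' ⁻¹' {f' x'}) (s' (f' x')) ↔
      g' x' ∈ connectedComponentIn (f ⁻¹' {f (g' x')}) (s (f (g' x'))) := by
  rw [connectedComponentIn_fibre f' s' hs' (f' x'), connectedComponentIn_fibre f s hs (f (g' x'))]
  have hy : f (g' x') = g (f' x') := by
    rw [← Scheme.Hom.comp_apply, hc.w, Scheme.Hom.comp_apply]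
  rw [hy, connectedComponent_secPt hs hc hs' hs'g]
  constructor
  · rintro ⟨z', hz', hzx⟩
    refine ⟨fibMap hc _ z', hz', ?_⟩
    rw [← Scheme.Hom.comp_apply, fibMap_fiberι, Scheme.Hom.comp_apply, hzx]
  · rintro ⟨z, hz, hzx⟩
    refine ⟨f'.asFiber x', ?_, f'.fiberι_asFiber x'⟩
    have h1 : fibMap hc _ (f'.asFiber x') = z := by
      apply (f.fiberι _).isEmbedding.injective
      rw [← Scheme.Hom.comp_apply, fibMap_fiberι, Scheme.Hom.comp_apply, f'.fiberι_asFiber, hzx]
    rw [Set.mem_preimage, h1]
    exact hz

end BC

end Groth.Agent.Lib.Helper7.SectionComp
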