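import Groth.Agent.Lib.Helper7.SepEtSplit
import Groth.Agent.Lib.Helper7.EtLiftSurj

/-!
# Étale schemes over closed subschemes of a strictly henselian-like normal affine scheme
-/

set_option maxHeartbeats 400000
set_option autoImplicit false

open CategoryTheory CategoryTheory.Limits AlgebraicGeometry Opposite
universe u

namespace Groth.Agent.Lib.Helper7.SepEtOpen

theorem exists_decomp_over_closed {V Z X : Scheme.{u}} [IsAffine X] [IsIntegral X]
    (hN : ∀ x : X, IsIntegrallyClosed (X.presheaf.stalk x)) [IsSepClosed X.functionField]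
    (i : Z ⟶ X) [IsClosedImmersion i] (φ : V ⟶ Z) [AlgebraicGeometry.Etale φ] [IsAffine V] :
    ∃ (ι : Type u) (_ : Finite ι) (W : ι → V.Opens), (∀ k, IsOpenImmersion ((W k).ι ≫ φ)) ∧
      (⨆ k, W k = ⊤) ∧ Pairwise (Function.onFun Disjoint W) := by
  classical
  obtain ⟨hZaff, hisurj⟩ := IsClosedImmersion.isAffine_surjective_of_isAffine i
  haveI := hZaff
  have hφet : (φ.appTop).hom.Etale := (HasRingHomProperty.iff_of_isAffine (P := @Etale)).mp ‹_›
  letI : Algebra Γ(Z, ⊤) Γ(V, ⊤) := (φ.appTop).hom.toAlgebra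
  haveI : Algebra.Etale Γ(Z, ⊤) Γ(V, ⊤) := RingHom.etale_algebraMap.mp hφet
  obtain ⟨B, _, _, hB, ψ, hψsurj, hψ⟩ :=
    EtLiftSurj.exists_etale_lift (i.appTop).hom hisurj Γ(V, ⊤)
  let U : Scheme.{u} := Spec (CommRingCat.of B)
  let g₀ : U ⟶ Spec Γ(X, ⊤) := Spec.map (CommRingCat.ofHom (algebraMap Γ(X, ⊤) B))
  haveI : Etale g₀ :=
    (HasRingHomProperty.Spec_iff (P := @Etale)).mpr (RingHom.etale_algebraMap.mpr hB)
  let g : U ⟶ X := g₀ ≫ X.isoSpec.inv
  let j₀ : Spec Γ(V, ⊤) ⟶ U := Spec.map (CommRingCat.ofHom ψ)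
  haveI : IsClosedImmersion j₀ := IsClosedImmersion.spec_of_surjective _ hψsurj
  let j : V ⟶ U := V.isoSpec.hom ≫ j₀
  have hjg : j ≫ g = φ ≫ i := by
    have h1 : j₀ ≫ g₀ = Spec.map ((φ ≫ i).appTop) := by
      rw [← Spec.map_comp]
      congr 1
      ext x
      exact DFunLike.congr_fun hψ x
    calc j ≫ g = V.isoSpec.hom ≫ (j₀ ≫ g₀) ≫ X.isoSpec.inv := by
          simp only [j, g, Category.assoc]
      _ = φ ≫ i := by
          rw [h1, Scheme.isoSpec_hom_naturality_assoc, Iso.hom_inv_id, Category.comp_id]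
  haveI : Etale g := by dsimp only [g]; infer_instance
  haveI : IsSeparated g := by dsimp only [g]; infer_instance
  haveI : IsClosedImmersion j := by dsimp only [j]; infer_instance
  clear_value j g
  obtain ⟨ι, Zo, hoi, hcov, hdisj⟩ := exists_decomp hN g
  let W : ι → V.Opens := fun k => j ⁻¹ᵁ Zo k
  have hWcov : ⨆ k, W k = ⊤ := by
    rw [eq_top_iff]
    intro x _
    have : j x ∈ (⨆ k, Zo k : U.Opens) := by rw [hcov]; trivial
    rw [TopologicalSpace.Opens.mem_iSup] at this ⊢
    exact this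
  have hWdisj : Pairwise (Function.onFun Disjoint W) := by
    intro k l hkl
    have := hdisj hkl
    change Disjoint (Zo k) (Zo l) at this
    change Disjoint (W k) (W l)
    rw [← TopologicalSpace.Opens.coe_disjoint, Set.disjoint_iff] at this ⊢
    rintro x ⟨hxk, hxl⟩
    exact this ⟨hxk, hxl⟩
  have hWoi : ∀ k, IsOpenImmersion ((W k).ι ≫ φ) := by
    intro k
    haveI := hoi k
    haveI : Mono (((W k).ι ≫ φ) ≫ i) := by
      have : ((W k).ι ≫ φ) ≫ i = (j ∣_ Zo k) ≫ (Zo k).ι ≫ g := by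
        calc ((W k).ι ≫ φ) ≫ i = (W k).ι ≫ (j ≫ g) := by rw [Category.assoc, hjg]
          _ = ((j ∣_ Zo k) ≫ (Zo k).ι) ≫ g := by rw [morphismRestrict_ι, Category.assoc]
          _ = _ := Category.assoc _ _ _
      rw [this]
      infer_instance
    haveI : Mono ((W k).ι ≫ φ) := mono_of_mono _ i
    exact IsOpenImmersion.of_flat_of_mono _
  -- finiteness by compactness
  haveI : CompactSpace V := inferInstance
  obtain ⟨t, ht⟩ := isCompact_univ.elim_finite_subcover (fun k => (W k : Set V))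
    (fun k => (W k).2) (by
      intro x _
      have : x ∈ (⨆ k, W k : V.Opens) := by rw [hWcov]; trivial
      rw [TopologicalSpace.Opens.mem_iSup] at this
      exact Set.mem_iUnion.mpr this)
  refine ⟨{k // k ∈ t}, inferInstance, fun k => W k.1, fun k => hWoi k.1, ?_, ?_⟩
  · rw [eq_top_iff]
    intro x _
    have := ht (Set.mem_univ x)
    simp only [Set.mem_iUnion] at this
    obtain ⟨k, hk, hx⟩ := this
    rw [TopologicalSpace.Opens.mem_iSup]
    exact ⟨⟨k, hk⟩, hx⟩
  · intro k l hkl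
    exact hWdisj (fun h => hkl (Subtype.ext h))

end Groth.Agent.Lib.Helper7.SepEtOpen
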