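import Mathlib

/-!
# Separated étale morphisms with a single point over a separably closed generic point are open
immersions (helper7)
-/

set_option autoImplicit false
set_option maxHeartbeats 400000
universe u

namespace Groth.Agent.Lib.Helper7.SepEtOpen

open AlgebraicGeometry CategoryTheory CategoryTheory.Limits TopologicalSpace Polynomial
open AlgebraicGeometry.Scheme.Pullback

theorem isSepClosed_of_ringEquiv {k k' : Type*} [Field k] [Field k'] (e : k ≃+* k')
    [IsSepClosed k] : IsSepClosed k' := by
  apply IsSepClosed.of_exists_root
  intro p hpm hpi hps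
  have hsep : (p.map e.symm.toRingHom).Separable := hps.map
  have hdeg : (p.map e.symm.toRingHom).degree ≠ 0 := by
    rw [degree_map]
    exact (degree_pos_of_irreducible hpi).ne'
  obtain ⟨x, hx⟩ := IsSepClosed.exists_root (p.map e.symm.toRingHom) hdeg hsep
  refine ⟨e x, ?_⟩
  have h1 : Polynomial.eval x (p.map e.symm.toRingHom) = e.symm (Polynomial.eval (e x) p) := by
    rw [Polynomial.eval_map, ← Polynomial.eval₂_id (p := p) (x := e x)]
    have := Polynomial.hom_eval₂ p (RingHom.id k') e.symm.toRingHom (e x)
    simp only [RingHom.comp_id, RingEquiv.toRingHom_eq_coe, RingHom.coe_coe,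
      RingEquiv.symm_apply_apply] at this
    exact this.symm
  have hx' : Polynomial.eval x (p.map e.symm.toRingHom) = 0 := hx
  rw [h1] at hx'
  exact (map_eq_zero_iff _ e.symm.injective).mp hx'

section Pullback

variable {X Y S : Scheme.{u}} {f : X ⟶ S} {g : Y ⟶ S}

theorem subsingleton_spec_tensor (T : Triplet f g) [hiso : IsIso (f.residueFieldMap T.x)] :
    Subsingleton (Spec T.tensor) := by
  haveI : IsIso ((S.residueFieldCongr T.hx).inv ≫ f.residueFieldMap T.x) := inferInstance
  haveI : IsIso T.tensorInr := by
    unfold Triplet.tensorInr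
    exact pushout_inr_iso_of_left_iso _ _
  let e : Y.residueField T.y ≃+* T.tensor := (asIso T.tensorInr).commRingCatIsoToRingEquiv
  have : Subsingleton (PrimeSpectrum T.tensor) :=
    (PrimeSpectrum.comapEquiv e).symm.subsingleton
  exact this

theorem eq_of_fst_eq_of_snd_eq (t₁ t₂ : ↑(pullback f g))
    (h1 : pullback.fst f g t₁ = pullback.fst f g t₂)
    (h2 : pullback.snd f g t₁ = pullback.snd f g t₂)
    [hiso : IsIso (f.residueFieldMap (pullback.fst f g t₂))] : t₁ = t₂ := by
  apply (carrierEquiv (f := f) (g := g)).injective
  rw [carrierEquiv_eq_iff]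
  have e : Triplet.ofPoint t₁ = Triplet.ofPoint t₂ := Triplet.ext h1 h2
  refine ⟨e, ?_⟩
  haveI : IsIso (f.residueFieldMap (Triplet.ofPoint t₂).x) := hiso
  haveI : Subsingleton ↥(Spec (carrierEquiv t₂).fst.tensor) :=
    subsingleton_spec_tensor (Triplet.ofPoint t₂)
  exact Subsingleton.elim _ _

end Pullback

section Main

variable {Z X : Scheme.{u}} [IsIntegral X] [IsSepClosed X.functionField]

theorem isSepClosed_residueField (y : X) (hy : y = genericPoint X) :
    IsSepClosed (X.residueField y) := by
  subst hy
  have hbij : Function.Bijective (IsLocalRing.residue (X.presheaf.stalk (genericPoint X))) := by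
    refine ⟨?_, IsLocalRing.residue_surjective⟩
    letI : Field (X.presheaf.stalk (genericPoint X)) :=
      inferInstanceAs (Field X.functionField)
    exact RingHom.injective _
  exact isSepClosed_of_ringEquiv (k := X.functionField) (RingEquiv.ofBijective _ hbij)

variable (h : Z ⟶ X) [Etale h]

theorem isIso_residueFieldMap (ξ : Z) (hξ : h ξ = genericPoint X) :
    IsIso (h.residueFieldMap ξ) := by
  haveI := isSepClosed_residueField (h ξ) hξ
  letI : Algebra (X.residueField (h ξ)) (Z.residueField ξ) := (h.residueFieldMap ξ).hom.toAlgebra
  haveI : Algebra.IsSeparable (X.residueField (h ξ)) (Z.residueField ξ) := inferInstance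
  have hbij : Function.Bijective (h.residueFieldMap ξ).hom :=
    IsSepClosed.algebraMap_bijective (X.residueField (h ξ)) (Z.residueField ξ)
  rw [ConcreteCategory.isIso_iff_bijective]
  exact hbij

/-- A separated étale morphism to an integral scheme with separably closed function field, with
exactly one point over the generic point, is an open immersion. -/
theorem isOpenImmersion_of_unique_generic [IsSeparated h] (ξ : Z) (hξ : h ξ = genericPoint X)
    (huniq : ∀ z, h z = genericPoint X → z = ξ) : IsOpenImmersion h := by
  haveI : IsOpenImmersion (pullback.diagonal h) := inferInstance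
  haveI : IsClosedImmersion (pullback.diagonal h) := inferInstance
  haveI := isIso_residueFieldMap h ξ hξ
  -- the diagonal is surjective
  have hsurj : ∀ t : ↑(pullback h h), t ∈ Set.range (pullback.diagonal h) := by
    intro t
    by_contra ht
    have hclosed : IsClosed (Set.range (pullback.diagonal h)) :=
      (pullback.diagonal h).isClosedEmbedding.isClosed_range
    set q := pullback.fst h h ≫ h with hq
    haveI : Flat q := inferInstance
    have hη : genericPoint X ⤳ q t := (genericPoint_spec X).specializes trivial
    obtain ⟨t', ht', hqt'⟩ := Flat.generalizingMap q hη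
    have ht'T : t' ∉ Set.range (pullback.diagonal h) := by
      intro hmem
      exact ht (ht'.mem_closed hclosed hmem)
    apply ht'T
    have h1 : pullback.fst h h t' = ξ := by
      apply huniq
      rw [← hqt', hq, Scheme.Hom.comp_apply]
    have h2 : pullback.snd h h t' = ξ := by
      apply huniq
      rw [← hqt', hq, pullback.condition, Scheme.Hom.comp_apply]
    refine ⟨ξ, ?_⟩
    have h3 : pullback.fst h h (pullback.diagonal h ξ) = ξ := by
      rw [← Scheme.Hom.comp_apply, pullback.diagonal_fst]; rfl
    have h4 : pullback.snd h h (pullback.diagonal h ξ) = ξ := by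
      rw [← Scheme.Hom.comp_apply, pullback.diagonal_snd]; rfl
    haveI : IsIso (h.residueFieldMap (pullback.fst h h t')) := by rw [h1]; infer_instance
    exact eq_of_fst_eq_of_snd_eq _ _ (h3.trans h1.symm) (h4.trans h2.symm)
  haveI : IsIso (pullback.diagonal h) := by
    apply isIso_of_isOpenImmersion_of_opensRange_eq_top
    rw [eq_top_iff]
    intro t _
    exact hsurj t
  haveI : Mono h := (pullback.isIso_diagonal_iff h).mp inferInstance
  exact IsOpenImmersion.of_flat_of_mono h

end Main

end Groth.Agent.Lib.Helper7.SepEtOpen
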