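import Groth.Agent.Lib.Helper7.SepEtOpen

/-!
# A separated étale morphism with a unique point over a "generic" point and trivial residue field
extension there is an open immersion (generalisation of `SepEtOpen.isOpenImmersion_of_unique_generic`)
-/

set_option autoImplicit false
set_option maxHeartbeats 400000
universe u

namespace Groth.Agent.Lib.Helper7.SepEtOpen

open AlgebraicGeometry CategoryTheory CategoryTheory.Limits TopologicalSpace

theorem isOpenImmersion_of_unique_generic' {Z X : Scheme.{u}} (h : Z ⟶ X) [Etale h]
    [IsSeparated h] (η : X) (hη : ∀ z : Z, η ⤳ h z) (ξ : Z)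
    (huniq : ∀ z, h z = η → z = ξ) [IsIso (h.residueFieldMap ξ)] : IsOpenImmersion h := by
  haveI : IsOpenImmersion (pullback.diagonal h) := inferInstance
  haveI : IsClosedImmersion (pullback.diagonal h) := inferInstance
  have hsurj : ∀ t : ↑(pullback h h), t ∈ Set.range (pullback.diagonal h) := by
    intro t
    by_contra ht
    have hclosed : IsClosed (Set.range (pullback.diagonal h)) :=
      (pullback.diagonal h).isClosedEmbedding.isClosed_range
    set q := pullback.fst h h ≫ h with hq
    haveI : Flat q := inferInstance
    have hη' : η ⤳ q t := by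
      rw [hq, Scheme.Hom.comp_apply]
      exact hη _
    obtain ⟨t', ht', hqt'⟩ := Flat.generalizingMap q hη'
    have ht'T : t' ∉ Set.range (pullback.diagonal h) := by
      intro hmem
      exact ht (ht'.mem_closed hclosed hmem)
    apply ht'T
    have h1 : pullback.fst h h t' = ξ := by
      apply huniq
      rw [← hqt', hq, Scheme.Hom.comp_apply]
    have h2 : pullback.snd h h t' = ξ := by
      apply huniq
      rw [← hqt', hq, pullback.condition, Scheme.Hom.comp_apply]
    refine ⟨ξ, ?_⟩
    have h3 : pullback.fst h h (pullback.diagonal h ξ) = ξ := by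
      rw [← Scheme.Hom.comp_apply, pullback.diagonal_fst]; rfl
    have h4 : pullback.snd h h (pullback.diagonal h ξ) = ξ := by
      rw [← Scheme.Hom.comp_apply, pullback.diagonal_snd]; rfl
    haveI : IsIso (h.residueFieldMap (pullback.fst h h t')) := by rw [h1]; infer_instance
    exact eq_of_fst_eq_of_snd_eq _ _ (h3.trans h1.symm) (h4.trans h2.symm)
  haveI : IsIso (pullback.diagonal h) := by
    apply isIso_of_isOpenImmersion_of_opensRange_eq_top
    rw [eq_top_iff]
    intro t _
    exact hsurj t
  haveI : Mono h := (pullback.isIso_diagonal_iff h).mp inferInstance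
  exact IsOpenImmersion.of_flat_of_mono h

end Groth.Agent.Lib.Helper7.SepEtOpen
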