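import Mathlib

/-!
# Sections of a closed surjective morphism that is a finite disjoint union of open immersions
-/

set_option maxHeartbeats 400000
set_option autoImplicit false

open CategoryTheory CategoryTheory.Limits AlgebraicGeometry Opposite
universe u

namespace Groth.Agent.Lib.Helper7.SepEtOpen

theorem exists_section_of_decomp {V Z : Scheme.{u}} (φ : V ⟶ Z) [UniversallyClosed φ]
    [Surjective φ] (n : ℕ) (W : Fin n → V.Opens) (hoi : ∀ k, IsOpenImmersion ((W k).ι ≫ φ))
    (hcov : ⨆ k, W k = ⊤) (hdisj : Pairwise (Function.onFun Disjoint W)) :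
    ∃ s : Z ⟶ V, s ≫ φ = 𝟙 Z := by
  classical
  let Zk : Fin n → Z.Opens := fun k => ((W k).ι ≫ φ).opensRange
  have hZk : ∀ k, (Zk k : Set Z) = φ '' (W k : Set V) := by
    intro k
    ext z
    constructor
    · rintro ⟨y, rfl⟩
      exact ⟨(W k).ι y, y.2, by simp⟩
    · rintro ⟨v, hv, rfl⟩
      exact ⟨⟨v, hv⟩, by simp⟩
  have hWclosed : ∀ k, IsClosed (W k : Set V) := by
    intro k
    have : (W k : Set V) = (⋃ l ∈ {l | l ≠ k}, (W l : Set V))ᶜ := by
      ext v
      simp only [Set.mem_compl_iff, Set.mem_iUnion, not_exists, Set.mem_setOf_eq]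
      constructor
      · intro hv l hl hvl
        have := hdisj hl
        change Disjoint (W l) (W k) at this
        rw [← TopologicalSpace.Opens.coe_disjoint, Set.disjoint_iff] at this
        exact this ⟨hvl, hv⟩
      · intro h
        have : v ∈ (⨆ k, W k : V.Opens) := by rw [hcov]; trivial
        rw [TopologicalSpace.Opens.mem_iSup] at this
        obtain ⟨l, hl⟩ := this
        by_cases hlk : l = k
        · exact hlk ▸ hl
        · exact (h l hlk hl).elim
    rw [this]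
    exact (isOpen_biUnion fun l _ => (W l).2).isClosed_compl
  have hZclosed : ∀ k, IsClosed (Zk k : Set Z) := by
    intro k
    rw [hZk]
    exact φ.isClosedMap _ (hWclosed k)
  let Z' : Fin n → Z.Opens := fun k =>
    ⟨(Zk k : Set Z) \ ⋃ l ∈ {l | l < k}, (Zk l : Set Z),
      (Zk k).2.sdiff ((Set.toFinite _).isClosed_biUnion fun l _ => hZclosed l)⟩
  have hZ'le : ∀ k, Z' k ≤ Zk k := fun k z hz => hz.1
  have hcovZ : ⨆ k, (Z' k).ι.opensRange = ⊤ := by
    rw [eq_top_iff]
    intro z _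
    obtain ⟨v, rfl⟩ := φ.surjective z
    have hv : v ∈ (⨆ k, W k : V.Opens) := by rw [hcov]; trivial
    rw [TopologicalSpace.Opens.mem_iSup] at hv
    obtain ⟨k₀, hk₀⟩ := hv
    have hne : ({k | φ v ∈ (Zk k : Set Z)} : Set (Fin n)).Nonempty :=
      ⟨k₀, by show φ v ∈ (Zk k₀ : Set Z); rw [hZk]; exact ⟨v, hk₀, rfl⟩⟩
    obtain ⟨m, hm, hmin⟩ := wellFounded_lt.has_min _ hne
    rw [TopologicalSpace.Opens.mem_iSup]
    refine ⟨m, ?_⟩
    rw [Scheme.Opens.opensRange_ι]
    refine ⟨hm, ?_⟩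
    simp only [Set.mem_iUnion, not_exists]
    intro l hl hzl
    exact hmin l hzl hl
  have hdisjZ : Pairwise (Function.onFun Disjoint (fun k => (Z' k).ι.opensRange)) := by
    intro k l hkl
    change Disjoint (Z' k).ι.opensRange (Z' l).ι.opensRange
    rw [Scheme.Opens.opensRange_ι, Scheme.Opens.opensRange_ι,
      ← TopologicalSpace.Opens.coe_disjoint, Set.disjoint_iff]
    rintro z ⟨hzk, hzl⟩
    rcases lt_or_gt_of_ne hkl with h | h
    · exact hzl.2 (Set.mem_biUnion h hzk.1)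
    · exact hzk.2 (Set.mem_biUnion h hzl.1)
  obtain ⟨hc⟩ := nonempty_isColimit_cofanMk_of (fun k => (Z' k).ι) hcovZ hdisjZ
  let t : ∀ k, ((Z' k : Z.Opens) : Scheme.{u}) ⟶ V := fun k =>
    Z.homOfLE (hZ'le k) ≫ ((W k).ι ≫ φ).isoOpensRange.inv ≫ (W k).ι
  have ht : ∀ k, t k ≫ φ = (Z' k).ι := by
    intro k
    simp only [t, Category.assoc]
    rw [Scheme.Hom.isoOpensRange_inv_comp, Scheme.homOfLE_ι]
  refine ⟨hc.desc (Cofan.mk V t), ?_⟩
  apply hc.hom_ext
  intro ⟨k⟩
  rw [← Category.assoc, hc.fac]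
  simpa using ht k

end Groth.Agent.Lib.Helper7.SepEtOpen
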