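import Groth.Agent.Lib.Helper7.SepEtOpen
import Groth.Agent.Lib.Helper7.GUSchIrr
import Groth.Agent.S9812

/-!
# Splitting of separated étale schemes over a normal integral scheme with separably closed
function field, in the form of a decomposition into opens of the source.
-/

set_option maxHeartbeats 400000
set_option autoImplicit false

open CategoryTheory CategoryTheory.Limits AlgebraicGeometry Opposite
universe u

namespace Groth.Agent.Lib.Helper7.SepEtOpen

/-- A separated étale `U` over a normal integral `X` with separably closed function field is the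
disjoint union of opens each mapping by an open immersion to `X`. -/
theorem exists_decomp {U X : Scheme.{u}} [IsIntegral X]
    (hN : ∀ x : X, IsIntegrallyClosed (X.presheaf.stalk x))
    [IsSepClosed X.functionField] (g : U ⟶ X) [AlgebraicGeometry.Etale g] [IsSeparated g] :
    ∃ (ι : Type u) (Zo : ι → U.Opens), (∀ k, IsOpenImmersion ((Zo k).ι ≫ g)) ∧
      (⨆ k, Zo k = ⊤) ∧ Pairwise (Function.onFun Disjoint Zo) := by
  classical
  have hY : ∀ x : X, CAlg2.IsGeomUnibranch (X.presheaf.stalk x) := fun x => by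
    haveI := hN x
    exact Groth.Agent.S9812.result (X.presheaf.stalk x)
  obtain ⟨hex, hcomp⟩ := GUSch.components_of_etale g hY
  let ι : Type u := {Z : Set U // Z ∈ irreducibleComponents U}
  let Zo : ι → U.Opens := fun i => ⟨i.1, (hcomp i.1 i.2).1⟩
  refine ⟨ι, Zo, ?_, ?_, ?_⟩
  · intro i
    obtain ⟨ξ, ⟨hξZ, hξη⟩, huniq⟩ := (hcomp i.1 i.2).2
    refine SepEtOpen.isOpenImmersion_of_unique_generic ((Zo i).ι ≫ g) ⟨ξ, hξZ⟩ ?_ ?_
    · exact hξη
    · intro z hz
      have := huniq z.1 ⟨z.2, hz⟩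
      exact Subtype.ext this
  · rw [eq_top_iff]
    intro x _
    obtain ⟨Z, ⟨hZ, hxZ⟩, -⟩ := hex x
    rw [TopologicalSpace.Opens.mem_iSup]
    exact ⟨⟨Z, hZ⟩, hxZ⟩
  · intro i j hij
    change Disjoint (Zo i) (Zo j)
    rw [← TopologicalSpace.Opens.coe_disjoint, Set.disjoint_iff]
    rintro x ⟨hxi, hxj⟩
    apply hij
    obtain ⟨Z, -, huZ⟩ := hex x
    have h1 := huZ i.1 ⟨i.2, hxi⟩
    have h2 := huZ j.1 ⟨j.2, hxj⟩
    exact Subtype.ext (h1.trans h2.symm)

/-- If `V` is covered by disjoint opens `W k`, each mapping to `Z` by an open immersion, then `V`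
is, over `Z`, the coproduct of the opens `φ(W k)` of `Z`. -/
theorem exists_coprod_of_opens {V Z : Scheme.{u}} (φ : V ⟶ Z) {ι : Type u} (W : ι → V.Opens)
    (h : ∀ k, IsOpenImmersion ((W k).ι ≫ φ)) (hcov : ⨆ k, W k = ⊤)
    (hdisj : Pairwise (Function.onFun Disjoint W)) :
    ∃ (e : (∐ fun k => ((((W k).ι ≫ φ).opensRange : Z.Opens) : Scheme.{u})) ≅ V),
      ∀ k, Sigma.ι (fun k => ((((W k).ι ≫ φ).opensRange : Z.Opens) : Scheme.{u})) k ≫ e.hom ≫ φ =
        (((W k).ι ≫ φ).opensRange).ι := by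
  let W' : ι → Z.Opens := fun k => ((W k).ι ≫ φ).opensRange
  let f : ∀ k, (W' k : Scheme.{u}) ⟶ V := fun k => ((W k).ι ≫ φ).isoOpensRange.inv ≫ (W k).ι
  haveI hf : ∀ k, IsOpenImmersion (f k) := fun k => inferInstance
  have hrange : ∀ k, (f k).opensRange = W k := by
    intro k
    change (((W k).ι ≫ φ).isoOpensRange.inv ≫ (W k).ι).opensRange = W k
    rw [Scheme.Hom.opensRange_comp_of_isIso, Scheme.Opens.opensRange_ι]
  have hcov' : ⨆ k, (f k).opensRange = ⊤ := by
    simp_rw [hrange]; exact hcov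
  have hdisj' : Pairwise (Function.onFun Disjoint (fun k => (f k).opensRange)) := by
    intro k l hkl
    change Disjoint (f k).opensRange (f l).opensRange
    rw [hrange, hrange]
    exact hdisj hkl
  obtain ⟨hc⟩ := nonempty_isColimit_cofanMk_of f hcov' hdisj'
  let e : (∐ fun k => (W' k : Scheme.{u})) ≅ V := colimit.isoColimitCocone ⟨_, hc⟩
  refine ⟨e, fun k => ?_⟩
  have h1 : Sigma.ι (fun k => (W' k : Scheme.{u})) k ≫ e.hom = f k :=
    colimit.isoColimitCocone_ι_hom ⟨_, hc⟩ ⟨k⟩
  rw [← Category.assoc, h1]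
  change (((W k).ι ≫ φ).isoOpensRange.inv ≫ (W k).ι) ≫ φ = _
  rw [Category.assoc, Scheme.Hom.isoOpensRange_inv_comp]

end Groth.Agent.Lib.Helper7.SepEtOpen
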