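import Mathlib
import Groth.Prelude.Def_CInt
import Groth.Agent.Lib.Helper61.GenUnram

/-!
# A smooth morphism which is étale over a dense open of the base is étale (helper7)
-/

set_option autoImplicit false
set_option maxHeartbeats 800000
universe u

open AlgebraicGeometry CategoryTheory Limits TensorProduct

namespace Groth.Agent.Lib.Helper7.SmEtDense

/-- If `Ω[B/A]` is free and `B` is unramified over `A` at one prime, then `Ω[B/A] = 0`. -/
theorem subsingleton_kaehler_of_free_of_isUnramifiedAt {A B : Type u} [CommRing A] [CommRing B]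
    [Algebra A B] [Module.Free B Ω[B⁄A]] (q : Ideal B) [q.IsPrime]
    (h : Algebra.IsUnramifiedAt A q) : Subsingleton Ω[B⁄A] := by
  let b := Module.Free.chooseBasis B Ω[B⁄A]
  by_contra hns
  have hne : Nonempty (Module.Free.ChooseBasisIndex B Ω[B⁄A]) := by
    by_contra hemp
    rw [not_nonempty_iff] at hemp
    exact hns b.repr.toEquiv.subsingleton
  obtain ⟨i⟩ := hne
  haveI : Algebra.FormallyUnramified A (Localization.AtPrime q) := h
  haveI : Subsingleton Ω[Localization.AtPrime q⁄A] := inferInstance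
  haveI : Subsingleton (Localization.AtPrime q ⊗[B] Ω[B⁄A]) :=
    (KaehlerDifferential.tensorKaehlerEquivOfFormallyEtale A B
      (Localization.AtPrime q)).toEquiv.subsingleton
  exact (Algebra.TensorProduct.basis (Localization.AtPrime q) b).ne_zero i
    (Subsingleton.elim _ _)

/-- A schematically dense open is dense. -/
theorem dense_of_isSchematicallyDense {S : Scheme.{u}} (S₀ : S.Opens)
    (hS₀ : CInt.IsSchematicallyDense S₀) : Dense (S₀ : Set S) := by
  rw [dense_iff_inter_open]
  intro V hV hVne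
  by_contra hemp
  rw [Set.not_nonempty_iff_eq_empty] at hemp
  let V' : S.Opens := ⟨V, hV⟩
  have hbot : V' ⊓ S₀ = ⊥ := by
    ext1
    exact hemp
  have hinj := hS₀ V'
  haveI : Subsingleton Γ(S, V' ⊓ S₀) := by
    rw [hbot]
    infer_instance
  haveI : Subsingleton Γ(S, V') := hinj.subsingleton
  have h1 : S.basicOpen (1 : Γ(S, V')) = V' := S.basicOpen_of_isUnit isUnit_one
  have h2 : S.basicOpen (0 : Γ(S, V')) = ⊥ := S.basicOpen_zero V'
  have h3 : V' = ⊥ := by
    rw [← h1, Subsingleton.elim (1 : Γ(S, V')) 0, h2]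
  obtain ⟨v, hv⟩ := hVne
  have : v ∈ (⊥ : S.Opens) := h3 ▸ (show v ∈ V' from hv)
  exact this

/-- A smooth morphism which is étale over a dense open of the base is étale. -/
theorem etale_of_smooth_of_dense {X S : Scheme.{u}} (f : X ⟶ S) [Smooth f] (S₀ : S.Opens)
    (hd : Dense (S₀ : Set S)) [Etale (pullback.snd f S₀.ι)] : Etale f := by
  rw [Etale.iff_smoothOfRelativeDimension_zero]
  refine ⟨fun x => ?_⟩
  obtain ⟨U, hU, V, hV, hx, e, hf⟩ := Smooth.exists_isStandardSmooth f x
  refine ⟨U, hU, V, hV, hx, e, ?_⟩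
  -- a point of `V` over `S₀`
  have hdX : Dense (f ⁻¹' (S₀ : Set S)) := hd.preimage f.isOpenMap
  obtain ⟨x', hx'V, hx'S⟩ := hdX.inter_open_nonempty V V.isOpen ⟨x, hx⟩
  obtain ⟨x₀, hx₀, -⟩ := Scheme.Pullback.exists_preimage_pullback (f := f) (g := S₀.ι) x'
    ⟨f x', hx'S⟩ rfl
  have hun0 : ((pullback.snd f S₀.ι).stalkMap x₀).hom.FormallyUnramified :=
    FormallyUnramified.stalkMap (pullback.snd f S₀.ι) x₀
  have hun : (f.stalkMap x').hom.FormallyUnramified :=
    (RingHom.FormallyUnramified.respectsIso.arrow_mk_iso_iff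
      (Scheme.stalkMapIsoOfIsPullback (IsPullback.of_hasPullback f S₀.ι) x₀ x' hx₀)).mpr hun0
  have hunAt := (Groth.Agent.Lib.Helper61.GenUnram.formallyUnramified_stalkMap_iff
    U hU V hV e hx'V).mp hun
  haveI : Nonempty V := ⟨⟨x, hx⟩⟩
  algebraize [(f.appLE U V e).hom]
  haveI : Nontrivial Γ(X, V) := inferInstance
  haveI : Subsingleton Ω[Γ(X, V)⁄Γ(S, U)] :=
    subsingleton_kaehler_of_free_of_isUnramifiedAt _ hunAt
  show Algebra.IsStandardSmoothOfRelativeDimension 0 Γ(S, U) Γ(X, V)
  rw [Algebra.IsStandardSmoothOfRelativeDimension.iff_of_isStandardSmooth]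
  simp

end Groth.Agent.Lib.Helper7.SmEtDense
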