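import Mathlib

/-!
# Ring-level lemmas for base change along a thickening

For a pushout square of commutative rings
```
A' --φ'--> B'
|π         |ψ
v          v
A  --φ-->  B
```
with `π` surjective: `ψ` is surjective with kernel `I B'`, `I = ker π`. If `I` is nilpotent,
finite type / formally unramified lift from `φ` to `φ'`.
-/

set_option autoImplicit false
universe u

namespace Groth.Agent.Lib.Helper7.ThickRing

open CategoryTheory Limits

section nilpotent_module

variable {R M : Type*} [CommRing R] [AddCommGroup M] [Module R M]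

theorem sup_pow_smul_top_eq_top (N : Submodule R M) (I : Ideal R)
    (h : N ⊔ I • (⊤ : Submodule R M) = ⊤) (k : ℕ) : N ⊔ (I ^ k) • (⊤ : Submodule R M) = ⊤ := by
  induction k with
  | zero => simp
  | succ k ih =>
    have key : (I ^ k) • (⊤ : Submodule R M) ≤ N ⊔ (I ^ (k + 1)) • (⊤ : Submodule R M) := by
      calc (I ^ k) • (⊤ : Submodule R M) = (I ^ k) • (N ⊔ I • (⊤ : Submodule R M)) := by rw [h]
        _ = (I ^ k) • N ⊔ (I ^ k) • (I • (⊤ : Submodule R M)) := Submodule.smul_sup _ _ _
        _ ≤ N ⊔ (I ^ (k + 1)) • (⊤ : Submodule R M) := by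
          apply sup_le_sup Submodule.smul_le_right
          rw [← Submodule.mul_smul, ← pow_succ]
    rw [eq_top_iff]
    calc (⊤ : Submodule R M) = N ⊔ (I ^ k) • (⊤ : Submodule R M) := ih.symm
      _ ≤ N ⊔ (I ^ (k + 1)) • (⊤ : Submodule R M) := sup_le le_sup_left key

theorem eq_top_of_sup_smul_top_eq_top_of_isNilpotent (N : Submodule R M) (I : Ideal R)
    (hI : IsNilpotent I) (h : N ⊔ I • (⊤ : Submodule R M) = ⊤) : N = ⊤ := by
  obtain ⟨k, hk⟩ := hI
  have := sup_pow_smul_top_eq_top N I h k
  rw [hk] at this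
  simpa using this

theorem subsingleton_of_smul_top_eq_top_of_isNilpotent (I : Ideal R)
    (hI : IsNilpotent I) (h : I • (⊤ : Submodule R M) = ⊤) : Subsingleton M := by
  have := eq_top_of_sup_smul_top_eq_top_of_isNilpotent (⊥ : Submodule R M) I hI (by simpa using h)
  exact (Submodule.subsingleton_iff R).mp (subsingleton_of_bot_eq_top this)

end nilpotent_module

section pushout

variable {A' B' A B : CommRingCat.{u}} {φ' : A' ⟶ B'} {π : A' ⟶ A} {ψ : B' ⟶ B} {φ : A ⟶ B}

theorem surjective_and_ker_of_isPushout (h : IsPushout φ' π ψ φ)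
    (hπ : Function.Surjective π.hom) :
    Function.Surjective ψ.hom ∧ RingHom.ker ψ.hom = Ideal.map φ'.hom (RingHom.ker π.hom) := by
  set J := Ideal.map φ'.hom (RingHom.ker π.hom) with hJ
  have hw : ∀ x, ψ.hom (φ'.hom x) = φ.hom (π.hom x) := fun x => by
    have := congr($(h.w).hom x)
    simpa using this
  let q : B' ⟶ CommRingCat.of (B' ⧸ J) := CommRingCat.ofHom (Ideal.Quotient.mk J)
  have hker : RingHom.ker π.hom ≤ RingHom.ker ((Ideal.Quotient.mk J).comp φ'.hom) := by
    intro x hx
    rw [RingHom.mem_ker, RingHom.comp_apply, Ideal.Quotient.eq_zero_iff_mem]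
    exact Ideal.mem_map_of_mem _ hx
  let a : A ⟶ CommRingCat.of (B' ⧸ J) :=
    CommRingCat.ofHom (RingHom.liftOfSurjective π.hom hπ ⟨(Ideal.Quotient.mk J).comp φ'.hom, hker⟩)
  have hsq : φ' ≫ q = π ≫ a := by
    ext x
    have := RingHom.liftOfSurjective_comp_apply π.hom hπ
      ⟨(Ideal.Quotient.mk J).comp φ'.hom, hker⟩ x
    simp only [CommRingCat.hom_comp, RingHom.comp_apply]
    exact this.symm
  have hd : ψ ≫ h.desc q a hsq = q := h.inl_desc q a hsq
  constructor
  · have hcl := CommRingCat.closure_range_union_range_eq_top_of_isPushout h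
    have hsub : Set.range φ.hom ⊆ Set.range ψ.hom := by
      rintro _ ⟨y, rfl⟩
      obtain ⟨x, rfl⟩ := hπ y
      exact ⟨φ'.hom x, hw x⟩
    have h2 : Set.range ψ.hom ∪ Set.range φ.hom = (ψ.hom.range : Set B) := by
      rw [Set.union_eq_left.mpr hsub]; rfl
    rw [h2, Subring.closure_eq] at hcl
    intro b
    have : b ∈ ψ.hom.range := by rw [hcl]; trivial
    exact this
  · apply le_antisymm
    · intro x hx
      rw [RingHom.mem_ker] at hx
      have h1 : (ψ ≫ h.desc q a hsq).hom x = 0 := by
        simp only [CommRingCat.hom_comp, RingHom.comp_apply, hx, map_zero]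
      rw [hd] at h1
      exact Ideal.Quotient.eq_zero_iff_mem.mp h1
    · rw [Ideal.map_le_iff_le_comap]
      intro x hx
      rw [Ideal.mem_comap, RingHom.mem_ker, hw, RingHom.mem_ker.mp hx, map_zero]

/-- Finite type lifts along a nilpotent thickening of the base. -/
theorem finiteType_of_isPushout (h : IsPushout φ' π ψ φ)
    (hπ : Function.Surjective π.hom) (hnil : IsNilpotent (RingHom.ker π.hom))
    (hφ : φ.hom.FiniteType) : φ'.hom.FiniteType := by
  classical
  obtain ⟨hψ, hkerψ⟩ := surjective_and_ker_of_isPushout h hπ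
  have hw : ∀ x, ψ.hom (φ'.hom x) = φ.hom (π.hom x) := fun x => by
    have := congr($(h.w).hom x)
    simpa using this
  algebraize [φ'.hom, φ.hom]
  obtain ⟨s, hs⟩ := (inferInstance : Algebra.FiniteType A B).out
  -- lift generators
  choose t ht using fun b : B => hψ b
  let s' : Finset B' := s.image t
  let C : Subalgebra A' B' := Algebra.adjoin A' (s' : Set B')
  suffices hC : C = ⊤ by
    refine ⟨⟨s', hC⟩⟩
  -- the image of C under ψ is everything
  have himg : ∀ b : B, ∃ c ∈ C, ψ.hom c = b := by
    intro b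
    have hb : b ∈ Algebra.adjoin A (s : Set B) := by rw [hs]; trivial
    induction hb using Algebra.adjoin_induction with
    | mem x hx =>
      refine ⟨t x, Algebra.subset_adjoin ?_, ht x⟩
      exact Finset.mem_coe.mpr (Finset.mem_image_of_mem t hx)
    | algebraMap r =>
      obtain ⟨r', rfl⟩ := hπ r
      exact ⟨algebraMap A' B' r', C.algebraMap_mem r', hw r'⟩
    | add x y _ _ hx hy =>
      obtain ⟨c, hc, rfl⟩ := hx
      obtain ⟨c', hc', rfl⟩ := hy
      exact ⟨c + c', C.add_mem hc hc', map_add _ _ _⟩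
    | mul x y _ _ hx hy =>
      obtain ⟨c, hc, rfl⟩ := hx
      obtain ⟨c', hc', rfl⟩ := hy
      exact ⟨c * c', C.mul_mem hc hc', map_mul _ _ _⟩
  have hsup : Subalgebra.toSubmodule C ⊔ (RingHom.ker π.hom) • (⊤ : Submodule A' B') = ⊤ := by
    rw [eq_top_iff]
    intro b _
    obtain ⟨c, hc, hcb⟩ := himg (ψ.hom b)
    have hmem : b - c ∈ RingHom.ker ψ.hom := by
      rw [RingHom.mem_ker, map_sub, hcb, sub_self]
    rw [hkerψ] at hmem
    have hmem' : b - c ∈ (RingHom.ker π.hom) • (⊤ : Submodule A' B') := by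
      have := Ideal.smul_top_eq_map (R := A') (S := B') (RingHom.ker π.hom)
      rw [this]
      exact hmem
    have : b = c + (b - c) := by ring
    rw [this]
    exact Submodule.add_mem_sup hc hmem'
  have := eq_top_of_sup_smul_top_eq_top_of_isNilpotent _ _ hnil hsup
  exact Subalgebra.toSubmodule_injective (by rw [this]; rfl)

end pushout

section tensor

open TensorProduct

theorem smul_top_eq_top_of_subsingleton_tensor {R S M : Type*} [CommRing R] [CommRing S]
    [Algebra R S] (hsurj : Function.Surjective (algebraMap R S)) [AddCommGroup M] [Module R M]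
    [Subsingleton (S ⊗[R] M)] :
    (RingHom.ker (algebraMap R S)) • (⊤ : Submodule R M) = ⊤ := by
  have hsurj' : Function.Surjective (Algebra.ofId R S) := hsurj
  let e1 : (R ⧸ RingHom.ker (Algebra.ofId R S)) ≃ₐ[R] S :=
    Ideal.quotientKerAlgEquivOfSurjective hsurj'
  let e2 : ((R ⧸ RingHom.ker (Algebra.ofId R S)) ⊗[R] M) ≃ₗ[R] (S ⊗[R] M) :=
    TensorProduct.congr e1.toLinearEquiv (LinearEquiv.refl R M)
  let e3 := TensorProduct.quotTensorEquivQuotSMul M (RingHom.ker (Algebra.ofId R S))
  have hsub : Subsingleton (M ⧸ (RingHom.ker (Algebra.ofId R S)) • (⊤ : Submodule R M)) :=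
    (e3.symm.trans e2).toEquiv.subsingleton
  exact Submodule.Quotient.subsingleton_iff.mp hsub

end tensor

section unramified

variable {A' B' A B : CommRingCat.{u}} {φ' : A' ⟶ B'} {π : A' ⟶ A} {ψ : B' ⟶ B} {φ : A ⟶ B}

open TensorProduct in
/-- Formally unramified lifts along a thickening of the base (nilpotent, or nil with finite type). -/
theorem formallyUnramified_of_isPushout (h : IsPushout φ' π ψ φ)
    (hπ : Function.Surjective π.hom)
    (hK : IsNilpotent (RingHom.ker π.hom) ∨
      (RingHom.ker π.hom ≤ nilradical A' ∧ φ'.hom.FiniteType))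
    (hφ : φ.hom.FormallyUnramified) : φ'.hom.FormallyUnramified := by
  obtain ⟨hψ, hkerψ⟩ := surjective_and_ker_of_isPushout h hπ
  have hw : ∀ x, ψ.hom (φ'.hom x) = φ.hom (π.hom x) := fun x => by
    have := congr($(h.w).hom x)
    simpa using this
  algebraize [φ'.hom, π.hom, ψ.hom, φ.hom, φ.hom.comp π.hom]
  have : IsScalarTower A' A B := .of_algebraMap_eq' rfl
  have : IsScalarTower A' B' B := .of_algebraMap_eq' (by ext x; exact (hw x).symm)
  have hpush : Algebra.IsPushout A' A B' B := by
    rw [← CommRingCat.isPushout_iff_isPushout]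
    exact h.flip
  have hsub : Subsingleton (Ω[B⁄A]) := hφ.subsingleton_kaehlerDifferential
  have : Subsingleton (B ⊗[B'] Ω[B'⁄A']) :=
    (KaehlerDifferential.tensorKaehlerEquiv A' A B' B).toEquiv.subsingleton
  have hJ : (RingHom.ker (algebraMap B' B)) • (⊤ : Submodule B' Ω[B'⁄A']) = ⊤ :=
    smul_top_eq_top_of_subsingleton_tensor hψ
  have hkerψ' : RingHom.ker (algebraMap B' B) = Ideal.map (algebraMap A' B') (RingHom.ker π.hom) :=
    hkerψ
  refine Algebra.FormallyUnramified.mk ?_
  rcases hK with hnil | ⟨hle, hft⟩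
  · have hnilJ : IsNilpotent (RingHom.ker (algebraMap B' B)) := by
      obtain ⟨n, hn⟩ := hnil
      refine ⟨n, ?_⟩
      rw [hkerψ', ← Ideal.map_pow, hn]
      exact Ideal.map_bot
    exact subsingleton_of_smul_top_eq_top_of_isNilpotent _ hnilJ hJ
  · have : Algebra.FiniteType A' B' := hft
    have hjac : RingHom.ker (algebraMap B' B) ≤ Ideal.jacobson ⊥ := by
      rw [Ideal.jacobson_bot]
      refine le_trans ?_ (nilradical_le_jacobson B')
      rw [hkerψ', Ideal.map_le_iff_le_comap]
      intro x hx
      have : IsNilpotent x := hle hx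
      exact this.map (algebraMap A' B')
    have hfg : (⊤ : Submodule B' Ω[B'⁄A']).FG := Module.Finite.fg_top
    have := Submodule.eq_bot_of_le_smul_of_le_jacobson_bot _ _ hfg hJ.ge hjac
    exact (Submodule.subsingleton_iff B').mp (subsingleton_of_bot_eq_top this.symm)

end unramified

section fgker

/-- If `B → C` is surjective with finitely generated nilpotent kernel and `C` is of finite type
over `A`, then so is `B`. -/
theorem finiteType_of_surjective_of_fg_nilpotent_ker {A B C : Type u} [CommRing A] [CommRing B]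
    [CommRing C] (φ : A →+* B) (π : B →+* C) (hπ : Function.Surjective π)
    (hfg : (RingHom.ker π).FG) (hnil : IsNilpotent (RingHom.ker π))
    (h : (π.comp φ).FiniteType) : φ.FiniteType := by
  classical
  algebraize [φ, π.comp φ]
  obtain ⟨s, hs⟩ := (inferInstance : Algebra.FiniteType A C).out
  obtain ⟨k, hk⟩ := hfg
  choose t ht using fun c : C => hπ c
  let s' : Finset B := s.image t ∪ k
  let C' : Subalgebra A B := Algebra.adjoin A (s' : Set B)
  suffices hC : C' = ⊤ from ⟨⟨s', hC⟩⟩
  have hkC : ∀ x ∈ k, x ∈ C' := fun x hx =>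
    Algebra.subset_adjoin (Finset.mem_coe.mpr (Finset.mem_union_right _ hx))
  have himg : ∀ c : C, ∃ b ∈ C', π b = c := by
    intro c
    have hc : c ∈ Algebra.adjoin A (s : Set C) := by rw [hs]; trivial
    induction hc using Algebra.adjoin_induction with
    | mem x hx =>
      refine ⟨t x, Algebra.subset_adjoin ?_, ht x⟩
      exact Finset.mem_coe.mpr (Finset.mem_union_left _ (Finset.mem_image_of_mem t hx))
    | algebraMap r => exact ⟨algebraMap A B r, C'.algebraMap_mem r, rfl⟩
    | add x y _ _ hx hy =>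
      obtain ⟨c, hc, rfl⟩ := hx
      obtain ⟨c', hc', rfl⟩ := hy
      exact ⟨c + c', C'.add_mem hc hc', map_add _ _ _⟩
    | mul x y _ _ hx hy =>
      obtain ⟨c, hc, rfl⟩ := hx
      obtain ⟨c', hc', rfl⟩ := hy
      exact ⟨c * c', C'.mul_mem hc hc', map_mul _ _ _⟩
  -- work over the ring `C'`
  let K₀ : Ideal C' := Ideal.span {x : C' | (x : B) ∈ k}
  have hK₀nil : IsNilpotent K₀ := by
    obtain ⟨n, hn⟩ := hnil
    refine ⟨n, ?_⟩
    change K₀ ^ n = ⊥
    rw [← le_bot_iff]
    have hmap : K₀.map (algebraMap C' B) ≤ RingHom.ker π := by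
      rw [Ideal.map_span, ← hk]
      apply Ideal.span_mono
      rintro _ ⟨x, hx, rfl⟩
      exact hx
    intro x hx
    have h1 : algebraMap C' B x ∈ (K₀ ^ n).map (algebraMap C' B) := Ideal.mem_map_of_mem _ hx
    rw [Ideal.map_pow] at h1
    have h2 : algebraMap C' B x ∈ (RingHom.ker π) ^ n := Ideal.pow_right_mono hmap n h1
    rw [hn] at h2
    have h3 : (x : B) = 0 := h2
    exact Subtype.ext h3
  have hsup : (LinearMap.range (Algebra.linearMap C' B)) ⊔ K₀ • (⊤ : Submodule C' B) = ⊤ := by
    rw [eq_top_iff]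
    intro b _
    obtain ⟨c, hc, hcb⟩ := himg (π b)
    have hmem : b - c ∈ RingHom.ker π := by
      rw [RingHom.mem_ker, map_sub, hcb, sub_self]
    have hK : ∀ y ∈ RingHom.ker π, y ∈ K₀ • (⊤ : Submodule C' B) := by
      intro y hy
      rw [← hk] at hy
      refine Submodule.span_induction (p := fun y _ => y ∈ K₀ • (⊤ : Submodule C' B))
        ?_ ?_ ?_ ?_ hy
      · intro x hx
        have : x = (⟨x, hkC x hx⟩ : C') • (1 : B) := by
          rw [Algebra.smul_def, mul_one]; rfl
        rw [this]
        exact Submodule.smul_mem_smul (Ideal.subset_span hx) Submodule.mem_top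
      · exact Submodule.zero_mem _
      · intro x y _ _ hx hy; exact Submodule.add_mem _ hx hy
      · intro a x _ hx
        -- multiplication by `a : B` preserves `K₀ • ⊤`
        refine Submodule.smul_induction_on hx ?_ ?_
        · intro r hr m _
          have : a • (r • m) = r • (a • m) := by
            simp only [Algebra.smul_def]; ring
          rw [this]
          exact Submodule.smul_mem_smul hr Submodule.mem_top
        · intro x y hx hy
          rw [smul_add]; exact Submodule.add_mem _ hx hy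
    have : b = c + (b - c) := by ring
    rw [this]
    refine Submodule.add_mem_sup ?_ (hK _ hmem)
    exact ⟨⟨c, hc⟩, by simp [Algebra.linearMap_apply]⟩
  have htop := eq_top_of_sup_smul_top_eq_top_of_isNilpotent _ _ hK₀nil hsup
  rw [eq_top_iff]
  intro b _
  have : b ∈ LinearMap.range (Algebra.linearMap C' B) := by rw [htop]; trivial
  obtain ⟨c, rfl⟩ := this
  exact c.2

end fgker

end Groth.Agent.Lib.Helper7.ThickRing
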