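import Mathlib
import Groth.Prelude.Def_EGA43
import Groth.Prelude.Def_CAlg2

/-!
# Openness at a point for integral extensions over a unibranch point (helper7)

Ring-level ingredients.
-/

set_option autoImplicit false
set_option maxHeartbeats 800000

open IsLocalRing

universe u

namespace Groth.Agent.Lib.Helper7.UniOpen

/-- **Normal base**: for an integral extension `R ⊆ S` of domains with `R` integrally closed, the image
of a basic open of `Spec S` is open in `Spec R`. -/
theorem isOpen_image_basicOpen {R S : Type u} [CommRing R] [IsDomain R] [IsIntegrallyClosed R]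
    [CommRing S] [IsDomain S] [Algebra R S] [FaithfulSMul R S] [Algebra.IsIntegral R S] (b : S) :
    IsOpen (PrimeSpectrum.comap (algebraMap R S) ''
      (PrimeSpectrum.basicOpen b : Set (PrimeSpectrum S))) := by
  have hb : IsIntegral R b := Algebra.IsIntegral.isIntegral b
  let S₁ : Subalgebra R S := Algebra.adjoin R {b}
  let b₁ : S₁ := ⟨b, Algebra.subset_adjoin (Set.mem_singleton b)⟩
  haveI : Algebra.FinitePresentation R S₁ :=
    Algebra.FinitePresentation.equiv (minpoly.equivAdjoin hb)
  haveI : Algebra.IsIntegral R S₁ := ⟨fun x => by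
    have h1 : IsIntegral R (x : S) := Algebra.IsIntegral.isIntegral _
    exact (isIntegral_algHom_iff S₁.val Subtype.val_injective).mp h1⟩
  haveI : FaithfulSMul R S₁ := inferInstance
  haveI : Algebra.HasGoingDown R S₁ := inferInstance
  have hopen := PrimeSpectrum.isOpenMap_comap_of_hasGoingDown_of_finitePresentation (R := R) (S := S₁)
    _ (PrimeSpectrum.basicOpen b₁).isOpen
  convert hopen using 1
  ext P
  constructor
  · rintro ⟨Q, hQ, rfl⟩
    refine ⟨PrimeSpectrum.comap (algebraMap S₁ S) Q, ?_, ?_⟩
    · exact hQ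
    · rw [← PrimeSpectrum.comap_comp_apply]
      rfl
  · rintro ⟨Q₁, hQ₁, rfl⟩
    haveI : Algebra.IsIntegral S₁ S := Algebra.IsIntegral.tower_top (R := R)
    obtain ⟨Q, -, hQp, hQ⟩ := Ideal.exists_ideal_over_prime_of_isIntegral Q₁.asIdeal
      (⊥ : Ideal S) (by
        rw [Ideal.comap_bot_of_injective _ (FaithfulSMul.algebraMap_injective S₁ S)]
        exact bot_le)
    refine ⟨⟨Q, hQp⟩, ?_, ?_⟩
    · change b ∉ Q
      intro hbQ
      apply hQ₁
      change b₁ ∈ Q₁.asIdeal
      rw [← hQ]
      exact hbQ
    · have : PrimeSpectrum.comap (algebraMap S₁ S) ⟨Q, hQp⟩ = Q₁ := PrimeSpectrum.ext hQ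
      rw [← this, ← PrimeSpectrum.comap_comp_apply]
      rfl

/-- **Unique prime + closed map**: if `A'` is integral over `A`, with `Spec A' → Spec A` surjective,
and `P'` is the only prime over `p`, then the image of an open neighbourhood of `P'` is a
neighbourhood of `p`. -/
theorem image_mem_nhds_of_unique {A A' : Type u} [CommRing A] [CommRing A'] [Algebra A A']
    [Algebra.IsIntegral A A'] (hsurj : Function.Surjective (PrimeSpectrum.comap (algebraMap A A')))
    (P' : PrimeSpectrum A')
    (huniq : ∀ Q : PrimeSpectrum A', PrimeSpectrum.comap (algebraMap A A') Q =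
      PrimeSpectrum.comap (algebraMap A A') P' → Q = P')
    (W' : Set (PrimeSpectrum A')) (hW' : IsOpen W') (hP' : P' ∈ W') :
    PrimeSpectrum.comap (algebraMap A A') '' W' ∈
      nhds (PrimeSpectrum.comap (algebraMap A A') P') := by
  have hcl : IsClosed (PrimeSpectrum.comap (algebraMap A A') '' W'ᶜ) :=
    PrimeSpectrum.isClosedMap_comap_of_isIntegral _
      (algebraMap_isIntegral_iff.mpr inferInstance) _ hW'.isClosed_compl
  refine Filter.mem_of_superset (hcl.isOpen_compl.mem_nhds ?_) ?_
  · rintro ⟨Q, hQ, hQP⟩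
    exact hQ (huniq Q hQP ▸ hP')
  · intro a ha
    obtain ⟨a', rfl⟩ := hsurj a
    refine ⟨a', ?_, rfl⟩
    by_contra h
    exact ha ⟨a', h, rfl⟩

end Groth.Agent.Lib.Helper7.UniOpen
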