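import Mathlib
import Groth.Prelude.Def_EGA43
import Groth.Prelude.Def_CAlg2
import Groth.Agent.Lib.Helper7.UniOpen1
import Groth.Agent.Lib.Helper7.BrCoreU

/-!
# Openness at a point for integral extensions over a unibranch point, II (helper7)

Unique prime of the normalisation over a unibranch point.
-/

set_option autoImplicit false
set_option maxHeartbeats 800000

open IsLocalRing

universe u

namespace Groth.Agent.Lib.Helper7.UniOpen

section F1

variable {A : Type u} [CommRing A] [IsDomain A] (p : Ideal A) [p.IsPrime]
  (K : Type u) [Field K] [Algebra A K] [IsFractionRing A K]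

/-- If the integral closure of `A_p` in the fraction field is local, the integral closure of `A` in its
fraction field has exactly one prime over `p`. -/
theorem unique_prime_over_of_isLocalRing (D : Type u) [CommRing D] [Algebra A D]
    [IsLocalization.AtPrime D p] [Algebra D K] [IsScalarTower A D K]
    [IsLocalRing (integralClosure D K)]
    (Q₁ Q₂ : Ideal (integralClosure A K)) [hQ₁ : Q₁.IsPrime] [hQ₂ : Q₂.IsPrime]
    (h₁ : Q₁.comap (algebraMap A (integralClosure A K)) = p)
    (h₂ : Q₂.comap (algebraMap A (integralClosure A K)) = p) : Q₁ = Q₂ := by
  have hunit : ∀ y : p.primeCompl, IsUnit (algebraMap A K y) := fun y => by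
    apply IsUnit.mk0
    intro h
    have h0 : (y : A) = 0 := (IsFractionRing.injective A K) (h.trans (map_zero _).symm)
    exact y.2 (h0 ▸ p.zero_mem)
  haveI : IsLocalRing D := IsLocalization.AtPrime.isLocalRing D p
  let ι : integralClosure A K →+* integralClosure (D) K :=
    ((integralClosure A K).val.toRingHom).codRestrict (integralClosure (D) K)
      (fun x => IsIntegral.tower_top x.2)
  letI : Algebra (integralClosure A K) (integralClosure (D) K) := ι.toAlgebra
  haveI : IsScalarTower (integralClosure A K) (integralClosure (D) K) K :=
    IsScalarTower.of_algebraMap_eq (fun x => rfl)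
  haveI : IsScalarTower A (integralClosure A K) (integralClosure (D) K) :=
    IsScalarTower.of_algebraMap_eq (fun x => Subtype.ext rfl)
  haveI : IsLocalization (Algebra.algebraMapSubmonoid K p.primeCompl) K :=
    IsLocalization.of_le_isUnit (by
      rintro _ ⟨y, hy, rfl⟩
      exact hunit ⟨y, hy⟩)
  haveI hloc := IsLocalization.integralClosure (R := A) (S := K) (Rf := D)
    (Sf := K) p.primeCompl
  -- key: a prime over `p` extends to the maximal ideal
  have key : ∀ (Q : Ideal (integralClosure A K)) [Q.IsPrime],
      Q.comap (algebraMap A (integralClosure A K)) = p →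
      Q = (maximalIdeal (integralClosure (D) K)).comap
        (algebraMap (integralClosure A K) (integralClosure (D) K)) := by
    intro Q hQ hQp
    have hdisj : Disjoint ((Algebra.algebraMapSubmonoid (integralClosure A K) p.primeCompl :
        Submonoid (integralClosure A K)) : Set (integralClosure A K)) (Q : Set _) := by
      rw [Set.disjoint_left]
      rintro _ ⟨y, hy, rfl⟩ hyQ
      apply hy
      rw [← hQp]
      exact hyQ
    have hprime := IsLocalization.isPrime_of_isPrime_disjoint
      (Algebra.algebraMapSubmonoid (integralClosure A K) p.primeCompl)
      (integralClosure (D) K) Q hQ hdisj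
    have hcomap : (Q.map (algebraMap (integralClosure A K)
        (integralClosure (D) K))).comap (algebraMap (integralClosure A K)
        (integralClosure (D) K)) = Q :=
      IsLocalization.under_map_of_isPrime_disjoint
        (Algebra.algebraMapSubmonoid (integralClosure A K) p.primeCompl)
        (integralClosure (D) K) hQ hdisj
    set Q' := Q.map (algebraMap (integralClosure A K) (integralClosure (D) K))
      with hQ'
    -- `Q'` lies over the maximal ideal of `A_p`
    have hover : Q'.comap (algebraMap (D)
        (integralClosure (D) K)) = maximalIdeal (D) := by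
      have hpr : (Q'.comap (algebraMap (D)
        (integralClosure (D) K))).IsPrime := Ideal.comap_isPrime _ _
      have e1 : ((Q'.comap (algebraMap (D)
          (integralClosure (D) K))).comap
          (algebraMap A (D))) = p := by
        rw [Ideal.comap_comap, ← IsScalarTower.algebraMap_eq,
          IsScalarTower.algebraMap_eq A (integralClosure A K)
            (integralClosure (D) K), ← Ideal.comap_comap, hcomap, hQp]
      have e2 := IsLocalization.map_under p.primeCompl (D)
        (Q'.comap (algebraMap (D)
        (integralClosure (D) K)))
      rw [Ideal.under_def, e1] at e2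
      rw [← e2]
      exact IsLocalization.AtPrime.map_eq_maximalIdeal p D
    haveI : Algebra.IsIntegral (D)
      (integralClosure (D) K) := inferInstance
    have hmax : Q'.IsMaximal :=
      Ideal.isMaximal_of_isIntegral_of_isMaximal_comap (R := D) Q'
        (hover ▸ maximalIdeal.isMaximal _)
    rw [← IsLocalRing.eq_maximalIdeal hmax, hcomap]
  rw [key Q₁ h₁, key Q₂ h₂]

/-- If the local ring of the domain `A` at `p` is unibranch, the integral closure of `A` in its fraction
field has exactly one prime over `p`. -/
theorem unique_prime_over (hA : CAlg2.IsUnibranch (Localization.AtPrime p))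
    (Q₁ Q₂ : Ideal (integralClosure A K)) [hQ₁ : Q₁.IsPrime] [hQ₂ : Q₂.IsPrime]
    (h₁ : Q₁.comap (algebraMap A (integralClosure A K)) = p)
    (h₂ : Q₂.comap (algebraMap A (integralClosure A K)) = p) : Q₁ = Q₂ := by
  have hunit : ∀ y : p.primeCompl, IsUnit (algebraMap A K y) := fun y => by
    apply IsUnit.mk0
    intro h
    have h0 : (y : A) = 0 := (IsFractionRing.injective A K) (h.trans (map_zero _).symm)
    exact y.2 (h0 ▸ p.zero_mem)
  letI : Algebra (Localization.AtPrime p) K :=
    (IsLocalization.lift (M := p.primeCompl) (g := algebraMap A K) hunit).toAlgebra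
  haveI : IsScalarTower A (Localization.AtPrime p) K :=
    IsScalarTower.of_algebraMap_eq (fun x => (IsLocalization.lift_eq _ x).symm)
  haveI : IsFractionRing (Localization.AtPrime p) K :=
    IsFractionRing.isFractionRing_of_isDomain_of_isLocalization p.primeCompl _ K
  haveI : IsLocalRing (integralClosure (Localization.AtPrime p) K) :=
    BrCoreU.isLocalRing_of_isUnibranch (Localization.AtPrime p) K hA
  exact unique_prime_over_of_isLocalRing p K (Localization.AtPrime p) Q₁ Q₂ h₁ h₂

end F1

end Groth.Agent.Lib.Helper7.UniOpen
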