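import Mathlib
import Groth.Prelude.Def_EGA43
import Groth.Prelude.Def_CAlg2
import Groth.Agent.Lib.Helper7.UniOpen1
import Groth.Agent.Lib.Helper7.UniOpen2

/-!
# Openness at a point for integral extensions over a unibranch point, III (helper7)

Assembly of the ring statement.
-/

set_option autoImplicit false
set_option maxHeartbeats 800000

open IsLocalRing

universe u

namespace Groth.Agent.Lib.Helper7.UniOpen

/-- Integral extension of domains, with a unique prime of the normalisation of `A` over `p = q ∩ A`:
open at `q`. -/
theorem isOpenAt_integral_of_unique (A B : Type u) [CommRing A] [IsDomain A] [CommRing B] [IsDomain B]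
    [Algebra A B] (hinj : Function.Injective (algebraMap A B)) [Algebra.IsIntegral A B]
    (q : PrimeSpectrum B)
    (hA : ∀ (Q₁ Q₂ : Ideal (integralClosure A (FractionRing A))), Q₁.IsPrime → Q₂.IsPrime →
      Q₁.comap (algebraMap A (integralClosure A (FractionRing A))) =
        q.asIdeal.comap (algebraMap A B) →
      Q₂.comap (algebraMap A (integralClosure A (FractionRing A))) =
        q.asIdeal.comap (algebraMap A B) → Q₁ = Q₂) :
    EGA43.IsOpenAt (PrimeSpectrum.comap (algebraMap A B)) q := by
  intro U hU
  obtain ⟨b, hqb, hbU⟩ : ∃ b : B, q ∈ (PrimeSpectrum.basicOpen b : Set (PrimeSpectrum B)) ∧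
      (PrimeSpectrum.basicOpen b : Set (PrimeSpectrum B)) ⊆ U := by
    obtain ⟨V, hVU, hVo, hqV⟩ := mem_nhds_iff.mp hU
    obtain ⟨_, ⟨b, rfl⟩, hqb, hbV⟩ :=
      PrimeSpectrum.isTopologicalBasis_basic_opens.exists_subset_of_mem_open hqV hVo
    exact ⟨b, hqb, hbV.trans hVU⟩
  let K := FractionRing A
  let L := FractionRing B
  haveI : IsScalarTower A B L := inferInstance
  haveI : FaithfulSMul A L := (faithfulSMul_iff_algebraMap_injective A L).mpr (by
    rw [IsScalarTower.algebraMap_eq A B L]
    exact (IsFractionRing.injective B L).comp hinj)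
  letI : Algebra K L := FractionRing.liftAlgebra A L
  haveI : IsScalarTower A K L := FractionRing.isScalarTower_liftAlgebra A L
  let φ : integralClosure A K →ₐ[A] integralClosure A L :=
    (IsScalarTower.toAlgHom A K L).mapIntegralClosure
  letI : Algebra (integralClosure A K) (integralClosure A L) := φ.toRingHom.toAlgebra
  haveI : IsScalarTower A (integralClosure A K) (integralClosure A L) :=
    IsScalarTower.of_algebraMap_eq (fun x => (φ.commutes x).symm)
  let ι : B →+* integralClosure A L := (algebraMap B L).codRestrict (integralClosure A L)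
    (fun b => (Algebra.IsIntegral.isIntegral (R := A) b).map (IsScalarTower.toAlgHom A B L))
  letI : Algebra B (integralClosure A L) := ι.toAlgebra
  haveI : IsScalarTower A B (integralClosure A L) :=
    IsScalarTower.of_algebraMap_eq (fun x => Subtype.ext rfl)
  haveI : IsIntegrallyClosed (integralClosure A K) :=
    integralClosure.isIntegrallyClosedOfFiniteExtension K (L := K)
  haveI : Algebra.IsIntegral A (integralClosure A L) := inferInstance
  haveI : Algebra.IsIntegral (integralClosure A K) (integralClosure A L) :=
    Algebra.IsIntegral.tower_top (R := A)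
  haveI : Algebra.IsIntegral B (integralClosure A L) :=
    Algebra.IsIntegral.tower_top (R := A)
  have hφinj : Function.Injective (algebraMap (integralClosure A K) (integralClosure A L)) := by
    intro x y hxy
    apply Subtype.ext
    have := congrArg Subtype.val hxy
    exact (algebraMap K L).injective this
  haveI : FaithfulSMul (integralClosure A K) (integralClosure A L) :=
    (faithfulSMul_iff_algebraMap_injective _ _).mpr hφinj
  have hιinj : Function.Injective (algebraMap B (integralClosure A L)) := by
    intro x y hxy
    have := congrArg Subtype.val hxy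
    exact IsFractionRing.injective B L this
  -- lift `q` to a prime `Q` of `C`
  obtain ⟨Q, -, hQp, hQ⟩ := Ideal.exists_ideal_over_prime_of_isIntegral q.asIdeal
    (⊥ : Ideal (integralClosure A L)) (by
      rw [Ideal.comap_bot_of_injective _ hιinj]
      exact bot_le)
  let Q' : PrimeSpectrum (integralClosure A L) := ⟨Q, hQp⟩
  have hQq : PrimeSpectrum.comap (algebraMap B (integralClosure A L)) Q' = q := PrimeSpectrum.ext hQ
  -- the open set upstairs
  have hW : IsOpen (PrimeSpectrum.comap (algebraMap (integralClosure A K) (integralClosure A L)) ''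
      (PrimeSpectrum.basicOpen (algebraMap B (integralClosure A L) b) :
        Set (PrimeSpectrum (integralClosure A L)))) :=
    isOpen_image_basicOpen _
  set W := PrimeSpectrum.comap (algebraMap (integralClosure A K) (integralClosure A L)) ''
      (PrimeSpectrum.basicOpen (algebraMap B (integralClosure A L) b) :
        Set (PrimeSpectrum (integralClosure A L))) with hWdef
  have hQ'mem : Q' ∈ (PrimeSpectrum.basicOpen (algebraMap B (integralClosure A L) b) :
      Set (PrimeSpectrum (integralClosure A L))) := by
    change algebraMap B (integralClosure A L) b ∉ Q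
    intro hb
    apply hqb
    change b ∈ q.asIdeal
    rw [← hQ]
    exact hb
  set P' := PrimeSpectrum.comap (algebraMap (integralClosure A K) (integralClosure A L)) Q'
    with hP'def
  have hP'W : P' ∈ W := ⟨Q', hQ'mem, rfl⟩
  have hP'p : PrimeSpectrum.comap (algebraMap A (integralClosure A K)) P' =
      PrimeSpectrum.comap (algebraMap A B) q := by
    rw [hP'def, ← hQq, ← PrimeSpectrum.comap_comp_apply, ← PrimeSpectrum.comap_comp_apply,
      ← IsScalarTower.algebraMap_eq, ← IsScalarTower.algebraMap_eq]
  have hsurj : Function.Surjective (PrimeSpectrum.comap (algebraMap A (integralClosure A K))) := by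
    intro P
    obtain ⟨P₁, -, hP₁p, hP₁⟩ := Ideal.exists_ideal_over_prime_of_isIntegral P.asIdeal
      (⊥ : Ideal (integralClosure A K)) (by
        rw [Ideal.comap_bot_of_injective _
          (FaithfulSMul.algebraMap_injective A (integralClosure A K))]
        exact bot_le)
    exact ⟨⟨P₁, hP₁p⟩, PrimeSpectrum.ext hP₁⟩
  have huniq : ∀ Q₀ : PrimeSpectrum (integralClosure A K),
      PrimeSpectrum.comap (algebraMap A (integralClosure A K)) Q₀ =
        PrimeSpectrum.comap (algebraMap A (integralClosure A K)) P' → Q₀ = P' := by
    intro Q₀ hQ₀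
    apply PrimeSpectrum.ext
    haveI := Q₀.2
    haveI := P'.2
    refine hA Q₀.asIdeal P'.asIdeal Q₀.2 P'.2 ?_ ?_
    · have := congrArg PrimeSpectrum.asIdeal (hQ₀.trans hP'p)
      exact this
    · have := congrArg PrimeSpectrum.asIdeal hP'p
      exact this
  have hmem := image_mem_nhds_of_unique hsurj P' huniq W hW hP'W
  rw [hP'p] at hmem
  refine Filter.mem_of_superset hmem ?_
  rintro _ ⟨_, ⟨Q₀, hQ₀, rfl⟩, rfl⟩
  refine ⟨PrimeSpectrum.comap (algebraMap B (integralClosure A L)) Q₀, hbU ?_, ?_⟩
  · exact hQ₀
  · rw [← PrimeSpectrum.comap_comp_apply, ← PrimeSpectrum.comap_comp_apply,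
      ← IsScalarTower.algebraMap_eq, ← IsScalarTower.algebraMap_eq]

/-- **Integral extension of domains over a unibranch point is open there.** -/
theorem isOpenAt_integral (A B : Type u) [CommRing A] [IsDomain A] [CommRing B] [IsDomain B]
    [Algebra A B] (hinj : Function.Injective (algebraMap A B)) [Algebra.IsIntegral A B]
    (q : PrimeSpectrum B)
    (hA : CAlg2.IsUnibranch (Localization.AtPrime (q.asIdeal.comap (algebraMap A B)))) :
    EGA43.IsOpenAt (PrimeSpectrum.comap (algebraMap A B)) q := by
  refine isOpenAt_integral_of_unique A B hinj q ?_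
  intro Q₁ Q₂ h₁ h₂ e₁ e₂
  exact unique_prime_over (q.asIdeal.comap (algebraMap A B)) (FractionRing A) hA Q₁ Q₂ e₁ e₂

end Groth.Agent.Lib.Helper7.UniOpen
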