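import Mathlib
import Groth.Prelude.Def_EGA43
import Groth.Prelude.Def_CAlg2
import Groth.Agent.Lib.Helper7.UniOpen3
import Groth.Agent.Lib.Helper69.GUTransport
import Groth.Agent.Lib.Helper78.OpenAt

/-!
# Openness at a point for integral extensions over a unibranch point, IV (helper7)

Reduction from rings with prime nilradical to domains.
-/

set_option autoImplicit false
set_option maxHeartbeats 800000

open IsLocalRing

universe u

namespace Groth.Agent.Lib.Helper7.UniOpen

open Groth.Agent.Lib.Helper69 Groth.Agent.Lib.Helper78.OpenAt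

/-- `A` a ring, `I ≤ nil(A)` a prime ideal, `p₀` a prime of the domain `A/I` with preimage `p` in `A`.
If `D = A_p` is unibranch, the integral closure of `(A/I)_{p₀}` in the fraction field of `A/I` is local. -/
theorem isLocalRing_integralClosure_quotient {A : Type u} [CommRing A] (I : Ideal A) [I.IsPrime]
    (hI : I ≤ nilradical A) (p₀ : Ideal (A ⧸ I)) [p₀.IsPrime]
    (p : Ideal A) [p.IsPrime] (hp : p₀.comap (Ideal.Quotient.mk I) = p)
    (D : Type u) [CommRing D] [IsLocalRing D] [Algebra A D]
    [IsLocalization.AtPrime D p] (hD : CAlg2.IsUnibranch D) :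
    IsLocalRing (integralClosure (Localization.AtPrime p₀) (FractionRing (A ⧸ I))) := by
  subst hp
  let g : A →+* Localization.AtPrime p₀ :=
    (algebraMap (A ⧸ I) (Localization.AtPrime p₀)).comp (Ideal.Quotient.mk I)
  have hg : ∀ y : (p₀.comap (Ideal.Quotient.mk I)).primeCompl, IsUnit (g y) := fun y =>
    IsLocalization.map_units (M := p₀.primeCompl) (Localization.AtPrime p₀)
      ⟨Ideal.Quotient.mk I y, y.2⟩
  let π : D →+* Localization.AtPrime p₀ :=
    IsLocalization.lift (M := (p₀.comap (Ideal.Quotient.mk I)).primeCompl) hg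
  have hπ : Function.Surjective π := by
    intro z
    obtain ⟨a₀, s₀, rfl⟩ := IsLocalization.exists_mk'_eq p₀.primeCompl z
    obtain ⟨a, rfl⟩ := Ideal.Quotient.mk_surjective a₀
    obtain ⟨s, hs⟩ := Ideal.Quotient.mk_surjective s₀.1
    have hsp : s ∈ (p₀.comap (Ideal.Quotient.mk I)).primeCompl := by
      intro h
      apply s₀.2
      rw [← hs]
      exact h
    refine ⟨IsLocalization.mk' D a ⟨s, hsp⟩, ?_⟩
    rw [IsLocalization.lift_mk'_spec]
    change algebraMap (A ⧸ I) (Localization.AtPrime p₀) (Ideal.Quotient.mk I a) =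
      algebraMap (A ⧸ I) (Localization.AtPrime p₀) (Ideal.Quotient.mk I s) * _
    rw [hs, IsLocalization.mk'_spec']
  have hinj : Function.Injective (algebraMap (A ⧸ I) (Localization.AtPrime p₀)) :=
    IsLocalization.injective (Localization.AtPrime p₀) p₀.primeCompl_le_nonZeroDivisors
  have hker : RingHom.ker π ≤ nilradical D := by
    intro z hz
    obtain ⟨a, s, rfl⟩ := IsLocalization.exists_mk'_eq (p₀.comap (Ideal.Quotient.mk I)).primeCompl z
    rw [RingHom.mem_ker, IsLocalization.lift_mk'_spec, mul_zero] at hz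
    have ha0 : Ideal.Quotient.mk I a = 0 := hinj (hz.trans (map_zero _).symm)
    have haI : a ∈ I := Ideal.Quotient.eq_zero_iff_mem.mp ha0
    obtain ⟨n, hn⟩ := mem_nilradical.mp (hI haI)
    refine mem_nilradical.mpr ⟨n, ?_⟩
    rw [← IsLocalization.mk'_pow, hn, IsLocalization.mk'_zero]
  haveI : IsLocalRing (CAlg2.normRed D) := hD.2
  haveI : IsFractionRing (Localization.AtPrime p₀) (FractionRing (A ⧸ I)) :=
    IsFractionRing.isFractionRing_of_isDomain_of_isLocalization p₀.primeCompl _ _
  exact (GUTransport.normRedEquiv π hπ hker (FractionRing (A ⧸ I))).isLocalRing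

/-- **Nilradical reduction.** `A → B` integral, `nil(B)` prime with preimage in `nil(A)`; `q` a prime of
`B` over `p`; if `D = A_p` is unibranch then `Spec B → Spec A` is open at `q`. -/
theorem isOpenAt_of_nilradical_prime (A B : Type u) [CommRing A] [CommRing B] [Algebra A B]
    [Algebra.IsIntegral A B]
    (hB : (nilradical B).IsPrime) (hAB : (nilradical B).comap (algebraMap A B) ≤ nilradical A)
    (q : PrimeSpectrum B)
    (D : Type u) [CommRing D] [IsLocalRing D] [Algebra A D]
    [IsLocalization.AtPrime D (q.asIdeal.comap (algebraMap A B))]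
    (hD : CAlg2.IsUnibranch D) :
    EGA43.IsOpenAt (PrimeSpectrum.comap (algebraMap A B)) q := by
  haveI : (nilradical B).IsPrime := hB
  haveI : ((nilradical B).comap (algebraMap A B)).IsPrime := Ideal.comap_isPrime _ _
  haveI : Algebra.IsIntegral (A ⧸ (nilradical B).comap (algebraMap A B)) (B ⧸ nilradical B) := by
    constructor
    intro z
    obtain ⟨b, rfl⟩ := Ideal.Quotient.mk_surjective z
    have hb : IsIntegral A b := Algebra.IsIntegral.isIntegral b
    have h1 : IsIntegral A (Ideal.Quotient.mkₐ A (nilradical B) b) := hb.map _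
    exact h1.tower_top
  obtain ⟨q₀, hq₀⟩ :=
    (PrimeSpectrum.comap_quotientMk_bijective_of_le_nilradical (le_refl (nilradical B))).2 q
  have hcomm : (Ideal.Quotient.mk (nilradical B)).comp (algebraMap A B) =
      (algebraMap (A ⧸ (nilradical B).comap (algebraMap A B)) (B ⧸ nilradical B)).comp
        (Ideal.Quotient.mk ((nilradical B).comap (algebraMap A B))) := rfl
  have hp₀ : (q₀.asIdeal.comap (algebraMap (A ⧸ (nilradical B).comap (algebraMap A B))
      (B ⧸ nilradical B))).comap (Ideal.Quotient.mk ((nilradical B).comap (algebraMap A B))) =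
      q.asIdeal.comap (algebraMap A B) := by
    rw [Ideal.comap_comap, ← hcomm, ← Ideal.comap_comap, ← hq₀]
    rfl
  have h0 : EGA43.IsOpenAt (PrimeSpectrum.comap
      (algebraMap (A ⧸ (nilradical B).comap (algebraMap A B)) (B ⧸ nilradical B))) q₀ := by
    refine isOpenAt_integral_of_unique _ _ Ideal.algebraMap_quotient_injective q₀ ?_
    intro Q₁ Q₂ h₁ h₂ e₁ e₂
    haveI := isLocalRing_integralClosure_quotient ((nilradical B).comap (algebraMap A B)) hAB
      (q₀.asIdeal.comap (algebraMap (A ⧸ (nilradical B).comap (algebraMap A B))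
      (B ⧸ nilradical B))) (q.asIdeal.comap (algebraMap A B)) hp₀ D hD
    haveI := h₁
    haveI := h₂
    exact unique_prime_over_of_isLocalRing _ (FractionRing _) (Localization.AtPrime
      (q₀.asIdeal.comap (algebraMap (A ⧸ (nilradical B).comap (algebraMap A B))
      (B ⧸ nilradical B)))) Q₁ Q₂ e₁ e₂
  have hopenI : IsOpenMap (PrimeSpectrum.comap
      (Ideal.Quotient.mk ((nilradical B).comap (algebraMap A B)))) := by
    refine (PrimeSpectrum.isHomeomorph_comap _ ?_ ?_).isOpenMap
    · intro x
      obtain ⟨a, rfl⟩ := Ideal.Quotient.mk_surjective x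
      exact ⟨1, Nat.one_pos, a, by simp⟩
    · rw [Ideal.mk_ker]
      exact hAB
  have h1 := IsOpenAt.comp (isOpenAt_of_isOpenMap hopenI _) h0
  have h2 : EGA43.IsOpenAt (PrimeSpectrum.comap (algebraMap A B) ∘
      PrimeSpectrum.comap (Ideal.Quotient.mk (nilradical B))) q₀ := by
    refine IsOpenAt.congr ?_ h1
    funext z
    simp only [Function.comp_apply]
    rw [← PrimeSpectrum.comap_comp_apply, ← PrimeSpectrum.comap_comp_apply, hcomm]
  have h3 := IsOpenAt.of_comp (PrimeSpectrum.continuous_comap _) h2
  rw [hq₀] at h3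
  exact h3

end Groth.Agent.Lib.Helper7.UniOpen
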