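import Mathlib
import Groth.Prelude.Def_EGA43
import Groth.Prelude.Def_CAlg2
import Groth.Agent.Lib.Helper7.UniOpen4

/-!
# Openness at a point for quasi-finite maps over a unibranch point, V (helper7)

Zariski's main theorem reduces to the integral case.
-/

set_option autoImplicit false
set_option maxHeartbeats 800000

open IsLocalRing

universe u

namespace Groth.Agent.Lib.Helper7.UniOpen

open Groth.Agent.Lib.Helper78.OpenAt

/-- If `B'_r → B_r` is bijective (`B' ⊆ B`), then `Spec B → Spec B'` is open at points of `D(r)`. -/
theorem isOpenAt_of_awayMap_bijective {B' B : Type u} [CommRing B'] [CommRing B] (φ : B' →+* B)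
    (r : B') (hbij : Function.Bijective (Localization.awayMap φ r)) (q : PrimeSpectrum B)
    (hrq : φ r ∉ q.asIdeal) : EGA43.IsOpenAt (PrimeSpectrum.comap φ) q := by
  have hq : q ∈ Set.range (PrimeSpectrum.comap (algebraMap B (Localization.Away (φ r)))) := by
    rw [PrimeSpectrum.localization_away_comap_range (Localization.Away (φ r)) (φ r)]
    exact hrq
  obtain ⟨qS, rfl⟩ := hq
  have hcomm : (Localization.awayMap φ r).comp (algebraMap B' (Localization.Away r)) =
      (algebraMap B (Localization.Away (φ r))).comp φ := IsLocalization.map_comp _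
  have hopen : IsOpenMap (PrimeSpectrum.comap φ ∘
      PrimeSpectrum.comap (algebraMap B (Localization.Away (φ r)))) := by
    have h1 : IsOpenMap (PrimeSpectrum.comap (algebraMap B' (Localization.Away r)) ∘
        PrimeSpectrum.comap (Localization.awayMap φ r)) :=
      (PrimeSpectrum.localization_away_isOpenEmbedding (Localization.Away r) r).isOpenMap.comp
        (PrimeSpectrum.isHomeomorph_comap_of_bijective hbij).isOpenMap
    convert h1 using 1
    funext z
    simp only [Function.comp_apply]
    rw [← PrimeSpectrum.comap_comp_apply, ← PrimeSpectrum.comap_comp_apply, hcomm]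
  exact IsOpenAt.of_comp (PrimeSpectrum.continuous_comap _) (isOpenAt_of_isOpenMap hopen qS)

/-- **Quasi-finite over a unibranch point is open there** (ring form). -/
theorem isOpenAt_of_quasiFiniteAt (A B : Type u) [CommRing A] [CommRing B] [Algebra A B]
    [Algebra.FiniteType A B]
    (hB : (nilradical B).IsPrime) (hAB : (nilradical B).comap (algebraMap A B) ≤ nilradical A)
    (q : PrimeSpectrum B) [Algebra.QuasiFiniteAt A q.asIdeal]
    (D : Type u) [CommRing D] [IsLocalRing D] [Algebra A D]
    [hloc : IsLocalization.AtPrime D (q.asIdeal.comap (algebraMap A B))]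
    (hD : CAlg2.IsUnibranch D) :
    EGA43.IsOpenAt (PrimeSpectrum.comap (algebraMap A B)) q := by
  obtain ⟨B', hfg, r, hrq, hbij⟩ :=
    Algebra.QuasiFiniteAt.exists_fg_and_exists_notMem_and_awayMap_bijective (R := A) q.asIdeal
  haveI : Module.Finite A B' := ⟨(Submodule.fg_top _).mpr hfg⟩
  haveI : Algebra.IsIntegral A B' := inferInstance
  have hnil : nilradical B' = (nilradical B).comap (algebraMap B' B) := by
    ext x
    rw [Ideal.mem_comap, mem_nilradical, mem_nilradical]
    exact (IsNilpotent.map_iff (f := algebraMap B' B) Subtype.val_injective).symm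
  haveI : (nilradical B).IsPrime := hB
  have hB' : (nilradical B').IsPrime := by
    rw [hnil]
    exact Ideal.comap_isPrime _ _
  have hAB' : (nilradical B').comap (algebraMap A B') ≤ nilradical A := by
    rw [hnil, Ideal.comap_comap, ← IsScalarTower.algebraMap_eq]
    exact hAB
  have hq'p : (PrimeSpectrum.comap (algebraMap B' B) q).asIdeal.comap (algebraMap A B') =
      q.asIdeal.comap (algebraMap A B) := by
    change (q.asIdeal.comap (algebraMap B' B)).comap (algebraMap A B') = _
    rw [Ideal.comap_comap, ← IsScalarTower.algebraMap_eq]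
  haveI : IsLocalization.AtPrime D
      ((PrimeSpectrum.comap (algebraMap B' B) q).asIdeal.comap (algebraMap A B')) := by
    have := hloc
    simp only [← hq'p] at this
    exact this
  have h1 : EGA43.IsOpenAt (PrimeSpectrum.comap (algebraMap A B'))
      (PrimeSpectrum.comap (algebraMap B' B) q) :=
    isOpenAt_of_nilradical_prime A B' hB' hAB' _ D hD
  have h2 : EGA43.IsOpenAt (PrimeSpectrum.comap (algebraMap B' B)) q :=
    isOpenAt_of_awayMap_bijective (algebraMap B' B) r hbij q hrq
  have h3 := IsOpenAt.comp h1 h2
  refine IsOpenAt.congr ?_ h3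
  funext z
  simp only [Function.comp_apply]
  rw [← PrimeSpectrum.comap_comp_apply, ← IsScalarTower.algebraMap_eq]

end Groth.Agent.Lib.Helper7.UniOpen
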