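import Mathlib
import Groth.Prelude.Def_EGA43
import Groth.Prelude.Def_CAlg2
import Groth.Agent.Lib.Helper7.UniOpen5
import Groth.Agent.Lib.Helper7.GUSchIrr

/-!
# Openness at a quasi-finite point over a unibranch point, VI (helper7)

Scheme form.
-/

set_option autoImplicit false
set_option maxHeartbeats 800000

open IsLocalRing

universe u

namespace Groth.Agent.Lib.Helper7.UniOpen

open AlgebraicGeometry CategoryTheory TopologicalSpace Groth.Agent.Lib.Helper78.OpenAt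

variable {X Y : Scheme.{u}} (f : X ⟶ Y)

/-- a point isolated in its fibre is a quasi-finite point -/
theorem quasiFiniteAt_of_isolated [LocallyOfFiniteType f] (x : X)
    (h : nhdsWithin x (f ⁻¹' {f x}) = pure x) : f.QuasiFiniteAt x := by
  rw [Scheme.Hom.quasiFiniteAt_iff_isOpen_singleton_asFiber]
  rw [← (f.fiberHomeo (f x)).isOpen_image]
  simp only [Set.image_singleton, Scheme.Hom.asFiber, Homeomorph.apply_symm_apply]
  have h1 : ({x} : Set X) ∈ nhdsWithin x (f ⁻¹' {f x}) := by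
    rw [h]
    exact Filter.mem_pure.mpr rfl
  obtain ⟨O, hO, hxO, hOS⟩ := mem_nhdsWithin.mp h1
  convert hO.preimage continuous_subtype_val using 1
  ext ⟨z, hz⟩
  simp only [Set.mem_singleton_iff, Subtype.mk.injEq, Set.mem_preimage]
  constructor
  · rintro rfl
    exact hxO
  · intro hzO
    exact hOS ⟨hzO, hz⟩

/-- **Quasi-finite dominant morphisms of irreducible schemes are open at points over unibranch
points.** -/
theorem isOpenAt_scheme [IrreducibleSpace X] [IrreducibleSpace Y] [LocallyOfFiniteType f]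
    (hdom : DenseRange f) (x : X) (hx : nhdsWithin x (f ⁻¹' {f x}) = pure x)
    (hU : CAlg2.IsUnibranch (Y.presheaf.stalk (f x))) : EGA43.IsOpenAt f x := by
  obtain ⟨V, hV, hyV⟩ : ∃ V : Y.Opens, IsAffineOpen V ∧ f x ∈ V := by
    obtain ⟨_, ⟨V, hV, rfl⟩, hyV, -⟩ := Y.isBasis_affineOpens.exists_subset_of_mem_open
      (Set.mem_univ (f x)) isOpen_univ
    exact ⟨V, hV, hyV⟩
  obtain ⟨W, hW, hxW, hWV⟩ : ∃ W : X.Opens, IsAffineOpen W ∧ x ∈ W ∧ W ≤ f ⁻¹ᵁ V := by
    obtain ⟨_, ⟨W, hW, rfl⟩, hxW, hWV⟩ := X.isBasis_affineOpens.exists_subset_of_mem_open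
      (show x ∈ ((f ⁻¹ᵁ V : X.Opens) : Set X) from hyV) (f ⁻¹ᵁ V).isOpen
    exact ⟨W, hW, hxW, hWV⟩
  letI : Algebra Γ(Y, V) Γ(X, W) := (f.appLE V W hWV).hom.toAlgebra
  haveI : Algebra.FiniteType Γ(Y, V) Γ(X, W) := f.finiteType_appLE hV hW hWV
  have hirrW : IsIrreducible (W : Set X) :=
    ⟨⟨x, hxW⟩, (IrreducibleSpace.isIrreducible_univ X).isPreirreducible.open_subset W.isOpen
      (Set.subset_univ _)⟩
  have hB : (nilradical Γ(X, W)).IsPrime := GUSch.isPrime_nilradical_of_isIrreducible hW hirrW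
  -- the square
  have hsq : ∀ q' : PrimeSpectrum Γ(X, W),
      hV.fromSpec (PrimeSpectrum.comap (algebraMap Γ(Y, V) Γ(X, W)) q') = f (hW.fromSpec q') := by
    intro q'
    have := congrArg (fun g => g.base q') (IsAffineOpen.SpecMap_appLE_fromSpec f hV hW hWV)
    exact this
  -- dominance
  have hAB : (nilradical Γ(X, W)).comap (algebraMap Γ(Y, V) Γ(X, W)) ≤ nilradical Γ(Y, V) := by
    intro a ha
    rw [Ideal.mem_comap] at ha
    rw [mem_nilradical, ← PrimeSpectrum.basicOpen_eq_bot_iff]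
    by_contra hne
    obtain ⟨P, hP⟩ : ∃ P, P ∈ PrimeSpectrum.basicOpen a := by
      by_contra hcon
      apply hne
      ext P
      simp only [Opens.coe_bot, Set.mem_empty_iff_false, iff_false]
      exact fun hP => hcon ⟨P, hP⟩
    have hOopen : IsOpen (hV.fromSpec '' (PrimeSpectrum.basicOpen a : Set (PrimeSpectrum Γ(Y, V)))) :=
      hV.fromSpec.isOpenEmbedding.isOpenMap _ (PrimeSpectrum.basicOpen a).isOpen
    obtain ⟨x₁, hx₁⟩ := hdom.exists_mem_open hOopen ⟨_, ⟨P, hP, rfl⟩⟩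
    obtain ⟨x₂, -, hx₂O, hx₂W⟩ := (IrreducibleSpace.isIrreducible_univ X).isPreirreducible
      (f ⁻¹' (hV.fromSpec '' (PrimeSpectrum.basicOpen a : Set (PrimeSpectrum Γ(Y, V))))) (W : Set X)
      (hOopen.preimage f.continuous) W.isOpen ⟨x₁, Set.mem_univ _, hx₁⟩ ⟨x, Set.mem_univ _, hxW⟩
    obtain ⟨q', hq'⟩ : x₂ ∈ Set.range hW.fromSpec := by
      rw [hW.range_fromSpec]
      exact hx₂W
    obtain ⟨P', hP', hP'x⟩ := hx₂O
    rw [← hq', ← hsq q'] at hP'x
    have := hV.fromSpec.isOpenEmbedding.injective hP'x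
    subst this
    apply hP'
    change algebraMap Γ(Y, V) Γ(X, W) a ∈ q'.asIdeal
    exact nilradical_le_prime q'.asIdeal ha
  -- quasi-finiteness
  have hqf := (quasiFiniteAt_of_isolated f x hx).quasiFiniteAt hW hV hWV hxW
  haveI : Algebra.QuasiFiniteAt Γ(Y, V) (hW.primeIdealOf ⟨x, hxW⟩).asIdeal := hqf
  -- localisation
  have hpe : (hW.primeIdealOf ⟨x, hxW⟩).asIdeal.comap (algebraMap Γ(Y, V) Γ(X, W)) =
      (hV.primeIdealOf ⟨f x, hWV hxW⟩).asIdeal :=
    congrArg PrimeSpectrum.asIdeal (IsAffineOpen.comap_primeIdealOf_appLE V hV W hW hWV hxW)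
  letI : Algebra Γ(Y, V) (Y.presheaf.stalk (f x)) := Y.presheaf.algebra_section_stalk ⟨f x, hWV hxW⟩
  haveI hloc : IsLocalization.AtPrime (Y.presheaf.stalk (f x))
      ((hW.primeIdealOf ⟨x, hxW⟩).asIdeal.comap (algebraMap Γ(Y, V) Γ(X, W))) := by
    have := hV.isLocalization_stalk ⟨f x, hWV hxW⟩
    simp only [← hpe] at this
    exact this
  have h1 : EGA43.IsOpenAt (PrimeSpectrum.comap (algebraMap Γ(Y, V) Γ(X, W)))
      (hW.primeIdealOf ⟨x, hxW⟩) :=
    isOpenAt_of_quasiFiniteAt Γ(Y, V) Γ(X, W) hB hAB _ (Y.presheaf.stalk (f x)) hU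
  have h2 := IsOpenAt.comp (isOpenAt_of_isOpenMap hV.fromSpec.isOpenEmbedding.isOpenMap _) h1
  have h3 : EGA43.IsOpenAt (f ∘ hW.fromSpec) (hW.primeIdealOf ⟨x, hxW⟩) := by
    refine IsOpenAt.congr ?_ h2
    funext z
    exact hsq z
  have h4 := IsOpenAt.of_comp hW.fromSpec.continuous h3
  rw [hW.fromSpec_primeIdealOf ⟨x, hxW⟩] at h4
  exact h4

end Groth.Agent.Lib.Helper7.UniOpen
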