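import Groth.Agent.Lib.Helper7.GUSchDich
import Groth.Agent.Lib.Helper7.SepEtOpen2

/-!
# Extending sections of separated unramified morphisms at geometrically unibranch points
-/

set_option autoImplicit false
set_option maxHeartbeats 400000
universe u

namespace Groth.Agent.Lib.Helper7.UnramSection

open AlgebraicGeometry CategoryTheory CategoryTheory.Limits TopologicalSpace

variable {X Y : Scheme.{u}} (f : X ⟶ Y)

/-- Pointwise local dichotomy relative to an integral affine open of the base. -/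
theorem local_dichotomy_at [FormallyUnramified f] [LocallyOfFiniteType f]
    (V : Y.affineOpens) [IsDomain Γ(Y, V.1)] (z : X) (hz : f z ∈ V.1)
    (hY : CAlg2.IsGeomUnibranch (Y.presheaf.stalk (f z))) :
    ∃ N : X.Opens, z ∈ N ∧ N ≤ f ⁻¹ᵁ V.1 ∧ IsAffineOpen N ∧
      ((Etale (N.ι ≫ f) ∧ IsDomain Γ(X, N)) ∨
        ∀ w ∈ N, ∀ hw : f w ∈ V.1, (V.2.primeIdealOf ⟨f w, hw⟩).asIdeal ≠ ⊥) := by
  obtain ⟨_, ⟨W₀, hW₀, rfl⟩, hzW, hWV⟩ := X.isBasis_affineOpens.exists_subset_of_mem_open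
    (show z ∈ ((f ⁻¹ᵁ V.1 : X.Opens) : Set X) from hz) (f ⁻¹ᵁ V.1).isOpen
  let W : X.affineOpens := ⟨W₀, hW₀⟩
  have e : W.1 ≤ f ⁻¹ᵁ V.1 := hWV
  have hzW : z ∈ W.1 := hzW
  have hft : (f.appLE V.1 W.1 e).hom.FiniteType :=
    HasRingHomProperty.appLE (P := @LocallyOfFiniteType) f inferInstance V W e
  have hQ : (f.appLE V.1 W.1 e).hom.FormallyUnramified :=
    HasRingHomProperty.appLE (P := @FormallyUnramified) f inferInstance V W e
  letI algRB : Algebra Γ(Y, V.1) Γ(X, W.1) := (f.appLE V.1 W.1 e).hom.toAlgebra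
  haveI : Algebra.FiniteType Γ(Y, V.1) Γ(X, W.1) := hft
  haveI : Algebra.FormallyUnramified Γ(Y, V.1) Γ(X, W.1) := hQ
  set p := (V.2.primeIdealOf ⟨f z, e hzW⟩).asIdeal with hp
  set q := (W.2.primeIdealOf ⟨z, hzW⟩).asIdeal with hq
  have hqp : q.comap (algebraMap Γ(Y, V.1) Γ(X, W.1)) = p :=
    congrArg PrimeSpectrum.asIdeal
      (IsAffineOpen.comap_primeIdealOf_appLE V.1 V.2 W.1 W.2 e hzW)
  letI algRA : Algebra Γ(Y, V.1) (Y.presheaf.stalk (f z)) :=
    Y.presheaf.algebra_section_stalk ⟨f z, e hzW⟩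
  haveI : IsLocalization.AtPrime (Y.presheaf.stalk (f z)) p :=
    V.2.isLocalization_stalk ⟨f z, e hzW⟩
  haveI : IsDomain (Y.presheaf.stalk (f z)) :=
    IsLocalization.isDomain_of_le_nonZeroDivisors (M := p.primeCompl) (Y.presheaf.stalk (f z))
      (Ideal.primeCompl_le_nonZeroDivisors p)
  haveI : Algebra.IsUnramifiedAt Γ(Y, V.1) q :=
    Algebra.formallyUnramified_iff_forall.mp inferInstance ⟨q, inferInstance⟩
  obtain ⟨g, hg, hdich⟩ := GUUnram.dichotomy (R := Γ(Y, V.1)) (B := Γ(X, W.1)) q p hqp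
    (Y.presheaf.stalk (f z)) hY
  have hzg : z ∈ X.basicOpen g := by
    rw [X.mem_basicOpen g z hzW, ← GUSch.notMem_primeIdealOf_iff z W.2 hzW]
    exact hg
  have hle : X.basicOpen g ≤ W.1 := X.basicOpen_le g
  refine ⟨X.basicOpen g, hzg, hle.trans e, W.2.basicOpen g, ?_⟩
  rcases hdich with ⟨het, hdom⟩ | hb
  · left
    have hE : Etale ((X.basicOpen g).ι ≫ f) := GUSch.etale_basicOpen_of_etale_away f V W e g het
    refine ⟨hE, ?_⟩
    haveI : IsLocalization.Away g Γ(X, X.basicOpen g) := W.2.isLocalization_basicOpen g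
    let eq : Localization.Away g ≃ₐ[Γ(X, W.1)] Γ(X, X.basicOpen g) :=
      IsLocalization.algEquiv (Submonoid.powers g) _ _
    exact MulEquiv.isDomain (Localization.Away g) eq.symm.toMulEquiv
  · right
    intro w hw hfw
    have hwW : w ∈ W.1 := hle hw
    have hcomap := IsAffineOpen.comap_primeIdealOf_appLE V.1 V.2 W.1 W.2 e hwW
    have := hb (W.2.primeIdealOf ⟨w, hwW⟩).asIdeal inferInstance (by
      rw [GUSch.notMem_primeIdealOf_iff w W.2 hwW, ← X.mem_basicOpen g w hwW]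
      exact hw)
    intro hbot
    apply this
    have h2 := congrArg PrimeSpectrum.asIdeal hcomap
    rw [← hbot]
    exact h2

theorem lqf_of_etale {X Y : Scheme.{u}} (f : X ⟶ Y) [Etale f] : LocallyQuasiFinite f := by
  rw [HasRingHomProperty.iff_appLE (P := @LocallyQuasiFinite)]
  intro U V e
  have h1 : RingHom.Etale (f.appLE U V e).hom :=
    HasRingHomProperty.appLE @Etale f inferInstance U V e
  algebraize [(f.appLE U V e).hom]
  change Algebra.QuasiFinite _ _
  infer_instance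

/-- In a discrete fibre, specialization is equality. -/
theorem eq_of_specializes_of_fibre {X Y : Scheme.{u}} (h : X ⟶ Y) [LocallyQuasiFinite h]
    {a b : X} (hab : a ⤳ b) (hh : h a = h b) : a = b := by
  have hdisc := h.isDiscrete_preimage_singleton (h b)
  haveI : DiscreteTopology ↥(h ⁻¹' {h b}) := hdisc.to_subtype
  let a' : ↥(h ⁻¹' {h b}) := ⟨a, hh⟩
  let b' : ↥(h ⁻¹' {h b}) := ⟨b, rfl⟩
  have h1 : a' ⤳ b' := Topology.IsInducing.subtypeVal.specializes_iff.mp hab
  exact congrArg Subtype.val h1.eq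

/-- Extending a section of a separated unramified morphism at a point in the closure of its image
lying over a geometrically unibranch point with an integral affine neighbourhood. -/
theorem exists_section_nhd [IsReduced Y] [IsSeparated f] [LocallyOfFiniteType f]
    [FormallyUnramified f]
    (U : Y.Opens) (u : (U : Scheme.{u}) ⟶ X) (hu : u ≫ f = U.ι)
    (V₁ : Y.affineOpens) [IsDomain Γ(Y, V₁.1)]
    (x : X) (hxV : f x ∈ V₁.1) (hx : x ∈ closure (Set.range u))
    (hy : CAlg2.IsGeomUnibranch (Y.presheaf.stalk (f x))) :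
    ∃ (V : Y.Opens) (v : (V : Scheme.{u}) ⟶ X), f x ∈ V ∧ v ≫ f = V.ι ∧
      Y.homOfLE (inf_le_left : U ⊓ V ≤ U) ≫ u = Y.homOfLE (inf_le_right : U ⊓ V ≤ V) ≫ v := by
  classical
  -- the generic point of `V₁`
  let η₁ : Y := V₁.2.fromSpec ⟨⊥, Ideal.bot_prime⟩
  have hη₁ : ∀ t ∈ V₁.1, η₁ ⤳ t := by
    intro t ht
    have h1 : V₁.2.fromSpec (V₁.2.primeIdealOf ⟨t, ht⟩) = t := V₁.2.fromSpec_primeIdealOf ⟨t, ht⟩
    rw [← h1]
    apply Specializes.map _ V₁.2.fromSpec.continuous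
    exact (PrimeSpectrum.le_iff_specializes (⟨⊥, Ideal.bot_prime⟩ : PrimeSpectrum Γ(Y, V₁.1))
      (V₁.2.primeIdealOf ⟨t, ht⟩)).mp bot_le
  obtain ⟨N, hxN, hNV, hNaff, hdich⟩ := local_dichotomy_at f V₁ x hxV hy
  -- a point of `u(U) ∩ N`
  obtain ⟨_, hmemN, ⟨t, rfl⟩⟩ := mem_closure_iff.mp hx N N.isOpen hxN
  have htV : U.ι t ∈ V₁.1 := by
    have h1 : f (u t) ∈ V₁.1 := hNV hmemN
    rwa [← Scheme.Hom.comp_apply, hu] at h1
  have hη₁U : η₁ ∈ U := (hη₁ _ htV).mem_open U.isOpen t.2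
  let ηU : U := ⟨η₁, hη₁U⟩
  have hηU : U.ι ηU = η₁ := rfl
  have hspec : ηU ⤳ t :=
    U.ι.isOpenEmbedding.isInducing.specializes_iff.mp (by rw [hηU]; exact hη₁ _ htV)
  have huη : u ηU ∈ N := (hspec.map u.continuous).mem_open N.isOpen hmemN
  have hfuη : f (u ηU) = η₁ := by rw [← Scheme.Hom.comp_apply, hu]; exact hηU
  rcases hdich with ⟨hE, hdom⟩ | hb
  swap
  · exfalso
    have hw : f (u ηU) ∈ V₁.1 := hNV huη
    apply hb (u ηU) huη hw
    have h1 : V₁.2.primeIdealOf ⟨f (u ηU), hw⟩ = ⟨⊥, Ideal.bot_prime⟩ := by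
      apply V₁.2.fromSpec.isOpenEmbedding.injective
      rw [V₁.2.fromSpec_primeIdealOf]
      exact hfuη
    rw [h1]
  -- main case
  haveI := hE
  set h := N.ι ≫ f with hh
  haveI : IsSeparated h := inferInstance
  haveI : LocallyQuasiFinite h := lqf_of_etale h
  let ξ : N := ⟨u ηU, huη⟩
  have hξ : N.ι ξ = u ηU := rfl
  have hhξ : h ξ = η₁ := by rw [hh, Scheme.Hom.comp_apply, hξ, hfuη]
  have hhV : ∀ z : N, h z ∈ V₁.1 := fun z => hNV z.2
  haveI : IsAffine N.toScheme := hNaff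
  haveI : Nonempty N.toScheme := ⟨ξ⟩
  haveI : IsDomain Γ(N.toScheme, ⊤) :=
    MulEquiv.isDomain Γ(X, N) N.topIso.commRingCatIsoToRingEquiv.toMulEquiv
  haveI : IsIntegral N.toScheme := isIntegral_of_isAffine_of_isDomain _
  have key : ∀ z : N, h z = η₁ → z = genericPoint N := by
    intro z hz
    have h1 : genericPoint N ⤳ z := (genericPoint_spec N).specializes trivial
    have h2 : h (genericPoint N) = h z := by
      have a : η₁ ⤳ h (genericPoint N) := hη₁ _ (hhV _)
      have b : h (genericPoint N) ⤳ h z := h1.map h.continuous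
      rw [hz] at b ⊢
      exact (b.antisymm a).eq
    exact (eq_of_specializes_of_fibre h h1 h2).symm
  have huniq : ∀ z : N, h z = η₁ → z = ξ := by
    intro z hz
    rw [key z hz, key ξ hhξ]
  haveI : IsIso (h.residueFieldMap ξ) := by
    have h1 : h.residueFieldMap ξ = f.residueFieldMap (N.ι ξ) ≫ N.ι.residueFieldMap ξ :=
      Scheme.residueFieldMap_comp N.ι f ξ
    rw [h1]
    have i1 : IsIso (f.residueFieldMap (N.ι ξ)) := by
      show IsIso (f.residueFieldMap (u ηU))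
      have hk : ∀ (k : (U : Scheme.{u}) ⟶ Y) (_ : k = U.ι) (t : U), IsIso (k.residueFieldMap t) := by
        rintro k rfl t; infer_instance
      have h2 := hk (u ≫ f) hu ηU
      rw [Scheme.residueFieldMap_comp] at h2
      rw [ConcreteCategory.isIso_iff_bijective] at h2 ⊢
      refine ⟨(f.residueFieldMap (u ηU)).hom.injective, ?_⟩
      intro b
      obtain ⟨a, ha⟩ := h2.2 ((u.residueFieldMap ηU).hom b)
      refine ⟨a, ?_⟩
      apply (u.residueFieldMap ηU).hom.injective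
      exact ha
    have i2 : IsIso (N.ι.residueFieldMap ξ) := inferInstance
    exact @IsIso.comp_isIso _ _ _ _ _ _ _ i1 i2
  haveI hOI : IsOpenImmersion h :=
    SepEtOpen.isOpenImmersion_of_unique_generic' h η₁ (fun z => hη₁ _ (hhV z)) ξ huniq
  refine ⟨h.opensRange, h.isoOpensRange.inv ≫ N.ι, ⟨⟨x, hxN⟩, rfl⟩, ?_, ?_⟩
  · rw [Category.assoc]
    exact Scheme.Hom.isoOpensRange_inv_comp h
  · set W : Y.Opens := U ⊓ h.opensRange with hW
    set a : (W : Scheme.{u}) ⟶ X := Y.homOfLE (inf_le_left : W ≤ U) ≫ u with ha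
    set b : (W : Scheme.{u}) ⟶ X :=
      Y.homOfLE (inf_le_right : W ≤ h.opensRange) ≫ h.isoOpensRange.inv ≫ N.ι with hb
    have haf : a ≫ f = W.ι := by
      rw [ha, Category.assoc, hu, Scheme.homOfLE_ι]
    have hbf : b ≫ f = W.ι := by
      rw [hb, Category.assoc, Category.assoc]
      have : h.isoOpensRange.inv ≫ N.ι ≫ f = h.opensRange.ι := Scheme.Hom.isoOpensRange_inv_comp h
      rw [this, Scheme.homOfLE_ι]
    -- the generic point of `W`
    have hη₁V : η₁ ∈ h.opensRange := ⟨ξ, hhξ⟩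
    let ηW : W := ⟨η₁, ⟨hη₁U, hη₁V⟩⟩
    have hηW : W.ι ηW = η₁ := rfl
    have hWV₁ : ∀ w : W, W.ι w ∈ V₁.1 := by
      intro w
      obtain ⟨z, hz⟩ := w.2.2
      have : h z = W.ι w := hz
      rw [← this]
      exact hhV z
    have hgenW : ∀ w : W, ηW ⤳ w := by
      intro w
      refine W.ι.isOpenEmbedding.isInducing.specializes_iff.mp ?_
      rw [hηW]
      exact hη₁ _ (hWV₁ w)
    have hle_ηW : Y.homOfLE (inf_le_left : W ≤ U) ηW = ηU := by
      apply U.ι.isOpenEmbedding.injective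
      rw [← Scheme.Hom.comp_apply, Scheme.homOfLE_ι]
      rfl
    let W' : (W : Scheme.{u}).Opens := a ⁻¹ᵁ N
    have hηW' : ηW ∈ W' := by
      show a ηW ∈ N
      rw [ha, Scheme.Hom.comp_apply, hle_ηW]
      exact huη
    have hdense : Dense (W' : Set W) := by
      intro w
      have h1 : w ∈ closure ({ηW} : Set W) := specializes_iff_mem_closure.mp (hgenW w)
      exact closure_mono (Set.singleton_subset_iff.mpr hηW') h1
    haveI : IsDominant W'.ι := Opens.isDominant_ι hdense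
    have hrange : Set.range (W'.ι ≫ a) ⊆ Set.range N.ι := by
      rintro _ ⟨w', rfl⟩
      rw [Scheme.Opens.range_ι]
      rw [Scheme.Hom.comp_apply]
      exact w'.2
    let t : (W' : Scheme.{u}) ⟶ N := IsOpenImmersion.lift N.ι (W'.ι ≫ a) hrange
    have ht : t ≫ N.ι = W'.ι ≫ a := IsOpenImmersion.lift_fac _ _ _
    have hc : W'.ι ≫ Y.homOfLE (inf_le_right : W ≤ h.opensRange) = t ≫ h.isoOpensRange.hom := by
      rw [← cancel_mono h.opensRange.ι, Category.assoc, Category.assoc, Scheme.homOfLE_ι,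
        Scheme.Hom.isoOpensRange_hom_ι, hh, ← Category.assoc t, ht, Category.assoc, haf]
    refine ext_of_isDominant_of_isSeparated f (haf.trans hbf.symm) W'.ι ?_
    calc W'.ι ≫ a = t ≫ N.ι := ht.symm
      _ = t ≫ h.isoOpensRange.hom ≫ h.isoOpensRange.inv ≫ N.ι := by rw [Iso.hom_inv_id_assoc]
      _ = (W'.ι ≫ Y.homOfLE (inf_le_right : W ≤ h.opensRange)) ≫ h.isoOpensRange.inv ≫ N.ι := by
          rw [hc, Category.assoc]
      _ = W'.ι ≫ b := by rw [hb, Category.assoc]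

end Groth.Agent.Lib.Helper7.UnramSection
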