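import Groth.Agent.Lib.Helper7.UnramSection
import Groth.Agent.Lib.Helper7.BrTop

/-!
# Integral affine neighbourhoods from local finiteness of components, and the scheme-level
extension statement
-/

set_option autoImplicit false
set_option maxHeartbeats 400000
universe u

namespace Groth.Agent.Lib.Helper7.UnramSection

open AlgebraicGeometry CategoryTheory CategoryTheory.Limits TopologicalSpace

theorem exists_integral_affine_nhd {Y : Scheme.{u}} [IsReduced Y]
    (hcomp : LocallyFinite (fun Z : ↥(irreducibleComponents ↥Y) => (Z : Set ↥Y)))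
    (y : Y) (hnil : (nilradical (Y.presheaf.stalk y)).IsPrime) :
    ∃ V : Y.affineOpens, y ∈ V.1 ∧ IsDomain Γ(Y, V.1) := by
  have h1 := BrTop.encard_eq_one_of_isPrime_nilradical Y y hnil
  rw [Set.encard_eq_one] at h1
  obtain ⟨Z₀, hZ₀⟩ := h1
  have hmem : Z₀ ∈ {Z : Set Y | Z ∈ irreducibleComponents Y ∧ y ∈ Z} := by
    rw [hZ₀]; exact Set.mem_singleton _
  obtain ⟨hZ₀c, hyZ₀⟩ := hmem
  -- the union of the other components
  let g : {Z : ↥(irreducibleComponents ↥Y) // Z.1 ≠ Z₀} → Set Y := fun Z => Z.1.1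
  have hlf : LocallyFinite g := hcomp.comp_injective Subtype.val_injective
  have hclosed : IsClosed (⋃ i, g i) :=
    hlf.isClosed_iUnion fun i => isClosed_of_mem_irreducibleComponents _ i.1.2
  have hyC : y ∉ ⋃ i, g i := by
    rw [Set.mem_iUnion]
    rintro ⟨i, hi⟩
    have : i.1.1 ∈ ({Z₀} : Set (Set Y)) := by
      rw [← hZ₀]; exact ⟨i.1.2, hi⟩
    exact i.2 this
  have hsub : (⋃ i, g i)ᶜ ⊆ Z₀ := by
    intro w hw
    have hw' : w ∈ ⋃₀ irreducibleComponents Y := by rw [sUnion_irreducibleComponents]; trivial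
    obtain ⟨Z, hZ, hwZ⟩ := hw'
    by_cases hZZ : Z = Z₀
    · exact hZZ ▸ hwZ
    · exfalso
      apply hw
      rw [Set.mem_iUnion]
      exact ⟨⟨⟨Z, hZ⟩, hZZ⟩, hwZ⟩
  obtain ⟨_, ⟨V, hV, rfl⟩, hyV, hVsub⟩ := Y.isBasis_affineOpens.exists_subset_of_mem_open
    (show y ∈ (⋃ i, g i)ᶜ from hyC) hclosed.isOpen_compl
  refine ⟨⟨V, hV⟩, hyV, ?_⟩
  have hirr : IsIrreducible (V : Set Y) :=
    ⟨⟨y, hyV⟩, hZ₀c.1.isPreirreducible.open_subset V.isOpen (hVsub.trans hsub)⟩
  haveI : IrreducibleSpace ↥V := isIrreducible_iff_irreducibleSpace.mp hirr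
  haveI : IrreducibleSpace (V : Scheme.{u}) := this
  haveI : IsIntegral (V : Scheme.{u}) := isIntegral_of_irreducibleSpace_of_isReduced _
  haveI : IsDomain Γ((V : Scheme.{u}), ⊤) := inferInstance
  exact MulEquiv.isDomain Γ((V : Scheme.{u}), ⊤)
    (Scheme.Opens.topIso V).symm.commRingCatIsoToRingEquiv.toMulEquiv

end Groth.Agent.Lib.Helper7.UnramSection
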