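import Mathlib
import Groth.Prelude.Def_AlgSpModX

/-!
# Weakly associated points on the small étale site: left exactness of sections (helper7)
-/

set_option autoImplicit false
set_option maxHeartbeats 400000

open CategoryTheory AlgebraicGeometry Opposite Limits

universe u

namespace Groth.Agent.Lib.Helper7.WeakAss

/-- `p` minimal over `I`, `I ≤ J ≤ p` ⇒ `p` minimal over `J`. -/
theorem mem_minimalPrimes_of_le {R : Type*} [CommRing R] {I J p : Ideal R}
    (hp : p ∈ I.minimalPrimes) (hIJ : I ≤ J) (hJp : J ≤ p) : p ∈ J.minimalPrimes := by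
  refine ⟨⟨hp.1.1, hJp⟩, fun q hq hqp => ?_⟩
  exact hp.2 ⟨hq.1, hIJ.trans hq.2⟩ hqp

variable {S : Scheme.{u}} {X : AlgSp.Sp S}

section Sections

variable (C : ShortComplex (AlgSp.ModEt X)) (hC : C.ShortExact) (E : AlgSp.EtOver X)

/-- the map on sections induced by a morphism of modules -/
noncomputable def secMap {M N : AlgSp.ModEt X} (φ : M ⟶ N) (E : AlgSp.EtOver X) :
    AlgSp.sectModEt M E →ₗ[(AlgSp.OEtRing X).obj.obj (op E)] AlgSp.sectModEt N E :=
  (φ.val.app (op E)).hom

include hC in
theorem secMap_f_injective : Function.Injective (secMap C.f E) := by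
  haveI := hC.mono_f
  have h1 : Mono ((SheafOfModules.evaluation (AlgSp.OEtRing X) (op E)).map C.f) := inferInstance
  exact (ModuleCat.mono_iff_injective _).mp h1

include hC in
theorem secMap_exact (s : AlgSp.sectModEt C.X₂ E) (hs : secMap C.g E s = 0) :
    ∃ t : AlgSp.sectModEt C.X₁ E, secMap C.f E t = s := by
  haveI := hC.mono_f
  haveI : (SheafOfModules.evaluation (AlgSp.OEtRing X) (op E)).Additive := by
    unfold SheafOfModules.evaluation; infer_instance
  have h1 : (C.map (SheafOfModules.evaluation (AlgSp.OEtRing X) (op E))).Exact :=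
    hC.exact.map_of_mono_of_preservesKernel _ inferInstance inferInstance
  rw [ShortComplex.moduleCat_exact_iff] at h1
  exact h1 s hs

end Sections

end Groth.Agent.Lib.Helper7.WeakAss
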